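import Mathlib

/-!
# Ascent of reducedness along flat maps with reduced generic fibres

If `R` is a reduced ring with finitely many minimal primes and `R'` is a flat `R`-algebra such that
`κ(𝔭) ⊗[R] R'` is reduced for every minimal prime `𝔭` of `R`, then `R'` is reduced.
-/

set_option autoImplicit false
universe u v

namespace Groth.Agent.Lib.Helper22

open TensorProduct

/-- A reduced ring embeds into the product of the residue fields at its minimal primes. -/
theorem injective_algebraMap_pi_residueField_minimalPrimes (R : Type u) [CommRing R] [IsReduced R] :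
    Function.Injective (algebraMap R
      (∀ i : {𝔭 : Ideal R // 𝔭 ∈ minimalPrimes R},
        haveI : i.1.IsPrime := i.2.1.1
        i.1.ResidueField)) := by
  rw [injective_iff_map_eq_zero]
  intro r hr
  have hmem : ∀ 𝔭 ∈ minimalPrimes R, r ∈ 𝔭 := by
    intro 𝔭 h𝔭
    haveI : 𝔭.IsPrime := h𝔭.1.1
    have := congrFun hr ⟨𝔭, h𝔭⟩
    simpa [Ideal.algebraMap_residueField_eq_zero] using this
  have h1 : r ∈ sInf (minimalPrimes R) := by
    rw [Ideal.mem_sInf]
    exact fun {𝔭} h𝔭 => hmem 𝔭 h𝔭
  have h2 : sInf (minimalPrimes R) = (⊥ : Ideal R).radical := Ideal.sInf_minimalPrimes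
  rw [h2] at h1
  have h3 : (⊥ : Ideal R).radical = ⊥ := by
    have := nilradical_eq_zero R
    rwa [nilradical] at this
  rw [h3] at h1
  exact h1

/-- Ascent of reducedness: flat, with reduced fibres over the (finitely many) minimal primes of a
reduced base. -/
theorem isReduced_of_flat_of_isReduced_fiber_minimalPrimes (R : Type u) (R' : Type v)
    [CommRing R] [CommRing R'] [Algebra R R'] [Module.Flat R R'] [IsReduced R]
    (hfin : (minimalPrimes R).Finite)
    (h : ∀ (𝔭 : Ideal R) (h𝔭 : 𝔭 ∈ minimalPrimes R),
      haveI : 𝔭.IsPrime := h𝔭.1.1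
      IsReduced (𝔭.ResidueField ⊗[R] R')) : IsReduced R' := by
  classical
  let ι := {𝔭 : Ideal R // 𝔭 ∈ minimalPrimes R}
  haveI : Finite ι := hfin.to_subtype
  haveI : Fintype ι := Fintype.ofFinite ι
  haveI hprime : ∀ i : ι, i.1.IsPrime := fun i => i.2.1.1
  let P := ∀ i : ι, i.1.ResidueField
  have hinj : Function.Injective (Algebra.linearMap R P) :=
    injective_algebraMap_pi_residueField_minimalPrimes R
  -- `R' → R' ⊗[R] P` is injective by flatness
  have hinj' : Function.Injective
      (Algebra.TensorProduct.includeLeft : R' →ₐ[R] R' ⊗[R] P) := by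
    have h1 : Function.Injective (LinearMap.lTensor R' (Algebra.linearMap R P)) :=
      Module.Flat.lTensor_preserves_injective_linearMap _ hinj
    have h2 : ∀ x : R', (Algebra.TensorProduct.includeLeft : R' →ₐ[R] R' ⊗[R] P) x =
        LinearMap.lTensor R' (Algebra.linearMap R P) ((TensorProduct.rid R R').symm x) := by
      intro x
      simp [Algebra.TensorProduct.one_def]
    intro x y hxy
    rw [h2, h2] at hxy
    exact (TensorProduct.rid R R').symm.injective (h1 hxy)
  -- the target is reduced
  haveI hred : ∀ i : ι, IsReduced (R' ⊗[R] i.1.ResidueField) := fun i =>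
    haveI := h i.1 i.2
    isReduced_of_injective (Algebra.TensorProduct.comm R R' i.1.ResidueField).toRingHom
      (Algebra.TensorProduct.comm R R' i.1.ResidueField).injective
  haveI : IsReduced (R' ⊗[R] P) :=
    isReduced_of_injective
      (Algebra.TensorProduct.piRight R R R' (fun i : ι => i.1.ResidueField)).toRingHom
      (Algebra.TensorProduct.piRight R R R' (fun i : ι => i.1.ResidueField)).injective
  exact isReduced_of_injective
    (Algebra.TensorProduct.includeLeft : R' →ₐ[R] R' ⊗[R] P).toRingHom hinj'

end Groth.Agent.Lib.Helper22
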