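import Mathlib
import Groth.Agent.Lib.Helper1.HHTools
import Groth.Agent.S0012
import Groth.Agent.S0007

/-!
# Acyclic modules (helper22)

`Acyc M`: all higher cohomology groups `Coh.HH X M n`, `n > 0`, vanish.  Closure properties used in
the proof of Chevalley's theorem: extensions, quotients by acyclic submodules, retracts, direct
images of quasi-coherent modules from affine schemes along affine morphisms, and propagation
along morphisms with acyclic kernel and cokernel.
-/

set_option autoImplicit false
universe u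
open AlgebraicGeometry CategoryTheory CategoryTheory.Limits Opposite TopologicalSpace Abelian

namespace Groth.Agent.Lib.Helper22.Chev

open Groth.Agent.Lib.Helper1

variable {X : Scheme.{u}}

/-- All higher cohomology groups vanish. -/
def Acyc (M : X.Modules) : Prop := ∀ n : ℕ, 0 < n → Subsingleton (Coh.HH X M n)

theorem acyc_of_isZero {M : X.Modules} (h : IsZero M) : Acyc M :=
  fun n _ => subsingleton_HH_of_isZero h n

/-- extensions of acyclic modules are acyclic -/
theorem acyc_mid {S : ShortComplex X.Modules} (hS : S.ShortExact) (h1 : Acyc S.X₁)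
    (h3 : Acyc S.X₃) : Acyc S.X₂ :=
  fun n hn => subsingleton_HH_of_shortExact hS n (h1 n hn) (h3 n hn)

/-- the quotient of an acyclic module by an acyclic submodule is acyclic -/
theorem acyc_right {S : ShortComplex X.Modules} (hS : S.ShortExact) (h1 : Acyc S.X₁)
    (h2 : Acyc S.X₂) : Acyc S.X₃ := by
  intro n hn
  have hS' := shortExact_map_toAbF hS
  refine ⟨fun x y => ?_⟩
  suffices H : ∀ x : Coh.HH X S.X₃ n, x = 0 by rw [H x, H y]
  intro x
  let x' : Ext (Groth.Agent.S0459.cZ X.toTopCat) (S.map (toAbF X)).X₃ n := x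
  have h1' : Subsingleton (Coh.HH X S.X₁ (n + 1)) := h1 (n + 1) (Nat.succ_pos n)
  obtain ⟨x₂, hx₂⟩ := Ext.covariant_sequence_exact₃ _ hS' x' rfl (h1'.elim _ _)
  have : x₂ = 0 := (h2 n hn).elim _ _
  rw [this, Ext.zero_comp] at hx₂
  exact hx₂.symm

/-- retracts of acyclic modules are acyclic -/
theorem acyc_of_retract {M N : X.Modules} (i : N ⟶ M) (r : M ⟶ N) (h : i ≫ r = 𝟙 N)
    (hM : Acyc M) : Acyc N := by
  intro n hn
  refine ⟨fun x y => ?_⟩
  suffices H : ∀ x : Coh.HH X N n, x = 0 by rw [H x, H y]
  intro x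
  let x' : Ext (Groth.Agent.S0459.cZ X.toTopCat) ((toAbF X).obj N) n := x
  have h1 : (x'.comp (Ext.mk₀ ((toAbF X).map i)) (add_zero n)).comp
      (Ext.mk₀ ((toAbF X).map r)) (add_zero n) = x' := by
    rw [Ext.comp_assoc_of_third_deg_zero, Ext.mk₀_comp_mk₀, ← Functor.map_comp, h,
      CategoryTheory.Functor.map_id, Ext.comp_mk₀_id]
  have h2 : x'.comp (Ext.mk₀ ((toAbF X).map i)) (add_zero n) = 0 :=
    (hM n hn).elim (α := Coh.HH X M n) _ _
  rw [h2, Ext.zero_comp] at h1
  exact h1.symm

theorem acyc_of_iso {M N : X.Modules} (e : M ≅ N) (hM : Acyc M) : Acyc N :=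
  acyc_of_retract e.inv e.hom e.inv_hom_id hM

/-- direct images of quasi-coherent modules on affine schemes along affine morphisms are
acyclic -/
theorem acyc_push_of_isAffine {Y : Scheme.{u}} [IsAffine Y] (f : Y ⟶ X) [IsAffineHom f]
    (N : Y.Modules) [Coh.IsQCoh N] : Acyc ((Coh.push f).obj N) := by
  intro n hn
  obtain ⟨e⟩ := Groth.Agent.S0012.result f N n
  have := Groth.Agent.S0007.result Y N n hn
  exact e.symm.toEquiv.subsingleton

/-- propagation along a morphism with acyclic kernel and cokernel -/
theorem acyc_of_hom {A B : X.Modules} (u : A ⟶ B) (hk : Acyc (kernel u)) (hc : Acyc (cokernel u))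
    (hA : Acyc A) : Acyc B := by
  have h1 : Acyc (Abelian.image u) := acyc_right (kerImComplex_shortExact u) hk hA
  have hS : (ShortComplex.mk (kernel.ι (cokernel.π u)) (cokernel.π u)
      (kernel.condition _)).ShortExact :=
    ⟨ShortComplex.exact_of_f_is_kernel _ (kernelIsKernel _)⟩
  exact acyc_mid hS h1 hc

end Groth.Agent.Lib.Helper22.Chev
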