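import Mathlib
import Groth.Agent.Lib.Helper22.ChevHH
import Groth.Agent.Lib.Helper45.Dev.GraphTrick

/-!
# Transport of acyclicity along a span of generic isomorphisms (helper22)
-/

set_option autoImplicit false
set_option linter.style.haveILetI false
universe u
open AlgebraicGeometry CategoryTheory CategoryTheory.Limits Opposite TopologicalSpace Abelian

namespace Groth.Agent.Lib.Helper22.Chev

open Groth.Agent.Lib.Helper1 Groth.Agent.Lib.Helper45 Groth.Agent.Lib.Helper49
  Groth.Agent.Lib.Helper45.GraphTrick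

variable {X : Scheme.{u}} [IsLocallyNoetherian X]

/-- propagation along a morphism of coherent modules which is bijective at `ξ`, when coherent
modules with zero stalk at `ξ` are acyclic -/
theorem acyc_of_hom_bijective (ξ : X)
    (hsmall : ∀ M : X.Modules, Coh.IsCoh M → Subsingleton ↑(M.presheaf.stalk ξ) → Acyc M)
    {A B : X.Modules} (hA : Coh.IsCoh A) (hB : Coh.IsCoh B) (u : A ⟶ B)
    (hu : Function.Bijective (stalkMap u ξ).hom) (h : Acyc A) : Acyc B := by
  haveI := hA.1
  haveI := hB.1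
  refine acyc_of_hom u ?_ ?_ h
  · exact hsmall _ (isCoh_kernel u hA hB.1) ((subsingleton_stalk_kernel_iff u ξ).mpr hu.1)
  · exact hsmall _ (isCoh_cokernel u hA.1 hB) ((subsingleton_stalk_cokernel_iff u ξ).mpr hu.2)

/-- **Span lemma.** -/
theorem acyc_of_span (ξ : X)
    (hsmall : ∀ M : X.Modules, Coh.IsCoh M → Subsingleton ↑(M.presheaf.stalk ξ) → Acyc M)
    {F G H G' : X.Modules} (hF : Coh.IsCoh F) (hG : Coh.IsCoh G) (hH : Coh.IsCoh H)
    (hG' : Coh.IsCoh G') (q₁ : H ⟶ F) (q₂ : H ⟶ G) (m : G' ⟶ G)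
    (h₁ : Function.Bijective (stalkMap q₁ ξ).hom) (h₂ : Function.Bijective (stalkMap q₂ ξ).hom)
    (hm : Function.Bijective (stalkMap m ξ).hom) (hmq : m ≫ cokernel.π q₂ = 0)
    (hA : Acyc G') : Acyc F := by
  haveI := hF.1
  haveI := hG.1
  haveI := hH.1
  haveI := hG'.1
  have hC₂ : Coh.IsCoh (cokernel q₂) := isCoh_cokernel q₂ hH.1 hG
  haveI := hC₂.1
  have hI₂ : Coh.IsCoh (kernel (cokernel.π q₂)) := isCoh_kernel _ hG hC₂.1
  have hK₂ : Coh.IsCoh (kernel q₂) := isCoh_kernel q₂ hH hG.1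
  -- the lift of `m` to the image of `q₂`
  let mt : G' ⟶ kernel (cokernel.π q₂) := kernel.lift (cokernel.π q₂) m hmq
  have hmt : mt ≫ kernel.ι (cokernel.π q₂) = m := kernel.lift_ι _ _ _
  -- the inclusion of the image is bijective at `ξ`
  have hsub : Subsingleton ↑((cokernel q₂).presheaf.stalk ξ) :=
    (subsingleton_stalk_cokernel_iff q₂ ξ).mpr h₂.2
  have hιinj : Function.Injective (stalkMap (kernel.ι (cokernel.π q₂)) ξ).hom :=
    stalkMap_injective_of_mono _ ξ
  have hιsurj : Function.Surjective (stalkMap (kernel.ι (cokernel.π q₂)) ξ).hom := by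
    intro b
    have hS : (ShortComplex.mk (kernel.ι (cokernel.π q₂)) (cokernel.π q₂)
        (kernel.condition _)).ShortExact :=
      ⟨ShortComplex.exact_of_f_is_kernel _ (kernelIsKernel _)⟩
    have h1 : (stalkMap (cokernel.π q₂) ξ).hom b = 0 := hsub.elim _ _
    exact (stalkMap_exact_of_shortExact _ hS ξ b).mp h1
  have hmtbij : Function.Bijective (stalkMap mt ξ).hom := by
    have hcomp : ∀ a, (stalkMap (kernel.ι (cokernel.π q₂)) ξ).hom ((stalkMap mt ξ).hom a) =
        (stalkMap m ξ).hom a := by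
      intro a
      rw [← stalkMap_comp_apply', hmt]
    constructor
    · intro a b hab
      apply hm.1
      rw [← hcomp, ← hcomp, hab]
    · intro c
      obtain ⟨a, ha⟩ := hm.2 ((stalkMap (kernel.ι (cokernel.π q₂)) ξ).hom c)
      refine ⟨a, hιinj ?_⟩
      rw [hcomp, ha]
  -- the image of `q₂` is acyclic
  have hI₂A : Acyc (kernel (cokernel.π q₂)) :=
    acyc_of_hom_bijective ξ hsmall hG' hI₂ mt hmtbij hA
  -- hence `H` is acyclic
  have hHA : Acyc H := by
    refine acyc_mid (kerImComplex_shortExact q₂) ?_ hI₂A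
    exact hsmall _ hK₂ ((subsingleton_stalk_kernel_iff q₂ ξ).mpr h₂.1)
  exact acyc_of_hom_bijective ξ hsmall hH hF q₁ h₁ hHA

end Groth.Agent.Lib.Helper22.Chev
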