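import Mathlib
import Groth.Agent.Lib.Helper22.ChevSpan
import Groth.Agent.Lib.Helper23.FibreRegularOpen
import Groth.Agent.Lib.Helper45.PrimaryUnique
import Groth.Agent.Lib.Helper49.StalkNbhd2

/-!
# The shrinking lemma (helper22)

For a finite morphism `f : Y ⟶ X` from an affine scheme to a Noetherian scheme and a morphism
`q : H ⟶ f_* F` which is surjective on stalks at `ξ`, multiplication by a suitable global
function of `Y` is bijective at `ξ` and factors through the image of `q`.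
-/

set_option autoImplicit false
set_option linter.style.haveILetI false
universe u
open AlgebraicGeometry CategoryTheory CategoryTheory.Limits Opposite TopologicalSpace Abelian

namespace Groth.Agent.Lib.Helper22.Chev

open Groth.Agent.Lib.Helper1 Groth.Agent.Lib.Helper45 Groth.Agent.Lib.Helper49
open Groth.Agent.Lib.Helper23.FibreRegularOpen (smulHom smulHom_app)

attribute [local instance] Groth.Agent.Lib.Helper45.stalkModuleSections

variable {X Y : Scheme.{u}}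

/-- prime avoidance on an affine scheme: a global function vanishing on a closed set and
nonvanishing at finitely many points off that set. -/
theorem exists_section_avoid (Y : Scheme.{u}) [IsAffine Y] (T' : Set Y) (hT' : IsClosed T')
    (Φ : Set Y) (hΦ : Φ.Finite) (hdisj : Disjoint Φ T') :
    ∃ c : Γ(Y, ⊤), (∀ y ∈ T', y ∉ Y.basicOpen c) ∧ ∀ y ∈ Φ, y ∈ Y.basicOpen c := by
  classical
  by_cases hne : Φ = ∅
  · refine ⟨0, fun y _ => ?_, fun y hy => ?_⟩
    · rw [Scheme.basicOpen_zero]; exact fun h => h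
    · rw [hne] at hy; exact hy.elim
  obtain ⟨y₀, -⟩ := Set.nonempty_iff_ne_empty.mpr hne
  have hY : IsAffineOpen (⊤ : Y.Opens) := isAffineOpen_top Y
  let pr : Y → Ideal Γ(Y, ⊤) := fun y => (hY.primeIdealOf ⟨y, trivial⟩).asIdeal
  have hpr : ∀ (y : Y) (c : Γ(Y, ⊤)), y ∈ Y.basicOpen c ↔ c ∉ pr y := fun y c =>
    mem_basicOpen_iff_not_mem_primeIdealOf hY ⟨y, trivial⟩ c
  let V : Y.Opens := ⟨T'ᶜ, hT'.isOpen_compl⟩
  have hex : ∀ y : Y, y ∈ Φ → ∃ c : Γ(Y, ⊤), Y.basicOpen c ≤ V ∧ y ∈ Y.basicOpen c := by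
    intro y hy
    have hyV : y ∈ V := fun h => (Set.disjoint_left.mp hdisj hy h)
    exact hY.exists_basicOpen_le ⟨y, hyV⟩ trivial
  choose! cy hcy using hex
  let 𝔞 : Ideal Γ(Y, ⊤) := Ideal.span (cy '' Φ)
  have h𝔞 : ∀ c ∈ 𝔞, ∀ y ∈ T', y ∉ Y.basicOpen c := by
    intro c hc y hy
    rw [hpr, not_not]
    have hle : 𝔞 ≤ pr y := by
      rw [Ideal.span_le]
      rintro _ ⟨z, hz, rfl⟩
      by_contra hcon
      have h1 : y ∈ Y.basicOpen (cy z) := (hpr y _).mpr hcon
      exact (hcy z hz).1 h1 hy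
    exact hle hc
  have hnot : ¬ ((𝔞 : Set Γ(Y, ⊤)) ⊆ ⋃ y ∈ (↑hΦ.toFinset : Set Y), (pr y : Set Γ(Y, ⊤))) := by
    intro hsub
    obtain ⟨y, hy, hle⟩ := (Ideal.subset_union_prime (s := hΦ.toFinset) (f := pr)
      y₀ y₀ (fun i _ _ _ => by
        exact (hY.primeIdealOf ⟨i, trivial⟩).isPrime)).mp hsub
    have hyΦ : y ∈ Φ := by simpa using hy
    have h1 : cy y ∈ pr y := hle (Ideal.subset_span ⟨y, hyΦ, rfl⟩)
    exact (hpr y _).mp (hcy y hyΦ).2 h1
  rw [Set.not_subset] at hnot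
  obtain ⟨c, hc𝔞, hcn⟩ := hnot
  refine ⟨c, h𝔞 c hc𝔞, fun y hy => ?_⟩
  rw [hpr]
  intro hcy'
  apply hcn
  simp only [Set.mem_iUnion]
  exact ⟨y, by simpa using hy, hcy'⟩



theorem push_map_app (f : Y ⟶ X) {F F' : Y.Modules} (φ : F ⟶ F') (U : X.Opens)
    (s : Γ((Scheme.Modules.pushforward f).obj F, U)) :
    ((Scheme.Modules.pushforward f).map φ).app U s = φ.app (f ⁻¹ᵁ U) s := rfl

theorem exists_pow_kill (f : Y ⟶ X) [IsAffineHom f] (F : Y.Modules)
    {Q : X.Modules} (hQ : Coh.IsCoh Q) (π : (Scheme.Modules.pushforward f).obj F ⟶ Q)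
    (c₀ : Γ(Y, ⊤))
    (hc₀ : ∀ y : Y, y ∈ Y.basicOpen c₀ → Subsingleton ↑(Q.presheaf.stalk (f y)))
    {U : X.Opens} (hU : IsAffineOpen U) :
    ∃ N : ℕ, ∀ n, N ≤ n → ∀ s : Γ((Scheme.Modules.pushforward f).obj F, U),
      π.app U (((Scheme.Modules.pushforward f).map (smulHom (c₀ ^ n) F)).app U s) = 0 := by
  haveI := hQ.1
  have hV : IsAffineOpen (f ⁻¹ᵁ U) := hU.preimage f
  let cV : Γ(Y, f ⁻¹ᵁ U) := Y.presheaf.map (homOfLE (le_top : f ⁻¹ᵁ U ≤ ⊤)).op c₀
  -- the ideal of functions killing the image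
  let 𝔟 : Ideal Γ(Y, f ⁻¹ᵁ U) :=
    { carrier := {z | ∀ s : Γ(F, f ⁻¹ᵁ U),
        π.app U (show Γ((Scheme.Modules.pushforward f).obj F, U) from z • s) = 0}
      add_mem' := by
        intro z z' hz hz' s
        have h1 : ((z + z') • s : Γ(F, f ⁻¹ᵁ U)) = z • s + z' • s := add_smul _ _ _
        change π.app U (show Γ((Scheme.Modules.pushforward f).obj F, U) from (z + z') • s) = 0
        rw [h1]
        exact (map_add _ _ _).trans (by rw [hz s, hz' s, add_zero])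
      zero_mem' := by
        intro s
        have h1 : ((0 : Γ(Y, f ⁻¹ᵁ U)) • s : Γ(F, f ⁻¹ᵁ U)) = 0 := zero_smul _ _
        change π.app U (show Γ((Scheme.Modules.pushforward f).obj F, U) from
          (0 : Γ(Y, f ⁻¹ᵁ U)) • s) = 0
        rw [h1]
        exact map_zero _
      smul_mem' := by
        intro b z hz s
        have h1 : ((b • z) • s : Γ(F, f ⁻¹ᵁ U)) = z • (b • s) := by
          rw [smul_eq_mul, mul_comm, mul_smul]
        change π.app U (show Γ((Scheme.Modules.pushforward f).obj F, U) from (b • z) • s) = 0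
        rw [h1]
        exact hz _ }
  have h𝔟 : ∀ z, z ∈ 𝔟 ↔ ∀ s : Γ(F, f ⁻¹ᵁ U),
      π.app U (show Γ((Scheme.Modules.pushforward f).obj F, U) from z • s) = 0 := fun z => Iff.rfl
  let 𝔞 : Ideal Γ(X, U) := Module.annihilator Γ(X, U) Γ(Q, U)
  have hle : 𝔞.map (f.app U).hom ≤ 𝔟 := by
    rw [Ideal.map_le_iff_le_comap]
    intro a ha
    rw [Ideal.mem_comap, h𝔟]
    intro s
    have h1 : (show Γ((Scheme.Modules.pushforward f).obj F, U) from ((f.app U).hom a) • s) =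
        a • (show Γ((Scheme.Modules.pushforward f).obj F, U) from s) :=
      (pushforward_smul f F U a s).symm
    rw [h1, Scheme.Modules.Hom.app_smul]
    exact Module.mem_annihilator.mp ha _
  have hfin : Module.Finite Γ(X, U) Γ(Q, U) := finite_sections_of_isCoh hU Q hQ
  have hrad : cV ∈ (𝔞.map (f.app U).hom).radical := by
    rw [Ideal.radical_eq_sInf, Ideal.mem_sInf]
    rintro 𝔮 ⟨h𝔮le, h𝔮⟩
    by_contra hcon
    obtain ⟨w, hw⟩ := exists_primeIdealOf_eq hV ⟨𝔮, h𝔮⟩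
    have hw𝔮 : (hV.primeIdealOf w).asIdeal = 𝔮 := congrArg PrimeSpectrum.asIdeal hw
    have hwc : (w : Y) ∈ Y.basicOpen cV := by
      rw [mem_basicOpen_iff_not_mem_primeIdealOf hV w cV, hw𝔮]
      exact hcon
    have hwc₀ : (w : Y) ∈ Y.basicOpen c₀ := by
      rw [Scheme.basicOpen_res] at hwc
      exact hwc.2
    have hsub := hc₀ w hwc₀
    have hxU : f (w : Y) ∈ U := w.2
    have hcomap := IsAffineOpen.comap_primeIdealOf_appLE (f := f) U hU (f ⁻¹ᵁ U) hV le_rfl w.2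
    obtain ⟨x, hx⟩ : ∃ x : U, x = (⟨f (w : Y), hxU⟩ : U) := ⟨_, rfl⟩
    have hsubx : Subsingleton ↑(Q.presheaf.stalk (x : X)) := by rw [hx]; exact hsub
    rw [← hx] at hcomap
    have hloc := isLocalizedModule_germₗ hU Q x
    have hnot : hU.primeIdealOf x ∉ Module.support Γ(X, U) Γ(Q, U) := by
      rw [Module.notMem_support_iff]
      exact (IsLocalizedModule.iso (hU.primeIdealOf x).asIdeal.primeCompl
        (germₗ Q x)).toEquiv.subsingleton
    apply hnot
    rw [Module.mem_support_iff_of_finite, ← hcomap]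
    intro a ha
    change (f.appLE U (f ⁻¹ᵁ U) le_rfl).hom a ∈ (hV.primeIdealOf w).asIdeal
    rw [hw𝔮]
    apply h𝔮le
    rw [← Scheme.Hom.app_eq_appLE]
    exact Ideal.mem_map_of_mem _ ha
  obtain ⟨N, hN⟩ := hrad
  refine ⟨N, fun n hn s => ?_⟩
  have hmem : cV ^ n ∈ 𝔟 := by
    have : cV ^ n = cV ^ (n - N) * cV ^ N := by rw [← pow_add, Nat.sub_add_cancel hn]
    rw [this]
    exact 𝔟.mul_mem_left _ (hle hN)
  have e : (Y.presheaf.map (homOfLE (le_top : f ⁻¹ᵁ U ≤ ⊤)).op (c₀ ^ n) : Γ(Y, f ⁻¹ᵁ U)) =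
      cV ^ n := map_pow _ _ _
  have key : ((Scheme.Modules.pushforward f).map (smulHom (c₀ ^ n) F)).app U s =
      (show Γ((Scheme.Modules.pushforward f).obj F, U) from
        (cV ^ n) • (show Γ(F, f ⁻¹ᵁ U) from s)) := by
    rw [← e]; rfl
  rw [key]
  exact (h𝔟 _).mp hmem s



/-- a morphism out of a quasi-coherent module which vanishes on sections over the members of an
affine open cover is zero -/
theorem hom_eq_zero_of_app_cover {K G : X.Modules} [K.IsQuasicoherent] (c : K ⟶ G)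
    (𝒰 : Set X.Opens) (h𝒰 : ∀ U ∈ 𝒰, IsAffineOpen U) (hcov : ∀ x : X, ∃ U ∈ 𝒰, x ∈ U)
    (h : ∀ U ∈ 𝒰, ∀ k : Γ(K, U), c.app U k = 0) : c = 0 := by
  refine Groth.Agent.Lib.Helper45.PrimaryUnique.hom_eq_zero_of_app_affine c fun W _ k => ?_
  refine section_ext_germ G W _ _ fun y hy => ?_
  obtain ⟨U, hU𝒰, hyU⟩ := hcov y
  have hU := h𝒰 U hU𝒰
  obtain ⟨x, hx⟩ : ∃ x : U, (x : X) = y := ⟨⟨y, hyU⟩, rfl⟩
  subst hx
  rw [map_zero, ← stalkMap_germ c W (x : X) hy k]
  have hloc := isLocalizedModule_germₗ hU K x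
  obtain ⟨⟨k', s⟩, hs⟩ := IsLocalizedModule.surj (hU.primeIdealOf x).asIdeal.primeCompl
    (germₗ K x) (K.presheaf.germ W (x : X) hy k)
  have hlocR := hU.isLocalization_stalk x
  have hunit : IsUnit (algebraMap Γ(X, U) (X.presheaf.stalk (x : X)) s) :=
    IsLocalization.map_units _ s
  have h1 : (algebraMap Γ(X, U) (X.presheaf.stalk (x : X)) s) •
      (stalkMap c (x : X)).hom (K.presheaf.germ W (x : X) hy k) = 0 := by
    rw [← stalkMap_smul]
    have h2 : (algebraMap Γ(X, U) (X.presheaf.stalk (x : X)) s) •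
        (K.presheaf.germ W (x : X) hy k) = germₗ K x k' := hs
    rw [h2, germₗ_apply, stalkMap_germ, h U hU𝒰, map_zero]
  obtain ⟨v, hv⟩ := hunit
  have h3 := congrArg (fun z => (↑v⁻¹ : X.presheaf.stalk (x : X)) • z) h1
  simp only [smul_zero] at h3
  rw [← hv, smul_smul, Units.inv_mul, one_smul] at h3
  exact h3

/-- if `m` is bijective on sections over all small opens around `ξ`, it is bijective on the
stalk at `ξ` -/
theorem stalkMap_bijective_of_app_bijective {G G' : X.Modules} (m : G ⟶ G') (ξ : X)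
    (U' : X.Opens) (hξ : ξ ∈ U')
    (h : ∀ V : X.Opens, V ≤ U' → Function.Bijective (m.app V)) :
    Function.Bijective (stalkMap m ξ).hom := by
  constructor
  · rw [injective_iff_map_eq_zero]
    intro a ha
    obtain ⟨V₀, hξV₀, s, rfl⟩ := TopCat.Presheaf.exists_germ_eq G.presheaf a
    rw [stalkMap_germ] at ha
    have ha' : G'.presheaf.germ V₀ ξ hξV₀ (m.app V₀ s) = G'.presheaf.germ V₀ ξ hξV₀ 0 := by
      rw [ha, map_zero]
    obtain ⟨V₁, hξV₁, i₁, i₂, hV₁⟩ := TopCat.Presheaf.germ_eq G'.presheaf ξ hξV₀ hξV₀ _ _ ha'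
    rw [map_zero] at hV₁
    let V : X.Opens := V₁ ⊓ U'
    have hV₁' : G'.presheaf.map (homOfLE (inf_le_left.trans (leOfHom i₁) : V ≤ V₀)).op
        (m.app V₀ s) = 0 := by
      have : (homOfLE (inf_le_left.trans (leOfHom i₁) : V ≤ V₀)) =
          homOfLE (inf_le_left : V ≤ V₁) ≫ i₁ := rfl
      rw [this, op_comp, G'.presheaf.map_comp]
      change G'.presheaf.map _ (G'.presheaf.map i₁.op (m.app V₀ s)) = 0
      rw [hV₁, map_zero]
    rw [← app_map] at hV₁'
    have h0 : G.presheaf.map (homOfLE (inf_le_left.trans (leOfHom i₁) : V ≤ V₀)).op s = 0 := by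
      apply (h V inf_le_right).1
      rw [hV₁', map_zero]
    have hξV : ξ ∈ V := ⟨hξV₁, hξ⟩
    rw [← TopCat.Presheaf.germ_res_apply G.presheaf
      (homOfLE (inf_le_left.trans (leOfHom i₁) : V ≤ V₀)) ξ hξV s, h0, map_zero]
  · intro a
    obtain ⟨V₀, hξV₀, s, rfl⟩ := TopCat.Presheaf.exists_germ_eq G'.presheaf a
    let V : X.Opens := V₀ ⊓ U'
    obtain ⟨t, ht⟩ := (h V inf_le_right).2
      (G'.presheaf.map (homOfLE (inf_le_left : V ≤ V₀)).op s)
    have hξV : ξ ∈ V := ⟨hξV₀, hξ⟩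
    refine ⟨G.presheaf.germ V ξ hξV t, ?_⟩
    rw [stalkMap_germ, ht, TopCat.Presheaf.germ_res_apply]


/-- **Shrinking lemma.** Let `f : Y ⟶ X` be finite with `Y` affine and `X` Noetherian, `F` a
quasi-coherent module on `Y` with coherent direct image, and `q : H ⟶ f_* F` a morphism from a
quasi-coherent module which is surjective on stalks at `ξ`.  Then there is a global function `c`
on `Y` such that multiplication by `c` on `f_* F` is bijective on stalks at `ξ` and has image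
inside the image of `q`. -/
theorem exists_shrink [IsNoetherian X] (f : Y ⟶ X) [IsFinite f] [IsAffine Y] (F : Y.Modules)
    (hG : Coh.IsCoh ((Scheme.Modules.pushforward f).obj F))
    {H : X.Modules} (hH : H.IsQuasicoherent) (q : H ⟶ (Scheme.Modules.pushforward f).obj F)
    (ξ : X) (hq : Function.Surjective (stalkMap q ξ).hom) :
    ∃ c : Γ(Y, ⊤), (Scheme.Modules.pushforward f).map (smulHom c F) ≫ cokernel.π q = 0 ∧
      Function.Bijective (stalkMap ((Scheme.Modules.pushforward f).map (smulHom c F)) ξ).hom := by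
  classical
  haveI := hG.1
  have hQ : Coh.IsCoh (cokernel q) := Groth.Agent.Lib.Helper45.GraphTrick.isCoh_cokernel q hH hG
  haveI := hQ.1
  have hQξ : Subsingleton ↑((cokernel q).presheaf.stalk ξ) :=
    (subsingleton_stalk_cokernel_iff q ξ).mpr hq
  have hopen : IsOpen {x : X | Subsingleton ↑((cokernel q).presheaf.stalk x)} :=
    isOpen_setOf_stalk_subsingleton (cokernel q) hQ.2
  let T' : Set Y := f ⁻¹' {x : X | Subsingleton ↑((cokernel q).presheaf.stalk x)}ᶜ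
  have hT' : IsClosed T' := hopen.isClosed_compl.preimage f.continuous
  have hΦ : (f ⁻¹' {ξ}).Finite := f.finite_preimage_singleton ξ
  have hdisj : Disjoint (f ⁻¹' {ξ}) T' := by
    rw [Set.disjoint_left]
    intro y hy hyT
    have hy' : f y = ξ := hy
    apply hyT
    change Subsingleton ↑((cokernel q).presheaf.stalk (f y))
    rw [hy']
    exact hQξ
  obtain ⟨c₀, hc₀T, hc₀Φ⟩ := exists_section_avoid Y T' hT' (f ⁻¹' {ξ}) hΦ hdisj
  have hc₀ : ∀ y : Y, y ∈ Y.basicOpen c₀ →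
      Subsingleton ↑((cokernel q).presheaf.stalk (f y)) := by
    intro y hy
    by_contra hcon
    exact hc₀T y hcon hy
  -- a finite affine cover
  obtain ⟨𝒰, h𝒰, hfin, hcovU⟩ := X.isBasis_affineOpens.exists_finite_of_isCompact
    (U := (⊤ : X.Opens)) isCompact_univ
  have hcov : ∀ x : X, ∃ U ∈ 𝒰, x ∈ U := by
    intro x
    have hx : x ∈ (⊤ : X.Opens) := trivial
    rw [hcovU] at hx
    simpa [TopologicalSpace.Opens.mem_sSup] using hx
  have hex : ∀ U : X.Opens, U ∈ 𝒰 → ∃ N : ℕ, ∀ n, N ≤ n →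
      ∀ s : Γ((Scheme.Modules.pushforward f).obj F, U),
      (cokernel.π q).app U (((Scheme.Modules.pushforward f).map (smulHom (c₀ ^ n) F)).app U s)
        = 0 := fun U hU => exists_pow_kill f F hQ (cokernel.π q) c₀ hc₀ (h𝒰 hU)
  choose! N hN using hex
  let Nmax : ℕ := hfin.toFinset.sup N
  have hNmax : ∀ U ∈ 𝒰, N U ≤ Nmax + 1 := fun U hU =>
    (Finset.le_sup (f := N) (hfin.mem_toFinset.mpr hU)).trans (Nat.le_succ _)
  refine ⟨c₀ ^ (Nmax + 1), ?_, ?_⟩
  · refine hom_eq_zero_of_app_cover _ 𝒰 (fun U hU => h𝒰 hU) hcov fun U hU k => ?_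
    exact hN U hU (Nmax + 1) (hNmax U hU) k
  · have hbo : Y.basicOpen (c₀ ^ (Nmax + 1)) = Y.basicOpen c₀ :=
      Y.basicOpen_pow c₀ (Nat.succ_pos _)
    have hcl : IsClosed (f '' ((Y.basicOpen c₀ : Set Y)ᶜ)) :=
      f.isClosedMap _ (Y.basicOpen c₀).isOpen.isClosed_compl
    let U' : X.Opens := ⟨(f '' ((Y.basicOpen c₀ : Set Y)ᶜ))ᶜ, hcl.isOpen_compl⟩
    have hξU' : ξ ∈ U' := by
      rintro ⟨y, hy, hyξ⟩
      exact hy (hc₀Φ y hyξ)
    refine stalkMap_bijective_of_app_bijective _ ξ U' hξU' fun V hV => ?_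
    have hVle : f ⁻¹ᵁ V ≤ Y.basicOpen (c₀ ^ (Nmax + 1)) := by
      rw [hbo]
      intro y hy
      by_contra hcon
      exact hV hy ⟨y, hcon, rfl⟩
    have hunit := isUnit_res_of_le_basicOpen (c₀ ^ (Nmax + 1)) hVle
    obtain ⟨v, hv⟩ := hunit
    have happ : ∀ s : Γ((Scheme.Modules.pushforward f).obj F, V),
        ((Scheme.Modules.pushforward f).map (smulHom (c₀ ^ (Nmax + 1)) F)).app V s =
        (show Γ((Scheme.Modules.pushforward f).obj F, V) from
          (v : Γ(Y, f ⁻¹ᵁ V)) • (show Γ(F, f ⁻¹ᵁ V) from s)) := by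
      intro s
      rw [hv]
      rfl
    constructor
    · intro s t hst
      rw [happ, happ] at hst
      have h1 : (v : Γ(Y, f ⁻¹ᵁ V)) • (show Γ(F, f ⁻¹ᵁ V) from s) =
          (v : Γ(Y, f ⁻¹ᵁ V)) • (show Γ(F, f ⁻¹ᵁ V) from t) := hst
      have h2 := congrArg (fun z => (↑v⁻¹ : Γ(Y, f ⁻¹ᵁ V)) • z) h1
      simp only [smul_smul, Units.inv_mul, one_smul] at h2
      exact h2
    · intro t
      refine ⟨(show Γ((Scheme.Modules.pushforward f).obj F, V) from
        (↑v⁻¹ : Γ(Y, f ⁻¹ᵁ V)) • (show Γ(F, f ⁻¹ᵁ V) from t)), ?_⟩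
      rw [happ]
      change (v : Γ(Y, f ⁻¹ᵁ V)) • ((↑v⁻¹ : Γ(Y, f ⁻¹ᵁ V)) • (show Γ(F, f ⁻¹ᵁ V) from t)) = t
      rw [smul_smul, Units.mul_inv, one_smul]

end Groth.Agent.Lib.Helper22.Chev
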