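import Mathlib

/-!
# Going down from a flat module with full support

If `B` is a Noetherian `A`-algebra and `N` is a finite `B`-module which is flat over `A` and whose
support is all of `Spec B`, then `A → B` satisfies going down.
-/

namespace Groth.Agent.Lib.Helper22

open TensorProduct

/-- For a flat `A`-module `N`, a prime `p` and `a ∉ p`: `a • n ∈ pN → n ∈ pN`. -/
theorem mem_smul_top_of_smul_mem_of_flat {A N : Type*} [CommRing A] [AddCommGroup N] [Module A N]
    [Module.Flat A N] (p : Ideal A) [p.IsPrime] {a : A} (ha : a ∉ p) {n : N}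
    (h : a • n ∈ p • (⊤ : Submodule A N)) : n ∈ p • (⊤ : Submodule A N) := by
  have hflat : Module.Flat (A ⧸ p) ((A ⧸ p) ⊗[A] N) := inferInstance
  have hne : (Ideal.Quotient.mk p a) ≠ 0 := by
    rwa [Ne, Ideal.Quotient.eq_zero_iff_mem]
  have hreg : IsSMulRegular ((A ⧸ p) ⊗[A] N) (Ideal.Quotient.mk p a) :=
    Module.Flat.isSMulRegular_of_isRegular (IsRegular.of_ne_zero hne)
  let e := TensorProduct.quotTensorEquivQuotSMul N p
  have h1 : (Ideal.Quotient.mk p a) • ((1 : A ⧸ p) ⊗ₜ[A] n) = (1 : A ⧸ p) ⊗ₜ[A] (a • n) := by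
    rw [TensorProduct.smul_tmul', smul_eq_mul, mul_one]
    rw [← TensorProduct.quotTensorEquivQuotSMul_symm_mk p (a • n)]
    rw [LinearEquiv.eq_symm_apply, TensorProduct.quotTensorEquivQuotSMul_mk_tmul]
  have h2 : (1 : A ⧸ p) ⊗ₜ[A] (a • n) = 0 := by
    rw [← TensorProduct.quotTensorEquivQuotSMul_symm_mk p (a • n)]
    rw [(Submodule.Quotient.mk_eq_zero _).mpr h, map_zero]
  have h3 : (1 : A ⧸ p) ⊗ₜ[A] n = 0 := by
    apply hreg
    simp only [smul_zero]
    rw [h1, h2]
  have h4 : e ((1 : A ⧸ p) ⊗ₜ[A] n) = 0 := by rw [h3, map_zero]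
  rw [TensorProduct.quotTensorEquivQuotSMul_mk_one_tmul] at h4
  exact (Submodule.Quotient.mk_eq_zero _).mp h4

/-- Going down for `A → B` from a finite `B`-module, flat over `A`, with full support. -/
theorem hasGoingDown_of_flat_module_of_support_eq_univ (A B N : Type*) [CommRing A] [CommRing B]
    [Algebra A B] [IsNoetherianRing B] [AddCommGroup N] [Module B N] [Module A N]
    [IsScalarTower A B N] [Module.Finite B N] [Module.Flat A N]
    (hsupp : Module.support B N = Set.univ) : Algebra.HasGoingDown A B where
  exists_ideal_le_liesOver_of_lt {p} _ Q _ hlt := by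
    set I : Ideal B := p.map (algebraMap A B) with hI
    have hIQ : I ≤ Q := by
      rw [hI, Ideal.map_le_iff_le_comap]
      exact hlt.le
    obtain ⟨P, hPmin, hPQ⟩ := Ideal.exists_minimalPrimes_le hIQ
    have hPprime : P.IsPrime := hPmin.1.1
    refine ⟨P, hPQ, hPprime, ⟨?_⟩⟩
    -- the quotient module
    let N' := N ⧸ (I • (⊤ : Submodule B N))
    have hsupp' : Module.support B N' = PrimeSpectrum.zeroLocus (I : Set B) := by
      rw [Module.support_quotient, hsupp, Set.univ_inter]
    have hrad : (Module.annihilator B N').radical = I.radical := by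
      rw [← PrimeSpectrum.zeroLocus_eq_iff, ← hsupp', Module.support_eq_zeroLocus]
    have hPmin' : P ∈ (Module.annihilator B N').minimalPrimes := by
      rw [← Ideal.radical_minimalPrimes, hrad, Ideal.radical_minimalPrimes]
      exact hPmin
    have hass : P ∈ associatedPrimes B N' :=
      Module.associatedPrimes.minimalPrimes_annihilator_subset_associatedPrimes B N' hPmin'
    obtain ⟨-, x, hx⟩ := (isAssociatedPrime_iff (M := N')).mp hass
    obtain ⟨n, rfl⟩ := Submodule.Quotient.mk_surjective _ x
    have hres : (I • (⊤ : Submodule B N)).restrictScalars A = p • (⊤ : Submodule A N) := by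
      rw [hI, Ideal.smul_restrictScalars, Submodule.restrictScalars_top]
    apply le_antisymm
    · -- `p ≤ P.under A`
      intro a ha
      rw [Ideal.under_def, Ideal.mem_comap]
      exact hPmin.1.2 (Ideal.mem_map_of_mem _ ha)
    · intro a ha
      rw [Ideal.under_def, Ideal.mem_comap] at ha
      by_contra hap
      rw [hx, Submodule.mem_colon_singleton, Submodule.mem_bot] at ha
      have h1 : (algebraMap A B a) • n ∈ I • (⊤ : Submodule B N) := by
        rw [← Submodule.Quotient.mk_smul] at ha
        exact (Submodule.Quotient.mk_eq_zero _).mp ha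
      have h2 : a • n ∈ p • (⊤ : Submodule A N) := by
        rw [← hres, Submodule.restrictScalars_mem, ← algebraMap_smul B a n]
        exact h1
      have h3 : n ∈ p • (⊤ : Submodule A N) := mem_smul_top_of_smul_mem_of_flat p hap h2
      have h4 : n ∈ I • (⊤ : Submodule B N) := by
        rw [← hres, Submodule.restrictScalars_mem] at h3
        exact h3
      have h5 : (Submodule.Quotient.mk n : N') = 0 := (Submodule.Quotient.mk_eq_zero _).mpr h4
      apply hPprime.ne_top
      rw [hx, h5]
      ext r
      simp

end Groth.Agent.Lib.Helper22
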