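import Mathlib
import Groth.Agent.Lib.Helper22.ChevShrink
import Groth.Agent.Lib.Helper45.Dev.DevCore
import Groth.Agent.Lib.Helper67.DevFilt
import Groth.Prelude.Def_DerSch
import Groth.Agent.S0019
import Groth.Agent.Lib.Helper49.PushStructure

/-!
# Chevalley's theorem, the integral core (helper22)

`Pow A n` (iterated binary biproduct), ranks of its images under additive functors to vector
spaces, and the core step: on an integral Noetherian scheme `X` with a finite surjective morphism
from an affine scheme, if coherent modules vanishing at the generic point are acyclic then all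
coherent modules are acyclic.
-/

set_option autoImplicit false
set_option linter.style.haveILetI false
universe u v w
open CategoryTheory CategoryTheory.Limits

namespace Groth.Agent.Lib.Helper22.Chev

section Pow

variable {C : Type w} [Category.{v} C] [Preadditive C] [HasZeroObject C] [HasBinaryBiproducts C]

open ZeroObject in
/-- `A^n`, defined recursively with binary biproducts -/
noncomputable def Pow (A : C) : ℕ → C
  | 0 => 0
  | n + 1 => Pow A n ⊞ A

theorem pow_zero_isZero (A : C) : IsZero (Pow A 0) := isZero_zero C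

theorem pow_succ (A : C) (n : ℕ) : Pow A (n + 1) = (Pow A n ⊞ A) := rfl

/-- `A` is a retract of `A^(n+1)` -/
theorem pow_retract (A : C) (n : ℕ) :
    ∃ (i : A ⟶ Pow A (n + 1)) (r : Pow A (n + 1) ⟶ A), i ≫ r = 𝟙 A :=
  ⟨(biprod.inr : A ⟶ Pow A n ⊞ A), (biprod.snd : Pow A n ⊞ A ⟶ A), biprod.inr_snd⟩

theorem finrank_pow {K : Type u} [Field K] (Φ : C ⥤ ModuleCat.{u} K) [Φ.Additive] (A : C)
    [Module.Finite K (Φ.obj A)] (n : ℕ) :
    Module.Finite K (Φ.obj (Pow A n)) ∧
      Module.finrank K (Φ.obj (Pow A n)) = n * Module.finrank K (Φ.obj A) := by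
  induction n with
  | zero =>
    have hz : IsZero (Φ.obj (Pow A 0)) := Φ.map_isZero (pow_zero_isZero A)
    have hs : Subsingleton (Φ.obj (Pow A 0)) := ModuleCat.subsingleton_of_isZero hz
    exact ⟨inferInstance, by rw [Module.finrank_zero_of_subsingleton, Nat.zero_mul]⟩
  | succ n ih =>
    obtain ⟨hfin, hrank⟩ := ih
    have hpb : PreservesBinaryBiproducts Φ := preservesBinaryBiproducts_of_preservesBiproducts Φ
    let e : Φ.obj (Pow A (n + 1)) ≅ ModuleCat.of K (Φ.obj (Pow A n) × Φ.obj A) :=
      Φ.mapBiprod (Pow A n) A ≪≫ ModuleCat.biprodIsoProd _ _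
    let el : Φ.obj (Pow A (n + 1)) ≃ₗ[K] (Φ.obj (Pow A n) × Φ.obj A) := e.toLinearEquiv
    refine ⟨Module.Finite.equiv el.symm, ?_⟩
    rw [el.finrank_eq, Module.finrank_prod, hrank]
    ring

end Pow


section Core

open AlgebraicGeometry Opposite TopologicalSpace
open Groth.Agent.Lib.Helper1 Groth.Agent.Lib.Helper45 Groth.Agent.Lib.Helper49
open Groth.Agent.Lib.Helper45.GraphTrick
open Groth.Agent.Lib.Helper23.FibreRegularOpen (smulHom smulHom_app)

variable {X Y : Scheme.{u}}

theorem isCoh_pow (M : X.Modules) (hM : Coh.IsCoh M) (n : ℕ) : Coh.IsCoh (Pow M n) := by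
  induction n with
  | zero => exact Groth.Agent.Lib.Helper67.Devissage.isCoh_of_isZero _ (pow_zero_isZero M)
  | succ n ih => exact isCoh_biprod ih hM

theorem isCoh_structureModule (Y : Scheme.{u}) : Coh.IsCoh (Coh.structureModule Y) :=
  ⟨Groth.Agent.Lib.Helper45.isQuasicoherent_structureModule Y,
    Groth.Agent.Lib.Helper49.isFiniteType_unit Y⟩

/-- the stalk of `f_* O_Y` at a point of the image is nonzero -/
theorem not_subsingleton_stalk_push_unit (f : Y ⟶ X) (y : Y) :
    ¬ Subsingleton (((Scheme.Modules.pushforward f).obj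
      (Coh.structureModule Y)).presheaf.stalk (f y)) := by
  intro hsub
  let s : Γ((Scheme.Modules.pushforward f).obj (Coh.structureModule Y), ⊤) :=
    (1 : Γ(Y, f ⁻¹ᵁ ⊤))
  obtain ⟨U', hle, hxU', hs⟩ :=
    Groth.Agent.Lib.Helper49.PushStructure.exists_res_eq_zero _ (f y) ⊤ trivial s
  have h1 : (1 : Γ(Y, f ⁻¹ᵁ U')) = 0 := by
    have h2 : ((Scheme.Modules.pushforward f).obj (Coh.structureModule Y)).presheaf.map
        (homOfLE hle).op s = Y.presheaf.map ((TopologicalSpace.Opens.map f.base).map
          (homOfLE hle)).op (1 : Γ(Y, f ⁻¹ᵁ ⊤)) := rfl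
    rw [h2, map_one] at hs
    exact hs
  have h3 : Y.basicOpen (1 : Γ(Y, f ⁻¹ᵁ U')) = f ⁻¹ᵁ U' :=
    Y.basicOpen_of_isUnit isUnit_one
  rw [h1, Scheme.basicOpen_zero] at h3
  have hw : y ∈ f ⁻¹ᵁ U' := hxU'
  rw [← h3] at hw
  exact hw


/-- **Core step.** On an integral Noetherian scheme with a finite surjective morphism from an
affine scheme, if coherent modules vanishing at the generic point are acyclic, then every coherent
module is acyclic. -/
theorem acyc_of_integral [IsIntegral X] [IsNoetherian X] [IsAffine Y] (f : Y ⟶ X) [IsFinite f]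
    [Surjective f]
    (hsmall : ∀ M : X.Modules, Coh.IsCoh M →
      Subsingleton ↑(M.presheaf.stalk (genericPoint X)) → Acyc M)
    (M : X.Modules) (hM : Coh.IsCoh M) : Acyc M := by
  by_cases hsub : Subsingleton ↑(M.presheaf.stalk (genericPoint X))
  · exact hsmall M hM hsub
  have hclos : closure {genericPoint X} = Set.univ := (genericPoint_spec X).def
  have hfinstalk : ∀ N : X.Modules, Coh.IsCoh N →
      Module.Finite (X.presheaf.stalk (genericPoint X)) ↑(N.presheaf.stalk (genericPoint X)) := by
    intro N hN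
    have h1 := Groth.Agent.Lib.Helper45.DevCore.isFiniteLength_stalk N hN (genericPoint X) (by rw [hclos]; exact Set.subset_univ _)
    have h2 := (isFiniteLength_iff_isNoetherian_isArtinian.mp h1).1
    infer_instance
  let Φ := DerSch.stalkFunctor X (genericPoint X)
  let Φ' := Scheme.Modules.pushforward f ⋙ DerSch.stalkFunctor X (genericPoint X)
  have hOY := isCoh_structureModule Y
  have hG₀ : Coh.IsCoh ((Scheme.Modules.pushforward f).obj (Coh.structureModule Y)) :=
    Groth.Agent.S0019.result f _ hOY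
  haveI hfM : Module.Finite (X.presheaf.stalk (genericPoint X)) (Φ.obj M) := hfinstalk M hM
  haveI hfG₀ : Module.Finite (X.presheaf.stalk (genericPoint X)) (Φ'.obj (Coh.structureModule Y)) :=
    hfinstalk _ hG₀
  -- the two ranks are positive
  have hntM : Nontrivial (Φ.obj M) := not_subsingleton_iff_nontrivial.mp hsub
  have hntG : Nontrivial (Φ'.obj (Coh.structureModule Y)) := by
    obtain ⟨y, hy⟩ := f.surjective (genericPoint X)
    have := not_subsingleton_stalk_push_unit f y
    rw [hy] at this
    exact not_subsingleton_iff_nontrivial.mp this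
  set a := Module.finrank (X.presheaf.stalk (genericPoint X)) (Φ.obj M) with ha
  set t := Module.finrank (X.presheaf.stalk (genericPoint X))
    (Φ'.obj (Coh.structureModule Y)) with ht
  have hapos : 0 < a := Module.finrank_pos
  have htpos : 0 < t := Module.finrank_pos
  obtain ⟨hfin₁, hrank₁⟩ := finrank_pow Φ M t
  obtain ⟨hfin₂, hrank₂⟩ := finrank_pow Φ' (Coh.structureModule Y) a
  have hcohF : Coh.IsCoh (Pow M t) := isCoh_pow M hM t
  have hcoh𝓕 : Coh.IsCoh (Pow (Coh.structureModule Y) a) := isCoh_pow _ hOY a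
  have hcohG : Coh.IsCoh ((Scheme.Modules.pushforward f).obj (Pow (Coh.structureModule Y) a)) :=
    Groth.Agent.S0019.result f _ hcoh𝓕
  have hrk : Module.finrank (X.presheaf.stalk (genericPoint X)) (Φ.obj (Pow M t)) =
      Module.finrank (X.presheaf.stalk (genericPoint X))
        (Φ'.obj (Pow (Coh.structureModule Y) a)) := by
    rw [hrank₁, hrank₂, mul_comm]
  let ψ : (Φ.obj (Pow M t)) ≃ₗ[X.presheaf.stalk (genericPoint X)]
      (Φ'.obj (Pow (Coh.structureModule Y) a)) := LinearEquiv.ofFinrankEq _ _ hrk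
  obtain ⟨H, q₁, q₂, hH, hbij₁, hq₂, -, -⟩ := exists_graph (Pow M t)
    ((Scheme.Modules.pushforward f).obj (Pow (Coh.structureModule Y) a)) hcohF hcohG
    (genericPoint X) ψ.toLinearMap
  have hbij₂ : Function.Bijective (stalkMap q₂ (genericPoint X)).hom := by
    have : ⇑(stalkMap q₂ (genericPoint X)).hom = ⇑ψ ∘ ⇑(stalkMap q₁ (genericPoint X)).hom := by
      funext b
      exact hq₂ b
    rw [this]
    exact ψ.bijective.comp hbij₁
  obtain ⟨c, hc0, hcbij⟩ := exists_shrink f (Pow (Coh.structureModule Y) a) hcohG hH.1 q₂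
    (genericPoint X) hbij₂.2
  haveI := hcoh𝓕.1
  have hAG : Acyc ((Scheme.Modules.pushforward f).obj (Pow (Coh.structureModule Y) a)) :=
    acyc_push_of_isAffine f _
  have hApow : Acyc (Pow M t) :=
    acyc_of_span (genericPoint X) hsmall hcohF hcohG hH hcohG q₁ q₂ _ hbij₁ hbij₂ hcbij hc0 hAG
  obtain ⟨t', ht'⟩ : ∃ t', t = t' + 1 := ⟨t - 1, by omega⟩
  rw [ht'] at hApow
  obtain ⟨i, r, hir⟩ := pow_retract M t'
  exact acyc_of_retract i r hir hApow

end Core

end Groth.Agent.Lib.Helper22.Chev
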