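import Mathlib
import Groth.Agent.Lib.Helper22.ChevCore
import Groth.Agent.Lib.Helper45.Dev.IdealSupport
import Groth.Agent.Lib.Helper45.NowhereDense
import Groth.Agent.S0027
import Groth.Agent.S0009
import Groth.Agent.S0046
import Groth.Agent.S0440

/-!
# Chevalley's theorem for Noetherian schemes (helper22)

If `f : Y ⟶ X` is finite and surjective, `Y` is affine and `X` is Noetherian, then `X` is affine.
-/

set_option autoImplicit false
set_option linter.style.haveILetI false
universe u
open AlgebraicGeometry CategoryTheory CategoryTheory.Limits Opposite TopologicalSpace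

namespace Groth.Agent.Lib.Helper22.Chev

open Groth.Agent.Lib.Helper1 Groth.Agent.Lib.Helper45 Groth.Agent.Lib.Helper49
open Groth.Agent.Lib.Helper45.DevCore Groth.Agent.Lib.Helper45.NowhereDense Groth.Agent.Lib.Helper45.IdealSupport

variable {X Y : Scheme.{u}}

/-- The closed subscheme defined by a radical ideal sheaf is reduced. -/
theorem isReduced_subscheme_radical (I : X.IdealSheafData) : IsReduced I.radical.subscheme := by
  have : ∀ U, IsReduced (I.radical.subschemeCover.openCover.X U) := by
    intro U
    have : _root_.IsReduced (Γ(X, U.1) ⧸ I.radical.ideal U) := by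
      rw [← Ideal.isRadical_iff_quotient_reduced]
      change (I.radical.ideal (show X.affineOpens from U)).IsRadical
      rw [Scheme.IdealSheafData.radical_ideal]
      exact Ideal.radical_isRadical _
    show IsReduced (Spec (.of (Γ(X, U.1) ⧸ I.radical.ideal U)))
    infer_instance
  exact IsReduced.of_openCover _ I.radical.subschemeCover.openCover

/-- The closed subscheme defined by the nilradical is reduced. -/
theorem isReduced_subscheme_nilradical (X : Scheme.{u}) : IsReduced X.nilradical.subscheme :=
  isReduced_subscheme_radical ⊥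

theorem isNoetherian_of_isClosedImmersion {Z : Scheme.{u}} (i : Z ⟶ X) [IsClosedImmersion i]
    [IsNoetherian X] : IsNoetherian Z := by
  haveI : IsLocallyNoetherian Z := LocallyOfFiniteType.isLocallyNoetherian i
  haveI : CompactSpace Z := QuasiCompact.compactSpace_of_compactSpace i
  exact {}

theorem support_eq_of_iso {M N : X.Modules} (e : M ≅ N) : CohB1.support M = CohB1.support N :=
  le_antisymm (support_subset_of_mono e.hom) (support_subset_of_mono e.inv)

/-- **Inductive step.** A reduced Noetherian scheme with a finite surjective morphism from an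
affine scheme, all of whose proper closed subschemes are affine, is affine. -/
theorem isAffine_of_proper_closed_affine (X : Scheme.{u}) [IsNoetherian X] [IsReduced X]
    [IsAffine Y] (f : Y ⟶ X) [IsFinite f] [Surjective f]
    (H : ∀ (Z : Scheme.{u}) (i : Z ⟶ X), IsClosedImmersion i → Set.range i ≠ Set.univ →
      IsAffine Z) : IsAffine X := by
  by_cases hne : Nonempty X
  swap
  · haveI : IsEmpty X := not_nonempty_iff.mp hne
    exact isAffine_of_isEmpty
  -- acyclicity of direct images from affine closed subschemes
  have hpiece : ∀ (Z : Scheme.{u}) (i : Z ⟶ X), IsClosedImmersion i → Set.range i ≠ Set.univ →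
      ∀ (I : Z.Modules), Coh.IsQCoh I → Acyc ((Coh.push i).obj I) := by
    intro Z i hi hr I hI
    haveI := H Z i hi hr
    exact acyc_push_of_isAffine i I
  -- coherent modules with proper support are acyclic
  have hsmall' : ∀ M : X.Modules, Coh.IsCoh M → CohB1.support M ≠ Set.univ → Acyc M := by
    intro M hM
    refine Groth.Agent.S0027.result X (fun M => CohB1.support M ≠ Set.univ → Acyc M) ?_ ?_ ?_ M hM
    · rintro M N ⟨e⟩ hP hN
      rw [← support_eq_of_iso e] at hN
      exact acyc_of_iso e (hP hN)
    · intro S hS _ _ _ h1 h3 h2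
      haveI := hS.mono_f
      haveI := hS.epi_g
      refine acyc_mid hS (h1 fun h => h2 ?_) (h3 fun h => h2 ?_)
      · exact Set.eq_univ_of_univ_subset (h ▸ support_subset_of_mono S.f)
      · exact Set.eq_univ_of_univ_subset (h ▸ support_subset_of_epi S.g)
    · intro Z i hi hZ I ι hι hI hsupp
      by_cases hI0 : IsZero I
      · exact acyc_of_isZero ((Coh.push i).map_isZero hI0)
      · have hsub := range_subset_support_push i I ι hI0
        refine hpiece Z i hi (fun h => hsupp ?_) I hI
        exact Set.eq_univ_of_univ_subset (h ▸ hsub)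
  -- all coherent modules are acyclic
  have hall : ∀ M : X.Modules, Coh.IsCoh M → Acyc M := by
    by_cases hirr : ∃ (Z : Scheme.{u}) (i : Z ⟶ X), IsClosedImmersion i ∧ IsIntegral Z ∧
        Set.range i = Set.univ
    · obtain ⟨Z, i, hi, hZ, hr⟩ := hirr
      haveI : Surjective i := ⟨Set.range_eq_univ.mp hr⟩
      haveI : IsIso i := isIso_of_isClosedImmersion_of_surjective i
      haveI : IsIntegral X := isIntegral_of_isOpenImmersion (inv i)
      intro M hM
      refine acyc_of_integral f (fun N hN hsub => hsmall' N hN fun h => ?_) M hM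
      have : genericPoint X ∈ CohB1.support N := h ▸ Set.mem_univ _
      exact this hsub
    · intro M hM
      refine Groth.Agent.S0027.result X Acyc (fun M N ⟨e⟩ h => acyc_of_iso e h)
        (fun S hS _ _ _ h1 h3 => acyc_mid hS h1 h3) ?_ M hM
      intro Z i hi hZ I ι hι hI
      exact hpiece Z i hi (fun h => hirr ⟨Z, i, hi, hZ, h⟩) I hI
  -- Serre's criterion
  refine Groth.Agent.S0009.result X fun I i hi hI => ?_
  have hO : Coh.IsCoh (Coh.structureModule X) := isCoh_structureModule X
  have hIcoh : Coh.IsCoh I := Groth.Agent.S0046.result X _ I i hO hI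
  exact hall I hIcoh 1 one_pos


/-- **Chevalley's theorem** (Noetherian case). -/
theorem isAffine_of_finite_surjective {Y X : Scheme.{u}} (f : Y ⟶ X) [IsFinite f] [Surjective f]
    [IsAffine Y] [IsNoetherian X] : IsAffine X := by
  have key : ∀ T : Closeds X, ∀ (Z : Scheme.{u}) (i : Z ⟶ X), IsClosedImmersion i →
      Set.range i = (T : Set X) → IsAffine Z := by
    intro T
    refine WellFoundedLT.induction (motive := fun T : Closeds X => ∀ (Z : Scheme.{u}) (i : Z ⟶ X),
      IsClosedImmersion i → Set.range i = (T : Set X) → IsAffine Z) T ?_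
    intro T ih Z i hi hr
    -- pass to the reduced subscheme
    haveI : IsReduced Z.nilradical.subscheme := isReduced_subscheme_nilradical Z
    have hρsurj : Function.Surjective Z.nilradical.subschemeι := by
      rw [← Set.range_eq_univ, Scheme.IdealSheafData.range_subschemeι, Z.support_nilradical]
      rfl
    suffices h : IsAffine Z.nilradical.subscheme from
      Groth.Agent.S0440.result Z.nilradical.subschemeι hρsurj
    haveI : IsNoetherian Z := isNoetherian_of_isClosedImmersion i
    haveI : IsNoetherian Z.nilradical.subscheme :=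
      isNoetherian_of_isClosedImmersion Z.nilradical.subschemeι
    -- the base change of `f`
    haveI : IsAffine (pullback f (Z.nilradical.subschemeι ≫ i)) :=
      isAffine_of_isAffineHom (pullback.fst f (Z.nilradical.subschemeι ≫ i))
    refine isAffine_of_proper_closed_affine Z.nilradical.subscheme
      (pullback.snd f (Z.nilradical.subschemeι ≫ i)) ?_
    intro Z' j hj hrj
    have hinj : Function.Injective (Z.nilradical.subschemeι ≫ i) :=
      (Z.nilradical.subschemeι ≫ i).isClosedEmbedding.injective
    have hcl : IsClosed (Set.range (j ≫ Z.nilradical.subschemeι ≫ i)) :=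
      (j ≫ Z.nilradical.subschemeι ≫ i).isClosedEmbedding.isClosed_range
    refine ih ⟨Set.range (j ≫ Z.nilradical.subschemeι ≫ i), hcl⟩ ?_ Z'
      (j ≫ Z.nilradical.subschemeι ≫ i) inferInstance rfl
    rw [← SetLike.coe_ssubset_coe]
    change Set.range (j ≫ Z.nilradical.subschemeι ≫ i) ⊂ (T : Set X)
    rw [← hr]
    constructor
    · rintro _ ⟨z', rfl⟩
      exact ⟨Z.nilradical.subschemeι (j z'), rfl⟩
    · intro hsub
      apply hrj
      rw [Set.range_eq_univ]
      intro z
      obtain ⟨z', hz'⟩ := hsub ⟨Z.nilradical.subschemeι z, rfl⟩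
      refine ⟨z', hinj ?_⟩
      exact hz'
  exact key ⊤ X (𝟙 X) inferInstance (by simp)

end Groth.Agent.Lib.Helper22.Chev
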