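import Mathlib
import Groth.Agent.S0591
import Groth.Agent.S9187
import Groth.Agent.Lib.Helper13.LimDescent
import Groth.Agent.Lib.Helper22.ChevMain

set_option autoImplicit false
set_option linter.style.haveILetI false
universe u
open AlgebraicGeometry CategoryTheory Limits

namespace Groth.Agent.Lib.Helper22.GenChev

/-- The conclusion of absolute Noetherian approximation (S0590) for a scheme. -/
def HasApprox (S : Scheme.{u}) : Prop :=
  ∃ (I : Type u) (_ : Preorder I) (_ : IsDirected I (fun a b => a ≤ b)) (_ : Nonempty I)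
      (D : Iᵒᵖ ⥤ Scheme.{u}) (c : Limits.Cone D) (_ : Limits.IsLimit c),
      (∀ (i j : Iᵒᵖ) (f : i ⟶ j), IsAffineHom (D.map f)) ∧
      (∀ i, CompactSpace (D.obj i) ∧
        LocallyOfFiniteType (Limits.IsTerminal.from specULiftZIsTerminal (D.obj i))) ∧
      Nonempty (c.pt ≅ S)

theorem ker_eq_bot_of_comp_iso {X Y Z : Scheme.{u}} (f : Y ⟶ X) (e : X ⟶ Z) [IsIso e]
    (h : f.ker = ⊥) : (f ≫ e).ker = ⊥ := by
  rw [Scheme.Hom.ker_comp, h, Scheme.IdealSheafData.map_bot, Scheme.Hom.ker_eq_bot_of_isIso]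

theorem ker_le_of_comp_eq {X Y Y' Z : Scheme.{u}} (f : Y ⟶ X) (π : X ⟶ Z) (q : Y ⟶ Y')
    (p : Y' ⟶ Z) (h : q ≫ p = f ≫ π) (hf : f.ker = ⊥) : p.ker ≤ π.ker := by
  calc p.ker ≤ (q ≫ p).ker := Scheme.Hom.le_ker_comp q p
    _ = (f ≫ π).ker := by rw [h]
    _ = π.ker := by rw [Scheme.Hom.ker_comp, hf, Scheme.IdealSheafData.map_bot]

instance isNoetherianRing_ulift_int : IsNoetherianRing (ULift.{u} ℤ) :=
  isNoetherianRing_of_ringEquiv ℤ ULift.ringEquiv.symm

theorem isNoetherian_of_lft {T : Scheme.{u}} [CompactSpace T]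
    (h : LocallyOfFiniteType (Limits.IsTerminal.from specULiftZIsTerminal T)) :
    IsNoetherian T := by
  haveI := h
  haveI : IsLocallyNoetherian T :=
    LocallyOfFiniteType.isLocallyNoetherian (Limits.IsTerminal.from specULiftZIsTerminal T)
  exact {}

open Groth.Agent.Lib.Helper13.LimDescent in
/-- Chevalley for a finite, finitely presented, surjective, schematically dominant morphism from an
affine scheme onto a scheme with a Noetherian approximation. -/
theorem isAffine_of_finite_fp_surjective {X Y : Scheme.{u}} (hX : HasApprox X) (f : Y ⟶ X)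
    [IsFinite f] [LocallyOfFinitePresentation f] [Surjective f] [IsAffine Y] (hker : f.ker = ⊥) :
    IsAffine X := by
  obtain ⟨I, _, _, _, D, c, hc, haff, hD, ⟨e⟩⟩ := hX
  haveI : ∀ (i j : Iᵒᵖ) (f : i ⟶ j), IsAffineHom (D.map f) := haff
  haveI : ∀ {i j : Iᵒᵖ} (f : i ⟶ j), IsAffineHom (D.map f) := fun f => haff _ _ f
  haveI : ∀ i, CompactSpace (D.obj i) := fun i => (hD i).1
  haveI : ∀ i, IsNoetherian (D.obj i) := fun i => isNoetherian_of_lft (hD i).2
  haveI : ∀ i, QuasiSeparatedSpace (D.obj i) := fun i => inferInstance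
  obtain ⟨f', hf'⟩ : ∃ f' : Y ⟶ c.pt, f' = f ≫ e.inv := ⟨_, rfl⟩
  have hker' : f'.ker = ⊥ := by rw [hf']; exact ker_eq_bot_of_comp_iso f e.inv hker
  haveI : Surjective f' := by rw [hf']; infer_instance
  haveI : IsFinite f' := by rw [hf']; infer_instance
  haveI : LocallyOfFinitePresentation f' := by rw [hf']; infer_instance
  -- descend
  obtain ⟨i, Yi, fi, g, hfi1, hfi2, hfi3, hpb⟩ := Groth.Agent.S0591.result D c hc Y f'
  haveI : CompactSpace Yi := QuasiCompact.compactSpace_of_compactSpace fi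
  haveI : QuasiSeparatedSpace Yi := quasiSeparatedSpace_of_quasiSeparated fi
  haveI : LocallyOfFiniteType fi := inferInstance
  have hY : IsPullback (c.π.app i) (𝟙 c.pt) (𝟙 (D.obj i)) (c.π.app i) :=
    IsPullback.id_vert (c.π.app i)
  obtain ⟨i', φ, Xi, Yi', fi', gi, pY, pX, h1, h2, hfin⟩ :=
    Groth.Agent.S9187.result D c hc i fi (𝟙 _) f' (𝟙 c.pt) (c.π.app i) g hY hpb
  haveI : IsIso gi := h1.isIso_snd_of_isIso
  let F : Xi ⟶ D.obj i' := fi' ≫ gi
  haveI : IsFinite F := inferInstance
  have hbig : IsPullback pX F fi (D.map φ) := by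
    have := h2.paste_vert h1
    rwa [Category.comp_id] at this
  have hw : g ≫ fi = (f' ≫ c.π.app i') ≫ D.map φ :=
    calc g ≫ fi = f' ≫ c.π.app i := hpb.w
      _ = (f' ≫ c.π.app i') ≫ D.map φ := by rw [Category.assoc, Cone.w]
  let q : Y ⟶ Xi := hbig.lift g (f' ≫ c.π.app i') hw
  have hq1 : q ≫ pX = g := hbig.lift_fst _ _ _
  have hq2 : q ≫ F = f' ≫ c.π.app i' := hbig.lift_snd _ _ _
  have hsq : IsPullback q f' F (c.π.app i') := by
    refine IsPullback.of_right ?_ hq2 hbig
    rw [hq1, c.w]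
    exact hpb
  haveI : CompactSpace Xi := QuasiCompact.compactSpace_of_compactSpace F
  haveI : QuasiSeparatedSpace Xi := quasiSeparatedSpace_of_quasiSeparated F
  haveI : IsAffine (pullback (c.π.app i') F) :=
    IsAffine.of_isIso hsq.flip.isoPullback.inv
  obtain ⟨k, hk⟩ := exists_isAffine_pullback D c i' F hc
  -- the stage `k`
  let p := pullback.fst (D.map k.hom) F
  haveI : IsFinite p := inferInstance
  let π := c.π.app k.left
  haveI : IsAffineHom π := isAffineHom_π_app D c hc k.left
  have hcomm : (f' ≫ π) ≫ D.map k.hom = q ≫ F := by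
    rw [Category.assoc, c.w, hq2]
  let qk : Y ⟶ pullback (D.map k.hom) F := pullback.lift (f' ≫ π) q hcomm
  have hqk : qk ≫ p = f' ≫ π := pullback.lift_fst _ _ _
  have hle : p.imageι.ker ≤ π.ker := by
    have : p.imageι.ker = p.ker := Scheme.IdealSheafData.ker_subschemeι _
    rw [this]
    exact ker_le_of_comp_eq f' π qk p hqk hker'
  let ℓ := IsClosedImmersion.lift p.imageι π hle
  have hℓ : ℓ ≫ p.imageι = π := IsClosedImmersion.lift_fac _ _ _
  -- the image is affine
  haveI : IsNoetherian p.image := Groth.Agent.Lib.Helper22.Chev.isNoetherian_of_isClosedImmersion p.imageι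
  haveI : IsFinite p.toImage := by
    have : IsFinite (p.toImage ≫ p.imageι) := by rw [p.toImage_imageι]; infer_instance
    exact IsFinite.of_comp p.toImage p.imageι
  haveI : Surjective p.toImage := by
    constructor
    have hd : DenseRange p.toImage := p.toImage.denseRange
    have hcl : IsClosed (Set.range p.toImage) := p.toImage.isClosedMap.isClosed_range
    rw [← Set.range_eq_univ, ← hcl.closure_eq, hd.closure_range]
  haveI : IsAffine p.image := Groth.Agent.Lib.Helper22.Chev.isAffine_of_finite_surjective p.toImage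
  haveI : IsAffineHom ℓ := by
    have : IsAffineHom (ℓ ≫ p.imageι) := by rw [hℓ]; infer_instance
    exact IsAffineHom.of_comp ℓ p.imageι
  haveI : IsAffine c.pt := isAffine_of_isAffineHom ℓ
  exact IsAffine.of_isIso e.inv

end Groth.Agent.Lib.Helper22.GenChev
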