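import Mathlib
import Groth.Agent.Lib.Helper22.GenChev

set_option autoImplicit false
set_option linter.style.haveILetI false
set_option linter.unusedSectionVars false
universe u
open AlgebraicGeometry CategoryTheory Limits Opposite

namespace Groth.Agent.Lib.Helper22.RelApprox

open Groth.Agent.Lib.Helper22.GenChev

section

variable {A : Type u} [Preorder A] {B : Type u} [Preorder B]
  (DX : Aᵒᵖ ⥤ Scheme.{u}) (cX : Cone DX) (DS : Bᵒᵖ ⥤ Scheme.{u}) (cS : Cone DS)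
  (f : cX.pt ⟶ cS.pt)

/-- Triples `(a, b, φ : X_a ⟶ S_b)` compatible with `f : X ⟶ S`. -/
structure Triple where
  a : A
  b : B
  φ : DX.obj (op a) ⟶ DS.obj (op b)
  comm : cX.π.app (op a) ≫ φ = f ≫ cS.π.app (op b)

variable {DX cX DS cS f}

instance : Preorder (Triple DX cX DS cS f) where
  le t t' := t.a ≤ t'.a ∧ t.b ≤ t'.b ∧ ∀ (ha : t.a ≤ t'.a) (hb : t.b ≤ t'.b),
    DX.map (homOfLE ha).op ≫ t.φ = t'.φ ≫ DS.map (homOfLE hb).op
  le_refl t := ⟨le_refl _, le_refl _, fun _ _ => by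
    rw [show (homOfLE (le_refl t.a)).op = 𝟙 (op t.a) from rfl,
      show (homOfLE (le_refl t.b)).op = 𝟙 (op t.b) from rfl, DX.map_id, DS.map_id,
      Category.id_comp, Category.comp_id]⟩
  le_trans t t' t'' := by
    rintro ⟨ha, hb, h⟩ ⟨ha', hb', h'⟩
    refine ⟨ha.trans ha', hb.trans hb', fun _ _ => ?_⟩
    rw [show (homOfLE (ha.trans ha')).op = (homOfLE ha').op ≫ (homOfLE ha).op from rfl,
      show (homOfLE (hb.trans hb')).op = (homOfLE hb').op ≫ (homOfLE hb).op from rfl,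
      DX.map_comp, DS.map_comp, Category.assoc, h ha hb, ← Category.assoc, h' ha' hb',
      Category.assoc]

theorem Triple.le_def (t t' : Triple DX cX DS cS f) : t ≤ t' ↔ t.a ≤ t'.a ∧ t.b ≤ t'.b ∧
    ∀ (ha : t.a ≤ t'.a) (hb : t.b ≤ t'.b),
      DX.map (homOfLE ha).op ≫ t.φ = t'.φ ≫ DS.map (homOfLE hb).op := Iff.rfl

end

/-- The structure maps to `Spec ℤ`, as a natural transformation. -/
noncomputable def toTerm {I : Type u} [Category.{u} I] (D : I ⥤ Scheme.{u}) :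
    D ⟶ (Functor.const I).obj (Spec (.of (ULift.{u} ℤ))) where
  app i := specULiftZIsTerminal.from _
  naturality _ _ _ := specULiftZIsTerminal.hom_ext _ _

section lemmas

variable {A : Type u} [Preorder A] [IsDirected A (· ≤ ·)] [Nonempty A]
  (DX : Aᵒᵖ ⥤ Scheme.{u}) (cX : Cone DX) (hcX : IsLimit cX)
  [∀ {i j : Aᵒᵖ} (f : i ⟶ j), IsAffineHom (DX.map f)]
  [∀ i, CompactSpace (DX.obj i)]

include hcX in
/-- A morphism from the limit to a scheme locally of finite type over `ℤ` factors through a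
stage. -/
theorem exists_factor [∀ i, QuasiSeparatedSpace (DX.obj i)] {Y : Scheme.{u}}
    [LocallyOfFiniteType (specULiftZIsTerminal.from Y)] (g : cX.pt ⟶ Y) :
    ∃ (a : A) (ψ : DX.obj (op a) ⟶ Y), cX.π.app (op a) ≫ ψ = g := by
  obtain ⟨i, ψ, h1, -⟩ := Scheme.exists_π_app_comp_eq_of_locallyOfFinitePresentation DX (toTerm DX)
    (specULiftZIsTerminal.from Y) cX hcX g (by ext _; exact specULiftZIsTerminal.hom_ext _ _)
  exact ⟨i.unop, ψ, h1⟩

include hcX in
/-- Two morphisms from a stage to a scheme locally of finite type over `ℤ` which agree on the limit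
agree on a later stage. -/
theorem exists_agree {Y : Scheme.{u}} [LocallyOfFiniteType (specULiftZIsTerminal.from Y)]
    {a : A} (ψ₁ ψ₂ : DX.obj (op a) ⟶ Y)
    (h : cX.π.app (op a) ≫ ψ₁ = cX.π.app (op a) ≫ ψ₂) :
    ∃ (a' : A) (ha : a ≤ a'), DX.map (homOfLE ha).op ≫ ψ₁ = DX.map (homOfLE ha).op ≫ ψ₂ := by
  obtain ⟨k, hik, hk⟩ := Scheme.exists_hom_comp_eq_comp_of_locallyOfFiniteType DX (toTerm DX)
    (specULiftZIsTerminal.from Y) cX hcX ψ₁ ψ₂ (specULiftZIsTerminal.hom_ext _ _)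
    (specULiftZIsTerminal.hom_ext _ _) h
  exact ⟨k.unop, leOfHom hik.unop, hk⟩

end lemmas

section directed

variable {A : Type u} [Preorder A] [IsDirected A (· ≤ ·)] [Nonempty A]
  {B : Type u} [Preorder B] [IsDirected B (· ≤ ·)] [Nonempty B]
  {DX : Aᵒᵖ ⥤ Scheme.{u}} {cX : Cone DX} (hcX : IsLimit cX)
  {DS : Bᵒᵖ ⥤ Scheme.{u}} {cS : Cone DS} {f : cX.pt ⟶ cS.pt}
  [∀ {i j : Aᵒᵖ} (f : i ⟶ j), IsAffineHom (DX.map f)]
  [∀ i, CompactSpace (DX.obj i)] [∀ i, QuasiSeparatedSpace (DX.obj i)]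
  [∀ b, LocallyOfFiniteType (specULiftZIsTerminal.from (DS.obj b))]

omit [IsDirected A (· ≤ ·)] [Nonempty A] in
theorem map_map_le (D : Aᵒᵖ ⥤ Scheme.{u}) {a a' a'' : A} (h : a ≤ a') (h' : a' ≤ a'') :
    D.map (homOfLE h').op ≫ D.map (homOfLE h).op = D.map (homOfLE (h.trans h')).op := by
  rw [← D.map_comp]; rfl

/-- Pass to a later stage in the first variable. -/
def Triple.restrict (t : Triple DX cX DS cS f) (a' : A) (h : t.a ≤ a') : Triple DX cX DS cS f where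
  a := a'
  b := t.b
  φ := DX.map (homOfLE h).op ≫ t.φ
  comm := by rw [← Category.assoc, cX.w]; exact t.comm

theorem Triple.le_restrict (t : Triple DX cX DS cS f) (a' : A) (h : t.a ≤ a') :
    t ≤ t.restrict a' h := by
  refine ⟨h, le_refl _, fun _ _ => ?_⟩
  show DX.map (homOfLE h).op ≫ t.φ = (DX.map (homOfLE h).op ≫ t.φ) ≫ DS.map (𝟙 _)
  rw [DS.map_id, Category.comp_id]

include hcX in
theorem exists_triple (b : B) : ∃ t : Triple DX cX DS cS f, t.b = b := by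
  obtain ⟨a, ψ, h⟩ := exists_factor DX cX hcX (f ≫ cS.π.app (op b))
  exact ⟨⟨a, b, ψ, h⟩, rfl⟩

include hcX in
theorem nonempty_triple : Nonempty (Triple DX cX DS cS f) := by
  obtain ⟨t, -⟩ := exists_triple (f := f) hcX (Classical.arbitrary B)
  exact ⟨t⟩

include hcX in
theorem exists_ge_of_b_le (t₁ t : Triple DX cX DS cS f) (hb : t₁.b ≤ t.b) :
    ∃ t' : Triple DX cX DS cS f, t ≤ t' ∧ t₁ ≤ t' := by
  obtain ⟨a', h1, h2⟩ := exists_ge_ge t₁.a t.a
  obtain ⟨a'', ha'', hagree⟩ := exists_agree DX cX hcX (a := a')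
    (DX.map (homOfLE h1).op ≫ t₁.φ) (DX.map (homOfLE h2).op ≫ t.φ ≫ DS.map (homOfLE hb).op) (by
      rw [← Category.assoc, ← Category.assoc, cX.w, cX.w, t₁.comm, ← Category.assoc, t.comm,
        Category.assoc, cS.w])
  refine ⟨t.restrict a'' (h2.trans ha''), t.le_restrict _ _, h1.trans ha'', hb, fun _ _ => ?_⟩
  rw [← Category.assoc, map_map_le, ← Category.assoc, map_map_le] at hagree
  show DX.map (homOfLE (h1.trans ha'')).op ≫ t₁.φ =
    (DX.map (homOfLE (h2.trans ha'')).op ≫ t.φ) ≫ DS.map (homOfLE hb).op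
  rw [Category.assoc]
  exact hagree

include hcX in
theorem isDirected_triple : IsDirected (Triple DX cX DS cS f) (· ≤ ·) := by
  constructor
  intro t₁ t₂
  obtain ⟨b, hb1, hb2⟩ := exists_ge_ge t₁.b t₂.b
  obtain ⟨t₀, ht₀⟩ := exists_triple (f := f) hcX b
  obtain ⟨t', h1, h2⟩ := exists_ge_of_b_le hcX t₁ t₀ (by rw [ht₀]; exact hb1)
  obtain ⟨ha, hb', -⟩ := h1
  obtain ⟨t'', h3, h4⟩ := exists_ge_of_b_le hcX t₂ t' (by rw [ht₀] at hb'; exact hb2.trans hb')
  exact ⟨t'', h2.trans h3, h4⟩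

end directed

end Groth.Agent.Lib.Helper22.RelApprox
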