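import Mathlib
import Groth.Agent.Lib.Helper22.RelApprox1

set_option autoImplicit false
set_option linter.style.haveILetI false
set_option linter.unusedSectionVars false
universe u
open AlgebraicGeometry CategoryTheory Limits Opposite

namespace Groth.Agent.Lib.Helper22.RelApprox

open Groth.Agent.Lib.Helper22.GenChev

section final

variable {A : Type u} [Preorder A] [IsDirected A (· ≤ ·)] [Nonempty A]
  {B : Type u} [Preorder B] [IsDirected B (· ≤ ·)] [Nonempty B]
  (DX : Aᵒᵖ ⥤ Scheme.{u}) (cX : Cone DX) (hcX : IsLimit cX)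
  (DS : Bᵒᵖ ⥤ Scheme.{u}) (cS : Cone DS) (f : cX.pt ⟶ cS.pt)
  [∀ {i j : Aᵒᵖ} (f : i ⟶ j), IsAffineHom (DX.map f)]
  [∀ i, CompactSpace (DX.obj i)] [∀ i, QuasiSeparatedSpace (DX.obj i)]
  [∀ b, LocallyOfFiniteType (specULiftZIsTerminal.from (DS.obj b))]

/-- The projection to the first index, as a functor on opposite categories. -/
def FA : (Triple DX cX DS cS f)ᵒᵖ ⥤ Aᵒᵖ :=
  (Monotone.functor (f := fun t : Triple DX cX DS cS f => t.a)
    (fun t t' h => ((Triple.le_def t t').mp h).1)).op

/-- The projection to the second index, as a functor on opposite categories. -/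
def FB : (Triple DX cX DS cS f)ᵒᵖ ⥤ Bᵒᵖ :=
  (Monotone.functor (f := fun t : Triple DX cX DS cS f => t.b)
    (fun t t' h => ((Triple.le_def t t').mp h).2.1)).op

include hcX in
theorem initial_FA : (FA DX cX DS cS f).Initial := by
  haveI := isDirected_triple (f := f) hcX
  haveI := nonempty_triple (f := f) hcX
  refine Functor.initial_of_exists_of_isCofiltered _ ?_ ?_
  · intro d
    obtain ⟨t₀⟩ := nonempty_triple (f := f) hcX
    obtain ⟨a', h1, h2⟩ := exists_ge_ge d.unop t₀.a
    exact ⟨op (t₀.restrict a' h2), ⟨(homOfLE h1).op⟩⟩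
  · intro d c s s'
    exact ⟨c, 𝟙 _, Subsingleton.elim _ _⟩

include hcX in
theorem initial_FB : (FB DX cX DS cS f).Initial := by
  haveI := isDirected_triple (f := f) hcX
  haveI := nonempty_triple (f := f) hcX
  refine Functor.initial_of_exists_of_isCofiltered _ ?_ ?_
  · intro d
    obtain ⟨t, ht⟩ := exists_triple (f := f) hcX d.unop
    exact ⟨op t, ⟨(homOfLE (le_of_eq ht.symm)).op⟩⟩
  · intro d c s s'
    exact ⟨c, 𝟙 _, Subsingleton.elim _ _⟩

/-- The diagram of fibre products `X_a ×_{S_b} S`. -/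
noncomputable def W : (Triple DX cX DS cS f)ᵒᵖ ⥤ Scheme.{u} where
  obj t := pullback t.unop.φ (cS.π.app (op t.unop.b))
  map {t t'} g := pullback.map t.unop.φ (cS.π.app (op t.unop.b)) t'.unop.φ
    (cS.π.app (op t'.unop.b)) (DX.map (homOfLE (leOfHom g.unop).1).op) (𝟙 _)
    (DS.map (homOfLE (leOfHom g.unop).2.1).op) ((leOfHom g.unop).2.2 _ _).symm
    (by rw [Category.id_comp, cS.w])
  map_id t := by
    apply pullback.hom_ext
    · simp only [pullback.map, pullback.lift_fst, Category.id_comp]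
      rw [show (homOfLE (leOfHom (𝟙 t : t ⟶ t).unop).1).op = 𝟙 (op t.unop.a) from rfl, DX.map_id,
        Category.comp_id]
    · simp only [pullback.map, pullback.lift_snd, Category.id_comp, Category.comp_id]
  map_comp {t t' t''} g g' := by
    apply pullback.hom_ext
    · simp only [pullback.map, pullback.lift_fst, Category.assoc, pullback.lift_fst_assoc]
      rw [← DX.map_comp]
      rfl
    · simp only [pullback.map, pullback.lift_snd, Category.assoc, Category.comp_id]

/-- First projection of the fibre product. -/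
noncomputable def Wfst (t : (Triple DX cX DS cS f)ᵒᵖ) :
    (W DX cX DS cS f).obj t ⟶ DX.obj (op t.unop.a) := pullback.fst _ _

/-- Second projection of the fibre product. -/
noncomputable def Wsnd (t : (Triple DX cX DS cS f)ᵒᵖ) :
    (W DX cX DS cS f).obj t ⟶ cS.pt := pullback.snd _ _

theorem W_map_fst {t t' : (Triple DX cX DS cS f)ᵒᵖ} (g : t ⟶ t') :
    (W DX cX DS cS f).map g ≫ Wfst DX cX DS cS f t' =
      Wfst DX cX DS cS f t ≫ DX.map (homOfLE (leOfHom g.unop).1).op := by
  simp only [W, Wfst, pullback.map, pullback.lift_fst]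

theorem W_map_snd {t t' : (Triple DX cX DS cS f)ᵒᵖ} (g : t ⟶ t') :
    (W DX cX DS cS f).map g ≫ Wsnd DX cX DS cS f t' = Wsnd DX cX DS cS f t := by
  simp only [W, Wsnd, pullback.map, pullback.lift_snd, Category.comp_id]

theorem W_condition (t : (Triple DX cX DS cS f)ᵒᵖ) :
    Wfst DX cX DS cS f t ≫ t.unop.φ = Wsnd DX cX DS cS f t ≫ cS.π.app (op t.unop.b) :=
  pullback.condition

theorem W_hom_ext {Z : Scheme.{u}} {t : (Triple DX cX DS cS f)ᵒᵖ}
    (p q : Z ⟶ (W DX cX DS cS f).obj t)
    (h1 : p ≫ Wfst DX cX DS cS f t = q ≫ Wfst DX cX DS cS f t)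
    (h2 : p ≫ Wsnd DX cX DS cS f t = q ≫ Wsnd DX cX DS cS f t) : p = q :=
  pullback.hom_ext h1 h2

/-- The legs `X ⟶ X_a ×_{S_b} S`. -/
noncomputable def leg (t : (Triple DX cX DS cS f)ᵒᵖ) : cX.pt ⟶ (W DX cX DS cS f).obj t :=
  pullback.lift (cX.π.app (op t.unop.a)) f t.unop.comm

theorem leg_fst (t : (Triple DX cX DS cS f)ᵒᵖ) :
    leg DX cX DS cS f t ≫ Wfst DX cX DS cS f t = cX.π.app (op t.unop.a) :=
  pullback.lift_fst _ _ _

theorem leg_snd (t : (Triple DX cX DS cS f)ᵒᵖ) :
    leg DX cX DS cS f t ≫ Wsnd DX cX DS cS f t = f :=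
  pullback.lift_snd _ _ _

/-- The cone over the diagram of fibre products with vertex `X`. -/
noncomputable def coneW : Cone (W DX cX DS cS f) where
  pt := cX.pt
  π :=
    { app := fun t => leg DX cX DS cS f t
      naturality := fun t t' g => by
        dsimp only [Functor.const_obj_obj, Functor.const_obj_map]
        apply W_hom_ext
        · rw [Category.id_comp, Category.assoc, W_map_fst, leg_fst,
            ← Category.assoc, leg_fst, Cone.w]
        · rw [Category.id_comp, Category.assoc, W_map_snd, leg_snd,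
            leg_snd] }

include hcX in
theorem existsUnique_lift (hcS : IsLimit cS) (s : Cone (W DX cX DS cS f)) :
    ∃! l : s.pt ⟶ (coneW DX cX DS cS f).pt, ∀ j, l ≫ (coneW DX cX DS cS f).π.app j = s.π.app j := by
  haveI := isDirected_triple (f := f) hcX
  haveI := initial_FA DX cX hcX DS cS f
  haveI := initial_FB DX cX hcX DS cS f
  have hX' : IsLimit (cX.whisker (FA DX cX DS cS f)) :=
    (Functor.Initial.isLimitWhiskerEquiv (FA DX cX DS cS f) cX).symm hcX
  have hS' : IsLimit (cS.whisker (FB DX cX DS cS f)) :=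
    (Functor.Initial.isLimitWhiskerEquiv (FB DX cX DS cS f) cS).symm hcS
  -- the maps to `S`
  have hsnd : ∀ (t t' : Triple DX cX DS cS f), t ≤ t' →
      s.π.app (op t') ≫ Wsnd DX cX DS cS f (op t') = s.π.app (op t) ≫ Wsnd DX cX DS cS f (op t) := by
    intro t t' h
    rw [← s.w (homOfLE h).op, Category.assoc, W_map_snd]
  have hfst : ∀ (t t' : (Triple DX cX DS cS f)ᵒᵖ) (g : t ⟶ t'),
      (s.π.app t ≫ Wfst DX cX DS cS f t) ≫ DX.map (homOfLE (leOfHom g.unop).1).op =
        s.π.app t' ≫ Wfst DX cX DS cS f t' := by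
    intro t t' g
    rw [← s.w g, Category.assoc, Category.assoc, W_map_fst]
  have hsnd' : ∀ (t t' : Triple DX cX DS cS f),
      s.π.app (op t') ≫ Wsnd DX cX DS cS f (op t') = s.π.app (op t) ≫ Wsnd DX cX DS cS f (op t) := by
    intro t t'
    obtain ⟨t'', h1, h2⟩ := exists_ge_ge t t'
    rw [← hsnd t' t'' h2, ← hsnd t t'' h1]
  -- the cone over the `X_a`
  let sX : Cone (FA DX cX DS cS f ⋙ DX) :=
    { pt := s.pt
      π :=
        { app := fun t => s.π.app t ≫ Wfst DX cX DS cS f t
          naturality := fun t t' g => by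
            dsimp only [Functor.const_obj_obj, Functor.const_obj_map]
            rw [Category.id_comp]
            exact (hfst t t' g).symm } }
  have hk : ∀ t : (Triple DX cX DS cS f)ᵒᵖ, hX'.lift sX ≫ cX.π.app (op t.unop.a) =
      s.π.app t ≫ Wfst DX cX DS cS f t := fun t => hX'.fac sX t
  have hkf : ∀ t : (Triple DX cX DS cS f)ᵒᵖ, hX'.lift sX ≫ f =
      s.π.app t ≫ Wsnd DX cX DS cS f t := by
    intro t
    apply hS'.hom_ext
    intro t'
    show (hX'.lift sX ≫ f) ≫ cS.π.app (op t'.unop.b) =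
      (s.π.app t ≫ Wsnd DX cX DS cS f t) ≫ cS.π.app (op t'.unop.b)
    rw [show s.π.app t ≫ Wsnd DX cX DS cS f t = s.π.app t' ≫ Wsnd DX cX DS cS f t' from
      hsnd' t'.unop t.unop, Category.assoc, ← t'.unop.comm, ← Category.assoc, hk, Category.assoc,
      Category.assoc, W_condition]
  refine ⟨hX'.lift sX, fun j => ?_, fun m hm => ?_⟩
  · apply W_hom_ext
    · show (hX'.lift sX ≫ leg DX cX DS cS f j) ≫ _ = _
      rw [Category.assoc, leg_fst]
      exact hk j
    · show (hX'.lift sX ≫ leg DX cX DS cS f j) ≫ _ = _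
      rw [Category.assoc, leg_snd]
      exact hkf j
  · have key : ∀ (m' : s.pt ⟶ cX.pt), (∀ j, m' ≫ leg DX cX DS cS f j = s.π.app j) →
        m' = hX'.lift sX := by
      intro m' hm'
      apply hX'.hom_ext
      intro t
      show m' ≫ cX.π.app (op t.unop.a) = hX'.lift sX ≫ cX.π.app (op t.unop.a)
      rw [hk, ← hm' t, Category.assoc, leg_fst]
    exact key m hm

/-- `X` is the limit of the fibre products `X_a ×_{S_b} S`. -/
noncomputable def isLimitConeW (hcS : IsLimit cS) : IsLimit (coneW DX cX DS cS f) :=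
  IsLimit.ofExistsUnique (existsUnique_lift DX cX hcX DS cS f hcS)

end final

end Groth.Agent.Lib.Helper22.RelApprox
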