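import Mathlib
import Groth.Agent.Lib.Helper22.RelApprox2

set_option autoImplicit false
set_option linter.style.haveILetI false
set_option linter.unusedSectionVars false
universe u
open AlgebraicGeometry CategoryTheory Limits Opposite

namespace Groth.Agent.Lib.Helper22.RelApprox

open Groth.Agent.Lib.Helper22.GenChev

section props

variable {A : Type u} [Preorder A] [IsDirected A (· ≤ ·)] [Nonempty A]
  {B : Type u} [Preorder B] [IsDirected B (· ≤ ·)] [Nonempty B]
  (DX : Aᵒᵖ ⥤ Scheme.{u}) (cX : Cone DX) (hcX : IsLimit cX)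
  (DS : Bᵒᵖ ⥤ Scheme.{u}) (cS : Cone DS) (hcS : IsLimit cS) (f : cX.pt ⟶ cS.pt)
  [∀ {i j : Aᵒᵖ} (f : i ⟶ j), IsAffineHom (DX.map f)]
  [∀ i, CompactSpace (DX.obj i)] [∀ i, QuasiSeparatedSpace (DX.obj i)]
  [∀ a, LocallyOfFiniteType (specULiftZIsTerminal.from (DX.obj a))]
  [∀ {i j : Bᵒᵖ} (f : i ⟶ j), IsAffineHom (DS.map f)]
  [∀ b, LocallyOfFiniteType (specULiftZIsTerminal.from (DS.obj b))]

theorem isLocallyNoetherian_of_lft (T : Scheme.{u})
    [LocallyOfFiniteType (specULiftZIsTerminal.from T)] : IsLocallyNoetherian T :=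
  LocallyOfFiniteType.isLocallyNoetherian (specULiftZIsTerminal.from T)

theorem props_φ (t : Triple DX cX DS cS f) :
    LocallyOfFinitePresentation t.φ ∧ QuasiCompact t.φ ∧ QuasiSeparated t.φ := by
  haveI : IsLocallyNoetherian (DS.obj (op t.b)) := isLocallyNoetherian_of_lft _
  haveI : IsLocallyNoetherian (DX.obj (op t.a)) := isLocallyNoetherian_of_lft _
  haveI : LocallyOfFiniteType t.φ := by
    haveI : LocallyOfFiniteType (t.φ ≫ specULiftZIsTerminal.from (DS.obj (op t.b))) := by
      rw [specULiftZIsTerminal.hom_ext (t.φ ≫ specULiftZIsTerminal.from (DS.obj (op t.b)))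
        (specULiftZIsTerminal.from _)]
      infer_instance
    exact locallyOfFiniteType_of_comp t.φ (specULiftZIsTerminal.from (DS.obj (op t.b)))
  exact ⟨inferInstance, inferInstance, inferInstance⟩

theorem props_Wsnd (t : (Triple DX cX DS cS f)ᵒᵖ) :
    LocallyOfFinitePresentation (Wsnd DX cX DS cS f t) ∧ QuasiCompact (Wsnd DX cX DS cS f t) ∧
      QuasiSeparated (Wsnd DX cX DS cS f t) := by
  obtain ⟨h1, h2, h3⟩ := props_φ DX cX DS cS f t.unop
  have hpb := IsPullback.of_hasPullback t.unop.φ (cS.π.app (op t.unop.b))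
  exact ⟨MorphismProperty.of_isPullback (P := @LocallyOfFinitePresentation) hpb h1,
    MorphismProperty.of_isPullback (P := @QuasiCompact) hpb h2,
    MorphismProperty.of_isPullback (P := @QuasiSeparated) hpb h3⟩

include hcS in
theorem isAffineHom_Wfst (t : (Triple DX cX DS cS f)ᵒᵖ) : IsAffineHom (Wfst DX cX DS cS f t) := by
  haveI : IsAffineHom (cS.π.app (op t.unop.b)) := isAffineHom_π_app DS cS hcS _
  exact MorphismProperty.of_isPullback (P := @IsAffineHom)
    (IsPullback.of_hasPullback t.unop.φ (cS.π.app (op t.unop.b))).flip ‹_›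

include hcS in
theorem isAffineHom_W_map {t t' : (Triple DX cX DS cS f)ᵒᵖ} (g : t ⟶ t') :
    IsAffineHom ((W DX cX DS cS f).map g) := by
  haveI := isAffineHom_Wfst DX cX DS cS hcS f t
  haveI := isAffineHom_Wfst DX cX DS cS hcS f t'
  haveI : IsAffineHom ((W DX cX DS cS f).map g ≫ Wfst DX cX DS cS f t') := by
    rw [W_map_fst]; infer_instance
  exact IsAffineHom.of_comp _ (Wfst DX cX DS cS f t')

/-- The diagram of fibre products, as a diagram over `S`. -/
noncomputable def Dover : (Triple DX cX DS cS f)ᵒᵖ ⥤ Over cS.pt where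
  obj t := Over.mk (Wsnd DX cX DS cS f t)
  map g := Over.homMk ((W DX cX DS cS f).map g) (W_map_snd DX cX DS cS f g)
  map_id t := by
    ext
    exact (W DX cX DS cS f).map_id t
  map_comp g g' := by
    ext
    exact (W DX cX DS cS f).map_comp g g'

/-- The cone over `Dover` with vertex `f : X ⟶ S`. -/
noncomputable def coneOver : Cone (Dover DX cX DS cS f) where
  pt := Over.mk f
  π :=
    { app := fun t => Over.homMk (leg DX cX DS cS f t) (leg_snd DX cX DS cS f t)
      naturality := fun t t' g => by
        ext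
        exact (coneW DX cX DS cS f).π.naturality g }

include hcX in
theorem isConnected_triple_op : IsConnected (Triple DX cX DS cS f)ᵒᵖ := by
  haveI := isDirected_triple (f := f) hcX
  haveI := nonempty_triple (f := f) hcX
  exact IsCofiltered.isConnected _

/-- `f : X ⟶ S` is the limit, in the category of schemes over `S`, of the `X_a ×_{S_b} S`. -/
noncomputable def isLimitConeOver : IsLimit (coneOver DX cX DS cS f) := by
  haveI := isConnected_triple_op DX cX hcX DS cS f
  apply isLimitOfReflects (Over.forget cS.pt)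
  exact isLimitConeW DX cX hcX DS cS f hcS

end props

end Groth.Agent.Lib.Helper22.RelApprox
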