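import Mathlib
import Groth.Agent.Lib.Helper22.RelApprox3

set_option autoImplicit false
set_option linter.style.haveILetI false
set_option linter.unusedSectionVars false
universe u
open AlgebraicGeometry CategoryTheory Limits Opposite

namespace Groth.Agent.Lib.Helper22.RelApprox

open Groth.Agent.Lib.Helper22.GenChev

/-- Normalised form of `HasApprox`: the vertex of the limit cone is the scheme itself. -/
theorem exists_cone_eq {S : Scheme.{u}} (h : HasApprox S) :
    ∃ (I : Type u) (_ : Preorder I) (_ : IsDirected I (fun a b => a ≤ b)) (_ : Nonempty I)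
      (D : Iᵒᵖ ⥤ Scheme.{u}) (c : Cone D) (_ : IsLimit c),
      (∀ (i j : Iᵒᵖ) (f : i ⟶ j), IsAffineHom (D.map f)) ∧
      (∀ i, CompactSpace (D.obj i) ∧
        LocallyOfFiniteType (specULiftZIsTerminal.from (D.obj i))) ∧ c.pt = S := by
  obtain ⟨I, i1, i2, i3, D, c, hc, h1, h2, ⟨e⟩⟩ := h
  refine ⟨I, i1, i2, i3, D, { pt := S, π := (Functor.const _).map e.inv ≫ c.π },
    IsLimit.ofIsoLimit hc (Cone.ext e (fun j => ?_)), h1, h2, rfl⟩
  simp

/-- Relative approximation over a base with an absolute approximation. -/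
theorem exists_relApprox_of_hasApprox {X S : Scheme.{u}} (hX : HasApprox X) (hS : HasApprox S)
    (f : X ⟶ S) :
    ∃ (I : Type u) (_ : Preorder I) (_ : IsDirected I (fun a b => a ≤ b)) (_ : Nonempty I)
      (D : Iᵒᵖ ⥤ Over S) (c : Limits.Cone D) (_ : Limits.IsLimit c),
      (∀ i, LocallyOfFinitePresentation (D.obj i).hom ∧ QuasiCompact (D.obj i).hom ∧
        QuasiSeparated (D.obj i).hom) ∧
      (∀ (i j : Iᵒᵖ) (a : i ⟶ j), IsAffineHom (D.map a).left) ∧
      Nonempty (c.pt ≅ Over.mk f) := by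
  obtain ⟨A, _, _, _, DX, cX, hcX, hXaff, hXprop, rfl⟩ := exists_cone_eq hX
  obtain ⟨B, _, _, _, DS, cS, hcS, hSaff, hSprop, rfl⟩ := exists_cone_eq hS
  haveI : ∀ {i j : Aᵒᵖ} (f : i ⟶ j), IsAffineHom (DX.map f) := fun f => hXaff _ _ f
  haveI : ∀ {i j : Bᵒᵖ} (f : i ⟶ j), IsAffineHom (DS.map f) := fun f => hSaff _ _ f
  haveI : ∀ i, CompactSpace (DX.obj i) := fun i => (hXprop i).1
  haveI : ∀ a, LocallyOfFiniteType (specULiftZIsTerminal.from (DX.obj a)) := fun i => (hXprop i).2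
  haveI : ∀ b, LocallyOfFiniteType (specULiftZIsTerminal.from (DS.obj b)) := fun i => (hSprop i).2
  haveI : ∀ i, QuasiSeparatedSpace (DX.obj i) := fun i => by
    haveI := isLocallyNoetherian_of_lft (DX.obj i)
    infer_instance
  refine ⟨Triple DX cX DS cS f, inferInstance, isDirected_triple hcX, nonempty_triple hcX,
    Dover DX cX DS cS f, coneOver DX cX DS cS f, isLimitConeOver DX cX hcX DS cS hcS f,
    fun i => props_Wsnd DX cX DS cS f i, fun i j a => isAffineHom_W_map DX cX DS cS hcS f a,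
    ⟨Iso.refl _⟩⟩

/-- A quasi-compact subset of a scheme is contained in a quasi-compact open. -/
theorem exists_isCompact_opens_of_isCompact {S : Scheme.{u}} {K : Set S} (hK : IsCompact K) :
    ∃ V : S.Opens, IsCompact (V : Set S) ∧ K ⊆ V := by
  have hcov : K ⊆ ⋃ U : S.affineOpens, ((U : S.Opens) : Set S) := by
    intro x _
    obtain ⟨_, ⟨U, hU, rfl⟩, hxU, -⟩ :=
      S.isBasis_affineOpens.exists_subset_of_mem_open (Set.mem_univ x) isOpen_univ
    exact Set.mem_iUnion.mpr ⟨⟨U, hU⟩, hxU⟩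
  obtain ⟨t, ht⟩ := hK.elim_finite_subcover (fun U : S.affineOpens => ((U : S.Opens) : Set S))
    (fun U => U.1.isOpen) hcov
  refine ⟨⨆ U ∈ t, (U : S.Opens), ?_, ?_⟩
  · have : ((⨆ U ∈ t, (U : S.Opens) : S.Opens) : Set S) = ⋃ U ∈ t, ((U : S.Opens) : Set S) := by
      simp
    rw [this]
    exact t.finite_toSet.isCompact_biUnion fun U _ => U.2.isCompact
  · intro x hx
    have := ht hx
    simpa using this

/-- **Relative approximation** (Stacks 09MV), assuming absolute Noetherian approximation. -/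
theorem exists_relApprox
    (happ : ∀ (S : Scheme.{u}) [CompactSpace S] [QuasiSeparatedSpace S], HasApprox S)
    {X S : Scheme.{u}} (f : X ⟶ S) [CompactSpace X] [QuasiSeparatedSpace X]
    [QuasiSeparatedSpace S] :
    ∃ (I : Type u) (_ : Preorder I) (_ : IsDirected I (fun a b => a ≤ b)) (_ : Nonempty I)
      (D : Iᵒᵖ ⥤ Over S) (c : Limits.Cone D) (_ : Limits.IsLimit c),
      (∀ i, LocallyOfFinitePresentation (D.obj i).hom ∧ QuasiCompact (D.obj i).hom ∧
        QuasiSeparated (D.obj i).hom) ∧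
      (∀ (i j : Iᵒᵖ) (a : i ⟶ j), IsAffineHom (D.map a).left) ∧
      Nonempty (c.pt ≅ Over.mk f) := by
  obtain ⟨V, hV, hfV⟩ := exists_isCompact_opens_of_isCompact (isCompact_range f.continuous)
  haveI : CompactSpace V.toScheme := isCompact_iff_compactSpace.mp hV
  haveI : QuasiSeparatedSpace V.toScheme := V.ι.isOpenEmbedding.quasiSeparatedSpace
  have hle : Set.range f ⊆ Set.range V.ι := by rw [Scheme.Opens.range_ι]; exact hfV
  obtain ⟨f', hf'⟩ : ∃ f' : X ⟶ V.toScheme, f' ≫ V.ι = f :=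
    ⟨IsOpenImmersion.lift V.ι f hle, IsOpenImmersion.lift_fac _ _ _⟩
  obtain ⟨I, i1, i2, i3, D, c, hc, h1, h2, ⟨e⟩⟩ :=
    exists_relApprox_of_hasApprox (happ X) (happ V.toScheme) f'
  haveI : IsConnected Iᵒᵖ := IsCofiltered.isConnected _
  haveI : QuasiCompact V.ι := inferInstance
  refine ⟨I, i1, i2, i3, D ⋙ Over.map V.ι, (Over.map V.ι).mapCone c, ?_, ?_, ?_, ⟨?_⟩⟩
  · apply isLimitOfReflects (Over.forget S)
    exact isLimitOfPreserves (Over.forget V.toScheme) hc
  · intro i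
    obtain ⟨h3, h4, h5⟩ := h1 i
    show LocallyOfFinitePresentation ((D.obj i).hom ≫ V.ι) ∧ QuasiCompact ((D.obj i).hom ≫ V.ι) ∧
      QuasiSeparated ((D.obj i).hom ≫ V.ι)
    exact ⟨inferInstance, inferInstance, inferInstance⟩
  · intro i j a
    exact h2 i j a
  · refine (Over.map V.ι).mapIso e ≪≫ Over.isoMk (Iso.refl _) ?_
    show 𝟙 X ≫ f = f' ≫ V.ι
    rw [Category.id_comp, hf']

end Groth.Agent.Lib.Helper22.RelApprox
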