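import Mathlib

set_option autoImplicit false
set_option linter.style.haveILetI false
universe u
open AlgebraicGeometry CategoryTheory Limits TopologicalSpace

namespace Groth.Agent.Lib.Helper22.AbsApprox

/-- The conclusion of absolute Noetherian approximation (S0590) for a scheme. -/
def HasApprox (S : Scheme.{u}) : Prop :=
  ∃ (I : Type u) (_ : Preorder I) (_ : IsDirected I (fun a b => a ≤ b)) (_ : Nonempty I)
      (D : Iᵒᵖ ⥤ Scheme.{u}) (c : Limits.Cone D) (_ : Limits.IsLimit c),
      (∀ (i j : Iᵒᵖ) (f : i ⟶ j), IsAffineHom (D.map f)) ∧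
      (∀ i, CompactSpace (D.obj i) ∧
        LocallyOfFiniteType (Limits.IsTerminal.from specULiftZIsTerminal (D.obj i))) ∧
      Nonempty (c.pt ≅ S)

theorem HasApprox.of_iso {S S' : Scheme.{u}} (h : HasApprox S) (e : S ≅ S') : HasApprox S' := by
  obtain ⟨I, i1, i2, i3, D, c, hc, h1, h2, ⟨e'⟩⟩ := h
  exact ⟨I, i1, i2, i3, D, c, hc, h1, h2, ⟨e' ≪≫ e⟩⟩

/-- A quasi-compact scheme locally of finite type over `ℤ` is approximated by the constant
system. -/
theorem hasApprox_of_lft (E : Scheme.{u}) [CompactSpace E]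
    (h : LocallyOfFiniteType (Limits.IsTerminal.from specULiftZIsTerminal E)) : HasApprox E := by
  refine ⟨PUnit.{u + 1}, inferInstance, inferInstance, inferInstance,
    (Functor.const _).obj E, { pt := E, π := 𝟙 _ }, ?_, ?_, ?_, ⟨Iso.refl _⟩⟩
  · exact
      { lift := fun s => s.π.app (Opposite.op PUnit.unit)
        fac := fun s j => by
          obtain ⟨⟨⟩⟩ := j
          simp
        uniq := fun s m hm => by
          have := hm (Opposite.op PUnit.unit)
          simpa using this }
  · intro i j f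
    show IsAffineHom (𝟙 E)
    infer_instance
  · intro i
    exact ⟨‹_›, h⟩

/-- Induction principle: to approximate every qcqs scheme it suffices to treat the step
"`S = U ∪ V` with `U` affine open and `V` a quasi-compact open which is approximated". -/
theorem hasApprox_of_step
    (step : ∀ (S : Scheme.{u}) [CompactSpace S] [QuasiSeparatedSpace S] (U V : S.Opens),
      IsAffineOpen U → IsCompact (V : Set S) → HasApprox V.toScheme → U ⊔ V = ⊤ → HasApprox S)
    (S : Scheme.{u}) [CompactSpace S] [QuasiSeparatedSpace S] : HasApprox S := by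
  suffices h : HasApprox (⊤ : S.Opens).toScheme from h.of_iso S.topIso
  refine compact_open_induction_on (P := fun W : S.Opens => HasApprox W.toScheme) ⊤
    (by simpa using isCompact_univ) ?_ ?_
  · -- the empty scheme
    haveI : IsEmpty (⊥ : S.Opens).toScheme := by
      constructor
      rintro ⟨x, hx⟩
      exact hx
    exact hasApprox_of_lft _ inferInstance
  · intro W hW U hWapprox
    obtain ⟨T, hT⟩ : ∃ T : S.Opens, T = W ⊔ U.1 := ⟨_, rfl⟩
    have hWT : W ≤ T := hT ▸ le_sup_left
    have hUT : U.1 ≤ T := hT ▸ le_sup_right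
    rw [← hT]
    haveI : CompactSpace T.toScheme := by
      have h1 : IsCompact (T : Set S) := by rw [hT]; exact hW.union U.2.isCompact
      exact isCompact_iff_compactSpace.mp h1
    haveI : QuasiSeparatedSpace T.toScheme := T.ι.isOpenEmbedding.quasiSeparatedSpace
    have himg : ∀ V : S.Opens, V ≤ T → T.ι ''ᵁ (T.ι ⁻¹ᵁ V) = V := fun V hV => by
      rw [Scheme.Hom.image_preimage_eq_opensRange_inf, Scheme.Opens.opensRange_ι]
      exact inf_eq_right.mpr hV
    refine step T.toScheme (T.ι ⁻¹ᵁ U.1) (T.ι ⁻¹ᵁ W) ?_ ?_ ?_ ?_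
    · have h1 : IsAffineOpen (T.ι ''ᵁ (T.ι ⁻¹ᵁ U.1)) := by rw [himg _ hUT]; exact U.2
      exact (T.ι.isAffineOpen_iff_of_isOpenImmersion).mp h1
    · have h1 : IsCompact ((T.ι ''ᵁ (T.ι ⁻¹ᵁ W) : S.Opens) : Set S) := by rw [himg _ hWT]; exact hW
      rw [Scheme.Hom.coe_image] at h1
      exact T.ι.isOpenEmbedding.isInducing.isCompact_iff.mpr h1
    · refine hWapprox.of_iso (IsOpenImmersion.isoOfRangeEq W.ι ((T.ι ⁻¹ᵁ W).ι ≫ T.ι) ?_)
      rw [Scheme.Hom.comp_base, TopCat.coe_comp, Set.range_comp, Scheme.Opens.range_ι,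
        Scheme.Opens.range_ι]
      have := congrArg (fun V : S.Opens => (V : Set S)) (himg W hWT)
      simpa using this.symm
    · rw [← Scheme.Hom.preimage_sup, sup_comm, ← hT]
      apply SetLike.coe_injective
      ext x
      simp only [Scheme.Hom.coe_preimage, Set.mem_preimage, SetLike.mem_coe, Opens.coe_top, Set.mem_univ,
        iff_true]
      exact x.2

end Groth.Agent.Lib.Helper22.AbsApprox
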