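import Mathlib

set_option autoImplicit false
set_option linter.style.haveILetI false
universe u
open AlgebraicGeometry CategoryTheory Limits TopologicalSpace

namespace Groth.Agent.Lib.Helper22.AbsApprox

/-- An open immersion `j : X ⟶ Y` from a quasi-compact scheme into an affine scheme whose range
contains the basic open `D(g)`: on global sections, `j` is "an isomorphism after inverting `g`". -/
theorem locB_aux {X Y : Scheme.{u}} [CompactSpace X] [IsAffine Y] (j : X ⟶ Y) [IsOpenImmersion j]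
    (g : Γ(Y, ⊤)) (hg : Y.basicOpen g ≤ j.opensRange) :
    (∀ x : Γ(Y, ⊤), j.appTop x = 0 → ∃ n : ℕ, g ^ n * x = 0) ∧
    (∀ r : Γ(X, ⊤), ∃ (n : ℕ) (x : Γ(Y, ⊤)), j.appTop g ^ n * r = j.appTop x) := by
  haveI : IsIso (j.app (Y.basicOpen g)) := j.isIso_app _ hg
  have hbij : Function.Bijective (j.app (Y.basicOpen g)).hom :=
    ConcreteCategory.bijective_of_isIso (j.app (Y.basicOpen g))
  have hE : j ⁻¹ᵁ Y.basicOpen g = X.basicOpen (j.appTop g) := Scheme.preimage_basicOpen_top j g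
  -- naturality of `j` with respect to `D(g) ≤ ⊤`
  have hnat : ∀ x : Γ(Y, ⊤), j.app (Y.basicOpen g) (Y.presheaf.map (homOfLE le_top).op x) =
      X.presheaf.map (homOfLE (le_top : j ⁻¹ᵁ Y.basicOpen g ≤ ⊤)).op (j.appTop x) := by
    intro x
    have h1 := j.naturality (homOfLE (le_top : Y.basicOpen g ≤ ⊤)).op
    exact congr($(h1) x)
  constructor
  · intro x hx
    have h0 : Y.presheaf.map (homOfLE (le_top : Y.basicOpen g ≤ ⊤)).op x = 0 := by
      apply hbij.1
      rw [map_zero]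
      exact (hnat x).trans (by rw [hx, map_zero])
    exact exists_pow_mul_eq_zero_of_res_basicOpen_eq_zero_of_isAffineOpen Y (isAffineOpen_top Y) x g h0
  · intro r
    obtain ⟨z, hz⟩ := hbij.2 (X.presheaf.map (homOfLE (le_top : j ⁻¹ᵁ Y.basicOpen g ≤ ⊤)).op r)
    obtain ⟨n, y, hy⟩ := exists_eq_pow_mul_of_isAffineOpen Y ⊤ (isAffineOpen_top Y) g z
    replace hy : Y.presheaf.map (homOfLE (le_top : Y.basicOpen g ≤ ⊤)).op y =
        (Y.presheaf.map (homOfLE (le_top : Y.basicOpen g ≤ ⊤)).op g) ^ n * z := hy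
    have h1 : X.presheaf.map (homOfLE (le_top : j ⁻¹ᵁ Y.basicOpen g ≤ ⊤)).op
        (j.appTop g ^ n * r - j.appTop y) = 0 := by
      rw [map_sub, map_mul, map_pow, ← hnat, ← hnat, hy, map_mul, map_pow, ← hz, sub_self]
    have h2 : X.presheaf.map (homOfLE (le_top : X.basicOpen (j.appTop g) ≤ ⊤)).op
        (j.appTop g ^ n * r - j.appTop y) = 0 := by
      have h3 : (homOfLE (le_top : X.basicOpen (j.appTop g) ≤ ⊤)).op =
          (homOfLE (le_top : j ⁻¹ᵁ Y.basicOpen g ≤ ⊤)).op ≫ (homOfLE hE.ge).op := rfl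
      rw [h3, Functor.map_comp, CommRingCat.comp_apply, h1, map_zero]
    obtain ⟨m, hm⟩ := exists_pow_mul_eq_zero_of_res_basicOpen_eq_zero_of_isCompact X (U := ⊤)
      isCompact_univ (j.appTop g ^ n * r - j.appTop y) (j.appTop g) h2
    refine ⟨m + n, g ^ m * y, ?_⟩
    rw [mul_sub, sub_eq_zero] at hm
    rw [pow_add, mul_assoc, hm, map_mul, map_pow]

theorem toSpecΓ_SpecMap_appTop {X : Scheme.{u}} {B : CommRingCat.{u}} (s : B ⟶ Γ(X, ⊤)) :
    (Scheme.ΓSpecIso B).inv ≫ (X.toSpecΓ ≫ Spec.map s).appTop = s := by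
  rw [Scheme.Hom.comp_appTop, Scheme.toSpecΓ_appTop, Scheme.ΓSpecIso_naturality, Iso.inv_hom_id_assoc]

/-- `locB`: if `X → Spec B` (induced by `s : B → Γ(X, ⊤)`) is an open immersion whose range contains
`D(g)`, then the kernel of `s` is `g`-power torsion and every global section of `X` multiplied by a
power of `s g` comes from `B`. -/
theorem locB {X : Scheme.{u}} [CompactSpace X] {B : CommRingCat.{u}} (s : B ⟶ Γ(X, ⊤))
    [IsOpenImmersion (X.toSpecΓ ≫ Spec.map s)] (g : B)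
    (hg : (PrimeSpectrum.basicOpen g : Set (PrimeSpectrum B)) ⊆
      Set.range (X.toSpecΓ ≫ Spec.map s)) :
    (∀ x : B, s.hom x = 0 → ∃ n : ℕ, g ^ n * x = 0) ∧
    (∀ r : Γ(X, ⊤), ∃ (n : ℕ) (x : B), s.hom g ^ n * r = s.hom x) := by
  have hjtop : ∀ b : B, (X.toSpecΓ ≫ Spec.map s).appTop ((Scheme.ΓSpecIso B).inv b) = s.hom b :=
    fun b => congr($(toSpecΓ_SpecMap_appTop s) b)
  have hg' : (Spec B).basicOpen ((Scheme.ΓSpecIso B).inv g) ≤
      (X.toSpecΓ ≫ Spec.map s).opensRange := by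
    rw [basicOpen_eq_of_affine]
    exact hg
  obtain ⟨h1, h2⟩ := locB_aux (X.toSpecΓ ≫ Spec.map s) ((Scheme.ΓSpecIso B).inv g) hg'
  constructor
  · intro x hx
    obtain ⟨n, hn⟩ := h1 ((Scheme.ΓSpecIso B).inv x) (by rw [hjtop, hx])
    refine ⟨n, ?_⟩
    have := congrArg (Scheme.ΓSpecIso B).hom hn
    simpa using this
  · intro r
    obtain ⟨n, x, hx⟩ := h2 r
    refine ⟨n, (Scheme.ΓSpecIso B).hom x, ?_⟩
    rw [hjtop] at hx
    rw [hx, ← hjtop, Iso.hom_inv_id_apply]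

end Groth.Agent.Lib.Helper22.AbsApprox
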