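import Mathlib

set_option autoImplicit false
set_option linter.style.haveILetI false
universe u
open AlgebraicGeometry CategoryTheory Limits TopologicalSpace

namespace Groth.Agent.Lib.Helper22.AbsApprox

theorem closure_coe_preimage_eq_top {R : Type*} [Ring R] (s : Set R) :
    Subring.closure ((Subtype.val : Subring.closure s → R) ⁻¹' s) = ⊤ := by
  rw [eq_top_iff]
  rintro ⟨x, hx⟩ -
  induction hx using Subring.closure_induction with
  | mem x hx => exact Subring.subset_closure hx
  | zero => exact zero_mem _
  | one => exact one_mem _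
  | add x y hx hy ihx ihy => exact add_mem ihx ihy
  | neg x hx ihx => exact neg_mem ihx
  | mul x y hx hy ihx ihy => exact mul_mem ihx ihy

/-- A ring homomorphism from `ULift ℤ` of finite type has a finitely generated target ring. -/
theorem exists_finset_closure_eq_top_of_finiteType {Z A : Type u} [CommRing Z] [CommRing A]
    (e : ULift.{u} ℤ ≃+* Z) (φ : Z →+* A) (hφ : φ.FiniteType) :
    ∃ S : Finset A, Subring.closure (S : Set A) = ⊤ := by
  algebraize [φ]
  obtain ⟨S, hS⟩ := (‹Algebra.FiniteType Z A›).out
  refine ⟨S, ?_⟩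
  have h1 := Algebra.adjoin_eq_ring_closure (R := Z) (s := (S : Set A))
  rw [hS] at h1
  rw [eq_top_iff]
  have h2 : Subring.closure (Set.range (algebraMap Z A) ∪ (S : Set A)) ≤
      Subring.closure (S : Set A) := by
    rw [Subring.closure_le]
    rintro x (⟨z, rfl⟩ | hx)
    · obtain ⟨⟨n⟩, rfl⟩ := e.surjective z
      have : e ⟨n⟩ = (n : Z) := by
        have : (⟨n⟩ : ULift.{u} ℤ) = ((n : ℤ) : ULift.{u} ℤ) := by
          apply ULift.ext; simp
        rw [this, map_intCast]
      rw [this, map_intCast]
      exact intCast_mem _ n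
    · exact Subring.subset_closure hx
  refine le_trans ?_ h2
  rw [← h1]
  intro x _
  exact (Algebra.mem_top (R := Z) (A := A) : x ∈ (⊤ : Subalgebra Z A))

/-- (T4a) Affine opens of a scheme locally of finite type over `ℤ` have finitely generated rings of
sections. -/
theorem exists_finset_closure_eq_top_of_lft (X : Scheme.{u})
    [LocallyOfFiniteType (IsTerminal.from specULiftZIsTerminal X)] (U : X.Opens)
    (hU : IsAffineOpen U) : ∃ S : Finset Γ(X, U), Subring.closure (S : Set Γ(X, U)) = ⊤ := by
  have h := (IsTerminal.from specULiftZIsTerminal X).finiteType_appLE (isAffineOpen_top _) hU le_top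
  exact exists_finset_closure_eq_top_of_finiteType
    (Scheme.ΓSpecIso (.of (ULift.{u} ℤ))).symm.commRingCatIsoToRingEquiv _ h

/-- (T4b) The spectrum of a finitely generated ring is locally of finite type over `ℤ`. -/
theorem lft_Spec_of_closure {R : Type u} [CommRing R] (A : Subring R) (S : Finset R)
    (hS : Subring.closure (S : Set R) = A) :
    LocallyOfFiniteType (IsTerminal.from specULiftZIsTerminal (Spec (CommRingCat.of A))) := by
  classical
  subst hS
  let φ : CommRingCat.of (ULift.{u} ℤ) ⟶ CommRingCat.of (Subring.closure (S : Set R)) :=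
    CommRingCat.ofHom ((Int.castRingHom _).comp (ULift.ringEquiv : ULift.{u} ℤ ≃+* ℤ).toRingHom)
  have hφ : IsTerminal.from specULiftZIsTerminal (Spec (CommRingCat.of (Subring.closure (S : Set R))))
      = Spec.map φ := specULiftZIsTerminal.hom_ext _ _
  rw [hφ, HasRingHomProperty.Spec_iff (P := @LocallyOfFiniteType)]
  refine RingHom.FiniteType.comp ?_
    (RingHom.FiniteType.of_surjective _ (ULift.ringEquiv : ULift.{u} ℤ ≃+* ℤ).surjective)
  let S' : Finset (Subring.closure (S : Set R)) := S.subtype (· ∈ Subring.closure (S : Set R))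
  have hS' : (S' : Set (Subring.closure (S : Set R))) = Subtype.val ⁻¹' (S : Set R) := by
    ext x
    simp [S']
  letI := (Int.castRingHom (Subring.closure (S : Set R))).toAlgebra
  refine ⟨⟨S', ?_⟩⟩
  have h1 := Algebra.adjoin_eq_ring_closure (R := ℤ) (s := (S' : Set (Subring.closure (S : Set R))))
  rw [eq_top_iff]
  intro x _
  have h2 : x ∈ Subring.closure (S' : Set (Subring.closure (S : Set R))) := by
    rw [hS', closure_coe_preimage_eq_top]; trivial
  have h3 : x ∈ (Algebra.adjoin ℤ (S' : Set (Subring.closure (S : Set R)))).toSubring := by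
    rw [h1]
    exact Subring.closure_mono Set.subset_union_right h2
  exact h3

end Groth.Agent.Lib.Helper22.AbsApprox
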