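import Mathlib

/-!
# Dimension and maps with discrete fibres

A continuous map between quasi-sober T0 spaces whose fibres are discrete does not decrease
the topological Krull dimension.
-/

namespace Groth.Agent.Lib.Helper22

attribute [local instance] specializationOrder in
theorem topologicalKrullDim_eq_krullDim_specialization (X : Type*) [TopologicalSpace X]
    [QuasiSober X] [T0Space X] :
    topologicalKrullDim X = Order.krullDim X :=
  Order.krullDim_eq_of_orderIso irreducibleSetEquivPoints

attribute [local instance] specializationOrder in
/-- A continuous map with discrete fibres between quasi-sober T0 spaces satisfies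
`dim X ≤ dim Y`. -/
theorem topologicalKrullDim_le_of_isDiscrete_fibers {X Y : Type*} [TopologicalSpace X]
    [TopologicalSpace Y] [QuasiSober X] [T0Space X] [QuasiSober Y] [T0Space Y]
    (f : X → Y) (hc : Continuous f) (hd : ∀ y, IsDiscrete (f ⁻¹' {y})) :
    topologicalKrullDim X ≤ topologicalKrullDim Y := by
  rw [topologicalKrullDim_eq_krullDim_specialization, topologicalKrullDim_eq_krullDim_specialization]
  refine Order.krullDim_le_of_strictMono f ?_
  intro a b hab
  have hle : f a ≤ f b := hc.specialization_monotone hab.le
  refine lt_of_le_not_ge hle fun hge => ?_
  have heq : f a = f b := le_antisymm hle hge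
  -- `a ≤ b` means `b ⤳ a`
  have hspec : b ⤳ a := hab.le
  have := (hd (f a)).eq_of_specializes hspec (by simp [heq]) (by simp)
  exact (ne_of_lt hab) this.symm

end Groth.Agent.Lib.Helper22

namespace Groth.Agent.Lib.Helper22

attribute [local instance] specializationOrder in
/-- A continuous map between quasi-sober T0 spaces without nontrivial specializations inside
fibres satisfies `dim X ≤ dim Y`. -/
theorem topologicalKrullDim_le_of_forall_eq_of_specializes {X Y : Type*} [TopologicalSpace X]
    [TopologicalSpace Y] [QuasiSober X] [T0Space X] [QuasiSober Y] [T0Space Y]
    (f : X → Y) (hc : Continuous f) (hd : ∀ a b : X, a ⤳ b → f a = f b → a = b) :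
    topologicalKrullDim X ≤ topologicalKrullDim Y := by
  rw [topologicalKrullDim_eq_krullDim_specialization, topologicalKrullDim_eq_krullDim_specialization]
  refine Order.krullDim_le_of_strictMono f ?_
  intro a b hab
  have hle : f a ≤ f b := hc.specialization_monotone hab.le
  refine lt_of_le_not_ge hle fun hge => ?_
  have heq : f a = f b := le_antisymm hle hge
  have hspec : b ⤳ a := hab.le
  exact (ne_of_lt hab) (hd b a hspec heq.symm).symm

end Groth.Agent.Lib.Helper22
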