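import Mathlib
import Groth.Prelude.Def_MoreMor
import Groth.Agent.Lib.Helper7.FibreIntegral

/-!
# Fibre integrals through geometric points (helper22)

Builds on helper7's `GeomLifts`: restatement of `fibreIntegral_eq_sum_geomLifts` for an arbitrary
geometric point, invariance under isomorphisms, lifts through open immersions, additivity over a
clopen decomposition, singleton fibres, positivity bounds.
-/

set_option autoImplicit false
set_option linter.style.haveILetI false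
universe u
open AlgebraicGeometry CategoryTheory Limits

namespace Groth.Agent.Lib.Helper22.Weighting

open Groth.Agent.Lib.Helper7

variable {U V : Scheme.{u}}

/-- `Spec` of a field has a single point. -/
theorem spec_field_point_eq (Ω : Type u) [Field Ω] (p : Spec (CommRingCat.of Ω)) :
    p = IsLocalRing.closedPoint Ω :=
  Subsingleton.elim _ _

/-- Every geometric point is of the standard form. -/
theorem exists_eq_specMap_fromSpecResidueField (Ω : Type u) [Field Ω]
    (vb : Spec (CommRingCat.of Ω) ⟶ V) :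
    ∃ (v : V) (φ : V.residueField v ⟶ CommRingCat.of Ω),
      vb = Spec.map φ ≫ V.fromSpecResidueField v ∧ vb (IsLocalRing.closedPoint Ω) = v := by
  obtain ⟨⟨v, φ⟩, rfl⟩ := (Scheme.SpecToEquivOfField Ω V).symm.surjective vb
  refine ⟨v, φ, rfl, ?_⟩
  exact Scheme.fromSpecResidueField_apply v _

/-- The fibre integral as a sum over the lifts of an arbitrary geometric point. -/
theorem fibreIntegral_eq_finsum_geomLifts (π : U ⟶ V) [LocallyQuasiFinite π] (Ω : Type u) [Field Ω]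
    [IsAlgClosed Ω] (vb : Spec (CommRingCat.of Ω) ⟶ V) (w : U → ℤ)
    (hfin : (π ⁻¹' {vb (IsLocalRing.closedPoint Ω)}).Finite) :
    Finite (GeomLifts π Ω vb) ∧
      MoreMor.fibreIntegral π w (vb (IsLocalRing.closedPoint Ω)) =
        ∑ᶠ ū : GeomLifts π Ω vb, w ū.pt := by
  obtain ⟨v, φ, hφ, hv⟩ := exists_eq_specMap_fromSpecResidueField Ω vb
  rw [hv] at hfin ⊢
  subst hφ
  exact fibreIntegral_eq_sum_geomLifts π Ω w v φ hfin

/-- A geometric point with algebraically closed residue field over any point. -/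
theorem exists_geomPoint (v : V) :
    ∃ (Ω : Type u) (_ : Field Ω) (_ : IsAlgClosed Ω) (vb : Spec (CommRingCat.of Ω) ⟶ V),
      vb (IsLocalRing.closedPoint Ω) = v :=
  ⟨AlgebraicClosure (V.residueField v), inferInstance, inferInstance,
    Spec.map (CommRingCat.ofHom (algebraMap (V.residueField v)
      (AlgebraicClosure (V.residueField v)))) ≫ V.fromSpecResidueField v,
    Scheme.fromSpecResidueField_apply v _⟩

theorem GeomLifts.ext {π : U ⟶ V} {Ω : Type u} [Field Ω] {vb : Spec (CommRingCat.of Ω) ⟶ V}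
    {a b : GeomLifts π Ω vb} (h : a.1 = b.1) : a = b := Subtype.ext h

/-- Lifts of a geometric point through an open immersion. -/
noncomputable def geomLiftsOpenEquiv {U₂ U₁ : Scheme.{u}} (i : U₂ ⟶ U₁) [IsOpenImmersion i]
    (π₁ : U₁ ⟶ V) (Ω : Type u) [Field Ω] (vb : Spec (CommRingCat.of Ω) ⟶ V) :
    GeomLifts (i ≫ π₁) Ω vb ≃ {ū : GeomLifts π₁ Ω vb // ū.pt ∈ Set.range i} where
  toFun ū := ⟨⟨ū.1 ≫ i, by rw [Category.assoc]; exact ū.2⟩, ⟨ū.pt, rfl⟩⟩
  invFun ū := ⟨IsOpenImmersion.lift i ū.1.1 (by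
      rintro _ ⟨p, rfl⟩
      rw [spec_field_point_eq Ω p]
      exact ū.2), by
      rw [← Category.assoc, IsOpenImmersion.lift_fac]; exact ū.1.2⟩
  left_inv ū := by
    apply Subtype.ext
    simp only
    rw [← cancel_mono i, IsOpenImmersion.lift_fac]
  right_inv ū := by
    apply Subtype.ext
    apply Subtype.ext
    simp only
    rw [IsOpenImmersion.lift_fac]

theorem geomLiftsOpenEquiv_pt {U₂ U₁ : Scheme.{u}} (i : U₂ ⟶ U₁) [IsOpenImmersion i]
    (π₁ : U₁ ⟶ V) (Ω : Type u) [Field Ω] (vb : Spec (CommRingCat.of Ω) ⟶ V)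
    (ū : GeomLifts (i ≫ π₁) Ω vb) :
    (geomLiftsOpenEquiv i π₁ Ω vb ū).1.pt = i ū.pt := rfl

/-- The fibre integral along an open immersion followed by `π₁` is the partial sum over the lifts
landing in the open. -/
theorem finsum_geomLifts_open {U₂ U₁ : Scheme.{u}} (i : U₂ ⟶ U₁) [IsOpenImmersion i]
    (π₁ : U₁ ⟶ V) (Ω : Type u) [Field Ω] (vb : Spec (CommRingCat.of Ω) ⟶ V) (w₁ : U₁ → ℤ) :
    ∑ᶠ ū : GeomLifts (i ≫ π₁) Ω vb, w₁ (i ū.pt) =
      ∑ᶠ ū : {ū : GeomLifts π₁ Ω vb // ū.pt ∈ Set.range i}, w₁ ū.1.pt := by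
  rw [← finsum_comp_equiv (geomLiftsOpenEquiv i π₁ Ω vb)]
  rfl

/-- Fibre integrals along a finite morphism, in terms of a geometric point. -/
theorem fibreIntegral_eq_finsum_geomLifts_of_isFinite (π : U ⟶ V) [IsFinite π] (Ω : Type u)
    [Field Ω] [IsAlgClosed Ω] (vb : Spec (CommRingCat.of Ω) ⟶ V) (w : U → ℤ) :
    Finite (GeomLifts π Ω vb) ∧
      MoreMor.fibreIntegral π w (vb (IsLocalRing.closedPoint Ω)) =
        ∑ᶠ ū : GeomLifts π Ω vb, w ū.pt :=
  fibreIntegral_eq_finsum_geomLifts π Ω vb w (π.finite_preimage_singleton _)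

/-- Additivity of fibre integrals over a decomposition into two complementary opens. -/
theorem fibreIntegral_split {U₂ U₁ R : Scheme.{u}} (i : U₂ ⟶ U₁) [IsOpenImmersion i]
    (r : R ⟶ U₁) [IsOpenImmersion r] (hcompl : Set.range r = (Set.range i)ᶜ)
    (π₁ : U₁ ⟶ V) [IsFinite π₁] [IsFinite (i ≫ π₁)] [IsFinite (r ≫ π₁)] (w₁ : U₁ → ℤ) (v : V) :
    MoreMor.fibreIntegral π₁ w₁ v =
      MoreMor.fibreIntegral (i ≫ π₁) (w₁ ∘ i) v + MoreMor.fibreIntegral (r ≫ π₁) (w₁ ∘ r) v := by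
  classical
  obtain ⟨Ω, _, _, vb, rfl⟩ := exists_geomPoint v
  obtain ⟨hF₁, h₁⟩ := fibreIntegral_eq_finsum_geomLifts_of_isFinite π₁ Ω vb w₁
  obtain ⟨hF₂, h₂⟩ := fibreIntegral_eq_finsum_geomLifts_of_isFinite (i ≫ π₁) Ω vb (w₁ ∘ i)
  obtain ⟨hF₃, h₃⟩ := fibreIntegral_eq_finsum_geomLifts_of_isFinite (r ≫ π₁) Ω vb (w₁ ∘ r)
  rw [h₁, h₂, h₃]
  have e₂ := finsum_geomLifts_open i π₁ Ω vb w₁
  have e₃ := finsum_geomLifts_open r π₁ Ω vb w₁
  simp only [Function.comp_apply]
  rw [e₂, e₃]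
  letI := Fintype.ofFinite (GeomLifts π₁ Ω vb)
  have e₄ : ∑ᶠ ū : {ū : GeomLifts π₁ Ω vb // ū.pt ∈ Set.range r}, w₁ ū.1.pt =
      ∑ᶠ ū : {ū : GeomLifts π₁ Ω vb // ¬ ū.pt ∈ Set.range i}, w₁ ū.1.pt := by
    rw [hcompl]; rfl
  rw [e₄, finsum_eq_sum_of_fintype, finsum_eq_sum_of_fintype, finsum_eq_sum_of_fintype]
  exact (Fintype.sum_subtype_add_sum_subtype (fun ū : GeomLifts π₁ Ω vb => ū.pt ∈ Set.range i)
    (fun ū => w₁ ū.pt)).symm

/-- Fibre integrals are invariant under isomorphisms of the source. -/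
theorem fibreIntegral_iso {U' : Scheme.{u}} (e : U ≅ U') (π' : U' ⟶ V) [IsFinite π']
    (w' : U' → ℤ) :
    MoreMor.fibreIntegral (e.hom ≫ π') (w' ∘ e.hom) = MoreMor.fibreIntegral π' w' := by
  funext v
  have hpb : IsPullback e.hom (e.hom ≫ π') π' (𝟙 V) :=
    IsPullback.of_horiz_isIso ⟨by rw [Category.comp_id]⟩
  have := fibreIntegral_baseChange π' (fun v => π'.finite_preimage_singleton v)
    (e.hom ≫ π') e.hom (𝟙 V) hpb w' v
  exact this

/-- Fibre integrals along finite morphisms commute with base change. -/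
theorem fibreIntegral_pullback_snd {V' : Scheme.{u}} (π : U ⟶ V) [IsFinite π] (k : V' ⟶ V)
    (w : U → ℤ) (v' : V') :
    MoreMor.fibreIntegral (pullback.snd π k) (w ∘ pullback.fst π k) v' =
      MoreMor.fibreIntegral π w (k v') :=
  fibreIntegral_baseChange π (fun v => π.finite_preimage_singleton v)
    (pullback.snd π k) (pullback.fst π k) k (IsPullback.of_hasPullback π k) w v'

/-- The geometric number of points of the fibre of `π` over `v`. -/
noncomputable def deg (π : U ⟶ V) (v : V) : ℤ := MoreMor.fibreIntegral π (fun _ => 1) v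

theorem deg_eq_natCard (π : U ⟶ V) [IsFinite π] (Ω : Type u) [Field Ω] [IsAlgClosed Ω]
    (vb : Spec (CommRingCat.of Ω) ⟶ V) :
    deg π (vb (IsLocalRing.closedPoint Ω)) = (Nat.card (GeomLifts π Ω vb) : ℤ) := by
  obtain ⟨hF, h⟩ := fibreIntegral_eq_finsum_geomLifts_of_isFinite π Ω vb (fun _ => 1)
  rw [deg, h]
  letI := Fintype.ofFinite (GeomLifts π Ω vb)
  rw [finsum_eq_sum_of_fintype, Nat.card_eq_fintype_card]
  simp

theorem deg_nonneg (π : U ⟶ V) [IsFinite π] (v : V) : 0 ≤ deg π v := by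
  obtain ⟨Ω, _, _, vb, rfl⟩ := exists_geomPoint v
  rw [deg_eq_natCard π Ω vb]
  exact Int.natCast_nonneg _

theorem deg_pullback_snd {V' : Scheme.{u}} (π : U ⟶ V) [IsFinite π] (k : V' ⟶ V) (v' : V') :
    deg (pullback.snd π k) v' = deg π (k v') :=
  fibreIntegral_pullback_snd π k (fun _ => 1) v'

/-- If the fibre has a single geometric point, the fibre integral is the value at the point. -/
theorem fibreIntegral_eq_of_deg_eq_one (π : U ⟶ V) [IsFinite π] (w : U → ℤ) (u : U)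
    (h : deg π (π u) = 1) : MoreMor.fibreIntegral π w (π u) = w u := by
  classical
  obtain ⟨Ω, _, _, vb, hvb⟩ := exists_geomPoint (π u)
  obtain ⟨⟨vū, hvū⟩, hpt⟩ : ∃ ū : GeomLifts π Ω vb, ū.pt = u := by
    obtain ⟨v, φ, hφ, hv⟩ := exists_eq_specMap_fromSpecResidueField Ω vb
    subst hφ
    rw [hv] at hvb
    exact exists_geomLifts_pt_eq π Ω v φ u hvb.symm
  rw [← hvb] at h ⊢
  obtain ⟨hF, hI⟩ := fibreIntegral_eq_finsum_geomLifts_of_isFinite π Ω vb w
  rw [deg_eq_natCard π Ω vb] at h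
  have hcard : Nat.card (GeomLifts π Ω vb) = 1 := by exact_mod_cast h
  have hsub : Subsingleton (GeomLifts π Ω vb) := (Nat.card_eq_one_iff_unique.mp hcard).1
  rw [hI]
  letI : Unique (GeomLifts π Ω vb) := ⟨⟨⟨vū, hvū⟩⟩, fun a => Subsingleton.elim _ _⟩
  rw [finsum_unique]
  exact congrArg w hpt

/-- If the fibre has a single geometric point, it has a single point. -/
theorem eq_of_deg_eq_one (π : U ⟶ V) [IsFinite π] (u u' : U) (h : deg π (π u) = 1)
    (hu' : π u' = π u) : u' = u := by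
  obtain ⟨Ω, _, _, vb, hvb⟩ := exists_geomPoint (π u)
  obtain ⟨v, φ, hφ, hv⟩ := exists_eq_specMap_fromSpecResidueField Ω vb
  subst hφ
  rw [hv] at hvb
  obtain ⟨ū, hū⟩ := exists_geomLifts_pt_eq π Ω v φ u hvb.symm
  obtain ⟨ū', hū'⟩ := exists_geomLifts_pt_eq π Ω v φ u' (hu'.trans hvb.symm)
  have h' := h
  rw [← hvb, ← hv, deg_eq_natCard π Ω _] at h'
  have hcard : Nat.card (GeomLifts π Ω (Spec.map φ ≫ V.fromSpecResidueField v)) = 1 := by
    exact_mod_cast h'
  have hsub := (Nat.card_eq_one_iff_unique.mp hcard).1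
  rw [← hū, ← hū', Subsingleton.elim ū ū']

/-- For a positive function, the value at a point is bounded by the fibre integral. -/
theorem le_fibreIntegral_of_pos (π : U ⟶ V) [IsFinite π] (w : U → ℤ) (hpos : ∀ u, 0 < w u)
    (u : U) : w u ≤ MoreMor.fibreIntegral π w (π u) := by
  classical
  obtain ⟨Ω, _, _, vb, hvb⟩ := exists_geomPoint (π u)
  obtain ⟨ū, hpt⟩ : ∃ ū : GeomLifts π Ω vb, ū.pt = u := by
    obtain ⟨v, φ, hφ, hv⟩ := exists_eq_specMap_fromSpecResidueField Ω vb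
    subst hφ
    rw [hv] at hvb
    exact exists_geomLifts_pt_eq π Ω v φ u hvb.symm
  rw [← hvb]
  obtain ⟨hF, hI⟩ := fibreIntegral_eq_finsum_geomLifts_of_isFinite π Ω vb w
  rw [hI]
  letI := Fintype.ofFinite (GeomLifts π Ω vb)
  rw [finsum_eq_sum_of_fintype, ← hpt]
  exact Finset.single_le_sum (f := fun ū : GeomLifts π Ω vb => w ū.pt)
    (fun i _ => (hpos _).le) (Finset.mem_univ ū)

/-- A fibre integral over an empty fibre vanishes. -/
theorem fibreIntegral_eq_zero_of_isEmpty (π : U ⟶ V) (w : U → ℤ) (v : V)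
    (h : ∀ u, π u ≠ v) : MoreMor.fibreIntegral π w v = 0 := by
  rw [MoreMor.fibreIntegral]
  have : IsEmpty {u : U // π u = v} := ⟨fun u => h u.1 u.2⟩
  exact finsum_of_isEmpty _

/-- A positive fibre integral forces a nonempty fibre. -/
theorem exists_of_fibreIntegral_ne_zero (π : U ⟶ V) (w : U → ℤ) (v : V)
    (h : MoreMor.fibreIntegral π w v ≠ 0) : ∃ u, π u = v := by
  by_contra hne
  push Not at hne
  exact h (fibreIntegral_eq_zero_of_isEmpty π w v hne)

end Groth.Agent.Lib.Helper22.Weighting
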