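import Mathlib
import Groth.Prelude.Def_MoreMor
import Groth.Agent.Lib.Helper22.WeightingLifts

/-!
# Finite pieces of a morphism over a base (helper22)

A *piece* of `f : X ⟶ Y` over `γ : V ⟶ Y` is a scheme `U` with maps `a : U ⟶ X`, `π : U ⟶ V`
such that `U ⟶ X ×_Y V` is an open immersion and `π` is finite.  The weighting condition says
that fibre integrals over pieces over étale `γ` are locally constant.
-/

set_option autoImplicit false
set_option linter.style.haveILetI false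
universe u
open AlgebraicGeometry CategoryTheory Limits

namespace Groth.Agent.Lib.Helper22.Weighting

open Groth.Agent.Lib.Helper7

variable {X Y : Scheme.{u}}

/-- A finite piece of `f` over `γ`. -/
structure IsPiece (f : X ⟶ Y) {V U : Scheme.{u}} (γ : V ⟶ Y) (a : U ⟶ X) (π : U ⟶ V) : Prop where
  comm : a ≫ f = π ≫ γ
  isOpenImmersion_lift : IsOpenImmersion (pullback.lift a π comm)
  isFinite : IsFinite π

variable {f : X ⟶ Y} {V U : Scheme.{u}} {γ : V ⟶ Y} {a : U ⟶ X} {π : U ⟶ V}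

theorem IsPiece.of_isPullback {P : Scheme.{u}} {p₁ : P ⟶ X} {p₂ : P ⟶ V}
    (h : IsPullback p₁ p₂ f γ) (j : U ⟶ P) [IsOpenImmersion j] (ha : j ≫ p₁ = a)
    (hπ : j ≫ p₂ = π) [IsFinite π] : IsPiece f γ a π where
  comm := by rw [← ha, ← hπ, Category.assoc, Category.assoc, h.w]
  isOpenImmersion_lift := by
    have : pullback.lift a π (by rw [← ha, ← hπ, Category.assoc, Category.assoc, h.w]) =
        j ≫ h.isoPullback.hom := by
      apply pullback.hom_ext
      · rw [pullback.lift_fst, Category.assoc, IsPullback.isoPullback_hom_fst, ha]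
      · rw [pullback.lift_snd, Category.assoc, IsPullback.isoPullback_hom_snd, hπ]
    rw [this]; infer_instance
  isFinite := inferInstance

/-- The map of a piece into any pullback of `f` and `γ` is an open immersion. -/
theorem IsPiece.isOpenImmersion_lift_of_isPullback (hp : IsPiece f γ a π) {P : Scheme.{u}}
    {p₁ : P ⟶ X} {p₂ : P ⟶ V} (h : IsPullback p₁ p₂ f γ) :
    IsOpenImmersion (h.lift a π hp.comm) := by
  have := hp.isOpenImmersion_lift
  have : h.lift a π hp.comm = pullback.lift a π hp.comm ≫ h.isoPullback.inv := by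
    apply h.hom_ext
    · rw [IsPullback.lift_fst, Category.assoc, IsPullback.isoPullback_inv_fst, pullback.lift_fst]
    · rw [IsPullback.lift_snd, Category.assoc, IsPullback.isoPullback_inv_snd, pullback.lift_snd]
  rw [this]; infer_instance

/-- An open of the pullback which is finite over the base is a piece. -/
theorem IsPiece.of_opens (O : (pullback f γ).Opens) (hO : IsFinite (O.ι ≫ pullback.snd f γ)) :
    IsPiece f γ (O.ι ≫ pullback.fst f γ) (O.ι ≫ pullback.snd f γ) :=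
  IsPiece.of_isPullback (IsPullback.of_hasPullback f γ) O.ι rfl rfl

/-- The weighting condition in terms of pieces. -/
theorem isLocallyConstant_of_isPiece {w : X → ℤ} (hw : MoreMor.IsWeighting f w) [Etale γ]
    (hp : IsPiece f γ a π) : IsLocallyConstant (MoreMor.fibreIntegral π (fun u => w (a u))) := by
  have := hp.isOpenImmersion_lift
  have := hp.isFinite
  let j := pullback.lift a π hp.comm
  let O : (pullback f γ).Opens := j.opensRange
  let e : U ≅ (O : Scheme.{u}) := j.isoOpensRange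
  have he : e.hom ≫ O.ι = j := Scheme.Hom.isoOpensRange_hom_ι j
  have hπ : e.hom ≫ (O.ι ≫ pullback.snd f γ) = π := by
    rw [← Category.assoc, he]; exact pullback.lift_snd _ _ _
  have ha : e.hom ≫ (O.ι ≫ pullback.fst f γ) = a := by
    rw [← Category.assoc, he]; exact pullback.lift_fst _ _ _
  have hO : IsFinite (O.ι ≫ pullback.snd f γ) := by
    have : IsFinite (e.hom ≫ (O.ι ≫ pullback.snd f γ)) := by rw [hπ]; infer_instance
    exact (MorphismProperty.cancel_left_of_respectsIso @IsFinite e.hom _).mp this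
  have hloc := hw V γ O hO
  have hEq : MoreMor.fibreIntegral π (fun u => w (a u)) =
      MoreMor.fibreIntegral (O.ι ≫ pullback.snd f γ)
        (fun u => w (pullback.fst f γ (O.ι u))) := by
    rw [← fibreIntegral_iso e (O.ι ≫ pullback.snd f γ)]
    have h1 : (fun u => w (pullback.fst f γ (O.ι u))) ∘ e.hom = fun u => w (a u) := by
      funext u
      simp only [Function.comp_apply]
      congr 1
      have := congrArg (fun k : U ⟶ X => k u) ha
      simpa using this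
    rw [h1, hπ]
  rw [hEq]
  exact hloc

/-- Base change of a piece along a morphism of bases. -/
theorem IsPiece.baseChange (hp : IsPiece f γ a π) {V' : Scheme.{u}} (k : V' ⟶ V) :
    IsPiece f (k ≫ γ) (pullback.fst π k ≫ a) (pullback.snd π k) := by
  have := hp.isOpenImmersion_lift
  have := hp.isFinite
  let j := pullback.lift a π hp.comm
  have hj₁ : j ≫ pullback.fst f γ = a := pullback.lift_fst _ _ _
  have hj₂ : j ≫ pullback.snd f γ = π := pullback.lift_snd _ _ _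
  have hP' : IsPullback (pullback.fst (pullback.snd f γ) k ≫ pullback.fst f γ)
      (pullback.snd (pullback.snd f γ) k) f (k ≫ γ) :=
    (IsPullback.of_hasPullback (pullback.snd f γ) k).paste_horiz (IsPullback.of_hasPullback f γ)
  let j' : pullback π k ⟶ pullback (pullback.snd f γ) k :=
    pullback.map π k (pullback.snd f γ) k j (𝟙 V') (𝟙 V)
      (by rw [Category.comp_id, hj₂]) (by rw [Category.comp_id, Category.id_comp])
  refine IsPiece.of_isPullback hP' j' ?_ ?_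
  · rw [← Category.assoc]
    have : j' ≫ pullback.fst (pullback.snd f γ) k = pullback.fst π k ≫ j := pullback.lift_fst _ _ _
    rw [this, Category.assoc, hj₁]
  · exact (pullback.lift_snd _ _ _).trans (Category.comp_id _)

/-- A piece of a base change of `f` is a piece of `f`. -/
theorem IsPiece.of_baseChange {X' Y' : Scheme.{u}} {f' : X' ⟶ Y'} {h : X' ⟶ X} {g : Y' ⟶ Y}
    (hc : IsPullback h f' f g) {γ' : V ⟶ Y'} {a' : U ⟶ X'} (hp : IsPiece f' γ' a' π) :
    IsPiece f (γ' ≫ g) (a' ≫ h) π := by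
  have := hp.isOpenImmersion_lift
  have := hp.isFinite
  have hP : IsPullback (pullback.fst f' γ' ≫ h) (pullback.snd f' γ') f (γ' ≫ g) :=
    (IsPullback.of_hasPullback f' γ').paste_horiz hc
  refine IsPiece.of_isPullback hP (pullback.lift a' π hp.comm) ?_ ?_
  · rw [← Category.assoc, pullback.lift_fst]
  · exact pullback.lift_snd _ _ _

/-- If a piece is contained in another one, the complement is again a piece, and fibre
integrals add up. -/
theorem IsPiece.exists_compl {U₁ U₂ : Scheme.{u}} {a₁ : U₁ ⟶ X} {π₁ : U₁ ⟶ V} {a₂ : U₂ ⟶ X}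
    {π₂ : U₂ ⟶ V} (h₁ : IsPiece f γ a₁ π₁) (h₂ : IsPiece f γ a₂ π₂) (i : U₂ ⟶ U₁)
    (hia : i ≫ a₁ = a₂) (hiπ : i ≫ π₁ = π₂) :
    ∃ (R : Scheme.{u}) (aR : R ⟶ X) (πR : R ⟶ V), IsPiece f γ aR πR ∧
      ∀ (w : X → ℤ) (v : V), MoreMor.fibreIntegral π₁ (fun u => w (a₁ u)) v =
        MoreMor.fibreIntegral π₂ (fun u => w (a₂ u)) v +
          MoreMor.fibreIntegral πR (fun u => w (aR u)) v := by
  subst hia hiπ
  have := h₁.isOpenImmersion_lift
  have := h₂.isOpenImmersion_lift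
  have := h₁.isFinite
  have := h₂.isFinite
  let j₁ := pullback.lift a₁ π₁ h₁.comm
  have hij : i ≫ j₁ = pullback.lift (i ≫ a₁) (i ≫ π₁) h₂.comm := by
    apply pullback.hom_ext
    · rw [Category.assoc, pullback.lift_fst, pullback.lift_fst]
    · rw [Category.assoc, pullback.lift_snd, pullback.lift_snd]
  have : IsOpenImmersion (i ≫ j₁) := by rw [hij]; infer_instance
  have hi : IsOpenImmersion i := IsOpenImmersion.of_comp i j₁
  have hfi : IsFinite i := IsFinite.of_comp i π₁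
  have hcl : IsClosed (Set.range i) := i.isClosedMap.isClosed_range
  let R : U₁.Opens := ⟨(Set.range i)ᶜ, hcl.isOpen_compl⟩
  have hR : Set.range R.ι = (Set.range i)ᶜ := Scheme.Opens.range_ι R
  have hRcl : IsClosedImmersion R.ι := by
    apply IsClosedImmersion.of_isPreimmersion
    rw [hR]
    exact i.isOpenEmbedding.isOpen_range.isClosed_compl
  have hRfin : IsFinite (R.ι ≫ π₁) := inferInstance
  refine ⟨R, R.ι ≫ a₁, R.ι ≫ π₁, ?_, ?_⟩
  · refine IsPiece.of_isPullback (IsPullback.of_hasPullback f γ) (R.ι ≫ j₁) ?_ ?_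
    · rw [Category.assoc, pullback.lift_fst]
    · rw [Category.assoc, pullback.lift_snd]
  · intro w v
    exact fibreIntegral_split i R.ι hR π₁ (fun u => w (a₁ u)) v

/-- Two pieces over the same base sharing a point `τ` at which the second one has geometric
degree one: after shrinking the base around the image of `τ`, the second is contained in the
first. -/
theorem IsPiece.exists_opens_lift {U₁ U₂ : Scheme.{u}} {a₁ : U₁ ⟶ X} {π₁ : U₁ ⟶ V} {a₂ : U₂ ⟶ X}
    {π₂ : U₂ ⟶ V} (h₁ : IsPiece f γ a₁ π₁) (h₂ : IsPiece f γ a₂ π₂) {T : Scheme.{u}}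
    (t₁ : T ⟶ U₁) (t₂ : T ⟶ U₂) (ha : t₁ ≫ a₁ = t₂ ≫ a₂) (hπ : t₁ ≫ π₁ = t₂ ≫ π₂) (τ : T)
    (hdeg : deg π₂ (π₂ (t₂ τ)) = 1) :
    ∃ V₁ : V.Opens, π₂ (t₂ τ) ∈ V₁ ∧ ∃ i : pullback π₂ V₁.ι ⟶ pullback π₁ V₁.ι,
      i ≫ (pullback.fst π₁ V₁.ι ≫ a₁) = pullback.fst π₂ V₁.ι ≫ a₂ ∧
      i ≫ pullback.snd π₁ V₁.ι = pullback.snd π₂ V₁.ι := by
  have := h₁.isOpenImmersion_lift
  have := h₂.isOpenImmersion_lift
  have := h₁.isFinite
  have := h₂.isFinite
  let j₁ := pullback.lift a₁ π₁ h₁.comm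
  let j₂ := pullback.lift a₂ π₂ h₂.comm
  have hj₁a : j₁ ≫ pullback.fst f γ = a₁ := pullback.lift_fst _ _ _
  have hj₁π : j₁ ≫ pullback.snd f γ = π₁ := pullback.lift_snd _ _ _
  have hj₂a : j₂ ≫ pullback.fst f γ = a₂ := pullback.lift_fst _ _ _
  have hj₂π : j₂ ≫ pullback.snd f γ = π₂ := pullback.lift_snd _ _ _
  have hT : t₁ ≫ j₁ = t₂ ≫ j₂ := by
    apply pullback.hom_ext
    · rw [Category.assoc, Category.assoc, hj₁a, hj₂a, ha]
    · rw [Category.assoc, Category.assoc, hj₁π, hj₂π, hπ]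
  let Z : Set U₂ := j₂ ⁻¹' (Set.range j₁)ᶜ
  have hZ : IsClosed Z :=
    (j₁.isOpenEmbedding.isOpen_range.isClosed_compl).preimage j₂.continuous
  have hC : IsClosed (π₂ '' Z) := π₂.isClosedMap _ hZ
  have hv : π₂ (t₂ τ) ∉ π₂ '' Z := by
    rintro ⟨u, huZ, hu⟩
    have : u = t₂ τ := eq_of_deg_eq_one π₂ (t₂ τ) u hdeg hu
    subst this
    apply huZ
    refine ⟨t₁ τ, ?_⟩
    exact congrArg (fun k : T ⟶ pullback f γ => k τ) hT
  let V₁ : V.Opens := ⟨(π₂ '' Z)ᶜ, hC.isOpen_compl⟩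
  refine ⟨V₁, hv, ?_⟩
  have hrange : Set.range (pullback.fst π₂ V₁.ι ≫ j₂) ⊆ Set.range j₁ := by
    rintro _ ⟨q, rfl⟩
    by_contra hq
    have hqZ : pullback.fst π₂ V₁.ι q ∈ Z := hq
    have h1 : π₂ (pullback.fst π₂ V₁.ι q) ∈ π₂ '' Z := ⟨_, hqZ, rfl⟩
    have h2 : π₂ (pullback.fst π₂ V₁.ι q) = V₁.ι (pullback.snd π₂ V₁.ι q) :=
      congrArg (fun k : pullback π₂ V₁.ι ⟶ V => k q) pullback.condition
    rw [h2] at h1
    exact (pullback.snd π₂ V₁.ι q).2 h1
  let ℓ : pullback π₂ V₁.ι ⟶ U₁ := IsOpenImmersion.lift j₁ (pullback.fst π₂ V₁.ι ≫ j₂) hrange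
  have hℓ : ℓ ≫ j₁ = pullback.fst π₂ V₁.ι ≫ j₂ := IsOpenImmersion.lift_fac _ _ _
  have hℓπ : ℓ ≫ π₁ = pullback.snd π₂ V₁.ι ≫ V₁.ι := by
    rw [← hj₁π, ← Category.assoc, hℓ, Category.assoc, hj₂π, pullback.condition]
  have hℓa : ℓ ≫ a₁ = pullback.fst π₂ V₁.ι ≫ a₂ := by
    rw [← hj₁a, ← Category.assoc, hℓ, Category.assoc, hj₂a]
  refine ⟨pullback.lift ℓ (pullback.snd π₂ V₁.ι) hℓπ, ?_, ?_⟩
  · rw [← Category.assoc, pullback.lift_fst, hℓa]
  · exact pullback.lift_snd _ _ _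

/-- Peeling off a piece of geometric degree one. -/
theorem IsPiece.exists_peel {U₁ U₂ : Scheme.{u}} {a₁ : U₁ ⟶ X} {π₁ : U₁ ⟶ V} {a₂ : U₂ ⟶ X}
    {π₂ : U₂ ⟶ V} (h₁ : IsPiece f γ a₁ π₁) (h₂ : IsPiece f γ a₂ π₂) {T : Scheme.{u}}
    (t₁ : T ⟶ U₁) (t₂ : T ⟶ U₂) (ha : t₁ ≫ a₁ = t₂ ≫ a₂) (hπ : t₁ ≫ π₁ = t₂ ≫ π₂) (τ : T)
    (hdeg : deg π₂ (π₂ (t₂ τ)) = 1) :
    ∃ V₁ : V.Opens, π₂ (t₂ τ) ∈ V₁ ∧ ∃ (R : Scheme.{u}) (aR : R ⟶ X) (πR : R ⟶ V₁),
      IsPiece f (V₁.ι ≫ γ) aR πR ∧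
      ∀ (w : X → ℤ) (v₁ : V₁), MoreMor.fibreIntegral π₁ (fun u => w (a₁ u)) (V₁.ι v₁) =
        MoreMor.fibreIntegral π₂ (fun u => w (a₂ u)) (V₁.ι v₁) +
          MoreMor.fibreIntegral πR (fun u => w (aR u)) v₁ := by
  obtain ⟨V₁, hv, i, hia, hiπ⟩ := h₁.exists_opens_lift h₂ t₁ t₂ ha hπ τ hdeg
  have := h₁.isFinite
  have := h₂.isFinite
  obtain ⟨R, aR, πR, hR, hsum⟩ :=
    (h₁.baseChange V₁.ι).exists_compl (h₂.baseChange V₁.ι) i hia hiπ
  refine ⟨V₁, hv, R, aR, πR, hR, fun w v₁ => ?_⟩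
  have e₁ := fibreIntegral_pullback_snd π₁ V₁.ι (fun u => w (a₁ u)) v₁
  have e₂ := fibreIntegral_pullback_snd π₂ V₁.ι (fun u => w (a₂ u)) v₁
  rw [← e₁, ← e₂]
  exact hsum w v₁

/-- A piece with a single point `u` over `π u`, lying over a point of `X` whose residue field has
separable degree one over the base, has geometric degree one at `π u`. -/
theorem IsPiece.deg_eq_one [LocallyQuasiFinite f] (hp : IsPiece f γ a π) (u : U)
    (huniq : ∀ u', π u' = π u → u' = u)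
    (hsep : letI := (f.residueFieldMap (a u)).hom.toAlgebra
      Field.finSepDegree (Y.residueField (f (a u))) (X.residueField (a u)) = 1) :
    deg π (π u) = 1 := by
  have := hp.isOpenImmersion_lift
  have := hp.isFinite
  obtain ⟨Ω, _, _, vb, hvb⟩ := exists_geomPoint (π u)
  rw [← hvb, deg_eq_natCard π Ω vb]
  norm_cast
  rw [Nat.card_eq_one_iff_unique]
  constructor
  · constructor
    intro ū₁ ū₂
    have hpt : ∀ ū : GeomLifts π Ω vb, ū.pt = u := fun ū =>
      huniq _ (ū.map_pt.trans hvb)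
    -- the geometric point of `Y`
    obtain ⟨y, φ, hφ, hy⟩ := exists_eq_specMap_fromSpecResidueField Ω (vb ≫ γ)
    have hfy : f (a u) = y := by
      rw [← hy]
      have h1 : f (a u) = γ (π u) := congrArg (fun k : U ⟶ Y => k u) hp.comm
      rw [h1, ← hvb]
      rfl
    have hcard := (card_geomLifts_fiber f Ω y φ (a u) hfy).2
    rw [hsep, Nat.card_eq_one_iff_unique] at hcard
    have hsub := hcard.1
    have hmk : ∀ ū : GeomLifts π Ω vb, (ū.1 ≫ a) ≫ f = Spec.map φ ≫ Y.fromSpecResidueField y := by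
      intro ū
      rw [← hφ, Category.assoc, hp.comm, ← Category.assoc, ū.2]
    have hmkpt : ∀ ū : GeomLifts π Ω vb,
        GeomLifts.pt (⟨ū.1 ≫ a, hmk ū⟩ : GeomLifts f Ω (Spec.map φ ≫ Y.fromSpecResidueField y)) =
          a u := by
      intro ū
      have : GeomLifts.pt (⟨ū.1 ≫ a, hmk ū⟩ :
          GeomLifts f Ω (Spec.map φ ≫ Y.fromSpecResidueField y)) = a ū.pt := rfl
      rw [this, hpt]
    have heq := @Subsingleton.elim _ hsub
      (⟨⟨ū₁.1 ≫ a, hmk ū₁⟩, hmkpt ū₁⟩ : {xb : GeomLifts f Ω (Spec.map φ ≫ Y.fromSpecResidueField y) //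
        xb.pt = a u}) ⟨⟨ū₂.1 ≫ a, hmk ū₂⟩, hmkpt ū₂⟩
    have heq' : ū₁.1 ≫ a = ū₂.1 ≫ a := congrArg (fun z => z.1.1) heq
    apply GeomLifts.ext
    rw [← cancel_mono (pullback.lift a π hp.comm)]
    apply pullback.hom_ext
    · rw [Category.assoc, Category.assoc, pullback.lift_fst, heq']
    · rw [Category.assoc, Category.assoc, pullback.lift_snd, ū₁.2, ū₂.2]
  · obtain ⟨v, φ, hφ, hv⟩ := exists_eq_specMap_fromSpecResidueField Ω vb
    subst hφ
    rw [hv] at hvb
    obtain ⟨ū, -⟩ := exists_geomLifts_pt_eq π Ω v φ u hvb.symm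
    exact ⟨ū⟩

end Groth.Agent.Lib.Helper22.Weighting
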