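import Mathlib

/-!
# Étale neighbourhoods realising the separable part of a residue field extension (helper22)

Ring-level statement: for `R → B` and a prime `q` of `B` over `p` with finite residue field
extension, there is a (standard) étale `R`-algebra `R₀` and a prime `Q` of `R₀ ⊗[R] B` over `q`
which is "geometrically a single point" over its contraction to `R₀`: two ring homs
`R₀ ⊗[R] B → Ω` to a field with kernel `Q` agreeing on `R₀` are equal.
-/

set_option autoImplicit false
universe u
open TensorProduct Polynomial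

namespace Groth.Agent.Lib.Helper22.Weighting

attribute [local instance] Localization.AtPrime.algebraOfLiesOver

theorem exists_etale_prime_geomInjective {R B : Type u} [CommRing R] [CommRing B] [Algebra R B]
    (p : Ideal R) [p.IsPrime] (q : Ideal B) [q.IsPrime] [q.LiesOver p]
    [Module.Finite p.ResidueField q.ResidueField] :
    ∃ (R₀ : Type u) (_ : CommRing R₀) (_ : Algebra R R₀) (_ : Algebra.Etale R R₀)
      (Q : Ideal (R₀ ⊗[R] B)) (_ : Q.IsPrime),
      Q.comap Algebra.TensorProduct.includeRight.toRingHom = q ∧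
      ∀ (Ω : Type u) [Field Ω] (χ₁ χ₂ : R₀ ⊗[R] B →+* Ω), RingHom.ker χ₁ = Q → RingHom.ker χ₂ = Q →
        χ₁.comp (algebraMap R₀ (R₀ ⊗[R] B)) = χ₂.comp (algebraMap R₀ (R₀ ⊗[R] B)) → χ₁ = χ₂ := by
  classical
  let k := p.ResidueField
  let L := q.ResidueField
  let Ks : IntermediateField k L := separableClosure k L
  have : Algebra.IsSeparable k Ks := separableClosure.isSeparable k L
  have : Algebra.IsAlgebraic k L := Algebra.IsAlgebraic.of_finite k L
  have hpi : IsPurelyInseparable Ks L := separableClosure.isPurelyInseparable k L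
  obtain ⟨θ₀, hθ₀⟩ := Field.exists_primitive_element k Ks
  let θL : L := θ₀
  have hθL_sep : IsSeparable k θL := mem_separableClosure_iff.mp θ₀.2
  have hθL_int : IsIntegral k θL := hθL_sep.isIntegral
  let m := minpoly k θL
  have hm_sep : m.Separable := hθL_sep
  have hm_monic : m.Monic := minpoly.monic hθL_int
  -- Ks = k⟮θL⟯
  have hKs : Ks = IntermediateField.adjoin k {θL} := by
    have h1 := congrArg (IntermediateField.map Ks.val) hθ₀
    rw [IntermediateField.adjoin_map, Set.image_singleton, ← AlgHom.fieldRange_eq_map,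
      IntermediateField.fieldRange_val] at h1
    exact h1.symm
  -- scaling
  let M := nonZeroDivisors (R ⧸ p)
  let b := IsLocalization.commonDenom M m.support m.coeff
  let bk : k := algebraMap (R ⧸ p) k b
  have hbk : bk ≠ 0 :=
    map_ne_zero_of_mem_nonZeroDivisors _ (IsFractionRing.injective (R ⧸ p) k) b.2
  let mb := m.scaleRoots bk
  have hmb_lifts : mb ∈ Polynomial.lifts (algebraMap (R ⧸ p) k) :=
    IsLocalization.scaleRoots_commonDenom_mem_lifts M m
      (by rw [hm_monic.leadingCoeff]; exact one_mem _)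
  have hmb_monic : mb.Monic := (monic_scaleRoots_iff _).mpr hm_monic
  obtain ⟨P₁, hP₁map, -, hP₁monic⟩ := lifts_and_natDegree_eq_and_monic hmb_lifts hmb_monic
  have hP₁lifts : P₁ ∈ Polynomial.lifts (Ideal.Quotient.mk p) :=
    (Polynomial.mem_lifts _).mpr (Polynomial.map_surjective _ Ideal.Quotient.mk_surjective P₁)
  obtain ⟨P, hPmap, -, hPmonic⟩ := lifts_and_natDegree_eq_and_monic hP₁lifts hP₁monic
  have hPk : P.map (algebraMap R k) = mb := by
    rw [IsScalarTower.algebraMap_eq R (R ⧸ p) k, ← Polynomial.map_map]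
    change (P.map (Ideal.Quotient.mk p)).map _ = mb
    rw [hPmap, hP₁map]
  -- the root
  let θ : L := algebraMap k L bk * θL
  have hroot : aeval θ mb = 0 := scaleRoots_aeval_eq_zero (minpoly.aeval k θL)
  have hbL : algebraMap k L bk ≠ 0 := (_root_.map_ne_zero _).mpr hbk
  have hder : aeval θ (derivative mb) ≠ 0 := by
    let mL := m.map (algebraMap k L)
    have hmbL : mb.map (algebraMap k L) = mL.scaleRoots (algebraMap k L bk) :=
      map_scaleRoots m bk (algebraMap k L) (by rw [hm_monic.leadingCoeff, map_one]; exact one_ne_zero)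
    have hmult : rootMultiplicity θ (mb.map (algebraMap k L)) = rootMultiplicity θL mL := by
      rw [hmbL]
      exact rootMultiplicity_scaleRoots mL (IsRegular.of_ne_zero hbL).left
    have hle : rootMultiplicity θL mL ≤ 1 :=
      rootMultiplicity_le_one_of_separable (hm_sep.map) θL
    have hne : mb.map (algebraMap k L) ≠ 0 := (hmb_monic.map _).ne_zero
    have hnot : ¬ (1 < rootMultiplicity θ (mb.map (algebraMap k L))) := by
      rw [hmult]; omega
    rw [one_lt_rootMultiplicity_iff_isRoot hne] at hnot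
    have hr : (mb.map (algebraMap k L)).IsRoot θ := by
      rw [IsRoot, eval_map_algebraMap]; exact hroot
    intro hzero
    apply hnot
    refine ⟨hr, ?_⟩
    rw [IsRoot, derivative_map, eval_map_algebraMap]
    exact hzero
  -- the standard étale algebra
  let pair : StandardEtalePair R :=
    ⟨P, hPmonic, derivative P, ⟨1, 0, 1, by simp⟩⟩
  have haeval : ∀ (g : R[X]), aeval θ g = aeval θ (g.map (algebraMap R k)) := by
    intro g
    rw [aeval_map_algebraMap]
  have hmap : pair.HasMap θ := by
    refine ⟨?_, ?_⟩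
    · change aeval θ P = 0
      rw [haeval, hPk]; exact hroot
    · change IsUnit (aeval θ (derivative P))
      rw [haeval, ← derivative_map, hPk]
      exact isUnit_iff_ne_zero.mpr hder
  let α₀ : pair.Ring →ₐ[R] L := pair.lift θ hmap
  have hα₀X : α₀ pair.X = θ := pair.lift_X θ hmap
  let χ₀ : pair.Ring ⊗[R] B →ₐ[R] L :=
    Algebra.TensorProduct.lift α₀ (IsScalarTower.toAlgHom R B L) (fun _ _ => Commute.all _ _)
  have hχ₀ : ∀ r b, χ₀ (r ⊗ₜ b) = α₀ r * algebraMap B L b := by
    intro r b; simp [χ₀]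
  let Q : Ideal (pair.Ring ⊗[R] B) := RingHom.ker χ₀.toRingHom
  have hQ : Q.IsPrime := RingHom.ker_isPrime _
  refine ⟨pair.Ring, inferInstance, inferInstance, inferInstance, Q, hQ, ?_, ?_⟩
  · ext x
    simp only [Ideal.mem_comap, Q, RingHom.mem_ker]
    change χ₀ ((1 : pair.Ring) ⊗ₜ x) = 0 ↔ x ∈ q
    rw [hχ₀, map_one, one_mul, Ideal.algebraMap_residueField_eq_zero]
  · intro Ω _ χ₁ χ₂ h₁ h₂ hleft
    -- fraction representation of θ
    obtain ⟨⟨c₁, c₂⟩, hc⟩ := IsLocalization.surj (nonZeroDivisors (B ⧸ q)) θ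
    obtain ⟨b₁, rfl⟩ := Ideal.Quotient.mk_surjective c₁
    obtain ⟨b₂, hb₂⟩ := Ideal.Quotient.mk_surjective c₂.1
    have hb₂q : b₂ ∉ q := by
      intro hmem
      have : (c₂ : B ⧸ q) = 0 := by rw [← hb₂]; exact Ideal.Quotient.eq_zero_iff_mem.mpr hmem
      exact nonZeroDivisors.coe_ne_zero c₂ this
    have hfrac : θ * algebraMap B L b₂ = algebraMap B L b₁ := by
      have := hc
      simp only at this
      rw [← hb₂] at this
      exact this
    let z : pair.Ring ⊗[R] B := pair.X ⊗ₜ b₂ - 1 ⊗ₜ b₁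
    have hzQ : z ∈ Q := by
      change χ₀ z = 0
      simp only [z, map_sub, hχ₀, hα₀X, map_one, one_mul, hfrac, sub_self]
    -- general facts for a ring hom with kernel `Q`
    have key : ∀ χ : pair.Ring ⊗[R] B →+* Ω, RingHom.ker χ = Q →
        ∃ ε : L →+* Ω, (∀ x, ε (algebraMap B L x) = χ (1 ⊗ₜ x)) ∧ ε θ = χ (pair.X ⊗ₜ 1) := by
      intro χ hχ
      let β : B →+* Ω := χ.comp Algebra.TensorProduct.includeRight.toRingHom
      have hβ : ∀ x, β x = χ (1 ⊗ₜ x) := fun x => rfl
      have hβker : ∀ x, β x = 0 ↔ x ∈ q := by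
        intro x
        rw [hβ, ← RingHom.mem_ker, hχ]
        change χ₀ ((1 : pair.Ring) ⊗ₜ x) = 0 ↔ x ∈ q
        rw [hχ₀, map_one, one_mul, Ideal.algebraMap_residueField_eq_zero]
      let ε : L →+* Ω := Ideal.ResidueField.lift q β (fun x hx => (hβker x).mpr hx)
        (fun x hx => by
          change IsUnit (β x)
          rw [isUnit_iff_ne_zero]
          exact fun h0 => hx ((hβker x).mp h0))
      have hε : ∀ x, ε (algebraMap B L x) = β x := fun x =>
        Ideal.ResidueField.lift_algebraMap q β _ _ x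
      refine ⟨ε, fun x => (hε x).trans (hβ x), ?_⟩
      have hz : χ z = 0 := by rw [← RingHom.mem_ker, hχ]; exact hzQ
      have h1 : χ (pair.X ⊗ₜ 1) * β b₂ = β b₁ := by
        have : z = (pair.X ⊗ₜ (1 : B)) * ((1 : pair.Ring) ⊗ₜ b₂) - 1 ⊗ₜ b₁ := by
          simp [z]
        rw [this, map_sub, map_mul, sub_eq_zero] at hz
        exact hz
      have h2 : ε θ * β b₂ = β b₁ := by
        rw [← hε b₂, ← map_mul, hfrac, hε]
      have hβb₂ : β b₂ ≠ 0 := fun h0 => hb₂q ((hβker b₂).mp h0)
      exact mul_right_cancel₀ hβb₂ (h2.trans h1.symm)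
    obtain ⟨ε₁, hε₁B, hε₁θ⟩ := key χ₁ h₁
    obtain ⟨ε₂, hε₂B, hε₂θ⟩ := key χ₂ h₂
    have hleft' : ∀ r : pair.Ring, χ₁ (r ⊗ₜ 1) = χ₂ (r ⊗ₜ 1) := by
      intro r
      have := congrArg (fun φ : pair.Ring →+* Ω => φ r) hleft
      simpa [Algebra.TensorProduct.algebraMap_apply] using this
    -- ε₁ = ε₂
    have hεθ : ε₁ θ = ε₂ θ := by rw [hε₁θ, hε₂θ, hleft']
    have hεR : ∀ r : R, ε₁ (algebraMap R L r) = ε₂ (algebraMap R L r) := by
      intro r
      rw [IsScalarTower.algebraMap_apply R B L, hε₁B, hε₂B]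
      have : (1 : pair.Ring) ⊗ₜ[R] (algebraMap R B r) = (algebraMap R pair.Ring r) ⊗ₜ 1 := by
        rw [Algebra.algebraMap_eq_smul_one, Algebra.algebraMap_eq_smul_one, TensorProduct.tmul_smul,
          TensorProduct.smul_tmul']
      rw [this, hleft']
    have hεk : ε₁.comp (algebraMap k L) = ε₂.comp (algebraMap k L) := by
      apply Ideal.ResidueField.ringHom_ext
      ext r
      simp only [RingHom.comp_apply]
      rw [← IsScalarTower.algebraMap_apply R k L]
      exact hεR r
    have hεθL : ε₁ θL = ε₂ θL := by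
      have hb : ε₁ (algebraMap k L bk) = ε₂ (algebraMap k L bk) :=
        congrArg (fun φ : k →+* Ω => φ bk) hεk
      have hne : ε₂ (algebraMap k L bk) ≠ 0 := (_root_.map_ne_zero ε₂).mpr hbL
      have h1 : ε₁ (algebraMap k L bk) * ε₁ θL = ε₂ (algebraMap k L bk) * ε₂ θL := by
        rw [← map_mul, ← map_mul]; exact hεθ
      rw [hb] at h1
      exact mul_left_cancel₀ hne h1
    have hε : ε₁ = ε₂ := by
      let _ : Algebra k Ω := (ε₁.comp (algebraMap k L)).toAlgebra
      have hcomm₂ : ∀ c : k, ε₂ (algebraMap k L c) = algebraMap k Ω c := fun c =>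
        (congrArg (fun φ : k →+* Ω => φ c) hεk).symm
      let φ₁ : L →ₐ[k] Ω := { toRingHom := ε₁, commutes' := fun _ => rfl }
      let φ₂ : L →ₐ[k] Ω := { toRingHom := ε₂, commutes' := hcomm₂ }
      have hφ : φ₁.comp Ks.val = φ₂.comp Ks.val := by
        apply IntermediateField.algHom_ext_of_eq_adjoin k hKs
        intro x hx
        rw [Set.mem_singleton_iff] at hx
        subst hx
        exact hεθL
      have := IsPurelyInseparable.injective_comp_algebraMap Ks L Ω
      apply this
      ext x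
      exact congrArg (fun φ : Ks →ₐ[k] Ω => φ x) hφ
    -- χ₁ = χ₂
    refine RingHom.ext fun t => ?_
    induction t using TensorProduct.induction_on with
    | zero => simp
    | tmul r x =>
      have : r ⊗ₜ[R] x = (r ⊗ₜ (1 : B)) * ((1 : pair.Ring) ⊗ₜ x) := by simp
      rw [this, map_mul, map_mul, hleft', ← hε₁B, ← hε₂B, hε]
    | add a b ha hb => rw [map_add, map_add, ha, hb]

end Groth.Agent.Lib.Helper22.Weighting
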