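import Mathlib
import Groth.Prelude.Def_MoreMor
import Groth.Agent.Lib.Helper7.FibreIntegral
import Groth.Agent.Lib.Helper22.WeightingLifts
import Groth.Agent.Lib.Helper22.WeightingPieces
import Groth.Agent.Lib.Helper22.WeightingEtaleNbhd
import Groth.Agent.Lib.Helper22.EtaleResidue

/-!
# Étale neighbourhoods over which a point becomes "geometrically a single point" (helper22)
-/

set_option autoImplicit false
set_option linter.style.haveILetI false
universe u
open AlgebraicGeometry CategoryTheory Limits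

namespace Groth.Agent.Lib.Helper22.Weighting

open Groth.Agent.Lib.Helper7

attribute [local instance] Localization.AtPrime.algebraOfLiesOver

/-- The point of `Spec Ω → Spec A` is the kernel. -/
theorem specMap_closedPoint_asIdeal {A : CommRingCat.{u}} {Ω : Type u} [Field Ω]
    (χ : A ⟶ CommRingCat.of Ω) :
    ((Spec.map χ) (IsLocalRing.closedPoint Ω)).asIdeal = RingHom.ker χ.hom := by
  change Ideal.comap χ.hom (IsLocalRing.maximalIdeal Ω) = _
  rw [IsLocalRing.maximalIdeal_eq_bot]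
  rfl

set_option backward.defeqAttrib.useBackward true in
set_option backward.isDefEq.respectTransparency false in
open TensorProduct in
/-- **T2**: for `f` locally quasi-finite and `x : X` there is an étale `γ₀ : V₀ ⟶ S` and a point `t`
of the base change over `x` whose residue field extension over its image in `V₀` is purely
inseparable (separable degree one). -/
theorem exists_etale_point_finSepDegree_eq_one {X S : Scheme.{u}} (f : X ⟶ S)
    [LocallyQuasiFinite f] [LocallyOfFiniteType f] (x : X) :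
    ∃ (V₀ : Scheme.{u}) (γ₀ : V₀ ⟶ S) (_ : Etale γ₀) (t : ↥(pullback f γ₀)),
      pullback.fst f γ₀ t = x ∧
      (letI := ((pullback.snd f γ₀).residueFieldMap t).hom.toAlgebra
       Field.finSepDegree (V₀.residueField (pullback.snd f γ₀ t))
        ((pullback f γ₀).residueField t)) = 1 := by
  have hx : f.QuasiFiniteAt x := f.quasiFiniteAt x
  obtain ⟨_, ⟨U, hU, rfl⟩, hxU, -⟩ := S.isBasis_affineOpens.exists_subset_of_mem_open
    (Set.mem_univ (f x)) isOpen_univ
  obtain ⟨_, ⟨V, hV, rfl⟩, hxV, hUV : V ≤ f ⁻¹ᵁ U⟩ :=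
    X.isBasis_affineOpens.exists_subset_of_mem_open hxU (f ⁻¹ᵁ U).2
  have : (f.appLE U V hUV).hom.FiniteType := f.finiteType_appLE hU hV hUV
  algebraize [(f.appLE U V hUV).hom]
  have : (hV.primeIdealOf ⟨x, hxV⟩).asIdeal.LiesOver (hU.primeIdealOf ⟨f x, hxU⟩).asIdeal := by
    suffices hU.primeIdealOf ⟨f x, hxU⟩ = Spec.map (f.appLE U V hUV) (hV.primeIdealOf ⟨x, hxV⟩) from
      ⟨congr(($this).1)⟩
    apply hU.isoSpec.inv.homeomorph.injective
    apply Subtype.ext
    simp only [IsAffineOpen.primeIdealOf, Scheme.Hom.homeomorph_apply,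
      ← Scheme.Hom.comp_apply, ← Scheme.Opens.ι_apply, IsAffineOpen.isoSpec_hom]
    simp
  have : Algebra.QuasiFiniteAt Γ(S, U) (hV.primeIdealOf ⟨x, hxV⟩).asIdeal :=
    hx.quasiFiniteAt hV hU hUV hxV
  obtain ⟨R, _, _, _, Q, _, hQq, huniq⟩ :=
    exists_etale_prime_geomInjective
    (hU.primeIdealOf ⟨f x, hxU⟩).asIdeal (hV.primeIdealOf ⟨x, hxV⟩).asIdeal
  let φ : Γ(S, U) ⟶ .of R := CommRingCat.ofHom <| algebraMap Γ(S, U) R
  have hφ : φ.hom.Etale := RingHom.etale_algebraMap.mpr ‹_›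
  have : Etale (Spec.map φ) := HasRingHomProperty.Spec_iff.mpr hφ
  let e₁ : Spec (.of (R ⊗ Γ(X, V))) ≅ pullback (Spec.map (f.appLE U V hUV)) (Spec.map φ) :=
    (pullbackSpecIso _ _ _).symm ≪≫ pullbackSymmetry _ _
  have he₁ : e₁.hom ≫ pullback.fst _ _ =
      Spec.map (CommRingCat.ofHom Algebra.TensorProduct.includeRight.toRingHom) := by
    dsimp [e₁, RingHom.algebraMap_toAlgebra]
    rw [Category.assoc, pullbackSymmetry_hom_comp_fst]
    exact pullbackSpecIso_inv_snd ..
  have he₁' : e₁.hom ≫ pullback.snd _ _ =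
      Spec.map (CommRingCat.ofHom (algebraMap R (R ⊗[Γ(S, U)] Γ(X, V)))) := by
    dsimp [e₁, RingHom.algebraMap_toAlgebra]
    rw [Category.assoc, pullbackSymmetry_hom_comp_snd]
    exact pullbackSpecIso_inv_fst ..
  let g : Spec (.of (R ⊗[Γ(S, U)] Γ(X, V))) ⟶ pullback f (Spec.map φ ≫ hU.fromSpec) :=
    e₁.hom ≫ pullback.map _ _ _ _ hV.fromSpec (𝟙 _) hU.fromSpec
      (IsAffineOpen.SpecMap_appLE_fromSpec ..) (by simp)
  have hg₂ : g ≫ pullback.snd _ _ =
      Spec.map (CommRingCat.ofHom (algebraMap R (R ⊗[Γ(S, U)] Γ(X, V)))) := by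
    simp only [g, Category.assoc, pullback.lift_snd, Category.comp_id, pullback.map]
    rw [← he₁']
  have hgopen : IsOpenImmersion g := inferInstance
  have hg₁ : pullback.fst f (Spec.map φ ≫ hU.fromSpec) (g ⟨Q, ‹_›⟩) =
      hV.fromSpec ⟨Q.comap Algebra.TensorProduct.includeRight.toRingHom, inferInstance⟩ := by
    simp [← Scheme.Hom.comp_apply, -Scheme.Hom.comp_base, g, reassoc_of% he₁]; rfl
  clear_value g
  refine ⟨Spec (.of R), Spec.map φ ≫ hU.fromSpec, inferInstance, g ⟨Q, ‹_›⟩, ?_, ?_⟩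
  · rw [hg₁]
    convert! hV.fromSpec_primeIdealOf ⟨x, hxV⟩
  · set π := pullback.snd f (Spec.map φ ≫ hU.fromSpec) with hπ
    set t := g ⟨Q, ‹_›⟩ with ht
    let Ω := AlgebraicClosure ((Spec (.of R)).residueField (π t))
    let φΩ : (Spec (.of R)).residueField (π t) ⟶ CommRingCat.of Ω :=
      CommRingCat.ofHom (algebraMap ((Spec (.of R)).residueField (π t))
        (AlgebraicClosure ((Spec (.of R)).residueField (π t))))
    obtain ⟨hfin, hcard⟩ := card_geomLifts_fiber π Ω (π t) φΩ t rfl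
    rw [← hcard, Nat.card_eq_one_iff_unique]
    refine ⟨⟨?_⟩, ?_⟩
    · rintro ⟨ū₁, h₁⟩ ⟨ū₂, h₂⟩
      apply Subtype.ext
      apply Subtype.ext
      change ū₁.1 = ū₂.1
      have hrange : ∀ ū : GeomLifts π Ω (Spec.map φΩ ≫ (Spec (.of R)).fromSpecResidueField (π t)),
          ū.pt = t → Set.range ū.1 ⊆ Set.range g := by
        rintro ū hū _ ⟨y, rfl⟩
        have hy : y = IsLocalRing.closedPoint Ω := Subsingleton.elim _ _
        rw [hy]
        exact ⟨⟨Q, ‹_›⟩, hū.symm⟩
      have key : ∀ ū : GeomLifts π Ω (Spec.map φΩ ≫ (Spec (.of R)).fromSpecResidueField (π t)),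
          ū.pt = t → ∃ χ : CommRingCat.of (R ⊗[Γ(S, U)] Γ(X, V)) ⟶ CommRingCat.of Ω,
            Spec.map χ ≫ g = ū.1 ∧ RingHom.ker χ.hom = Q := by
        intro ū hū
        let l := IsOpenImmersion.lift g ū.1 (hrange ū hū)
        have hl : l ≫ g = ū.1 := IsOpenImmersion.lift_fac _ _ _
        refine ⟨Spec.preimage l, by rw [Spec.map_preimage]; exact hl, ?_⟩
        rw [← specMap_closedPoint_asIdeal, Spec.map_preimage]
        have hinj : Function.Injective g := g.isOpenEmbedding.injective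
        have : l (IsLocalRing.closedPoint Ω) = ⟨Q, ‹_›⟩ := by
          apply hinj
          rw [← Scheme.Hom.comp_apply, hl]
          exact hū
        rw [this]
      obtain ⟨χ₁, hχ₁, hk₁⟩ := key ū₁ h₁
      obtain ⟨χ₂, hχ₂, hk₂⟩ := key ū₂ h₂
      have hagree : CommRingCat.ofHom (algebraMap R (R ⊗[Γ(S, U)] Γ(X, V))) ≫ χ₁ =
          CommRingCat.ofHom (algebraMap R (R ⊗[Γ(S, U)] Γ(X, V))) ≫ χ₂ := by
        apply Spec.map_injective
        rw [Spec.map_comp, Spec.map_comp, ← hg₂]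
        have e1 : Spec.map χ₁ ≫ g ≫ π = ū₁.1 ≫ π := by rw [← hχ₁, Category.assoc]
        have e2 : Spec.map χ₂ ≫ g ≫ π = ū₂.1 ≫ π := by rw [← hχ₂, Category.assoc]
        rw [e1, e2]
        exact ū₁.2.trans ū₂.2.symm
      have hχ : χ₁.hom = χ₂.hom := by
        refine huniq Ω χ₁.hom χ₂.hom hk₁ hk₂ ?_
        exact congrArg CommRingCat.Hom.hom hagree
      rw [← hχ₁, ← hχ₂, CommRingCat.hom_ext hχ]
    · obtain ⟨ū, hū⟩ := exists_geomLifts_pt_eq π Ω (π t) φΩ t rfl
      exact ⟨⟨ū, hū⟩⟩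

/-- **T3**: for `f` locally quasi-finite and `x : X` there is an étale `γ : V ⟶ Y` and a piece of `f`
over `γ` containing a point `u` over `x` which is geometrically the only point of its fibre. -/
theorem exists_etale_piece_deg_eq_one {X Y : Scheme.{u}} (f : X ⟶ Y) [LocallyQuasiFinite f]
    [LocallyOfFiniteType f] (x : X) :
    ∃ (V : Scheme.{u}) (γ : V ⟶ Y) (_ : Etale γ) (U : Scheme.{u}) (a : U ⟶ X) (π : U ⟶ V)
      (_ : IsPiece f γ a π) (u : U), a u = x ∧ deg π (π u) = 1 := by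
  obtain ⟨V₀, γ₀, _, t, htx, hsep⟩ := exists_etale_point_finSepDegree_eq_one f x
  obtain ⟨V₁, γ₁, _, U, a₁, π, hp, u, hau, huniq⟩ :=
    exists_etale_piece_of_quasiFiniteAt (pullback.snd f γ₀) t ((pullback.snd f γ₀).quasiFiniteAt t)
  subst hau
  refine ⟨V₁, γ₁ ≫ γ₀, inferInstance, U, a₁ ≫ pullback.fst f γ₀, π,
    IsPiece.of_baseChange (IsPullback.of_hasPullback f γ₀) hp, u, ?_, ?_⟩
  · rw [Scheme.Hom.comp_apply, htx]
  · exact hp.deg_eq_one u huniq hsep

end Groth.Agent.Lib.Helper22.Weighting
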