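import Mathlib
import Groth.Prelude.Def_MoreMor
import Groth.Agent.Lib.Helper7.FibreIntegral
import Groth.Agent.Lib.Helper22.WeightingLifts
import Groth.Agent.Lib.Helper22.WeightingPieces
import Groth.Agent.Lib.Helper22.WeightingSepNbhd

/-!
# Core results on weightings (helper22)
-/

set_option autoImplicit false
set_option linter.style.haveILetI false
universe u
open AlgebraicGeometry CategoryTheory Limits

namespace Groth.Agent.Lib.Helper22.Weighting

open Groth.Agent.Lib.Helper7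

variable {X Y : Scheme.{u}} {f : X ⟶ Y} {V U : Scheme.{u}} {γ : V ⟶ Y} {a : U ⟶ X} {π : U ⟶ V}

/-- For a piece over an étale map, the map to `X` is étale. -/
theorem IsPiece.etale_a [Etale γ] (hp : IsPiece f γ a π) : Etale a := by
  have := hp.isOpenImmersion_lift
  have h : a = pullback.lift a π hp.comm ≫ pullback.fst f γ := (pullback.lift_fst _ _ _).symm
  rw [h]
  infer_instance

/-- For a piece over an étale map, the map to `X` is open. -/
theorem IsPiece.isOpenMap_a [Etale γ] (hp : IsPiece f γ a π) : IsOpenMap a := by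
  have := hp.etale_a
  exact a.isOpenMap

/-- A weighting with positive values is bounded above near `x` by its value at `x`. -/
theorem exists_open_le_of_isWeighting [LocallyQuasiFinite f] [LocallyOfFiniteType f] {w : X → ℤ}
    (hw : MoreMor.IsWeighting f w) (hpos : ∀ x, 0 < w x) (x : X) :
    ∃ N : Set X, IsOpen N ∧ x ∈ N ∧ ∀ x' ∈ N, w x' ≤ w x := by
  obtain ⟨V, γ, _, U, a, π, hp, u, rfl, hdeg⟩ := exists_etale_piece_deg_eq_one f x
  have := hp.isFinite
  have hlc := isLocallyConstant_of_isPiece hw hp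
  have hval : MoreMor.fibreIntegral π (fun u => w (a u)) (π u) = w (a u) :=
    fibreIntegral_eq_of_deg_eq_one π (fun u => w (a u)) u hdeg
  obtain ⟨V₁, hV₁o, huV₁, hV₁⟩ := (IsLocallyConstant.iff_exists_open _).mp hlc (π u)
  refine ⟨a '' (π ⁻¹' V₁), hp.isOpenMap_a _ (hV₁o.preimage π.continuous), ⟨u, huV₁, rfl⟩, ?_⟩
  rintro _ ⟨u', hu', rfl⟩
  have h1 : w (a u') ≤ MoreMor.fibreIntegral π (fun u => w (a u)) (π u') :=
    le_fibreIntegral_of_pos π (fun u => w (a u)) (fun u => hpos _) u'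
  rw [hV₁ (π u') hu', hval] at h1
  exact h1

/-- **Core theorem**: for a weighting `w` of a locally quasi-finite `f`, fibre integrals of `w` over
pieces of `f` over an *arbitrary* morphism `γ : V ⟶ Y` are locally constant. (Induction on the
geometric number of points in the fibre, peeling off one point at a time.) -/
theorem exists_open_fibreIntegral_eq [LocallyQuasiFinite f] [LocallyOfFiniteType f] {w : X → ℤ}
    (hw : MoreMor.IsWeighting f w) :
    ∀ (n : ℕ) {V U : Scheme.{u}} {γ : V ⟶ Y} {a : U ⟶ X} {π : U ⟶ V} (_ : IsPiece f γ a π) (v : V),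
      deg π v = n → ∃ N : Set V, IsOpen N ∧ v ∈ N ∧ ∀ v' ∈ N,
        MoreMor.fibreIntegral π (fun u => w (a u)) v' =
          MoreMor.fibreIntegral π (fun u => w (a u)) v := by
  intro n
  induction n using Nat.strong_induction_on with
  | _ n ih =>
    intro V U γ a π hp v hn
    have := hp.isFinite
    rcases Nat.eq_zero_or_pos n with rfl | hnpos
    · -- empty fibre
      have hempty : ∀ u, π u ≠ v := by
        intro u hu
        have h1 : (1 : ℤ) ≤ deg π (π u) :=
          le_fibreIntegral_of_pos π (fun _ => 1) (fun _ => one_pos) u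
        rw [hu, hn] at h1
        simp at h1
      refine ⟨(Set.range π)ᶜ, ?_, ?_, ?_⟩
      · exact (π.isClosedMap.isClosed_range).isOpen_compl
      · rintro ⟨u, hu⟩; exact hempty u hu
      · intro v' hv'
        rw [fibreIntegral_eq_zero_of_isEmpty π _ v' (fun u hu => hv' ⟨u, hu⟩),
          fibreIntegral_eq_zero_of_isEmpty π _ v hempty]
    · obtain ⟨u₀, hu₀⟩ : ∃ u, π u = v :=
        exists_of_fibreIntegral_ne_zero π (fun _ => 1) v (by
          change deg π v ≠ 0
          rw [hn]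
          exact_mod_cast hnpos.ne')
      obtain ⟨V₂, γ₂, _, U₂, a₂, π₂, hp₂, u₂, hu₂, hdeg₂⟩ :=
        exists_etale_piece_deg_eq_one f (a u₀)
      have := hp₂.isFinite
      -- the fibre product of the bases
      let p₁ := pullback.fst γ γ₂
      let p₂ := pullback.snd γ γ₂
      have hcond : p₁ ≫ γ = p₂ ≫ γ₂ := pullback.condition
      have hq₁ : IsPiece f (p₁ ≫ γ) (pullback.fst π p₁ ≫ a) (pullback.snd π p₁) :=
        hp.baseChange p₁
      have hq₂ : IsPiece f (p₁ ≫ γ) (pullback.fst π₂ p₂ ≫ a₂) (pullback.snd π₂ p₂) := by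
        rw [hcond]; exact hp₂.baseChange p₂
      -- common refinement
      obtain ⟨τ, hτ₁, hτ₂⟩ : ∃ τ : ↥(pullback a a₂),
          pullback.fst a a₂ τ = u₀ ∧ pullback.snd a a₂ τ = u₂ :=
        Scheme.Pullback.exists_preimage_pullback u₀ u₂ hu₂.symm
      have hθ : (pullback.fst a a₂ ≫ π) ≫ γ = (pullback.snd a a₂ ≫ π₂) ≫ γ₂ := by
        rw [Category.assoc, Category.assoc, ← hp.comm, ← hp₂.comm, ← Category.assoc,
          ← Category.assoc, pullback.condition]
      let θ : pullback a a₂ ⟶ pullback γ γ₂ := pullback.lift _ _ hθ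
      have hθ₁ : θ ≫ p₁ = pullback.fst a a₂ ≫ π := pullback.lift_fst _ _ _
      have hθ₂ : θ ≫ p₂ = pullback.snd a a₂ ≫ π₂ := pullback.lift_snd _ _ _
      let t₁ : pullback a a₂ ⟶ pullback π p₁ := pullback.lift (pullback.fst a a₂) θ hθ₁.symm
      let t₂ : pullback a a₂ ⟶ pullback π₂ p₂ := pullback.lift (pullback.snd a a₂) θ hθ₂.symm
      have ht₁f : t₁ ≫ pullback.fst π p₁ = pullback.fst a a₂ := pullback.lift_fst _ _ _
      have ht₁s : t₁ ≫ pullback.snd π p₁ = θ := pullback.lift_snd _ _ _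
      have ht₂f : t₂ ≫ pullback.fst π₂ p₂ = pullback.snd a a₂ := pullback.lift_fst _ _ _
      have ht₂s : t₂ ≫ pullback.snd π₂ p₂ = θ := pullback.lift_snd _ _ _
      have ha : t₁ ≫ (pullback.fst π p₁ ≫ a) = t₂ ≫ (pullback.fst π₂ p₂ ≫ a₂) := by
        rw [← Category.assoc, ← Category.assoc, ht₁f, ht₂f, pullback.condition]
      have hπ' : t₁ ≫ pullback.snd π p₁ = t₂ ≫ pullback.snd π₂ p₂ := by rw [ht₁s, ht₂s]
      clear_value t₁ t₂ θ
      -- the point
      have hv''₂ : pullback.snd π₂ p₂ (t₂ τ) = θ τ := by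
        rw [← Scheme.Hom.comp_apply, ht₂s]
      have hp₁v'' : p₁ (θ τ) = v := by
        rw [← Scheme.Hom.comp_apply, hθ₁, Scheme.Hom.comp_apply, hτ₁, hu₀]
      have hp₂v'' : p₂ (θ τ) = π₂ u₂ := by
        rw [← Scheme.Hom.comp_apply, hθ₂, Scheme.Hom.comp_apply, hτ₂]
      have hdeg'' : deg (pullback.snd π₂ p₂) (pullback.snd π₂ p₂ (t₂ τ)) = 1 := by
        rw [hv''₂, deg_pullback_snd, hp₂v'', hdeg₂]
      obtain ⟨V₁, hvV₁, R, aR, πR, hR, hsum⟩ := hq₁.exists_peel hq₂ t₁ t₂ ha hπ' τ hdeg''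
      rw [hv''₂] at hvV₁
      -- integrals over the base-changed pieces
      have hI₁ : ∀ (w' : X → ℤ) (z : ↥(pullback γ γ₂)),
          MoreMor.fibreIntegral (pullback.snd π p₁) (fun u => w' ((pullback.fst π p₁ ≫ a) u)) z =
            MoreMor.fibreIntegral π (fun u => w' (a u)) (p₁ z) :=
        fun w' z => fibreIntegral_pullback_snd π p₁ (fun u => w' (a u)) z
      have hI₂ : ∀ (w' : X → ℤ) (z : ↥(pullback γ γ₂)),
          MoreMor.fibreIntegral (pullback.snd π₂ p₂)
            (fun u => w' ((pullback.fst π₂ p₂ ≫ a₂) u)) z =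
            MoreMor.fibreIntegral π₂ (fun u => w' (a₂ u)) (p₂ z) :=
        fun w' z => fibreIntegral_pullback_snd π₂ p₂ (fun u => w' (a₂ u)) z
      let v₁ : V₁ := ⟨θ τ, hvV₁⟩
      have hιv₁ : V₁.ι v₁ = θ τ := rfl
      -- the degree of the remainder
      have hdegR : deg πR v₁ = ((n - 1 : ℕ) : ℤ) := by
        have h := hsum (fun _ => 1) v₁
        rw [hιv₁] at h
        change deg (pullback.snd π p₁) (θ τ) = deg (pullback.snd π₂ p₂) (θ τ) + deg πR v₁ at h
        rw [deg_pullback_snd, deg_pullback_snd, hp₁v'', hp₂v'', hn, hdeg₂] at h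
        have : ((n - 1 : ℕ) : ℤ) = (n : ℤ) - 1 := by
          rw [Nat.cast_sub hnpos]; simp
        rw [this]
        linarith
      obtain ⟨NR, hNRo, hvNR, hNR⟩ := ih (n - 1) (by omega) hR v₁ hdegR
      -- local constancy of the étale piece
      have hlc₂ := isLocallyConstant_of_isPiece hw hp₂
      obtain ⟨N₂, hN₂o, hvN₂, hN₂⟩ := (IsLocallyConstant.iff_exists_open _).mp hlc₂ (π₂ u₂)
      -- the neighbourhood
      have hp₁open : IsOpenMap p₁ := p₁.isOpenMap
      refine ⟨p₁ '' (V₁.ι '' NR ∩ p₂ ⁻¹' N₂), ?_, ?_, ?_⟩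
      · apply hp₁open
        exact (V₁.ι.isOpenEmbedding.isOpenMap _ hNRo).inter (hN₂o.preimage p₂.continuous)
      · exact ⟨θ τ, ⟨⟨v₁, hvNR, hιv₁⟩, by rw [Set.mem_preimage, hp₂v'']; exact hvN₂⟩, hp₁v''⟩
      · rintro _ ⟨z, ⟨⟨z₁, hz₁, rfl⟩, hz₂⟩, rfl⟩
        rw [← hI₁ w, hsum w z₁, hI₂ w, hN₂ _ hz₂, hNR z₁ hz₁, ← hp₁v'', ← hI₁ w, ← hιv₁, hsum w v₁,
          hI₂ w, hιv₁, hp₂v'']

/-- Fibre integrals of a weighting over pieces over an arbitrary base are locally constant. -/
theorem isLocallyConstant_fibreIntegral_of_isPiece [LocallyQuasiFinite f] [LocallyOfFiniteType f]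
    {w : X → ℤ} (hw : MoreMor.IsWeighting f w) (hp : IsPiece f γ a π) :
    IsLocallyConstant (MoreMor.fibreIntegral π (fun u => w (a u))) := by
  rw [IsLocallyConstant.iff_exists_open]
  intro v
  have := hp.isFinite
  obtain ⟨n, hn⟩ : ∃ n : ℕ, deg π v = n := ⟨(deg π v).toNat, (Int.toNat_of_nonneg (deg_nonneg π v)).symm⟩
  exact exists_open_fibreIntegral_eq hw n hp v hn

/-- **Base change of weightings.** -/
theorem isWeighting_baseChange [LocallyQuasiFinite f] [LocallyOfFiniteType f] {w : X → ℤ}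
    (hw : MoreMor.IsWeighting f w) {X' Y' : Scheme.{u}} {f' : X' ⟶ Y'} {h : X' ⟶ X} {g : Y' ⟶ Y}
    (hc : IsPullback h f' f g) : MoreMor.IsWeighting f' (w ∘ ⇑h) := by
  intro V' γ' _ O hO
  have hp : IsPiece f (γ' ≫ g) ((O.ι ≫ pullback.fst f' γ') ≫ h) (O.ι ≫ pullback.snd f' γ') :=
    IsPiece.of_baseChange hc (IsPiece.of_opens O hO)
  exact isLocallyConstant_fibreIntegral_of_isPiece hw hp

/-- A piece of the restriction of `f` to an open subscheme is a piece of `f`. -/
theorem IsPiece.of_comp_openImmersion {X₀ : Scheme.{u}} (j : X₀ ⟶ X) [IsOpenImmersion j]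
    {a₀ : U ⟶ X₀} (hp : IsPiece (j ≫ f) γ a₀ π) : IsPiece f γ (a₀ ≫ j) π := by
  have := hp.isOpenImmersion_lift
  have := hp.isFinite
  refine IsPiece.of_isPullback (IsPullback.of_hasPullback f γ)
    (pullback.lift a₀ π hp.comm ≫ pullback.map (j ≫ f) γ f γ j (𝟙 V) (𝟙 Y) (by simp) (by simp))
    ?_ ?_
  · rw [Category.assoc, pullback.lift_fst, ← Category.assoc, pullback.lift_fst]
  · rw [Category.assoc, pullback.lift_snd, ← Category.assoc, pullback.lift_snd, Category.comp_id]

/-- A locally quasi-finite morphism with a positive weighting is open. -/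
theorem isOpenMap_of_isWeighting_pos [LocallyQuasiFinite f] [LocallyOfFiniteType f] {w : X → ℤ}
    (hw : MoreMor.IsWeighting f w) (hpos : ∀ x, 0 < w x) : IsOpenMap f := by
  intro O hO
  rw [isOpen_iff_mem_nhds]
  rintro _ ⟨x, hxO, rfl⟩
  let O' : X.Opens := ⟨O, hO⟩
  obtain ⟨V, γ, _, U, a, π, hp, u, hau, -⟩ :=
    exists_etale_piece_of_quasiFiniteAt (O'.ι ≫ f) ⟨x, hxO⟩ ((O'.ι ≫ f).quasiFiniteAt _)
  have hp' : IsPiece f γ (a ≫ O'.ι) π := hp.of_comp_openImmersion O'.ι
  have := hp'.isFinite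
  have hlc := isLocallyConstant_of_isPiece hw hp'
  obtain ⟨N, hNo, huN, hN⟩ := (IsLocallyConstant.iff_exists_open _).mp hlc (π u)
  have hposI : 0 < MoreMor.fibreIntegral π (fun u => w ((a ≫ O'.ι) u)) (π u) :=
    lt_of_lt_of_le (hpos _)
      (le_fibreIntegral_of_pos π (fun u => w ((a ≫ O'.ι) u)) (fun _ => hpos _) u)
  have hsub : γ '' N ⊆ f '' O := by
    rintro _ ⟨v, hv, rfl⟩
    obtain ⟨u', hu'⟩ := exists_of_fibreIntegral_ne_zero π _ v (by rw [hN v hv]; exact hposI.ne')
    refine ⟨(a ≫ O'.ι) u', (a u').2, ?_⟩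
    rw [← hu', ← Scheme.Hom.comp_apply, ← Scheme.Hom.comp_apply, hp'.comm]
  refine Filter.mem_of_superset ?_ hsub
  have hfx : f x = γ (π u) := by
    have h1 : (a ≫ O'.ι) u = x := by
      rw [Scheme.Hom.comp_apply, hau]; rfl
    rw [← h1, ← Scheme.Hom.comp_apply, ← Scheme.Hom.comp_apply, hp'.comm]
  rw [hfx]
  exact (γ.isOpenMap _ hNo).mem_nhds ⟨π u, huN, rfl⟩

/-- A locally quasi-finite morphism with a positive weighting is universally open. -/
theorem universallyOpen_of_isWeighting_pos [LocallyQuasiFinite f] [LocallyOfFiniteType f]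
    {w : X → ℤ} (hw : MoreMor.IsWeighting f w) (hpos : ∀ x, 0 < w x) : UniversallyOpen f := by
  refine ⟨fun X' Y' i₁ i₂ f' hc => ?_⟩
  have hc' : IsPullback i₁ f' f i₂ := hc.flip
  have : LocallyQuasiFinite f' :=
    MorphismProperty.of_isPullback (P := @LocallyQuasiFinite) hc' ‹_›
  have : LocallyOfFiniteType f' :=
    MorphismProperty.of_isPullback (P := @LocallyOfFiniteType) hc' ‹_›
  exact isOpenMap_of_isWeighting_pos (isWeighting_baseChange hw hc') (fun x' => hpos _)

end Groth.Agent.Lib.Helper22.Weighting
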