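import Mathlib
import Groth.Prelude.Def_EGA4Misc

/-!
# Birational morphisms (in the pointwise sense of `RadPt.IsBirational`) under flat base change
(helper22)
-/

set_option autoImplicit false
set_option linter.style.haveILetI false
universe u
open AlgebraicGeometry CategoryTheory Limits Topology

namespace Groth.Agent.Lib.Helper22.Birational

/-- Generic points of irreducible components are the maximal points. -/
theorem mem_genericPoints_iff {X : Type*} [TopologicalSpace X] [QuasiSober X] [T0Space X] (x : X) :
    x ∈ genericPoints X ↔ ∀ z : X, z ⤳ x → z = x := by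
  constructor
  · intro hx z hz
    have h1 : closure ({x} : Set X) ⊆ closure {z} := specializes_iff_closure_subset.mp hz
    have h2 : closure ({z} : Set X) ⊆ closure {x} := hx.2 isIrreducible_singleton.closure h1
    exact ((specializes_iff_closure_subset.mpr h2).antisymm hz).eq.symm
  · intro hx
    refine ⟨isIrreducible_singleton.closure, ?_⟩
    intro t ht hxt
    obtain ⟨z, hz⟩ := QuasiSober.sober ht.closure isClosed_closure
    have hzx : z ⤳ x := by
      rw [specializes_iff_mem_closure, hz.def]
      exact subset_closure (hxt (subset_closure rfl))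
    rw [hx z hzx] at hz
    exact subset_closure.trans hz.def.symm.subset

/-- A generalizing map sends maximal points to maximal points. -/
theorem mem_genericPoints_of_generalizingMap {X Y : Type*} [TopologicalSpace X]
    [TopologicalSpace Y] [QuasiSober X] [T0Space X] [QuasiSober Y] [T0Space Y] {g : X → Y}
    (hg : GeneralizingMap g) {x : X} (hx : x ∈ genericPoints X) : g x ∈ genericPoints Y := by
  rw [mem_genericPoints_iff] at hx ⊢
  intro z hz
  obtain ⟨z', hz', rfl⟩ := hg hz
  rw [hx z' hz']

section Canonical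

open Scheme.Pullback

variable {X Y S : Scheme.{u}} (f : X ⟶ S) (g : Y ⟶ S)

/-- If the residue field extension of `f` at `fst t` is trivial, the right leg of the tensor
product of residue fields at `t` is an isomorphism. -/
theorem isIso_tensorInr_ofPoint (t : ↑(pullback f g))
    (hres : Function.Bijective (f.residueFieldMap (pullback.fst f g t)).hom) :
    IsIso (Triplet.ofPoint t).tensorInr := by
  have h1 : IsIso (f.residueFieldMap (Triplet.ofPoint t).x) :=
    (ConcreteCategory.isIso_iff_bijective _).mpr hres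
  have h2 : IsIso ((S.residueFieldCongr (Triplet.ofPoint t).hx).inv ≫
      f.residueFieldMap (Triplet.ofPoint t).x) := inferInstance
  exact (IsPushout.of_hasPushout _ _).isIso_inr_of_isIso h2

theorem subsingleton_spec_tensor_ofPoint (t : ↑(pullback f g))
    (hres : Function.Bijective (f.residueFieldMap (pullback.fst f g t)).hom) :
    Subsingleton ↥(Spec (Triplet.ofPoint t).tensor) := by
  have := isIso_tensorInr_ofPoint f g t hres
  have hinj : Function.Injective (Spec.map (Triplet.ofPoint t).tensorInr) :=
    (Scheme.homeoOfIso (asIso (Spec.map (Triplet.ofPoint t).tensorInr))).injective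
  exact hinj.subsingleton

/-- If the residue field extension of `f` at `fst t₂` is trivial, a point of the fibre product is
determined by its two projections. -/
theorem eq_of_fst_eq_of_snd_eq (t₁ t₂ : ↑(pullback f g))
    (h1 : pullback.fst f g t₁ = pullback.fst f g t₂)
    (h2 : pullback.snd f g t₁ = pullback.snd f g t₂)
    (hres : Function.Bijective (f.residueFieldMap (pullback.fst f g t₂)).hom) : t₁ = t₂ := by
  apply (carrierEquiv (f := f) (g := g)).injective
  rw [carrierEquiv_eq_iff]
  have hsub : Subsingleton ↥(Spec (carrierEquiv (f := f) (g := g) t₂).1.tensor) :=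
    subsingleton_spec_tensor_ofPoint f g t₂ hres
  exact ⟨Triplet.ext h1 h2, hsub.elim _ _⟩

/-- Every morphism from the spectrum of a field is of the standard form. -/
theorem exists_eq_specMap_fromSpecResidueField' {V : Scheme.{u}} (Ω : Type u) [Field Ω]
    (vb : Spec (CommRingCat.of Ω) ⟶ V) :
    ∃ (v : V) (φ : V.residueField v ⟶ CommRingCat.of Ω),
      vb = Spec.map φ ≫ V.fromSpecResidueField v ∧ vb (IsLocalRing.closedPoint Ω) = v := by
  obtain ⟨⟨v, φ⟩, rfl⟩ := (Scheme.SpecToEquivOfField Ω V).symm.surjective vb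
  refine ⟨v, φ, rfl, ?_⟩
  exact Scheme.fromSpecResidueField_apply v _

/-- If the residue field extension of `f` at `fst t` is trivial, so is that of the second
projection at `t`. -/
theorem bijective_residueFieldMap_snd (t : ↑(pullback f g))
    (hres : Function.Bijective (f.residueFieldMap (pullback.fst f g t)).hom) :
    Function.Bijective ((pullback.snd f g).residueFieldMap t).hom := by
  have hiso := isIso_tensorInr_ofPoint f g t hres
  obtain ⟨e, he⟩ : ∃ e : Spec (Y.residueField (Triplet.ofPoint t).y) ⟶
      Spec (Triplet.ofPoint t).tensor, e ≫ Spec.map (Triplet.ofPoint t).tensorInr = 𝟙 _ :=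
    ⟨Spec.map (inv (Triplet.ofPoint t).tensorInr), by
      rw [← Spec.map_comp, IsIso.hom_inv_id, Spec.map_id]⟩
  obtain ⟨ι, hι⟩ : ∃ ι : Spec (CommRingCat.of ↑(Y.residueField (pullback.snd f g t))) ⟶
      Spec (Triplet.ofPoint t).tensor,
      ι ≫ Spec.map (Triplet.ofPoint t).tensorInr ≫ Y.fromSpecResidueField (Triplet.ofPoint t).y =
        Y.fromSpecResidueField (pullback.snd f g t) := by
    refine ⟨e, ?_⟩
    exact (by rw [← Category.assoc, he, Category.id_comp] : e ≫
        Spec.map (Triplet.ofPoint t).tensorInr ≫ Y.fromSpecResidueField (Triplet.ofPoint t).y =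
          Y.fromSpecResidueField (Triplet.ofPoint t).y)
  obtain ⟨τ, hτ⟩ : ∃ τ : Spec (CommRingCat.of ↑(Y.residueField (pullback.snd f g t))) ⟶
      pullback f g, τ = ι ≫ (Triplet.ofPoint t).SpecTensorTo := ⟨_, rfl⟩
  have hτsnd : τ ≫ pullback.snd f g = Y.fromSpecResidueField (pullback.snd f g t) := by
    rw [hτ, Category.assoc, Triplet.specTensorTo_snd, hι]
  obtain ⟨p, ψ, hτψ, hp⟩ := exists_eq_specMap_fromSpecResidueField' _ τ
  have hpt : p = t := by
    apply eq_of_fst_eq_of_snd_eq f g p t _ _ hres
    · rw [← hp, hτ, Scheme.Hom.comp_apply]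
      exact Triplet.fst_SpecTensorTo_apply _ _
    · rw [← hp, hτ, Scheme.Hom.comp_apply]
      exact Triplet.snd_SpecTensorTo_apply _ _
  subst hpt
  have h1 : Spec.map ((pullback.snd f g).residueFieldMap p ≫ ψ) ≫
      Y.fromSpecResidueField (pullback.snd f g p) =
        𝟙 _ ≫ Y.fromSpecResidueField (pullback.snd f g p) := by
    rw [Category.id_comp, Spec.map_comp, Category.assoc,
      Scheme.Hom.SpecMap_residueFieldMap_fromSpecResidueField, ← Category.assoc, ← hτψ, hτsnd]
  have h2 : (pullback.snd f g).residueFieldMap p ≫ ψ = 𝟙 _ := by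
    apply Spec.map_injective
    rw [Spec.map_id]
    exact (cancel_mono _).mp h1
  have h3 : ∀ a, ψ.hom (((pullback.snd f g).residueFieldMap p).hom a) = a := fun a => by
    have := congrArg (fun k => k.hom a) h2
    simpa using this
  refine ⟨((pullback.snd f g).residueFieldMap p).hom.injective, fun b => ?_⟩
  refine ⟨ψ.hom b, ψ.hom.injective ?_⟩
  rw [h3]

end Canonical

section Square

open Scheme.Pullback

variable {X Y X' Y' : Scheme.{u}} {f : X ⟶ Y} {g : Y' ⟶ Y} {f' : X' ⟶ Y'} {g' : X' ⟶ X}

theorem bijective_residueFieldMap_congr_point {X Y : Scheme.{u}} (f : X ⟶ Y) {x₁ x₂ : X}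
    (h : x₁ = x₂) (hres : Function.Bijective (f.residueFieldMap x₁).hom) :
    Function.Bijective (f.residueFieldMap x₂).hom := by
  subst h; exact hres

/-- In a cartesian square, a point of the fibre product is determined by its two projections as
soon as the residue field extension of `f` at the first projection is trivial. -/
theorem eq_of_isPullback (sq : IsPullback g' f' f g) (x₁ x₂ : X') (h1 : g' x₁ = g' x₂)
    (h2 : f' x₁ = f' x₂) (hres : Function.Bijective (f.residueFieldMap (g' x₂)).hom) :
    x₁ = x₂ := by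
  have e1 : sq.isoPullback.hom ≫ pullback.fst f g = g' := sq.isoPullback_hom_fst
  have e2 : sq.isoPullback.hom ≫ pullback.snd f g = f' := sq.isoPullback_hom_snd
  have hfst : ∀ p : X', pullback.fst f g (sq.isoPullback.hom p) = g' p := fun p => by
    rw [← Scheme.Hom.comp_apply, e1]
  have hsnd : ∀ p : X', pullback.snd f g (sq.isoPullback.hom p) = f' p := fun p => by
    rw [← Scheme.Hom.comp_apply, e2]
  have hinj : Function.Injective sq.isoPullback.hom :=
    (Scheme.homeoOfIso sq.isoPullback).injective
  apply hinj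
  apply eq_of_fst_eq_of_snd_eq f g
  · rw [hfst, hfst, h1]
  · rw [hsnd, hsnd, h2]
  · exact bijective_residueFieldMap_congr_point f (hfst x₂).symm hres

/-- In a cartesian square, if the residue field extension of `f` at `g' x'` is trivial then so is
that of `f'` at `x'`. -/
theorem bijective_residueFieldMap_of_isPullback (sq : IsPullback g' f' f g) (x' : X')
    (hres : Function.Bijective (f.residueFieldMap (g' x')).hom) :
    Function.Bijective (f'.residueFieldMap x').hom := by
  have e1 : sq.isoPullback.hom ≫ pullback.fst f g = g' := sq.isoPullback_hom_fst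
  have e2 : sq.isoPullback.hom ≫ pullback.snd f g = f' := sq.isoPullback_hom_snd
  have hfst : pullback.fst f g (sq.isoPullback.hom x') = g' x' := by
    rw [← Scheme.Hom.comp_apply, e1]
  have hb := bijective_residueFieldMap_snd f g (sq.isoPullback.hom x')
    (bijective_residueFieldMap_congr_point f hfst.symm hres)
  have : IsIso ((pullback.snd f g).residueFieldMap (sq.isoPullback.hom x')) :=
    (ConcreteCategory.isIso_iff_bijective _).mpr hb
  rw [Scheme.Hom.residueFieldMap_congr e2.symm x', Scheme.residueFieldMap_comp]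
  have h3 : IsIso (sq.isoPullback.hom.residueFieldMap x') := inferInstance
  exact (ConcreteCategory.isIso_iff_bijective _).mp
    (IsIso.comp_isIso' inferInstance (IsIso.comp_isIso' this h3))

theorem subsingleton_spec_stalk_of_mem_genericPoints {Y : Scheme.{u}} {y : Y}
    (hy : y ∈ genericPoints Y) : Subsingleton ↥(Spec (Y.presheaf.stalk y)) := by
  rw [mem_genericPoints_iff] at hy
  have hinj : Function.Injective (Y.fromSpecStalk y) := (Y.fromSpecStalk y).isEmbedding.injective
  have key : ∀ a : ↥(Spec (Y.presheaf.stalk y)), Y.fromSpecStalk y a = y := fun a => by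
    have ha : Y.fromSpecStalk y a ∈ Set.range (Y.fromSpecStalk y) := ⟨a, rfl⟩
    rw [Scheme.range_fromSpecStalk] at ha
    exact hy _ ha
  exact ⟨fun a b => hinj ((key a).trans (key b).symm)⟩

theorem isNilpotent_of_mem_maximalIdeal_stalk {Y : Scheme.{u}} {y : Y} (hy : y ∈ genericPoints Y)
    (a : Y.presheaf.stalk y) (ha : a ∈ IsLocalRing.maximalIdeal (Y.presheaf.stalk y)) :
    IsNilpotent a := by
  have hsub := subsingleton_spec_stalk_of_mem_genericPoints hy
  rw [nilpotent_iff_mem_prime]
  intro J hJ
  have h1 : (⟨J, hJ⟩ : PrimeSpectrum (Y.presheaf.stalk y)) =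
      IsLocalRing.closedPoint (Y.presheaf.stalk y) := hsub.elim _ _
  have hJ' : J = IsLocalRing.maximalIdeal (Y.presheaf.stalk y) :=
    congrArg PrimeSpectrum.asIdeal h1
  rw [hJ']; exact ha

/-- A morphism from the spectrum of a reduced local ring sending the closed point to a maximal
point factors through the residue field of that point. -/
theorem exists_factor_residueField {Y : Scheme.{u}} (R : CommRingCat.{u}) [IsLocalRing R]
    [IsReduced R] (φ : Spec R ⟶ Y) (hy : φ (IsLocalRing.closedPoint R) ∈ genericPoints Y) :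
    ∃ (y : Y) (ψ : Y.residueField y ⟶ R), y ∈ genericPoints Y ∧
      φ = Spec.map ψ ≫ Y.fromSpecResidueField y := by
  have hker : ∀ a ∈ IsLocalRing.maximalIdeal (Y.presheaf.stalk (φ (IsLocalRing.closedPoint R))),
      (Scheme.stalkClosedPointTo φ).hom a = 0 := fun a ha =>
    ((isNilpotent_of_mem_maximalIdeal_stalk hy a ha).map _).eq_zero
  obtain ⟨ψ, hψ⟩ : ∃ ψ : Y.residueField (φ (IsLocalRing.closedPoint R)) ⟶ R,
      Y.residue _ ≫ ψ = Scheme.stalkClosedPointTo φ :=
    ⟨CommRingCat.ofHom (Ideal.Quotient.lift _ (Scheme.stalkClosedPointTo φ).hom hker),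
      CommRingCat.hom_ext <| RingHom.ext fun _ => rfl⟩
  refine ⟨_, ψ, hy, ?_⟩
  rw [Scheme.fromSpecResidueField, ← Category.assoc, ← Spec.map_comp, hψ,
    Scheme.Spec_stalkClosedPointTo_fromSpecStalk]

/-- Key lifting lemma: if `f` is birational (pointwise sense), any morphism from the spectrum of
a reduced local ring to `Y'` whose closed point lies over a maximal point of `Y` lifts to `X'`. -/
theorem exists_lift_of_isLocalRing_of_isReduced (sq : IsPullback g' f' f g)
    (hf : RadPt.IsBirational f) (R : CommRingCat.{u}) [IsLocalRing R] [IsReduced R]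
    (t : Spec R ⟶ Y') (ht : g (t (IsLocalRing.closedPoint R)) ∈ genericPoints Y) :
    ∃ h' : Spec R ⟶ X', h' ≫ f' = t := by
  obtain ⟨y, ψ, hy, hφ⟩ := exists_factor_residueField R (t ≫ g) ht
  obtain ⟨x, hx, rfl⟩ := hf.1.surjOn hy
  have hres := (hf.2 (f x) hy).2 x rfl
  have : IsIso (f.residueFieldMap x) := (ConcreteCategory.isIso_iff_bijective _).mpr hres
  obtain ⟨h, hh⟩ : ∃ h : Spec R ⟶ X, h ≫ f = t ≫ g := by
    refine ⟨Spec.map ψ ≫ Spec.map (inv (f.residueFieldMap x)) ≫ X.fromSpecResidueField x, ?_⟩
    have hinv : Spec.map (inv (f.residueFieldMap x)) ≫ Spec.map (f.residueFieldMap x) = 𝟙 _ := by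
      rw [← Spec.map_comp, IsIso.hom_inv_id, Spec.map_id]
    rw [hφ, Category.assoc, Category.assoc,
      ← Scheme.Hom.SpecMap_residueFieldMap_fromSpecResidueField, reassoc_of% hinv]
  exact ⟨sq.lift h t hh, sq.lift_snd _ _ _⟩

/-- For a point `p` of the spectrum of a local ring `A`, the quotient `A ⧸ p` is a reduced local
ring whose spectrum maps to `Spec A` hitting `p` and sending closed point to closed point. -/
theorem exists_local_reduced_quotient (A : CommRingCat.{u}) [IsLocalRing A] (p : ↥(Spec A)) :
    ∃ (R : CommRingCat.{u}) (_ : IsLocalRing R) (_ : IsReduced R) (π : A ⟶ R) (q : ↥(Spec R)),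
      Spec.map π q = p ∧ Spec.map π (IsLocalRing.closedPoint R) = IsLocalRing.closedPoint A := by
  have hpprime : (PrimeSpectrum.asIdeal p).IsPrime := p.2
  have hloc : IsLocalRing (A ⧸ PrimeSpectrum.asIdeal p) :=
    .of_surjective' (Ideal.Quotient.mk _) Ideal.Quotient.mk_surjective
  refine ⟨CommRingCat.of (A ⧸ PrimeSpectrum.asIdeal p), hloc, inferInstance,
    CommRingCat.ofHom (Ideal.Quotient.mk _), ⟨⊥, Ideal.isPrime_bot⟩, ?_, ?_⟩
  · apply PrimeSpectrum.ext
    change Ideal.comap (Ideal.Quotient.mk (PrimeSpectrum.asIdeal p)) ⊥ = _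
    rw [← RingHom.ker_eq_comap_bot, Ideal.mk_ker]
  · apply PrimeSpectrum.ext
    change Ideal.comap (Ideal.Quotient.mk (PrimeSpectrum.asIdeal p))
      (IsLocalRing.maximalIdeal _) = IsLocalRing.maximalIdeal _
    have : (Ideal.comap (Ideal.Quotient.mk (PrimeSpectrum.asIdeal p))
        (IsLocalRing.maximalIdeal _)).IsMaximal :=
      Ideal.comap_isMaximal_of_surjective _ Ideal.Quotient.mk_surjective
    exact IsLocalRing.eq_maximalIdeal this

/-- Over maximal points of `Y`, the base change `f'` of a birational `f` lifts generalizations. -/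
theorem exists_specializes_of_specializes (sq : IsPullback g' f' f g)
    (hf : RadPt.IsBirational f) (x' : X') (hx' : g (f' x') ∈ genericPoints Y) {z' : Y'}
    (hz : z' ⤳ f' x') : ∃ w' : X', w' ⤳ x' ∧ f' w' = z' := by
  obtain ⟨p, hp⟩ : z' ∈ Set.range (Y'.fromSpecStalk (f' x')) := by
    rw [Scheme.range_fromSpecStalk]; exact hz
  obtain ⟨R, hloc, hred, π, q, hq, hc⟩ := exists_local_reduced_quotient _ p
  obtain ⟨t, ht⟩ : ∃ t : Spec R ⟶ Y', t = Spec.map π ≫ Y'.fromSpecStalk (f' x') := ⟨_, rfl⟩
  have htc : t (IsLocalRing.closedPoint R) = f' x' := by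
    rw [ht, Scheme.Hom.comp_apply, hc, Scheme.fromSpecStalk_closedPoint]
  have htq : t q = z' := by
    rw [ht, Scheme.Hom.comp_apply, hq, hp]
  obtain ⟨h', hh'⟩ := exists_lift_of_isLocalRing_of_isReduced sq hf R t (by rw [htc]; exact hx')
  have hw : ∀ w : X', f (g' w) = g (f' w) := fun w => by
    rw [← Scheme.Hom.comp_apply, ← Scheme.Hom.comp_apply, sq.w]
  have hf'h' : ∀ r : ↥(Spec R), f' (h' r) = t r := fun r => by
    rw [← Scheme.Hom.comp_apply, hh']
  have hcx : h' (IsLocalRing.closedPoint R) = x' := by
    have h2 : f' (h' (IsLocalRing.closedPoint R)) = f' x' := by rw [hf'h', htc]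
    have h1 : g' (h' (IsLocalRing.closedPoint R)) = g' x' := by
      apply (hf.2 _ hx').1
      · rw [hw, h2]
      · rw [hw]
    refine eq_of_isPullback sq _ _ h1 h2 ((hf.2 _ hx').2 _ ?_)
    rw [hw]
  refine ⟨h' q, ?_, ?_⟩
  · rw [← hcx]
    exact (IsLocalRing.specializes_closedPoint q).map h'.continuous
  · rw [hf'h', htq]

/-- Birationality (in the pointwise sense of `RadPt.IsBirational`) is stable under flat base
change. -/
theorem isBirational_baseChange_of_flat [Flat g] (sq : IsPullback g' f' f g)
    (hf : RadPt.IsBirational f) : RadPt.IsBirational f' := by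
  have hflat' : Flat g' := MorphismProperty.of_isPullback (P := @Flat) sq.flip inferInstance
  have hgen : ∀ {y' : Y'}, y' ∈ genericPoints Y' → g y' ∈ genericPoints Y := fun h =>
    mem_genericPoints_of_generalizingMap (Flat.generalizingMap g) h
  have hgen' : ∀ {x' : X'}, x' ∈ genericPoints X' → g' x' ∈ genericPoints X := fun h =>
    mem_genericPoints_of_generalizingMap (Flat.generalizingMap g') h
  have hw : ∀ w : X', f (g' w) = g (f' w) := fun w => by
    rw [← Scheme.Hom.comp_apply, ← Scheme.Hom.comp_apply, sq.w]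
  have hB : ∀ y' : Y', g y' ∈ genericPoints Y →
      (∀ x₁ x₂ : X', f' x₁ = y' → f' x₂ = y' → x₁ = x₂) ∧
      ∀ x' : X', f' x' = y' → Function.Bijective (f'.residueFieldMap x').hom := by
    intro y' hy
    refine ⟨fun x₁ x₂ h1 h2 => ?_, fun x' hx' => ?_⟩
    · have e1 : f (g' x₁) = g y' := by rw [hw, h1]
      have e2 : f (g' x₂) = g y' := by rw [hw, h2]
      exact eq_of_isPullback sq _ _ ((hf.2 _ hy).1 _ _ e1 e2) (h1.trans h2.symm)
        ((hf.2 _ hy).2 _ e2)
    · have e1 : f (g' x') = g y' := by rw [hw, hx']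
      exact bijective_residueFieldMap_of_isPullback sq x' ((hf.2 _ hy).2 _ e1)
  have hmaps : Set.MapsTo f' (genericPoints X') (genericPoints Y') := by
    intro x' hx'
    have hgy : g (f' x') ∈ genericPoints Y := by
      rw [← hw]; exact hf.1.mapsTo (hgen' hx')
    rw [mem_genericPoints_iff]
    intro z' hz
    obtain ⟨w', hw', rfl⟩ := exists_specializes_of_specializes sq hf x' hgy hz
    rw [(mem_genericPoints_iff x').mp hx' w' hw']
  refine ⟨⟨hmaps, ?_, ?_⟩, fun y' hy' => hB y' (hgen hy')⟩
  · intro x₁ h1 x₂ h2 h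
    exact (hB (f' x₂) (hgen (hmaps h2))).1 _ _ h rfl
  · intro y' hy'
    obtain ⟨x, hx, hxy⟩ := hf.1.surjOn (hgen hy')
    obtain ⟨x', hx'1, hx'2⟩ := Scheme.exists_preimage_of_isPullback sq x y' hxy
    refine ⟨x', ?_, hx'2⟩
    rw [mem_genericPoints_iff]
    intro w' hw'
    have h1 : f' w' ⤳ f' x' := hw'.map f'.continuous
    rw [hx'2] at h1
    have h2 : f' w' = y' := (mem_genericPoints_iff y').mp hy' _ h1
    exact (hB y' (hgen hy')).1 _ _ h2 hx'2

end Square

end Groth.Agent.Lib.Helper22.Birational
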