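import Mathlib
import Groth.Prelude.Def_MoreMor
import Groth.Agent.Lib.Helper7.FibreIntegral
import Groth.Agent.Lib.Helper22.WeightingLifts
import Groth.Agent.Lib.Helper22.WeightingPieces
import Groth.Agent.Lib.Helper22.WeightingSepNbhd
import Groth.Agent.Lib.Helper22.WeightingCore

/-!
# Abstract peeling induction for fibre integrals over pieces (helper22)
-/

set_option autoImplicit false
set_option linter.style.haveILetI false
universe u
open AlgebraicGeometry CategoryTheory Limits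

namespace Groth.Agent.Lib.Helper22.Weighting

open Groth.Agent.Lib.Helper7

variable {X Y : Scheme.{u}} {f : X ⟶ Y} {V U : Scheme.{u}} {γ : V ⟶ Y} {a : U ⟶ X} {π : U ⟶ V}

/-- An open subscheme of a piece which is finite over the base is a piece. -/
theorem IsPiece.of_openImmersion (hp : IsPiece f γ a π) {U' : Scheme.{u}} (i : U' ⟶ U)
    [IsOpenImmersion i] {a' : U' ⟶ X} {π' : U' ⟶ V} (ha : i ≫ a = a') (hπ : i ≫ π = π')
    [IsFinite π'] : IsPiece f γ a' π' := by
  have := hp.isOpenImmersion_lift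
  refine IsPiece.of_isPullback (IsPullback.of_hasPullback f γ) (i ≫ pullback.lift a π hp.comm) ?_ ?_
  · rw [Category.assoc, pullback.lift_fst, ha]
  · rw [Category.assoc, pullback.lift_snd, hπ]

/-- **Abstract peeling**: if fibre integrals of `I` over pieces are constant near points of
geometric degree one, they are locally constant. -/
theorem exists_open_fibreIntegral_eq_of_deg_one {I : X → ℤ}
    (H : ∀ {V U : Scheme.{u}} {γ : V ⟶ Y} {a : U ⟶ X} {π : U ⟶ V}, IsPiece f γ a π → ∀ v : V,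
      deg π v = 1 → ∃ N : Set V, IsOpen N ∧ v ∈ N ∧ ∀ v' ∈ N,
        MoreMor.fibreIntegral π (fun u => I (a u)) v' =
          MoreMor.fibreIntegral π (fun u => I (a u)) v) :
    ∀ (n : ℕ) {V U : Scheme.{u}} {γ : V ⟶ Y} {a : U ⟶ X} {π : U ⟶ V} (_ : IsPiece f γ a π) (v : V),
      deg π v = n → ∃ N : Set V, IsOpen N ∧ v ∈ N ∧ ∀ v' ∈ N,
        MoreMor.fibreIntegral π (fun u => I (a u)) v' =
          MoreMor.fibreIntegral π (fun u => I (a u)) v := by
  intro n
  induction n using Nat.strong_induction_on with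
  | _ n ih =>
    intro V U γ a π hp v hn
    have := hp.isFinite
    rcases Nat.eq_zero_or_pos n with rfl | hnpos
    · have hempty : ∀ u, π u ≠ v := by
        intro u hu
        have h1 : (1 : ℤ) ≤ deg π (π u) :=
          le_fibreIntegral_of_pos π (fun _ => 1) (fun _ => one_pos) u
        rw [hu, hn] at h1
        simp at h1
      refine ⟨(Set.range π)ᶜ, ?_, ?_, ?_⟩
      · exact (π.isClosedMap.isClosed_range).isOpen_compl
      · rintro ⟨u, hu⟩; exact hempty u hu
      · intro v' hv'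
        rw [fibreIntegral_eq_zero_of_isEmpty π _ v' (fun u hu => hv' ⟨u, hu⟩),
          fibreIntegral_eq_zero_of_isEmpty π _ v hempty]
    · obtain ⟨u₀, hu₀⟩ : ∃ u, π u = v :=
        exists_of_fibreIntegral_ne_zero π (fun _ => 1) v (by
          change deg π v ≠ 0
          rw [hn]
          exact_mod_cast hnpos.ne')
      obtain ⟨V₂, γ₂, _, U₂, a₂, π₂, hp₂, u₂, hu₂, hdeg₂⟩ := exists_etale_piece_deg_eq_one π u₀
      have := hp₂.isFinite
      have := hp₂.isOpenImmersion_lift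
      -- the two pieces over `V₂`
      have h₁ : IsPiece f (γ₂ ≫ γ) (pullback.fst π γ₂ ≫ a) (pullback.snd π γ₂) := hp.baseChange γ₂
      have h₂ : IsPiece f (γ₂ ≫ γ) (a₂ ≫ a) π₂ :=
        h₁.of_openImmersion (pullback.lift a₂ π₂ hp₂.comm)
          (by rw [← Category.assoc, pullback.lift_fst]) (pullback.lift_snd _ _ _)
      obtain ⟨R, aR, πR, hR, hsum⟩ := h₁.exists_compl h₂ (pullback.lift a₂ π₂ hp₂.comm)
        (by rw [← Category.assoc, pullback.lift_fst]) (pullback.lift_snd _ _ _)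
      have hI₁ : ∀ (w' : X → ℤ) (z : V₂),
          MoreMor.fibreIntegral (pullback.snd π γ₂) (fun u => w' ((pullback.fst π γ₂ ≫ a) u)) z =
            MoreMor.fibreIntegral π (fun u => w' (a u)) (γ₂ z) :=
        fun w' z => fibreIntegral_pullback_snd π γ₂ (fun u => w' (a u)) z
      have hγv : γ₂ (π₂ u₂) = v := by
        rw [← Scheme.Hom.comp_apply, ← hp₂.comm, Scheme.Hom.comp_apply, hu₂, hu₀]
      have hdegR : deg πR (π₂ u₂) = ((n - 1 : ℕ) : ℤ) := by
        have h := hsum (fun _ => 1) (π₂ u₂)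
        change deg (pullback.snd π γ₂) (π₂ u₂) = deg π₂ (π₂ u₂) + deg πR (π₂ u₂) at h
        rw [deg_pullback_snd, hγv, hn, hdeg₂] at h
        have : ((n - 1 : ℕ) : ℤ) = (n : ℤ) - 1 := by
          rw [Nat.cast_sub hnpos]; simp
        rw [this]
        linarith
      obtain ⟨NR, hNRo, hvNR, hNR⟩ := ih (n - 1) (by omega) hR (π₂ u₂) hdegR
      obtain ⟨N₂, hN₂o, hvN₂, hN₂⟩ := H h₂ (π₂ u₂) hdeg₂
      refine ⟨γ₂ '' (N₂ ∩ NR), γ₂.isOpenMap _ (hN₂o.inter hNRo), ⟨π₂ u₂, ⟨hvN₂, hvNR⟩, hγv⟩, ?_⟩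
      rintro _ ⟨z, ⟨hz₂, hzR⟩, rfl⟩
      rw [← hI₁ I, hsum I z, hN₂ z hz₂, hNR z hzR, ← hγv, ← hI₁ I, hsum I (π₂ u₂)]

/-- Local constancy version of the abstract peeling lemma. -/
theorem isLocallyConstant_of_deg_one {I : X → ℤ}
    (H : ∀ {V U : Scheme.{u}} {γ : V ⟶ Y} {a : U ⟶ X} {π : U ⟶ V}, IsPiece f γ a π → ∀ v : V,
      deg π v = 1 → ∃ N : Set V, IsOpen N ∧ v ∈ N ∧ ∀ v' ∈ N,
        MoreMor.fibreIntegral π (fun u => I (a u)) v' =
          MoreMor.fibreIntegral π (fun u => I (a u)) v)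
    (hp : IsPiece f γ a π) : IsLocallyConstant (MoreMor.fibreIntegral π (fun u => I (a u))) := by
  rw [IsLocallyConstant.iff_exists_open]
  intro v
  have := hp.isFinite
  obtain ⟨n, hn⟩ : ∃ n : ℕ, deg π v = n :=
    ⟨(deg π v).toNat, (Int.toNat_of_nonneg (deg_nonneg π v)).symm⟩
  exact exists_open_fibreIntegral_eq_of_deg_one H n hp v hn

end Groth.Agent.Lib.Helper22.Weighting
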