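import Mathlib
import Groth.Prelude.Def_MoreMor
import Groth.Agent.Lib.Helper7.FibreIntegral
import Groth.Agent.Lib.Helper22.WeightingLifts
import Groth.Agent.Lib.Helper22.WeightingPieces
import Groth.Agent.Lib.Helper22.WeightingSepNbhd
import Groth.Agent.Lib.Helper22.WeightingCore

/-!
# Lower semicontinuity of fibre integrals of positive weightings (helper22)
-/

set_option autoImplicit false
set_option linter.style.haveILetI false
universe u
open AlgebraicGeometry CategoryTheory Limits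

namespace Groth.Agent.Lib.Helper22.Weighting

open Groth.Agent.Lib.Helper7

section general

variable {U V : Scheme.{u}}

theorem fibreIntegral_nonneg (π : U ⟶ V) (w : U → ℤ) (hw : ∀ u, 0 ≤ w u) (v : V) :
    0 ≤ MoreMor.fibreIntegral π w v := by
  rw [MoreMor.fibreIntegral]
  exact finsum_nonneg fun u => mul_nonneg (hw _) (Int.natCast_nonneg _)

/-- The geometric degree, for locally quasi-finite morphisms with a finite fibre. -/
theorem deg_eq_natCard' (π : U ⟶ V) [LocallyQuasiFinite π] (Ω : Type u) [Field Ω] [IsAlgClosed Ω]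
    (vb : Spec (CommRingCat.of Ω) ⟶ V)
    (hfin : (π ⁻¹' {vb (IsLocalRing.closedPoint Ω)}).Finite) :
    deg π (vb (IsLocalRing.closedPoint Ω)) = (Nat.card (GeomLifts π Ω vb) : ℤ) := by
  obtain ⟨hF, h⟩ := fibreIntegral_eq_finsum_geomLifts π Ω vb (fun _ => 1) hfin
  rw [deg, h]
  letI := Fintype.ofFinite (GeomLifts π Ω vb)
  rw [finsum_eq_sum_of_fintype, Nat.card_eq_fintype_card]
  simp

theorem deg_nonneg' (π : U ⟶ V) (v : V) : 0 ≤ deg π v :=
  fibreIntegral_nonneg π _ (fun _ => zero_le_one) v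

/-- A point in a finite fibre contributes at least one to the geometric degree. -/
theorem one_le_deg (π : U ⟶ V) [LocallyQuasiFinite π] (u : U) (hfin : (π ⁻¹' {π u}).Finite) :
    1 ≤ deg π (π u) := by
  obtain ⟨Ω, _, _, vb, hvb⟩ := exists_geomPoint (π u)
  obtain ⟨ū, -⟩ : ∃ ū : GeomLifts π Ω vb, ū.pt = u := by
    obtain ⟨v, φ, hφ, hv⟩ := exists_eq_specMap_fromSpecResidueField Ω vb
    subst hφ
    rw [hv] at hvb
    exact exists_geomLifts_pt_eq π Ω v φ u hvb.symm
  rw [← hvb] at hfin ⊢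
  obtain ⟨hF, -⟩ := fibreIntegral_eq_finsum_geomLifts π Ω vb (fun _ => 1) hfin
  rw [deg_eq_natCard' π Ω vb hfin]
  have : 0 < Nat.card (GeomLifts π Ω vb) := Nat.card_pos_iff.mpr ⟨⟨ū⟩, hF⟩
  exact_mod_cast this

/-- Additivity of fibre integrals over a decomposition into two complementary opens, for locally
quasi-finite morphisms with finite fibre. -/
theorem fibreIntegral_split' {U₂ U₁ R : Scheme.{u}} (i : U₂ ⟶ U₁) [IsOpenImmersion i]
    (r : R ⟶ U₁) [IsOpenImmersion r] (hcompl : Set.range r = (Set.range i)ᶜ)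
    (π₁ : U₁ ⟶ V) [LocallyQuasiFinite π₁] (w₁ : U₁ → ℤ) (v : V) (hfin : (π₁ ⁻¹' {v}).Finite) :
    MoreMor.fibreIntegral π₁ w₁ v =
      MoreMor.fibreIntegral (i ≫ π₁) (w₁ ∘ i) v + MoreMor.fibreIntegral (r ≫ π₁) (w₁ ∘ r) v := by
  classical
  obtain ⟨Ω, _, _, vb, rfl⟩ := exists_geomPoint v
  have hfin₂ : ((i ≫ π₁) ⁻¹' {vb (IsLocalRing.closedPoint Ω)}).Finite := by
    have : (i ≫ π₁) ⁻¹' {vb (IsLocalRing.closedPoint Ω)} =
        i ⁻¹' (π₁ ⁻¹' {vb (IsLocalRing.closedPoint Ω)}) := rfl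
    rw [this]
    exact hfin.preimage (i.isOpenEmbedding.injective.injOn)
  have hfin₃ : ((r ≫ π₁) ⁻¹' {vb (IsLocalRing.closedPoint Ω)}).Finite := by
    have : (r ≫ π₁) ⁻¹' {vb (IsLocalRing.closedPoint Ω)} =
        r ⁻¹' (π₁ ⁻¹' {vb (IsLocalRing.closedPoint Ω)}) := rfl
    rw [this]
    exact hfin.preimage (r.isOpenEmbedding.injective.injOn)
  obtain ⟨hF₁, h₁⟩ := fibreIntegral_eq_finsum_geomLifts π₁ Ω vb w₁ hfin
  obtain ⟨hF₂, h₂⟩ := fibreIntegral_eq_finsum_geomLifts (i ≫ π₁) Ω vb (w₁ ∘ i) hfin₂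
  obtain ⟨hF₃, h₃⟩ := fibreIntegral_eq_finsum_geomLifts (r ≫ π₁) Ω vb (w₁ ∘ r) hfin₃
  rw [h₁, h₂, h₃]
  have e₂ := finsum_geomLifts_open i π₁ Ω vb w₁
  have e₃ := finsum_geomLifts_open r π₁ Ω vb w₁
  simp only [Function.comp_apply]
  rw [e₂, e₃]
  letI := Fintype.ofFinite (GeomLifts π₁ Ω vb)
  have e₄ : ∑ᶠ ū : {ū : GeomLifts π₁ Ω vb // ū.pt ∈ Set.range r}, w₁ ū.1.pt =
      ∑ᶠ ū : {ū : GeomLifts π₁ Ω vb // ¬ ū.pt ∈ Set.range i}, w₁ ū.1.pt := by
    rw [hcompl]; rfl
  rw [e₄, finsum_eq_sum_of_fintype, finsum_eq_sum_of_fintype, finsum_eq_sum_of_fintype]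
  exact (Fintype.sum_subtype_add_sum_subtype (fun ū : GeomLifts π₁ Ω vb => ū.pt ∈ Set.range i)
    (fun ū => w₁ ū.pt)).symm

/-- Finiteness of fibres is stable under base change (for locally quasi-finite morphisms). -/
theorem finite_fiber_of_isPullback (π : U ⟶ V) [LocallyQuasiFinite π]
    (hfin : ∀ v : V, (π ⁻¹' {v}).Finite) {U' V' : Scheme.{u}} {π' : U' ⟶ V'} {h : U' ⟶ U}
    {g : V' ⟶ V} (hc : IsPullback h π' π g) (v' : V') : (π' ⁻¹' {v'}).Finite := by
  have : LocallyQuasiFinite π' := MorphismProperty.of_isPullback (P := @LocallyQuasiFinite) hc ‹_›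
  let Ω := AlgebraicClosure (V'.residueField v')
  let φ' : V'.residueField v' ⟶ CommRingCat.of Ω :=
    CommRingCat.ofHom (algebraMap (V'.residueField v') (AlgebraicClosure (V'.residueField v')))
  let φ : V.residueField (g v') ⟶ CommRingCat.of Ω := g.residueFieldMap v' ≫ φ'
  have hvb : (Spec.map φ' ≫ V'.fromSpecResidueField v') ≫ g =
      Spec.map φ ≫ V.fromSpecResidueField (g v') := by
    rw [Category.assoc, ← Scheme.Hom.SpecMap_residueFieldMap_fromSpecResidueField,
      ← Spec.map_comp_assoc]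
  let E := geomLiftsEquivOfIsPullback π hc Ω _ _ hvb
  obtain ⟨hF, -⟩ := fibreIntegral_eq_sum_geomLifts π Ω (fun _ => 0) (g v') φ (hfin _)
  have hF' : Finite (GeomLifts π' Ω (Spec.map φ' ≫ V'.fromSpecResidueField v')) :=
    Finite.of_equiv _ E.symm
  refine (Set.finite_range
    (fun ū : GeomLifts π' Ω (Spec.map φ' ≫ V'.fromSpecResidueField v') => ū.pt)).subset ?_
  intro u' hu'
  obtain ⟨ū, hū⟩ := exists_geomLifts_pt_eq π' Ω v' φ' u' hu'
  exact ⟨ū, hū⟩

end general

section restrict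

variable {X Y : Scheme.{u}} {f : X ⟶ Y}

/-- A weighting restricts to open subschemes of the source. -/
theorem isWeighting_comp_openImmersion {w : X → ℤ} (hw : MoreMor.IsWeighting f w)
    {X₀ : Scheme.{u}} (j : X₀ ⟶ X) [IsOpenImmersion j] :
    MoreMor.IsWeighting (j ≫ f) (w ∘ ⇑j) := by
  intro V γ _ O hO
  have hp : IsPiece f γ ((O.ι ≫ pullback.fst (j ≫ f) γ) ≫ j) (O.ι ≫ pullback.snd (j ≫ f) γ) :=
    (IsPiece.of_opens O hO).of_comp_openImmersion j
  exact isLocallyConstant_of_isPiece hw hp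

end restrict

/-- **Lower semicontinuity of fibre integrals**: for `f` separated, locally quasi-finite with finite
fibres and a nonnegative weighting `w`, every point has a neighbourhood on which the fibre integral
is at least its value at the point. (Induction on the geometric number of points of the fibre.) -/
theorem exists_open_fibreIntegral_le :
    ∀ (n : ℕ) {X Y : Scheme.{u}} (f : X ⟶ Y) [LocallyQuasiFinite f] [LocallyOfFiniteType f]
      [IsSeparated f] (_ : ∀ y : Y, (f ⁻¹' {y}).Finite) (w : X → ℤ) (_ : MoreMor.IsWeighting f w)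
      (_ : ∀ x, 0 ≤ w x) (y : Y), deg f y = n →
        ∃ N : Set Y, IsOpen N ∧ y ∈ N ∧ ∀ y' ∈ N,
          MoreMor.fibreIntegral f w y ≤ MoreMor.fibreIntegral f w y' := by
  intro n
  induction n using Nat.strong_induction_on with
  | _ n ih =>
    intro X Y f _ _ _ hfin w hw hpos y hn
    rcases Nat.eq_zero_or_pos n with rfl | hnpos
    · have hempty : ∀ x, f x ≠ y := by
        intro x hx
        have h1 := one_le_deg f x (hfin _)
        rw [hx, hn] at h1
        simp at h1
      refine ⟨Set.univ, isOpen_univ, trivial, fun y' _ => ?_⟩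
      rw [fibreIntegral_eq_zero_of_isEmpty f w y hempty]
      exact fibreIntegral_nonneg f w hpos y'
    · obtain ⟨x, hx⟩ : ∃ x, f x = y :=
        exists_of_fibreIntegral_ne_zero f (fun _ => 1) y (by
          change deg f y ≠ 0
          rw [hn]
          exact_mod_cast hnpos.ne')
      obtain ⟨V, γ, _, U, a, π, hp, u, hau, hdeg⟩ := exists_etale_piece_deg_eq_one f x
      have := hp.isFinite
      have := hp.isOpenImmersion_lift
      obtain ⟨fV, hfV⟩ : ∃ fV : pullback f γ ⟶ V, fV = pullback.snd f γ := ⟨_, rfl⟩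
      obtain ⟨j, hj⟩ : ∃ j : U ⟶ pullback f γ, j = pullback.lift a π hp.comm := ⟨_, rfl⟩
      have : IsOpenImmersion j := by rw [hj]; infer_instance
      have : LocallyQuasiFinite fV := by rw [hfV]; infer_instance
      have : LocallyOfFiniteType fV := by rw [hfV]; infer_instance
      have : IsSeparated fV := by rw [hfV]; infer_instance
      have hj₁ : j ≫ pullback.fst f γ = a := by rw [hj]; exact pullback.lift_fst _ _ _
      have hj₂ : j ≫ fV = π := by rw [hj, hfV]; exact pullback.lift_snd _ _ _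
      have hpb : IsPullback (pullback.fst f γ) fV f γ := by
        rw [hfV]; exact IsPullback.of_hasPullback f γ
      have hjfin : IsFinite j := by
        have : IsFinite (j ≫ fV) := by rw [hj₂]; infer_instance
        exact IsFinite.of_comp j fV
      have hcl : IsClosed (Set.range j) := j.isClosedMap.isClosed_range
      let R : (pullback f γ).Opens := ⟨(Set.range j)ᶜ, hcl.isOpen_compl⟩
      have hR : Set.range R.ι = (Set.range j)ᶜ := Scheme.Opens.range_ι R
      have hwV : MoreMor.IsWeighting fV (w ∘ ⇑(pullback.fst f γ)) := isWeighting_baseChange hw hpb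
      have hwR : MoreMor.IsWeighting (R.ι ≫ fV) ((w ∘ ⇑(pullback.fst f γ)) ∘ ⇑R.ι) :=
        isWeighting_comp_openImmersion hwV R.ι
      have hfinV : ∀ v, (fV ⁻¹' {v}).Finite := finite_fiber_of_isPullback f hfin hpb
      have hfinR : ∀ v, ((R.ι ≫ fV) ⁻¹' {v}).Finite := fun v => by
        have : (R.ι ≫ fV) ⁻¹' {v} = R.ι ⁻¹' (fV ⁻¹' {v}) := rfl
        rw [this]
        exact (hfinV v).preimage R.ι.isOpenEmbedding.injective.injOn
      have hsplit : ∀ (w' : ↥(pullback f γ) → ℤ) (v : V), MoreMor.fibreIntegral fV w' v =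
          MoreMor.fibreIntegral (j ≫ fV) (w' ∘ j) v +
            MoreMor.fibreIntegral (R.ι ≫ fV) (w' ∘ R.ι) v :=
        fun w' v => fibreIntegral_split' j R.ι hR fV w' v (hfinV v)
      have hbc : ∀ (w' : X → ℤ) (v : V),
          MoreMor.fibreIntegral fV (w' ∘ ⇑(pullback.fst f γ)) v =
            MoreMor.fibreIntegral f w' (γ v) :=
        fun w' v => fibreIntegral_baseChange f hfin fV (pullback.fst f γ) γ hpb w' v
      have hπint : ∀ (w' : X → ℤ) (v : V),
          MoreMor.fibreIntegral (j ≫ fV) ((w' ∘ ⇑(pullback.fst f γ)) ∘ ⇑j) v =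
            MoreMor.fibreIntegral π (fun u => w' (a u)) v := by
        intro w' v
        have e : ((w' ∘ ⇑(pullback.fst f γ)) ∘ ⇑j) = fun u => w' (a u) := by
          funext u
          simp only [Function.comp_apply]
          rw [← Scheme.Hom.comp_apply, hj₁]
        rw [e, hj₂]
      have hγv : γ (π u) = y := by
        rw [← Scheme.Hom.comp_apply, ← hp.comm, Scheme.Hom.comp_apply, hau, hx]
      have hdegR : deg (R.ι ≫ fV) (π u) = ((n - 1 : ℕ) : ℤ) := by
        have h := hsplit (fun _ => 1) (π u)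
        have h1 : MoreMor.fibreIntegral fV (fun _ => 1) (π u) = (n : ℤ) := by
          have := hbc (fun _ => 1) (π u)
          rw [hγv] at this
          exact this.trans hn
        have h2 : MoreMor.fibreIntegral (j ≫ fV) ((fun _ => (1 : ℤ)) ∘ ⇑j) (π u) = 1 := by
          have := hπint (fun _ => 1) (π u)
          exact this.trans hdeg
        rw [h1, h2] at h
        have : ((n - 1 : ℕ) : ℤ) = (n : ℤ) - 1 := by
          rw [Nat.cast_sub hnpos]; simp
        rw [this]
        change (n : ℤ) = 1 + deg (R.ι ≫ fV) (π u) at h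
        linarith
      obtain ⟨NR, hNRo, hvNR, hNR⟩ := ih (n - 1) (by omega) (R.ι ≫ fV) hfinR _ hwR
        (fun x => hpos _) (π u) hdegR
      have hlc := isLocallyConstant_of_isPiece hw hp
      obtain ⟨N₂, hN₂o, hvN₂, hN₂⟩ := (IsLocallyConstant.iff_exists_open _).mp hlc (π u)
      refine ⟨γ '' (NR ∩ N₂), γ.isOpenMap _ (hNRo.inter hN₂o), ⟨π u, ⟨hvNR, hvN₂⟩, hγv⟩, ?_⟩
      rintro _ ⟨v', ⟨hv'R, hv'₂⟩, rfl⟩
      rw [← hγv, ← hbc w, ← hbc w, hsplit _ (π u), hsplit _ v', hπint, hπint, hN₂ v' hv'₂]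
      exact add_le_add_right (hNR v' hv'R) _

/-- Lower semicontinuity of the fibre integral of a nonnegative weighting. -/
theorem lowerSemicontinuous_fibreIntegral {X Y : Scheme.{u}} (f : X ⟶ Y) [LocallyQuasiFinite f]
    [LocallyOfFiniteType f] [IsSeparated f] (hfin : ∀ y : Y, (f ⁻¹' {y}).Finite) (w : X → ℤ)
    (hw : MoreMor.IsWeighting f w) (hpos : ∀ x, 0 ≤ w x) :
    LowerSemicontinuous (MoreMor.fibreIntegral f w) := by
  intro y c hc
  obtain ⟨n, hn⟩ : ∃ n : ℕ, deg f y = n :=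
    ⟨(deg f y).toNat, (Int.toNat_of_nonneg (deg_nonneg' f y)).symm⟩
  obtain ⟨N, hNo, hyN, hN⟩ := exists_open_fibreIntegral_le n f hfin w hw hpos y hn
  filter_upwards [hNo.mem_nhds hyN] with y' hy'
  exact lt_of_lt_of_le hc (hN y' hy')

end Groth.Agent.Lib.Helper22.Weighting
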