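import Mathlib
import Groth.Prelude.Def_MoreMor
import Groth.Agent.Lib.Helper7.FibreIntegral
import Groth.Agent.Lib.Helper22.WeightingLifts
import Groth.Agent.Lib.Helper22.WeightingPieces
import Groth.Agent.Lib.Helper22.WeightingSepNbhd
import Groth.Agent.Lib.Helper22.WeightingCore
import Groth.Agent.Lib.Helper22.WeightingPeel
import Groth.Agent.Lib.Helper22.WeightingSemicont

/-!
# Finiteness over the locus where the fibre integral of a positive weighting is maximal (helper22)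
-/

set_option autoImplicit false
set_option linter.style.haveILetI false
universe u
open AlgebraicGeometry CategoryTheory Limits

namespace Groth.Agent.Lib.Helper22.Weighting

open Groth.Agent.Lib.Helper7

section general

/-- A morphism which is finite on two complementary open subschemes is finite. -/
theorem isFinite_of_isCompl {Z T Z₁ Z₂ : Scheme.{u}} (g : Z ⟶ T) (i : Z₁ ⟶ Z) (r : Z₂ ⟶ Z)
    [IsOpenImmersion i] [IsOpenImmersion r] (hcompl : Set.range r = (Set.range i)ᶜ)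
    [IsFinite (i ≫ g)] [IsFinite (r ≫ g)] : IsFinite g := by
  have hc : IsCompl i.opensRange r.opensRange := by
    rw [isCompl_iff, disjoint_iff, codisjoint_iff]
    constructor
    · apply TopologicalSpace.Opens.ext
      change Set.range i ∩ Set.range r = ∅
      rw [hcompl]
      exact Set.inter_compl_self _
    · apply TopologicalSpace.Opens.ext
      change Set.range i ∪ Set.range r = Set.univ
      rw [hcompl]
      exact Set.union_compl_self _
  obtain ⟨hcol⟩ := nonempty_isColimit_binaryCofanMk_of_isCompl i r hc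
  let e : Z₁ ⨿ Z₂ ≅ Z := (colimit.isColimit (pair Z₁ Z₂)).coconePointUniqueUpToIso hcol
  have he₁ : coprod.inl ≫ e.hom = i :=
    (colimit.isColimit (pair Z₁ Z₂)).comp_coconePointUniqueUpToIso_hom hcol ⟨WalkingPair.left⟩
  have he₂ : coprod.inr ≫ e.hom = r :=
    (colimit.isColimit (pair Z₁ Z₂)).comp_coconePointUniqueUpToIso_hom hcol ⟨WalkingPair.right⟩
  have h1 : e.hom ≫ g = coprod.desc (i ≫ g) (r ≫ g) := by
    apply coprod.hom_ext
    · rw [← Category.assoc, he₁, coprod.inl_desc]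
    · rw [← Category.assoc, he₂, coprod.inr_desc]
  have h2 : IsFinite (e.hom ≫ g) := by rw [h1]; infer_instance
  have h3 : g = e.inv ≫ (e.hom ≫ g) := by rw [Iso.inv_hom_id_assoc]
  rw [h3]
  infer_instance

variable {U V : Scheme.{u}}

/-- For a nonnegative function, the value at a point is bounded by the fibre integral
(locally quasi-finite version). -/
theorem le_fibreIntegral_of_nonneg' (π : U ⟶ V) [LocallyQuasiFinite π] (w : U → ℤ)
    (hpos : ∀ u, 0 ≤ w u) (u : U) (hfin : (π ⁻¹' {π u}).Finite) :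
    w u ≤ MoreMor.fibreIntegral π w (π u) := by
  classical
  obtain ⟨Ω, _, _, vb, hvb⟩ := exists_geomPoint (π u)
  obtain ⟨ū, hpt⟩ : ∃ ū : GeomLifts π Ω vb, ū.pt = u := by
    obtain ⟨v, φ, hφ, hv⟩ := exists_eq_specMap_fromSpecResidueField Ω vb
    subst hφ
    rw [hv] at hvb
    exact exists_geomLifts_pt_eq π Ω v φ u hvb.symm
  rw [← hvb] at hfin ⊢
  obtain ⟨hF, hI⟩ := fibreIntegral_eq_finsum_geomLifts π Ω vb w hfin
  rw [hI]
  letI := Fintype.ofFinite (GeomLifts π Ω vb)
  rw [finsum_eq_sum_of_fintype, ← hpt]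
  exact Finset.single_le_sum (f := fun ū : GeomLifts π Ω vb => w ū.pt)
    (fun i _ => hpos _) (Finset.mem_univ ū)

end general

section union

variable {X Y : Scheme.{u}} {f : X ⟶ Y} {V : Scheme.{u}} {γ : V ⟶ Y}

/-- The union of two disjoint pieces over the same base is a piece; fibre integrals add up. -/
theorem IsPiece.exists_union {U₁ U₂ : Scheme.{u}} {a₁ : U₁ ⟶ X} {π₁ : U₁ ⟶ V} {a₂ : U₂ ⟶ X}
    {π₂ : U₂ ⟶ V} (h₁ : IsPiece f γ a₁ π₁) (h₂ : IsPiece f γ a₂ π₂)
    (hdisj : ∀ (u₁ : U₁) (u₂ : U₂),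
      pullback.lift a₁ π₁ h₁.comm u₁ ≠ pullback.lift a₂ π₂ h₂.comm u₂) :
    ∃ (U₃ : Scheme.{u}) (a₃ : U₃ ⟶ X) (π₃ : U₃ ⟶ V) (h₃ : IsPiece f γ a₃ π₃),
      (∀ z, z ∈ Set.range (pullback.lift a₃ π₃ h₃.comm) ↔
        z ∈ Set.range (pullback.lift a₁ π₁ h₁.comm) ∨
          z ∈ Set.range (pullback.lift a₂ π₂ h₂.comm)) ∧
      ∀ (w : X → ℤ) (v : V), MoreMor.fibreIntegral π₃ (fun u => w (a₃ u)) v =
        MoreMor.fibreIntegral π₁ (fun u => w (a₁ u)) v +
          MoreMor.fibreIntegral π₂ (fun u => w (a₂ u)) v := by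
  have := h₁.isOpenImmersion_lift
  have := h₂.isOpenImmersion_lift
  have := h₁.isFinite
  have := h₂.isFinite
  obtain ⟨j₁, hj₁⟩ : ∃ j : U₁ ⟶ pullback f γ, j = pullback.lift a₁ π₁ h₁.comm := ⟨_, rfl⟩
  obtain ⟨j₂, hj₂⟩ : ∃ j : U₂ ⟶ pullback f γ, j = pullback.lift a₂ π₂ h₂.comm := ⟨_, rfl⟩
  have : IsOpenImmersion j₁ := by rw [hj₁]; infer_instance
  have : IsOpenImmersion j₂ := by rw [hj₂]; infer_instance
  have hj₁f : j₁ ≫ pullback.fst f γ = a₁ := by rw [hj₁]; exact pullback.lift_fst _ _ _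
  have hj₁s : j₁ ≫ pullback.snd f γ = π₁ := by rw [hj₁]; exact pullback.lift_snd _ _ _
  have hj₂f : j₂ ≫ pullback.fst f γ = a₂ := by rw [hj₂]; exact pullback.lift_fst _ _ _
  have hj₂s : j₂ ≫ pullback.snd f γ = π₂ := by rw [hj₂]; exact pullback.lift_snd _ _ _
  rw [← hj₁, ← hj₂] at hdisj ⊢
  let O : (pullback f γ).Opens := j₁.opensRange ⊔ j₂.opensRange
  have hO : ∀ z, z ∈ O ↔ z ∈ Set.range j₁ ∨ z ∈ Set.range j₂ := fun z => Iff.rfl
  have hr₁ : Set.range j₁ ⊆ Set.range O.ι := by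
    rw [Scheme.Opens.range_ι]
    exact fun z hz => (hO z).mpr (Or.inl hz)
  have hr₂ : Set.range j₂ ⊆ Set.range O.ι := by
    rw [Scheme.Opens.range_ι]
    exact fun z hz => (hO z).mpr (Or.inr hz)
  let i : U₁ ⟶ O := IsOpenImmersion.lift O.ι j₁ hr₁
  let r : U₂ ⟶ O := IsOpenImmersion.lift O.ι j₂ hr₂
  have hi : i ≫ O.ι = j₁ := IsOpenImmersion.lift_fac _ _ _
  have hr : r ≫ O.ι = j₂ := IsOpenImmersion.lift_fac _ _ _
  have : IsOpenImmersion (i ≫ O.ι) := by rw [hi]; infer_instance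
  have : IsOpenImmersion (r ≫ O.ι) := by rw [hr]; infer_instance
  have : IsOpenImmersion i := IsOpenImmersion.of_comp i O.ι
  have : IsOpenImmersion r := IsOpenImmersion.of_comp r O.ι
  have hcompl : Set.range r = (Set.range i)ᶜ := by
    ext z
    constructor
    · rintro ⟨u₂, rfl⟩ ⟨u₁, h⟩
      apply hdisj u₁ u₂
      rw [← hi, ← hr, Scheme.Hom.comp_apply, Scheme.Hom.comp_apply, h]
    · intro hz
      rcases (hO (O.ι z)).mp z.2 with ⟨u₁, hu₁⟩ | ⟨u₂, hu₂⟩
      · exfalso
        apply hz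
        refine ⟨u₁, O.ι.isOpenEmbedding.injective ?_⟩
        rw [← Scheme.Hom.comp_apply, hi, hu₁]
      · refine ⟨u₂, O.ι.isOpenEmbedding.injective ?_⟩
        rw [← Scheme.Hom.comp_apply, hr, hu₂]
  have hig : i ≫ (O.ι ≫ pullback.snd f γ) = π₁ := by rw [← Category.assoc, hi, hj₁s]
  have hrg : r ≫ (O.ι ≫ pullback.snd f γ) = π₂ := by rw [← Category.assoc, hr, hj₂s]
  have : IsFinite (i ≫ (O.ι ≫ pullback.snd f γ)) := by rw [hig]; infer_instance
  have : IsFinite (r ≫ (O.ι ≫ pullback.snd f γ)) := by rw [hrg]; infer_instance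
  have hfin : IsFinite (O.ι ≫ pullback.snd f γ) := isFinite_of_isCompl _ i r hcompl
  have h₃ := IsPiece.of_opens O hfin
  refine ⟨O, O.ι ≫ pullback.fst f γ, O.ι ≫ pullback.snd f γ, h₃, ?_, ?_⟩
  · intro z
    have : pullback.lift (O.ι ≫ pullback.fst f γ) (O.ι ≫ pullback.snd f γ) h₃.comm = O.ι := by
      apply pullback.hom_ext
      · rw [pullback.lift_fst]
      · rw [pullback.lift_snd]
    rw [this, Scheme.Opens.range_ι]
    exact hO z
  · intro w v
    have hs := fibreIntegral_split i r hcompl (O.ι ≫ pullback.snd f γ)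
      (fun u => w ((O.ι ≫ pullback.fst f γ) u)) v
    rw [hs]
    have e₁ : ((fun u => w ((O.ι ≫ pullback.fst f γ) u)) ∘ ⇑i) = fun u => w (a₁ u) := by
      funext u
      simp only [Function.comp_apply]
      rw [← Scheme.Hom.comp_apply, ← Category.assoc, hi, hj₁f]
    have e₂ : ((fun u => w ((O.ι ≫ pullback.fst f γ) u)) ∘ ⇑r) = fun u => w (a₂ u) := by
      funext u
      simp only [Function.comp_apply]
      rw [← Scheme.Hom.comp_apply, ← Category.assoc, hr, hj₂f]
    rw [e₁, e₂, hig, hrg]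

end union

section covering

variable {X Y : Scheme.{u}} (f : X ⟶ Y) [LocallyQuasiFinite f] [LocallyOfFiniteType f]
  [IsSeparated f]

omit [LocallyOfFiniteType f] in
/-- For `f` separated, a piece is closed in the base change; the complement `R` is open, and fibre
integrals over the base change split. -/
theorem IsPiece.exists_compl_in_pullback (hfin : ∀ y, (f ⁻¹' {y}).Finite) {V U : Scheme.{u}}
    {γ : V ⟶ Y} {a : U ⟶ X} {π : U ⟶ V} (hp : IsPiece f γ a π) :
    ∃ R : (pullback f γ).Opens, (R : Set ↥(pullback f γ)) =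
        (Set.range (pullback.lift a π hp.comm))ᶜ ∧
      (∀ v, ((R.ι ≫ pullback.snd f γ) ⁻¹' {v}).Finite) ∧
      ∀ (w' : ↥(pullback f γ) → ℤ) (v : V), MoreMor.fibreIntegral (pullback.snd f γ) w' v =
        MoreMor.fibreIntegral π (fun u => w' (pullback.lift a π hp.comm u)) v +
          MoreMor.fibreIntegral (R.ι ≫ pullback.snd f γ) (w' ∘ R.ι) v := by
  have := hp.isFinite
  have := hp.isOpenImmersion_lift
  obtain ⟨j, hj⟩ : ∃ j : U ⟶ pullback f γ, j = pullback.lift a π hp.comm := ⟨_, rfl⟩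
  have : IsOpenImmersion j := by rw [hj]; infer_instance
  have hj₂ : j ≫ pullback.snd f γ = π := by rw [hj]; exact pullback.lift_snd _ _ _
  rw [← hj]
  have hjfin : IsFinite j := by
    have : IsFinite (j ≫ pullback.snd f γ) := by rw [hj₂]; infer_instance
    exact IsFinite.of_comp j (pullback.snd f γ)
  have hcl : IsClosed (Set.range j) := j.isClosedMap.isClosed_range
  let R : (pullback f γ).Opens := ⟨(Set.range j)ᶜ, hcl.isOpen_compl⟩
  have hR : Set.range R.ι = (Set.range j)ᶜ := Scheme.Opens.range_ι R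
  have hfinV : ∀ v, ((pullback.snd f γ) ⁻¹' {v}).Finite :=
    finite_fiber_of_isPullback f hfin (IsPullback.of_hasPullback f γ)
  refine ⟨R, rfl, fun v => ?_, fun w' v => ?_⟩
  · have : (R.ι ≫ pullback.snd f γ) ⁻¹' {v} = R.ι ⁻¹' ((pullback.snd f γ) ⁻¹' {v}) := rfl
    rw [this]
    exact (hfinV v).preimage R.ι.isOpenEmbedding.injective.injOn
  · rw [fibreIntegral_split' j R.ι hR (pullback.snd f γ) w' v (hfinV v), hj₂]
    rfl

/-- Étale locally, the whole fibre of a separated locally quasi-finite morphism with finite fibres is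
contained in a piece. (Induction on the number of geometric points of the fibre not yet covered.) -/
theorem exists_piece_covering_fibre (hfin : ∀ y, (f ⁻¹' {y}).Finite) :
    ∀ (n : ℕ) {V U : Scheme.{u}} (γ : V ⟶ Y) {a : U ⟶ X} {π : U ⟶ V} (_ : IsPiece f γ a π) (v : V),
      deg (pullback.snd f γ) v = deg π v + n →
      ∃ (V' : Scheme.{u}) (γ' : V' ⟶ V) (_ : Etale γ') (v' : V'), γ' v' = v ∧
        ∃ (δ : V' ⟶ Y) (_ : δ = γ' ≫ γ) (U' : Scheme.{u}) (a' : U' ⟶ X) (π' : U' ⟶ V')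
          (hp' : IsPiece f δ a' π'), ∀ z : ↥(pullback f δ), pullback.snd f δ z = v' →
            z ∈ Set.range (pullback.lift a' π' hp'.comm) := by
  intro n
  induction n with
  | zero =>
    intro V U γ a π hp v hdeg
    obtain ⟨R, hR, hfinR, hsplit⟩ := hp.exists_compl_in_pullback f hfin
    have hdegR : deg (R.ι ≫ pullback.snd f γ) v = 0 := by
      have h := hsplit (fun _ => 1) v
      change deg (pullback.snd f γ) v = deg π v + deg (R.ι ≫ pullback.snd f γ) v at h
      rw [hdeg] at h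
      simp only [Nat.cast_zero, add_zero] at h
      linarith
    refine ⟨V, 𝟙 V, inferInstance, v, rfl, γ, (Category.id_comp γ).symm, U, a, π, hp, ?_⟩
    intro z hz
    by_contra hzr
    have hzR : z ∈ (R : Set ↥(pullback f γ)) := by rw [hR]; exact hzr
    have h1 := one_le_deg (R.ι ≫ pullback.snd f γ) ⟨z, hzR⟩ (hfinR _)
    have h2 : (R.ι ≫ pullback.snd f γ) ⟨z, hzR⟩ = v := hz
    rw [h2, hdegR] at h1
    simp at h1
  | succ n ih =>
    intro V U γ a π hp v hdeg
    have := hp.isFinite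
    obtain ⟨R, hR, hfinR, hsplit⟩ := hp.exists_compl_in_pullback f hfin
    have hdegR : deg (R.ι ≫ pullback.snd f γ) v = (n : ℤ) + 1 := by
      have h := hsplit (fun _ => 1) v
      change deg (pullback.snd f γ) v = deg π v + deg (R.ι ≫ pullback.snd f γ) v at h
      rw [hdeg] at h
      push_cast at h
      linarith
    obtain ⟨z', hz'⟩ : ∃ z', (R.ι ≫ pullback.snd f γ) z' = v :=
      exists_of_fibreIntegral_ne_zero (R.ι ≫ pullback.snd f γ) (fun _ => 1) v (by
        change deg (R.ι ≫ pullback.snd f γ) v ≠ 0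
        rw [hdegR]
        positivity)
    obtain ⟨V₂, γ₂, _, U₂, a₂, π₂, hp₂, u₂, hu₂, hdeg₂⟩ :=
      exists_etale_piece_deg_eq_one (R.ι ≫ pullback.snd f γ) z'
    have := hp₂.isFinite
    have hp₂' : IsPiece (pullback.snd f γ) γ₂ (a₂ ≫ R.ι) π₂ := hp₂.of_comp_openImmersion R.ι
    have hp₂'' : IsPiece f (γ₂ ≫ γ) ((a₂ ≫ R.ι) ≫ pullback.fst f γ) π₂ :=
      IsPiece.of_baseChange (IsPullback.of_hasPullback f γ) hp₂'
    have hp₁' : IsPiece f (γ₂ ≫ γ) (pullback.fst π γ₂ ≫ a) (pullback.snd π γ₂) := hp.baseChange γ₂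
    -- disjointness
    let m : pullback f (γ₂ ≫ γ) ⟶ pullback f γ :=
      pullback.lift (pullback.fst f (γ₂ ≫ γ)) (pullback.snd f (γ₂ ≫ γ) ≫ γ₂)
        (by rw [Category.assoc]; exact pullback.condition)
    have hm₁ : pullback.lift (pullback.fst π γ₂ ≫ a) (pullback.snd π γ₂) hp₁'.comm ≫ m =
        pullback.fst π γ₂ ≫ pullback.lift a π hp.comm := by
      apply pullback.hom_ext
      · rw [Category.assoc, pullback.lift_fst, pullback.lift_fst, Category.assoc, pullback.lift_fst]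
      · rw [Category.assoc, pullback.lift_snd, ← Category.assoc, pullback.lift_snd, Category.assoc,
          pullback.lift_snd, pullback.condition]
    have hm₂ : pullback.lift ((a₂ ≫ R.ι) ≫ pullback.fst f γ) π₂ hp₂''.comm ≫ m = a₂ ≫ R.ι := by
      apply pullback.hom_ext
      · rw [Category.assoc, pullback.lift_fst, pullback.lift_fst]
      · rw [Category.assoc, pullback.lift_snd, ← Category.assoc, pullback.lift_snd, hp₂'.comm]
    have hdisj : ∀ (u₁ : ↥(pullback π γ₂)) (u₂' : U₂),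
        pullback.lift (pullback.fst π γ₂ ≫ a) (pullback.snd π γ₂) hp₁'.comm u₁ ≠
          pullback.lift ((a₂ ≫ R.ι) ≫ pullback.fst f γ) π₂ hp₂''.comm u₂' := by
      intro u₁ u₂' heq
      have h1 := congrArg (fun z => m z) heq
      simp only at h1
      rw [← Scheme.Hom.comp_apply, ← Scheme.Hom.comp_apply, hm₁, hm₂] at h1
      have h2 : (a₂ ≫ R.ι) u₂' ∈ (R : Set ↥(pullback f γ)) := (a₂ u₂').2
      rw [hR, ← h1] at h2
      exact h2 ⟨_, rfl⟩
    obtain ⟨U₃, a₃, π₃, h₃, -, hsum₃⟩ := hp₁'.exists_union hp₂'' hdisj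
    have hγ₂v : γ₂ (π₂ u₂) = v := by
      rw [← Scheme.Hom.comp_apply, ← hp₂.comm, Scheme.Hom.comp_apply, hu₂, hz']
    have hdeg₃ : deg π₃ (π₂ u₂) = deg π v + 1 := by
      have h := hsum₃ (fun _ => 1) (π₂ u₂)
      change deg π₃ (π₂ u₂) = deg (pullback.snd π γ₂) (π₂ u₂) + deg π₂ (π₂ u₂) at h
      rw [h, deg_pullback_snd, hγ₂v, hdeg₂]
    have hbc : ∀ {V' : Scheme.{u}} (δ : V' ⟶ Y) (v' : V'),
        deg (pullback.snd f δ) v' = deg f (δ v') := fun δ v' =>
      fibreIntegral_baseChange f hfin (pullback.snd f δ) (pullback.fst f δ) δ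
        (IsPullback.of_hasPullback f δ) (fun _ => 1) v'
    have hdeg' : deg (pullback.snd f (γ₂ ≫ γ)) (π₂ u₂) = deg π₃ (π₂ u₂) + n := by
      rw [hbc, Scheme.Hom.comp_apply, hγ₂v, ← hbc, hdeg, hdeg₃]
      push_cast
      ring
    obtain ⟨V', γ', _, v', hv', δ, hδ, U', a', π', hp', hcover⟩ := ih (γ₂ ≫ γ) h₃ (π₂ u₂) hdeg'
    refine ⟨V', γ' ≫ γ₂, inferInstance, v', ?_, δ, hδ.trans (Category.assoc _ _ _).symm, U', a', π',
      hp', hcover⟩
    rw [Scheme.Hom.comp_apply, hv', hγ₂v]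

/-- If a piece contains the whole fibre over `v`, and the fibre integral of a positive weighting is
maximal at the image of `v`, then the base change of `f` is finite near `v`. -/
theorem exists_opens_isFinite_of_covering (hfin : ∀ y, (f ⁻¹' {y}).Finite) {w : X → ℤ}
    (hw : MoreMor.IsWeighting f w) (hpos : ∀ x, 0 < w x) (d : ℤ)
    (hmax : ∀ y, MoreMor.fibreIntegral f w y ≤ d) {V U : Scheme.{u}} (γ : V ⟶ Y) {a : U ⟶ X}
    {π : U ⟶ V} (hp : IsPiece f γ a π) (v : V) (hv : MoreMor.fibreIntegral f w (γ v) = d)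
    (hcover : ∀ z : ↥(pullback f γ), pullback.snd f γ z = v →
      z ∈ Set.range (pullback.lift a π hp.comm)) :
    ∃ N : V.Opens, v ∈ N ∧ IsFinite (pullback.snd f (N.ι ≫ γ)) := by
  have := hp.isFinite
  have := hp.isOpenImmersion_lift
  obtain ⟨R, hR, hfinR, hsplit⟩ := hp.exists_compl_in_pullback f hfin
  obtain ⟨j, hj⟩ : ∃ j : U ⟶ pullback f γ, j = pullback.lift a π hp.comm := ⟨_, rfl⟩
  have hj₁ : j ≫ pullback.fst f γ = a := by rw [hj]; exact pullback.lift_fst _ _ _
  have hj₂ : j ≫ pullback.snd f γ = π := by rw [hj]; exact pullback.lift_snd _ _ _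
  rw [← hj] at hR hsplit hcover
  -- the integral over the base change
  have hbc : ∀ v', MoreMor.fibreIntegral (pullback.snd f γ) (w ∘ ⇑(pullback.fst f γ)) v' =
      MoreMor.fibreIntegral f w (γ v') := fun v' =>
    fibreIntegral_baseChange f hfin (pullback.snd f γ) (pullback.fst f γ) γ
      (IsPullback.of_hasPullback f γ) w v'
  have hsp : ∀ v', MoreMor.fibreIntegral f w (γ v') =
      MoreMor.fibreIntegral π (fun u => w (a u)) v' +
        MoreMor.fibreIntegral (R.ι ≫ pullback.snd f γ) ((w ∘ ⇑(pullback.fst f γ)) ∘ ⇑R.ι) v' := by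
    intro v'
    rw [← hbc, hsplit]
    congr 2
    funext u
    simp only [Function.comp_apply]
    rw [← Scheme.Hom.comp_apply, hj₁]
  have hRnonneg : ∀ v', 0 ≤ MoreMor.fibreIntegral (R.ι ≫ pullback.snd f γ)
      ((w ∘ ⇑(pullback.fst f γ)) ∘ ⇑R.ι) v' := fun v' =>
    fibreIntegral_nonneg _ _ (fun _ => (hpos _).le) v'
  have hRv : MoreMor.fibreIntegral (R.ι ≫ pullback.snd f γ)
      ((w ∘ ⇑(pullback.fst f γ)) ∘ ⇑R.ι) v = 0 := by
    apply fibreIntegral_eq_zero_of_isEmpty
    intro z hz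
    have h1 : (R.ι z) ∈ Set.range j := hcover _ hz
    have h2 : (R.ι z) ∈ (R : Set ↥(pullback f γ)) := z.2
    rw [hR] at h2
    exact h2 h1
  have hπv : MoreMor.fibreIntegral π (fun u => w (a u)) v = d := by
    have := hsp v
    rw [hRv, add_zero, hv] at this
    exact this.symm
  have hlc := isLocallyConstant_fibreIntegral_of_isPiece hw hp
  obtain ⟨N, hNo, hvN, hN⟩ := (IsLocallyConstant.iff_exists_open _).mp hlc v
  -- over `N`, the remainder is empty
  have hRempty : ∀ z : ↥(pullback f γ), pullback.snd f γ z ∈ N → z ∈ Set.range j := by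
    intro z hz
    by_contra hzr
    have hzR : z ∈ (R : Set ↥(pullback f γ)) := by rw [hR]; exact hzr
    have h1 := le_fibreIntegral_of_nonneg' (R.ι ≫ pullback.snd f γ)
      ((w ∘ ⇑(pullback.fst f γ)) ∘ ⇑R.ι) (fun _ => (hpos _).le) ⟨z, hzR⟩ (hfinR _)
    have h2 : (R.ι ≫ pullback.snd f γ) ⟨z, hzR⟩ = pullback.snd f γ z := rfl
    rw [h2] at h1
    have h3 := hsp (pullback.snd f γ z)
    rw [hN _ hz, hπv] at h3
    have h4 := hmax (γ (pullback.snd f γ z))
    have h5 : 0 < ((w ∘ ⇑(pullback.fst f γ)) ∘ ⇑R.ι) ⟨z, hzR⟩ := hpos _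
    linarith
  let N' : V.Opens := ⟨N, hNo⟩
  refine ⟨N', hvN, ?_⟩
  -- the restricted piece is everything
  have hpN := hp.baseChange N'.ι
  have := hpN.isOpenImmersion_lift
  have := hpN.isFinite
  obtain ⟨jN, hjN⟩ : ∃ jN : pullback π N'.ι ⟶ pullback f (N'.ι ≫ γ),
      jN = pullback.lift (pullback.fst π N'.ι ≫ a) (pullback.snd π N'.ι) hpN.comm := ⟨_, rfl⟩
  have : IsOpenImmersion jN := by rw [hjN]; infer_instance
  have hjN₁ : jN ≫ pullback.fst f (N'.ι ≫ γ) = pullback.fst π N'.ι ≫ a := by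
    rw [hjN]; exact pullback.lift_fst _ _ _
  have hjN₂ : jN ≫ pullback.snd f (N'.ι ≫ γ) = pullback.snd π N'.ι := by
    rw [hjN]; exact pullback.lift_snd _ _ _
  let m : pullback f (N'.ι ≫ γ) ⟶ pullback f γ :=
    pullback.map f (N'.ι ≫ γ) f γ (𝟙 X) N'.ι (𝟙 Y) (by simp) (by simp)
  have hm₁ : m ≫ pullback.fst f γ = pullback.fst f (N'.ι ≫ γ) :=
    (pullback.lift_fst _ _ _).trans (Category.comp_id _)
  have hm₂ : m ≫ pullback.snd f γ = pullback.snd f (N'.ι ≫ γ) ≫ N'.ι := pullback.lift_snd _ _ _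
  have hmj : jN ≫ m = pullback.fst π N'.ι ≫ j := by
    rw [hj]
    apply pullback.hom_ext
    · rw [Category.assoc, hm₁, hjN₁, Category.assoc, pullback.lift_fst]
    · rw [Category.assoc, hm₂, ← Category.assoc, hjN₂, Category.assoc, pullback.lift_snd,
        pullback.condition]
  have hsurj : Function.Surjective jN := by
    intro z
    have hz : pullback.snd f γ (m z) ∈ N := by
      rw [← Scheme.Hom.comp_apply, hm₂, Scheme.Hom.comp_apply]
      exact (pullback.snd f (N'.ι ≫ γ) z).2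
    obtain ⟨u₀, hu₀⟩ := hRempty (m z) hz
    have hπu₀ : π u₀ = N'.ι (pullback.snd f (N'.ι ≫ γ) z) := by
      rw [← hj₂, Scheme.Hom.comp_apply, hu₀, ← Scheme.Hom.comp_apply, hm₂, Scheme.Hom.comp_apply]
    obtain ⟨u', hu'₁, hu'₂⟩ := Scheme.Pullback.exists_preimage_pullback u₀
      (pullback.snd f (N'.ι ≫ γ) z) hπu₀
    refine ⟨u', m.isOpenEmbedding.injective ?_⟩
    rw [← Scheme.Hom.comp_apply, hmj, Scheme.Hom.comp_apply, hu'₁, hu₀]
  have : Surjective jN := ⟨hsurj⟩
  have hiso : IsIso jN := (isIso_iff_isOpenImmersion_and_surjective _).mpr ⟨inferInstance, inferInstance⟩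
  have heq : pullback.snd f (N'.ι ≫ γ) = inv jN ≫ pullback.snd π N'.ι := by
    rw [IsIso.eq_inv_comp, hjN₂]
  rw [heq]
  infer_instance

end covering

section descent

/-- If the base change of `f` along an étale `γ` is finite, then `f` is universally closed over the
(open) image of `γ`. -/
theorem universallyClosed_morphismRestrict_of_isFinite_pullback {X Y V : Scheme.{u}} (f : X ⟶ Y)
    (γ : V ⟶ Y) [Etale γ] [IsFinite (pullback.snd f γ)] :
    UniversallyClosed (f ∣_ ⟨Set.range γ, γ.isOpenMap.isOpen_range⟩) := by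
  obtain ⟨O, hO⟩ : ∃ O : Y.Opens, O = ⟨Set.range γ, γ.isOpenMap.isOpen_range⟩ := ⟨_, rfl⟩
  rw [← hO]
  have hOmem : ∀ o : O, ∃ v, γ v = O.ι o := by
    subst hO
    exact fun o => o.2
  have hsurj : Surjective (pullback.snd γ O.ι) := ⟨fun o => by
    obtain ⟨v, hv⟩ := hOmem o
    obtain ⟨z, -, hz₂⟩ := Scheme.Pullback.exists_preimage_pullback v o hv
    exact ⟨z, hz₂⟩⟩
  have hflat : Flat (pullback.snd γ O.ι) := inferInstance
  have hlfp : LocallyOfFinitePresentation (pullback.snd γ O.ι) := inferInstance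
  have hA : IsPullback (pullback.fst (f ∣_ O) (pullback.snd γ O.ι))
      (pullback.snd (f ∣_ O) (pullback.snd γ O.ι)) (f ∣_ O) (pullback.snd γ O.ι) :=
    .of_hasPullback _ _
  have hmr : IsPullback (f ∣_ O) (f ⁻¹ᵁ O).ι O.ι f := isPullback_morphismRestrict f O
  have houter := hA.paste_horiz hmr.flip
  have hcomm : (pullback.fst (f ∣_ O) (pullback.snd γ O.ι) ≫ (f ⁻¹ᵁ O).ι) ≫ f =
      (pullback.snd (f ∣_ O) (pullback.snd γ O.ι) ≫ pullback.fst γ O.ι) ≫ γ := by
    rw [houter.w, Category.assoc, pullback.condition]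
  let l : pullback (f ∣_ O) (pullback.snd γ O.ι) ⟶ pullback f γ := pullback.lift _ _ hcomm
  have hl₁ : l ≫ pullback.fst f γ = pullback.fst (f ∣_ O) (pullback.snd γ O.ι) ≫ (f ⁻¹ᵁ O).ι :=
    pullback.lift_fst _ _ _
  have hl₂ : l ≫ pullback.snd f γ =
      pullback.snd (f ∣_ O) (pullback.snd γ O.ι) ≫ pullback.fst γ O.ι := pullback.lift_snd _ _ _
  have hleft : IsPullback l (pullback.snd (f ∣_ O) (pullback.snd γ O.ι)) (pullback.snd f γ)
      (pullback.fst γ O.ι) := by
    refine IsPullback.of_right ?_ hl₂ (IsPullback.of_hasPullback f γ)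
    rw [hl₁, pullback.condition]
    exact houter
  have hfin : IsFinite (pullback.snd (f ∣_ O) (pullback.snd γ O.ι)) :=
    MorphismProperty.of_isPullback (P := @IsFinite) hleft ‹_›
  exact MorphismProperty.of_isPullback_of_descendsAlong (P := @UniversallyClosed)
    (Q := @Surjective ⊓ @Flat ⊓ @LocallyOfFinitePresentation) hA.flip ⟨⟨hsurj, hflat⟩, hlfp⟩
    inferInstance

end descent

section main

variable {X Y : Scheme.{u}} (f : X ⟶ Y) [LocallyQuasiFinite f] [LocallyOfFiniteType f]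
  [IsSeparated f]

omit [LocallyQuasiFinite f] [LocallyOfFiniteType f] [IsSeparated f] in
/-- The empty piece. -/
theorem isPiece_empty {V : Scheme.{u}} (γ : V ⟶ Y) :
    IsPiece f γ (Scheme.emptyTo X) (Scheme.emptyTo V) where
  comm := isInitialOfIsEmpty.hom_ext _ _
  isOpenImmersion_lift := inferInstance
  isFinite := inferInstance

/-- A separated locally quasi-finite morphism with finite fibres carrying a positive weighting with
constant fibre integral is finite. -/
theorem isFinite_of_fibreIntegral_eq (hfin : ∀ y, (f ⁻¹' {y}).Finite) {w : X → ℤ}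
    (hw : MoreMor.IsWeighting f w) (hpos : ∀ x, 0 < w x) (d : ℤ)
    (hd : ∀ y, MoreMor.fibreIntegral f w y = d) : IsFinite f := by
  rw [IsFinite.iff_isProper_and_locallyQuasiFinite]
  refine ⟨?_, inferInstance⟩
  have huc : UniversallyClosed f := by
    apply IsZariskiLocalAtTarget.of_forall_exists_morphismRestrict (P := @UniversallyClosed)
    intro y
    have hp₀ := isPiece_empty f (𝟙 Y)
    obtain ⟨n, hn⟩ : ∃ n : ℕ, deg (pullback.snd f (𝟙 Y)) y = deg (Scheme.emptyTo Y) y + n := by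
      refine ⟨(deg (pullback.snd f (𝟙 Y)) y).toNat, ?_⟩
      rw [Int.toNat_of_nonneg (deg_nonneg' _ y)]
      have : deg (Scheme.emptyTo Y) y = 0 :=
        fibreIntegral_eq_zero_of_isEmpty _ _ _ (fun u => isEmptyElim u)
      rw [this, zero_add]
    obtain ⟨V', γ', _, v', hv', δ, hδ, U', a', π', hp', hcover⟩ :=
      exists_piece_covering_fibre f hfin n (𝟙 Y) hp₀ y hn
    have hδ' : δ = γ' := hδ.trans (Category.comp_id _)
    subst hδ'
    obtain ⟨N, hvN, hNfin⟩ := exists_opens_isFinite_of_covering f hfin hw hpos d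
      (fun y => (hd y).le) δ hp' v' (hd _) hcover
    refine ⟨⟨Set.range (N.ι ≫ δ), (N.ι ≫ δ).isOpenMap.isOpen_range⟩, ⟨⟨v', hvN⟩, hv'⟩, ?_⟩
    exact universallyClosed_morphismRestrict_of_isFinite_pullback f (N.ι ≫ δ)
  exact { }

end main

end Groth.Agent.Lib.Helper22.Weighting
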