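import Groth.Agent.Lib.Helper22.EtaleSplit
set_option autoImplicit false
set_option linter.style.haveILetI false
universe u
open Polynomial AlgebraicGeometry CategoryTheory
namespace Groth.Agent.Lib.Helper22.EtaleSplit

set_option backward.isDefEq.respectTransparency false in
theorem exists_finite_flat_dominating {U S : Scheme.{u}} (e : U ⟶ S) [Etale e] (u : U) (s : S)
    (hu : e u = s) :
    ∃ (V : S.Opens) (T : Scheme.{u}) (π : T ⟶ (V : Scheme.{u})), s ∈ V ∧ IsAffineOpen V ∧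
      Surjective π ∧ IsFinite π ∧ Flat π ∧ LocallyOfFinitePresentation π ∧
      ∀ t : T, V.ι (π t) = s → ∃ (W : T.Opens) (h : (W : Scheme.{u}) ⟶ U), t ∈ W ∧
        h ≫ e = W.ι ≫ π ≫ V.ι ∧ ∀ ht : t ∈ W, h ⟨t, ht⟩ = u := by
  subst hu
  -- affine charts
  obtain ⟨V, hV, hsV⟩ : ∃ V : S.Opens, IsAffineOpen V ∧ e u ∈ V := by
    obtain ⟨_, ⟨V, hV, rfl⟩, h, -⟩ :=
      S.isBasis_affineOpens.exists_subset_of_mem_open (Set.mem_univ (e u)) isOpen_univ
    exact ⟨V, hV, h⟩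
  obtain ⟨U₀, hU₀, huU₀, hle⟩ : ∃ U₀ : U.Opens, IsAffineOpen U₀ ∧ u ∈ U₀ ∧ U₀ ≤ e ⁻¹ᵁ V := by
    obtain ⟨_, ⟨U₀, hU₀, rfl⟩, h, hle⟩ :=
      U.isBasis_affineOpens.exists_subset_of_mem_open
        (show u ∈ ((e ⁻¹ᵁ V : U.Opens) : Set U) from hsV) (e ⁻¹ᵁ V).isOpen
    exact ⟨U₀, hU₀, h, hle⟩
  letI : Algebra Γ(S, V) Γ(U, U₀) := (e.appLE V U₀ hle).hom.toAlgebra
  haveI : Algebra.Etale Γ(S, V) Γ(U, U₀) := e.etale_appLE hV hU₀ hle
  haveI : Nontrivial Γ(S, V) := by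
    have : Nonempty (PrimeSpectrum Γ(S, V)) := ⟨hV.primeIdealOf ⟨e u, hsV⟩⟩
    exact (PrimeSpectrum.nonempty_iff_nontrivial.mp this)
  let 𝔮₀ : Ideal Γ(U, U₀) := (hU₀.primeIdealOf ⟨u, huU₀⟩).asIdeal
  have h𝔮₀ : 𝔮₀.comap (algebraMap Γ(S, V) Γ(U, U₀)) = (hV.primeIdealOf ⟨e u, hsV⟩).asIdeal :=
    congrArg PrimeSpectrum.asIdeal
      (IsAffineOpen.comap_primeIdealOf_appLE V hV U₀ hU₀ hle huU₀)
  obtain ⟨R', _, _, hfin, hfree, hnt, hR'⟩ := exists_finite_free_dominating (R := Γ(S, V)) 𝔮₀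
  -- the finite flat cover
  let φ' : Γ(S, V) ⟶ CommRingCat.of R' := CommRingCat.ofHom (algebraMap Γ(S, V) R')
  haveI hsurj : Surjective (Spec.map φ') :=
    ⟨PrimeSpectrum.comap_surjective_of_faithfullyFlat (A := Γ(S, V)) (B := R')⟩
  haveI hfinite : IsFinite (Spec.map φ') :=
    (IsFinite.SpecMap_iff φ').mpr (RingHom.finite_algebraMap.mpr hfin)
  haveI hflat : Flat (Spec.map φ') :=
    Flat.SpecMap_iff.mpr (RingHom.flat_algebraMap_iff.mpr inferInstance)
  haveI hfp : LocallyOfFinitePresentation (Spec.map φ') := by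
    rw [HasRingHomProperty.Spec_iff (P := @LocallyOfFinitePresentation)]
    haveI : Module.FinitePresentation Γ(S, V) R' := Module.finitePresentation_of_projective _ _
    exact RingHom.finitePresentation_algebraMap.mpr inferInstance
  refine ⟨V, Spec (CommRingCat.of R'), Spec.map φ' ≫ hV.isoSpec.inv, hsV, hV, inferInstance,
    inferInstance, inferInstance, inferInstance, ?_⟩
  intro t ht
  -- the prime of `R'` at `t` lies over the prime of `e u`
  have hfs : hV.fromSpec (Spec.map φ' t) = e u := ht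
  have hpt : Spec.map φ' t = hV.primeIdealOf ⟨e u, hsV⟩ := by
    apply hV.fromSpec.isOpenEmbedding.injective
    rw [hfs, hV.fromSpec_primeIdealOf]
  haveI : t.asIdeal.IsPrime := t.isPrime
  have h𝔯 : t.asIdeal.comap (algebraMap Γ(S, V) R') =
      𝔮₀.comap (algebraMap Γ(S, V) Γ(U, U₀)) := by
    rw [h𝔮₀, ← hpt]
    rfl
  obtain ⟨r, hr, χ, hχ⟩ := hR' t.asIdeal h𝔯
  let ι'' : CommRingCat.of R' ⟶ CommRingCat.of (Localization.Away r) :=
    CommRingCat.ofHom (algebraMap R' (Localization.Away r))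
  let χ' : Γ(U, U₀) ⟶ CommRingCat.of (Localization.Away r) := CommRingCat.ofHom χ.toRingHom
  have hcomm : e.appLE V U₀ hle ≫ χ' = φ' ≫ ι'' := by
    ext x
    exact (χ.commutes x).trans (IsScalarTower.algebraMap_apply _ R' (Localization.Away r) x)
  have htW : t ∈ (Spec.map ι'').opensRange := by
    have h1 : (Spec.map ι'').opensRange = PrimeSpectrum.basicOpen r :=
      Scheme.Hom.opensRange_localizationAway (R := CommRingCat.of R') r
    rw [h1]
    exact hr
  refine ⟨(Spec.map ι'').opensRange,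
    (Spec.map ι'').isoOpensRange.inv ≫ Spec.map χ' ≫ hU₀.fromSpec, htW, ?_, ?_⟩
  · have h1 : (Spec.map ι'').opensRange.ι = (Spec.map ι'').isoOpensRange.inv ≫ Spec.map ι'' :=
      ((Spec.map ι'').isoOpensRange_inv_comp).symm
    have h2 : hV.isoSpec.inv ≫ V.ι = hV.fromSpec := rfl
    rw [h1]
    simp only [Category.assoc]
    rw [h2, ← IsAffineOpen.SpecMap_appLE_fromSpec e hV hU₀ hle, ← Spec.map_comp_assoc,
      ← Spec.map_comp_assoc, hcomm]
  · intro htW'
    let t' : Spec (CommRingCat.of (Localization.Away r)) :=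
      (Spec.map ι'').isoOpensRange.inv ⟨t, htW'⟩
    have ht' : Spec.map ι'' t' = t := by
      have := congr($((Spec.map ι'').isoOpensRange_inv_comp) ⟨t, htW'⟩)
      exact this
    haveI : t'.asIdeal.IsPrime := t'.isPrime
    have h1 : t'.asIdeal.comap (algebraMap R' (Localization.Away r)) = t.asIdeal :=
      congrArg PrimeSpectrum.asIdeal ht'
    have h2 := hχ t'.asIdeal h1
    have h3 : Spec.map χ' t' = hU₀.primeIdealOf ⟨u, huU₀⟩ := PrimeSpectrum.ext h2
    change hU₀.fromSpec (Spec.map χ' t') = u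
    rw [h3, hU₀.fromSpec_primeIdealOf]

end Groth.Agent.Lib.Helper22.EtaleSplit
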