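import Mathlib
import Groth.Agent.S0395
import Groth.Agent.H76.FlatModel
import Groth.Agent.H76.UnivInj
import Groth.Agent.Lib.Helper3.SplitAlg
import Groth.Agent.S0387
import Groth.Agent.H76.FlatLocusTower

set_option autoImplicit false
set_option linter.style.haveILetI false

open TensorProduct

open Groth.Agent.H76.FlatDescentLocal Groth.Agent.H76.FlatKernel

namespace Groth.Agent.Lib.Helper22.QFSlice

universe u

section Kernel
variable {A B : Type*} [CommRing A] [CommRing B] [Algebra A B] (p : Ideal A) [p.IsPrime]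

/-- elements of `pB` die in the fibre -/
theorem one_tmul_eq_zero_of_mem {c : B} (hc : c ∈ p.map (algebraMap A B)) :
    (1 : p.ResidueField) ⊗ₜ[A] c = 0 := by
  have hle : p.map (algebraMap A B) ≤
      RingHom.ker (Algebra.TensorProduct.includeRight : B →ₐ[A] p.Fiber B).toRingHom := by
    rw [Ideal.map_le_iff_le_comap]
    intro a ha
    rw [Ideal.mem_comap, RingHom.mem_ker]
    change (1 : p.ResidueField) ⊗ₜ[A] (algebraMap A B a) = 0
    rw [Algebra.algebraMap_eq_smul_one, ← TensorProduct.smul_tmul, Algebra.smul_def, mul_one,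
      (Ideal.algebraMap_residueField_eq_zero).mpr ha, TensorProduct.zero_tmul]
  exact hle hc

attribute [local instance] Algebra.TensorProduct.rightAlgebra in
/-- kernel of `B → κ(p) ⊗ B` -/
theorem exists_smul_mem_of_one_tmul_eq_zero {c : B} (hc : (1 : p.ResidueField) ⊗ₜ[A] c = 0) :
    ∃ a ∉ p, algebraMap A B a * c ∈ p.map (algebraMap A B) := by
  let e := Ideal.Fiber.algEquivAux₁ (S := B) p
  have h1 : e (algebraMap B (p.Fiber B) c) = 0 := by
    have : algebraMap B (p.Fiber B) c = (1 : p.ResidueField) ⊗ₜ[A] c := rfl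
    rw [this, hc, map_zero]
  rw [AlgEquiv.commutes, IsScalarTower.algebraMap_apply B
    (Localization (Algebra.algebraMapSubmonoid B p.primeCompl)), Ideal.Quotient.algebraMap_eq,
    Ideal.Quotient.eq_zero_iff_mem,
    IsLocalization.mem_map_algebraMap_iff (Algebra.algebraMapSubmonoid B p.primeCompl)] at h1
  obtain ⟨⟨x, m⟩, hx⟩ := h1
  rw [← map_mul, IsLocalization.eq_iff_exists (Algebra.algebraMapSubmonoid B p.primeCompl)] at hx
  obtain ⟨m', hm'⟩ := hx
  obtain ⟨a, ha, ha'⟩ := (m' * m).2
  refine ⟨a, ha, ?_⟩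
  have : algebraMap A B a * c = (m' : B) * x.1 := by
    rw [ha', ← hm']; push_cast; ring
  rw [this]
  exact Ideal.mul_mem_left _ _ x.2

end Kernel

/-- Slicing: a fibrewise regular element cuts out a flat quotient of the local ring. -/
theorem flat_quotient_atPrime {A B : Type u} [CommRing A] [CommRing B] [Algebra A B]
    [IsNoetherianRing A] [IsNoetherianRing B] [Module.Flat A B] (p : Ideal A) [p.IsPrime]
    (q : Ideal B) [q.IsPrime] [q.LiesOver p] (f : B)
    (hf : ∀ x : p.Fiber B, ((1 : p.ResidueField) ⊗ₜ[A] f) * x = 0 → x = 0) :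
    Module.Flat A (Localization.AtPrime q ⧸
      (Ideal.span {f}).map (algebraMap B (Localization.AtPrime q))) := by
  letI := Localization.AtPrime.algebraOfLiesOver p q
  have hJ : (IsLocalRing.maximalIdeal (Localization.AtPrime p)).map
      (algebraMap (Localization.AtPrime p) (Localization.AtPrime q)) =
      (p.map (algebraMap A B)).map (algebraMap B (Localization.AtPrime q)) := by
    rw [← Localization.AtPrime.map_eq_maximalIdeal, Ideal.map_map, Ideal.map_map]
    congr 1
    rw [← IsScalarTower.algebraMap_eq, ← IsScalarTower.algebraMap_eq]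
  have key : ∀ x : Localization.AtPrime q,
      x * algebraMap B (Localization.AtPrime q) f ∈
        (p.map (algebraMap A B)).map (algebraMap B (Localization.AtPrime q)) →
      x ∈ (p.map (algebraMap A B)).map (algebraMap B (Localization.AtPrime q)) := by
    intro x hx
    obtain ⟨b, s, rfl⟩ := IsLocalization.exists_mk'_eq q.primeCompl x
    rw [IsLocalization.mem_map_algebraMap_iff q.primeCompl] at hx
    obtain ⟨⟨c, t⟩, hct⟩ := hx
    have h2 : algebraMap B (Localization.AtPrime q) (b * f * t) =
        algebraMap B (Localization.AtPrime q) (c.1 * s) := by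
      have h3 := congrArg (fun z => z * algebraMap B (Localization.AtPrime q) s) hct
      simp only at h3
      rw [map_mul, map_mul, map_mul, ← h3]
      have h4 : IsLocalization.mk' (Localization.AtPrime q) b s *
          algebraMap B (Localization.AtPrime q) s = algebraMap B _ b :=
        IsLocalization.mk'_spec _ b s
      rw [← h4]
      ring
    rw [IsLocalization.eq_iff_exists q.primeCompl] at h2
    obtain ⟨w, hw⟩ := h2
    -- f * (w t b) ∈ pB
    have h5 : f * ((w : B) * t * b) ∈ p.map (algebraMap A B) := by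
      have : f * ((w : B) * t * b) = (w : B) * (c.1 * s) := by
        rw [← hw]; ring
      rw [this]
      exact Ideal.mul_mem_left _ _ (Ideal.mul_mem_right _ _ c.2)
    have h6 : ((1 : p.ResidueField) ⊗ₜ[A] f) * ((1 : p.ResidueField) ⊗ₜ[A] ((w : B) * t * b)) = 0 := by
      rw [Algebra.TensorProduct.tmul_mul_tmul, mul_one]
      exact one_tmul_eq_zero_of_mem p h5
    obtain ⟨a, ha, ha'⟩ := exists_smul_mem_of_one_tmul_eq_zero p (hf _ h6)
    -- x = (a w t b) / (a w t s)
    have haq : algebraMap A B a ∉ q := by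
      intro h
      apply ha
      have : a ∈ q.under A := h
      rwa [← Ideal.over_def q p] at this
    have hden : algebraMap A B a * w * t ∈ q.primeCompl :=
      mul_mem (mul_mem haq w.2) t.2
    rw [IsLocalization.mem_map_algebraMap_iff q.primeCompl]
    refine ⟨⟨⟨algebraMap A B a * ((w : B) * t * b), ha'⟩, ⟨_, hden⟩ * s⟩, ?_⟩
    simp only [Submonoid.coe_mul]
    rw [map_mul _ _ (s : B), ← mul_assoc, mul_comm (IsLocalization.mk' _ b s), mul_assoc,
      IsLocalization.mk'_spec, ← map_mul]
    congr 1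
    ring
  have h := Groth.Agent.S0395.result (R := Localization.AtPrime p) (S := Localization.AtPrime q)
    (algebraMap B _ f) (by
      rw [mem_nonZeroDivisors_iff_right]
      intro x hx
      obtain ⟨x, rfl⟩ := Ideal.Quotient.mk_surjective x
      rw [← map_mul, Ideal.Quotient.eq_zero_iff_mem, hJ] at hx
      rw [Ideal.Quotient.eq_zero_iff_mem, hJ]
      exact key x hx)
  have h1 := h.1
  have : Module.Flat A (Localization.AtPrime q ⧸
      Ideal.span {algebraMap B (Localization.AtPrime q) f}) :=
    Module.Flat.trans A (Localization.AtPrime p) _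
  rw [Ideal.map_span, Set.image_singleton]
  exact this


/-- Slicing, global form: after inverting some `g ∉ q` the quotient `B/f` is flat. -/
theorem exists_flat_away {A B : Type u} [CommRing A] [CommRing B] [Algebra A B]
    [IsNoetherianRing A] [Algebra.FiniteType A B] [Module.Flat A B] (p : Ideal A) [p.IsPrime]
    (q : Ideal B) [q.IsPrime] [q.LiesOver p] (f : B) (hfq : f ∈ q)
    (hf : ∀ x : p.Fiber B, ((1 : p.ResidueField) ⊗ₜ[A] f) * x = 0 → x = 0) :
    ∃ g : B, g ∉ q ∧
      Module.Flat A (Localization.Away (Ideal.Quotient.mk (Ideal.span {f}) g)) := by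
  haveI : IsNoetherianRing B := Algebra.FiniteType.isNoetherianRing A B
  let I : Ideal B := Ideal.span {f}
  have hIq : I ≤ q := (Ideal.span_singleton_le_iff_mem _).mpr hfq
  let q₁ : Ideal (B ⧸ I) := q.map (Ideal.Quotient.mk I)
  have hq₁ : q₁.IsPrime :=
    Ideal.map_isPrime_of_surjective Ideal.Quotient.mk_surjective (by rwa [Ideal.mk_ker])
  have hq₁c : q₁.comap (Ideal.Quotient.mk I) = q := by
    rw [Ideal.comap_map_of_surjective _ Ideal.Quotient.mk_surjective, ← RingHom.ker_eq_comap_bot,
      Ideal.mk_ker, sup_eq_left.mpr hIq]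
  haveI : q₁.LiesOver q := ⟨hq₁c.symm⟩
  have hT : Module.Flat A (Localization.AtPrime q ⧸ I.map (algebraMap B (Localization.AtPrime q))) :=
    flat_quotient_atPrime p q f hf
  have hloc : IsLocalization (Algebra.algebraMapSubmonoid (B ⧸ I) q.primeCompl)
      (Localization.AtPrime q ⧸ I.map (algebraMap B (Localization.AtPrime q))) := inferInstance
  rw [Ideal.algebraMapSubmonoid_primeCompl_of_liesOver_surjective (P := q₁) (p := q)
    Ideal.Quotient.mk_surjective] at hloc
  haveI : Algebra.FiniteType A (B ⧸ I) :=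
    Algebra.FiniteType.of_surjective (Ideal.Quotient.mkₐ A I) Ideal.Quotient.mk_surjective
  haveI : Algebra.FinitePresentation A (B ⧸ I) := Algebra.FinitePresentation.of_finiteType.mp inferInstance
  have hU := Groth.Agent.S0387.result (R := A) (S := B ⧸ I) (M := B ⧸ I)
  haveI : IsScalarTower A (B ⧸ I)
      (Localization.AtPrime q ⧸ I.map (algebraMap B (Localization.AtPrime q))) :=
    IsScalarTower.to₁₃₄ A B (B ⧸ I) _
  have hmem : (⟨q₁, hq₁⟩ : PrimeSpectrum (B ⧸ I)) ∈
      {q : PrimeSpectrum (B ⧸ I) | Module.Flat A (LocalizedModule q.asIdeal.primeCompl (B ⧸ I))} := by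
    haveI : IsLocalizedModule q₁.primeCompl (Algebra.linearMap (B ⧸ I)
        (Localization.AtPrime q ⧸ I.map (algebraMap B (Localization.AtPrime q)))) :=
      (isLocalizedModule_iff_isLocalization' _ _).mpr hloc
    exact Module.Flat.of_linearEquiv ((IsLocalizedModule.iso q₁.primeCompl (Algebra.linearMap (B ⧸ I)
        (Localization.AtPrime q ⧸ I.map (algebraMap B (Localization.AtPrime q))))).restrictScalars A)
  obtain ⟨_, ⟨g', rfl⟩, hgq, hgU⟩ :=
    PrimeSpectrum.isTopologicalBasis_basic_opens.exists_subset_of_mem_open hmem hU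
  obtain ⟨g, rfl⟩ := Ideal.Quotient.mk_surjective g'
  refine ⟨g, ?_, ?_⟩
  · intro hg
    exact hgq (Ideal.mem_map_of_mem _ hg)
  · have h1 : Module.Flat A (LocalizedModule (Submonoid.powers (Ideal.Quotient.mk I g)) (B ⧸ I)) := by
      rw [Groth.Agent.H76.FlatLocusTower.flat_localized_iff_forall_prime]
      intro r hr hdisj
      refine hgU (show (⟨r, hr⟩ : PrimeSpectrum (B ⧸ I)) ∈
        (PrimeSpectrum.basicOpen (Ideal.Quotient.mk I g) : Set _) from ?_)
      intro hgr
      exact Set.disjoint_left.mp hdisj hgr (Submonoid.mem_powers _)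
    exact Module.Flat.of_linearEquiv ((IsLocalizedModule.iso (Submonoid.powers (Ideal.Quotient.mk I g))
      (Algebra.linearMap (B ⧸ I) (Localization.Away (Ideal.Quotient.mk I g)))).symm.restrictScalars A)




section Dim
variable {A B : Type*} [CommRing A] [CommRing B] [Algebra A B] (p : Ideal A) [p.IsPrime]

theorem comap_includeRight_injective :
    Function.Injective (PrimeSpectrum.comap
      (Algebra.TensorProduct.includeRight : B →ₐ[A] p.Fiber B).toRingHom) := by
  intro Q₁ Q₂ h
  apply (PrimeSpectrum.preimageEquivFiber A B ⟨p, inferInstance⟩).symm.injective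
  exact Subtype.ext h

variable {B' : Type*} [CommRing B'] [Algebra A B'] [Algebra B B'] [IsScalarTower A B B']

/-- fibre dimension drops after killing a fibrewise regular element -/
theorem ringKrullDim_fiber_succ_le
    (hinj : Function.Injective (PrimeSpectrum.comap (algebraMap B B')))
    (f : B) (h0 : algebraMap B B' f = 0)
    (hf : (1 : p.ResidueField) ⊗ₜ[A] f ∈ nonZeroDivisors (p.Fiber B)) :
    ringKrullDim (p.Fiber B') + 1 ≤ ringKrullDim (p.Fiber B) := by
  let ψ : p.Fiber B →ₐ[p.ResidueField] p.Fiber B' :=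
    Algebra.TensorProduct.map (AlgHom.id _ _) (IsScalarTower.toAlgHom A B B')
  have hψ : ∀ b : B, ψ ((1 : p.ResidueField) ⊗ₜ[A] b) = (1 : p.ResidueField) ⊗ₜ[A] algebraMap B B' b := by
    intro b
    simp [ψ]
  have hcomm : ∀ Q' : PrimeSpectrum (p.Fiber B'),
      PrimeSpectrum.comap (Algebra.TensorProduct.includeRight : B →ₐ[A] p.Fiber B).toRingHom
        (PrimeSpectrum.comap ψ.toRingHom Q') =
      PrimeSpectrum.comap (algebraMap B B')
        (PrimeSpectrum.comap (Algebra.TensorProduct.includeRight : B' →ₐ[A] p.Fiber B').toRingHom Q') := by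
    intro Q'
    ext b
    simp only [PrimeSpectrum.comap_asIdeal, Ideal.mem_comap]
    change ψ ((1 : p.ResidueField) ⊗ₜ[A] b) ∈ Q'.asIdeal ↔ _
    rw [hψ]
    rfl
  have hΦinj : Function.Injective (PrimeSpectrum.comap ψ.toRingHom) := by
    intro Q₁ Q₂ h
    apply comap_includeRight_injective (B := B') p
    apply hinj
    rw [← hcomm, ← hcomm, h]
  let Φ : PrimeSpectrum (p.Fiber B') →
      (PrimeSpectrum.zeroLocus (R := p.Fiber B) (Ideal.span {(1 : p.ResidueField) ⊗ₜ[A] f})) :=
    fun Q' => ⟨PrimeSpectrum.comap ψ.toRingHom Q', by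
      rw [PrimeSpectrum.mem_zeroLocus, SetLike.coe_subset_coe, Ideal.span_singleton_le_iff_mem]
      change ψ ((1 : p.ResidueField) ⊗ₜ[A] f) ∈ Q'.asIdeal
      rw [hψ, h0, TensorProduct.tmul_zero]
      exact Q'.asIdeal.zero_mem⟩
  have hΦ : StrictMono Φ := by
    apply Monotone.strictMono_of_injective
    · intro Q₁ Q₂ h
      exact Subtype.mk_le_mk.mpr (Ideal.comap_mono (f := ψ.toRingHom) h)
    · intro Q₁ Q₂ h
      exact hΦinj (congrArg Subtype.val h)
  have h1 : ringKrullDim (p.Fiber B') ≤
      ringKrullDim (p.Fiber B ⧸ Ideal.span {(1 : p.ResidueField) ⊗ₜ[A] f}) := by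
    rw [ringKrullDim_quotient]
    exact Order.krullDim_le_of_strictMono Φ hΦ
  exact (add_le_add_left h1 1).trans (ringKrullDim_quotient_succ_le_of_nonZeroDivisor hf)

end Dim



/-- A Noetherian Jacobson ring of positive dimension has a regular non-unit. -/
theorem exists_regular_nonunit {F : Type*} [CommRing F] [IsNoetherianRing F] [IsJacobsonRing F]
    (h : ¬ Ring.KrullDimLE 0 F) : ∃ x : F, x ∈ nonZeroDivisors F ∧ ¬ IsUnit x := by
  classical
  by_contra hcon
  push Not at hcon
  apply h
  rw [Ring.krullDimLE_zero_iff]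
  intro P hP
  have hmax : ∀ m : Ideal F, m.IsMaximal → m ∈ associatedPrimes F F := by
    intro m hm
    have hsub : (m : Set F) ⊆ ⋃ P ∈ associatedPrimes F F, (P : Set F) := by
      rw [biUnion_associatedPrimes_eq_compl_regular F F]
      intro x hx hreg
      have hx0 : x ∈ nonZeroDivisors F := by
        rw [mem_nonZeroDivisors_iff_right]
        intro y hy
        exact hreg.right_eq_zero_of_smul (by rw [smul_eq_mul, mul_comm]; exact hy)
      exact hm.ne_top (Ideal.eq_top_of_isUnit_mem _ hx (hcon x hx0))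
    have hfin := associatedPrimes.finite F F
    rw [← hfin.coe_toFinset] at hsub
    obtain ⟨Q, hQ, hmQ⟩ := (Ideal.subset_union_prime (f := fun Q : Ideal F => Q) ⊥ ⊥
      (fun i hi _ _ => (IsAssociatedPrime.isPrime (hfin.mem_toFinset.mp hi)))).mp hsub
    rw [hfin.mem_toFinset] at hQ
    have := hm.eq_of_le (IsAssociatedPrime.isPrime hQ).ne_top hmQ
    rwa [this]
  have hfinmax : {m : Ideal F | m.IsMaximal}.Finite :=
    (associatedPrimes.finite F F).subset (fun m hm => hmax m hm)
  have hjac : P.jacobson = P := IsJacobsonRing.out inferInstance hP.isRadical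
  have hS : {J : Ideal F | P ≤ J ∧ J.IsMaximal}.Finite := hfinmax.subset (fun J hJ => hJ.2)
  have hinf : hS.toFinset.inf id ≤ P := by
    rw [Finset.inf_id_eq_sInf, hS.coe_toFinset]
    exact hjac.le
  obtain ⟨J, hJ, hJP⟩ := (Ideal.IsPrime.inf_le' hP).mp hinf
  rw [hS.mem_toFinset] at hJ
  have := hJ.2.eq_of_le hP.ne_top hJP
  rw [← this]
  exact hJ.2



/-- quasi-finite at a prime ⇒ quasi-finite on a basic open neighbourhood -/
theorem exists_quasiFinite_away_of_quasiFiniteAt {A B : Type*} [CommRing A] [CommRing B]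
    [Algebra A B] [Algebra.FiniteType A B] (q : Ideal B) [q.IsPrime] [Algebra.QuasiFiniteAt A q] :
    ∃ g : B, g ∉ q ∧ Algebra.QuasiFinite A (Localization.Away g) := by
  obtain ⟨S', hS', r, hrp, H⟩ :=
    Algebra.QuasiFiniteAt.exists_fg_and_exists_notMem_and_awayMap_bijective (R := A) q
  have : Module.Finite A S' := ⟨(Submodule.fg_top _).mpr hS'⟩
  have : Algebra.QuasiFinite A (Localization.Away r) := .trans _ S' _
  have : Algebra.QuasiFinite A (Localization.Away r.1) :=
    .of_surjective_algHom (Localization.awayMapₐ S'.val r) H.2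
  exact ⟨r.1, hrp, this⟩

/-- a prime of the fibre with prescribed contraction -/
theorem exists_fiber_prime {A B : Type*} [CommRing A] [CommRing B] [Algebra A B]
    (p : Ideal A) [p.IsPrime] (q : Ideal B) [q.IsPrime] (hq : q.comap (algebraMap A B) = p) :
    ∃ Q : Ideal (p.Fiber B), Q.IsPrime ∧
      Q.comap (Algebra.TensorProduct.includeRight : B →ₐ[A] p.Fiber B).toRingHom = q := by
  let x : (PrimeSpectrum.comap (algebraMap A B) ⁻¹' {(⟨p, inferInstance⟩ : PrimeSpectrum A)}) :=
    ⟨⟨q, inferInstance⟩, PrimeSpectrum.ext hq⟩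
  refine ⟨(PrimeSpectrum.preimageEquivFiber A B ⟨p, inferInstance⟩ x).asIdeal,
    (PrimeSpectrum.preimageEquivFiber A B ⟨p, inferInstance⟩ x).isPrime, ?_⟩
  have := (PrimeSpectrum.preimageEquivFiber A B ⟨p, inferInstance⟩).symm_apply_apply x
  exact congrArg (fun y => y.1.asIdeal) this

/-- base case: zero-dimensional fibre -/
theorem exists_quasiFinite_away {A B : Type u} [CommRing A] [CommRing B] [Algebra A B]
    [Algebra.FiniteType A B] (p : Ideal A) [p.IsPrime]
    (q : Ideal B) [q.IsPrime] (hq : q.comap (algebraMap A B) = p)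
    (h0 : Ring.KrullDimLE 0 (p.Fiber B)) :
    ∃ g : B, g ∉ q ∧ Algebra.QuasiFinite A (Localization.Away g) := by
  obtain ⟨Q, hQ, hQq⟩ := exists_fiber_prime p q hq
  haveI : q.LiesOver p := ⟨hq.symm⟩
  haveI : IsNoetherianRing (p.Fiber B) := Algebra.FiniteType.isNoetherianRing p.ResidueField _
  haveI : Module.Finite p.ResidueField (p.Fiber B) :=
    (Module.finite_iff_krullDimLE_zero (R := p.ResidueField) (A := p.Fiber B)).mpr h0
  haveI : Algebra.QuasiFiniteAt p.ResidueField Q := inferInstance
  haveI : Algebra.QuasiFiniteAt A q := .of_quasiFiniteAt_residueField p q Q hQq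
  exact exists_quasiFinite_away_of_quasiFiniteAt q



theorem exists_prime_away {B : Type*} [CommRing B] (q : Ideal B) [q.IsPrime] (g : B)
    (hg : g ∉ q) : ∃ Q : Ideal (Localization.Away g), Q.IsPrime ∧
      Q.comap (algebraMap B (Localization.Away g)) = q := by
  have hdisj : Disjoint (Submonoid.powers g : Set B) (q : Set B) :=
    (Ideal.disjoint_powers_iff_notMem _ (Ideal.IsPrime.isRadical inferInstance)).mpr hg
  exact ⟨q.map (algebraMap B (Localization.Away g)),
    IsLocalization.isPrime_of_isPrime_disjoint (Submonoid.powers g) _ q inferInstance hdisj,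
    IsLocalization.under_map_of_isPrime_disjoint (Submonoid.powers g) _ inferInstance hdisj⟩

/-- cancellation in `WithBot ℕ∞` -/
theorem le_of_add_one_le_add_one {x : WithBot ℕ∞} {n : ℕ} (h : x + 1 ≤ ((n + 1 : ℕ) : WithBot ℕ∞)) :
    x ≤ (n : WithBot ℕ∞) := by
  induction x using WithBot.recBotCoe with
  | bot => exact bot_le
  | coe m =>
    induction m using ENat.recTopCoe with
    | top =>
      exfalso
      have : ((⊤ : ℕ∞) : WithBot ℕ∞) + 1 = ((⊤ : ℕ∞) : WithBot ℕ∞) := by
        rw [← WithBot.coe_one, ← WithBot.coe_add, top_add]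
      rw [this] at h
      have h2 : (⊤ : ℕ∞) ≤ ((n + 1 : ℕ) : ℕ∞) := by exact_mod_cast h
      exact absurd h2 (by simp)
    | coe k =>
      have h2 : ((k + 1 : ℕ) : WithBot ℕ∞) ≤ ((n + 1 : ℕ) : WithBot ℕ∞) := by
        push_cast
        exact h
      have h3 : k + 1 ≤ n + 1 := by exact_mod_cast h2
      have h4 : k ≤ n := by omega
      exact_mod_cast h4



/-- Noetherian case, local form: a flat finite type algebra is dominated near a given prime by a
quasi-finite flat one. -/
theorem exists_quasiFinite_flat_of_noetherian (A : Type u) [CommRing A] [IsNoetherianRing A]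
    (n : ℕ) : ∀ (B : Type u) [CommRing B] [Algebra A B] [Algebra.FiniteType A B] [Module.Flat A B]
      (p : Ideal A) [p.IsPrime] (q : Ideal B) [q.IsPrime] (_ : q.comap (algebraMap A B) = p)
      (_ : ringKrullDim (p.Fiber B) ≤ n),
      ∃ (B' : Type u) (_ : CommRing B') (_ : Algebra A B') (_ : B →ₐ[A] B'),
        Module.Flat A B' ∧ Algebra.FiniteType A B' ∧ Algebra.QuasiFinite A B' ∧
          ∃ Q : Ideal B', Q.IsPrime ∧ Q.comap (algebraMap A B') = p := by
  induction n with
  | zero =>
    intro B _ _ _ _ p _ q _ hq hdim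
    have h0 : Ring.KrullDimLE 0 (p.Fiber B) := Ring.krullDimLE_iff.mpr (by exact_mod_cast hdim)
    obtain ⟨g, hgq, hqf⟩ := exists_quasiFinite_away p q hq h0
    obtain ⟨Q, hQ, hQq⟩ := exists_prime_away q g hgq
    refine ⟨Localization.Away g, inferInstance, inferInstance,
      IsScalarTower.toAlgHom A B (Localization.Away g), inferInstance, inferInstance, hqf, Q, hQ, ?_⟩
    rw [IsScalarTower.algebraMap_eq A B (Localization.Away g), ← Ideal.comap_comap, hQq, hq]
  | succ n ih =>
    intro B _ _ _ _ p _ q _ hq hdim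
    by_cases h0 : Ring.KrullDimLE 0 (p.Fiber B)
    · obtain ⟨g, hgq, hqf⟩ := exists_quasiFinite_away p q hq h0
      obtain ⟨Q, hQ, hQq⟩ := exists_prime_away q g hgq
      refine ⟨Localization.Away g, inferInstance, inferInstance,
        IsScalarTower.toAlgHom A B (Localization.Away g), inferInstance, inferInstance, hqf, Q, hQ, ?_⟩
      rw [IsScalarTower.algebraMap_eq A B (Localization.Away g), ← Ideal.comap_comap, hQq, hq]
    · haveI : IsNoetherianRing (p.Fiber B) := Algebra.FiniteType.isNoetherianRing p.ResidueField _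
      haveI : IsJacobsonRing (p.Fiber B) := isJacobsonRing_of_finiteType (A := p.ResidueField)
      obtain ⟨x, hx, hxu⟩ := exists_regular_nonunit h0
      obtain ⟨r, hr, s, e⟩ := Ideal.Fiber.exists_smul_eq_one_tmul p x
      -- `r` acts as a unit
      have hru : IsUnit (algebraMap A (p.Fiber B) r) := by
        have h1 : IsUnit (algebraMap A p.ResidueField r) := by
          rw [isUnit_iff_ne_zero, ne_eq, Ideal.algebraMap_residueField_eq_zero]
          exact hr
        rw [IsScalarTower.algebraMap_apply A p.ResidueField (p.Fiber B)]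
        exact h1.map _
      have hs0 : (1 : p.ResidueField) ⊗ₜ[A] s ∈ nonZeroDivisors (p.Fiber B) := by
        rw [← e, Algebra.smul_def]
        exact mul_mem (hru.mem_nonZeroDivisors) hx
      have hsu : ¬ IsUnit ((1 : p.ResidueField) ⊗ₜ[A] s : p.Fiber B) := by
        rw [← e, Algebra.smul_def]
        intro h
        exact hxu ((IsUnit.mul_iff.mp h).2)
      obtain ⟨Q', hQ'max, hQ'⟩ := Ideal.exists_le_maximal
        (Ideal.span {((1 : p.ResidueField) ⊗ₜ[A] s : p.Fiber B)})
        (by rwa [ne_eq, Ideal.span_singleton_eq_top])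
      haveI : Q'.IsPrime := hQ'max.isPrime
      let q' : Ideal B := Q'.comap (Algebra.TensorProduct.includeRight : B →ₐ[A] p.Fiber B).toRingHom
      have hq'p : q'.comap (algebraMap A B) = p := by
        have h1 : Q'.under A = p := (Ideal.over_def Q' p).symm
        rw [← h1]
        change Ideal.comap (algebraMap A B) (Ideal.comap _ Q') = Ideal.comap _ Q'
        rw [Ideal.comap_comap]
        congr 1
        ext a
        simp
      have hsq' : s ∈ q' := hQ' (Ideal.mem_span_singleton_self _)
      haveI : q'.LiesOver p := ⟨hq'p.symm⟩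
      have hreg : ∀ y : p.Fiber B, ((1 : p.ResidueField) ⊗ₜ[A] s) * y = 0 → y = 0 :=
        fun y hy => (mem_nonZeroDivisors_iff.mp hs0).1 y hy
      obtain ⟨g, hgq', hflat⟩ := exists_flat_away p q' s hsq' hreg
      -- the prime of the slice
      have hIq : Ideal.span {s} ≤ q' := (Ideal.span_singleton_le_iff_mem _).mpr hsq'
      let q₁ : Ideal (B ⧸ Ideal.span {s}) := q'.map (Ideal.Quotient.mk (Ideal.span {s}))
      have hq₁ : q₁.IsPrime :=
        Ideal.map_isPrime_of_surjective Ideal.Quotient.mk_surjective (by rwa [Ideal.mk_ker])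
      have hq₁c : q₁.comap (Ideal.Quotient.mk (Ideal.span {s})) = q' := by
        rw [Ideal.comap_map_of_surjective _ Ideal.Quotient.mk_surjective,
          ← RingHom.ker_eq_comap_bot, Ideal.mk_ker, sup_eq_left.mpr hIq]
      have hg₁ : Ideal.Quotient.mk (Ideal.span {s}) g ∉ q₁ := by
        intro h
        apply hgq'
        rw [← hq₁c]
        exact h
      obtain ⟨q₂, hq₂, hq₂c⟩ := exists_prime_away q₁ _ hg₁
      have hq₂p : q₂.comap (algebraMap A (Localization.Away
          (Ideal.Quotient.mk (Ideal.span {s}) g))) = p := by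
        rw [IsScalarTower.algebraMap_eq A (B ⧸ Ideal.span {s}), ← Ideal.comap_comap, hq₂c,
          IsScalarTower.algebraMap_eq A B (B ⧸ Ideal.span {s}), ← Ideal.comap_comap]
        change Ideal.comap (algebraMap A B) (Ideal.comap (Ideal.Quotient.mk _) q₁) = p
        rw [hq₁c, hq'p]
      -- dimension drop
      have hinj : Function.Injective (PrimeSpectrum.comap
          (algebraMap B (Localization.Away (Ideal.Quotient.mk (Ideal.span {s}) g)))) := by
        rw [IsScalarTower.algebraMap_eq B (B ⧸ Ideal.span {s})]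
        intro P₁ P₂ h
        apply PrimeSpectrum.localization_comap_injective (Localization.Away
          (Ideal.Quotient.mk (Ideal.span {s}) g)) (Submonoid.powers (Ideal.Quotient.mk (Ideal.span {s}) g))
        apply PrimeSpectrum.comap_injective_of_surjective (algebraMap B (B ⧸ Ideal.span {s}))
          Ideal.Quotient.mk_surjective
        exact h
      have hzero : algebraMap B (Localization.Away (Ideal.Quotient.mk (Ideal.span {s}) g)) s = 0 := by
        rw [IsScalarTower.algebraMap_apply B (B ⧸ Ideal.span {s})]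
        have : algebraMap B (B ⧸ Ideal.span {s}) s = 0 :=
          Ideal.Quotient.eq_zero_iff_mem.mpr (Ideal.mem_span_singleton_self _)
        rw [this, map_zero]
      have hdrop := ringKrullDim_fiber_succ_le p hinj s hzero hs0
      have hdim' : ringKrullDim (p.Fiber (Localization.Away
          (Ideal.Quotient.mk (Ideal.span {s}) g))) ≤ n :=
        le_of_add_one_le_add_one (hdrop.trans hdim)
      haveI : Algebra.FiniteType A (B ⧸ Ideal.span {s}) :=
        Algebra.FiniteType.of_surjective (Ideal.Quotient.mkₐ A _) Ideal.Quotient.mk_surjective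
      obtain ⟨B', i1, i2, φ, h1, h2, h3, h4⟩ := ih (Localization.Away
          (Ideal.Quotient.mk (Ideal.span {s}) g)) p q₂ hq₂p hdim'
      exact ⟨B', i1, i2, φ.comp (IsScalarTower.toAlgHom A B _), h1, h2, h3, h4⟩



/-- finite-type algebras over a field have finite Krull dimension -/
theorem exists_nat_ringKrullDim_le (k F : Type*) [Field k] [CommRing F] [Algebra k F]
    [Algebra.FiniteType k F] : ∃ n : ℕ, ringKrullDim F ≤ n := by
  obtain ⟨n, f, hf⟩ := Algebra.FiniteType.iff_quotient_mvPolynomial''.mp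
    (inferInstance : Algebra.FiniteType k F)
  refine ⟨n, (ringKrullDim_le_of_surjective f.toRingHom hf).trans ?_⟩
  rw [MvPolynomial.ringKrullDim_of_isNoetherianRing, ringKrullDim_eq_zero_of_field]
  simp

/-- Noetherian case, local form without the dimension bound. -/
theorem exists_quasiFinite_flat_of_noetherian' (A : Type u) [CommRing A] [IsNoetherianRing A]
    (B : Type u) [CommRing B] [Algebra A B] [Algebra.FiniteType A B] [Module.Flat A B]
    (q : PrimeSpectrum B) :
    ∃ (B' : Type u) (_ : CommRing B') (_ : Algebra A B') (_ : B →ₐ[A] B'),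
      Module.Flat A B' ∧ Algebra.FiniteType A B' ∧ Algebra.QuasiFinite A B' ∧
        q.comap (algebraMap A B) ∈ Set.range (PrimeSpectrum.comap (algebraMap A B')) := by
  obtain ⟨n, hn⟩ := exists_nat_ringKrullDim_le (q.comap (algebraMap A B)).asIdeal.ResidueField
    ((q.comap (algebraMap A B)).asIdeal.Fiber B)
  obtain ⟨B', i1, i2, φ, h1, h2, h3, Q, hQ, hQp⟩ :=
    exists_quasiFinite_flat_of_noetherian A n B (q.comap (algebraMap A B)).asIdeal q.asIdeal rfl hn
  exact ⟨B', i1, i2, φ, h1, h2, h3, ⟨Q, hQ⟩, PrimeSpectrum.ext hQp⟩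

theorem quasiFinite_prod {A B₁ B₂ : Type*} [CommRing A] [CommRing B₁] [CommRing B₂]
    [Algebra A B₁] [Algebra A B₂] [Algebra.QuasiFinite A B₁] [Algebra.QuasiFinite A B₂] :
    Algebra.QuasiFinite A (B₁ × B₂) := by
  refine ⟨fun P _ => ?_⟩
  exact Module.Finite.equiv (TensorProduct.prodRight A P.ResidueField P.ResidueField B₁ B₂).symm

theorem range_comap_prod_left {A B₁ B₂ : Type*} [CommRing A] [CommRing B₁] [CommRing B₂]
    [Algebra A B₁] [Algebra A B₂] :
    Set.range (PrimeSpectrum.comap (algebraMap A B₁)) ⊆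
      Set.range (PrimeSpectrum.comap (algebraMap A (B₁ × B₂))) := by
  rintro _ ⟨Q, rfl⟩
  exact ⟨PrimeSpectrum.comap (RingHom.fst B₁ B₂) Q, rfl⟩

theorem range_comap_prod_right {A B₁ B₂ : Type*} [CommRing A] [CommRing B₁] [CommRing B₂]
    [Algebra A B₁] [Algebra A B₂] :
    Set.range (PrimeSpectrum.comap (algebraMap A B₂)) ⊆
      Set.range (PrimeSpectrum.comap (algebraMap A (B₁ × B₂))) := by
  rintro _ ⟨Q, rfl⟩
  exact ⟨PrimeSpectrum.comap (RingHom.snd B₁ B₂) Q, rfl⟩

/-- Noetherian case, global form. -/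
theorem exists_quasiFinite_flat_cover (A : Type u) [CommRing A] [IsNoetherianRing A]
    (B : Type u) [CommRing B] [Algebra A B] [Algebra.FiniteType A B] [Module.Flat A B] :
    ∃ (B' : Type u) (_ : CommRing B') (_ : Algebra A B') (_ : B →ₐ[A] B'),
      Module.Flat A B' ∧ Algebra.FiniteType A B' ∧ Algebra.QuasiFinite A B' ∧
        Set.range (PrimeSpectrum.comap (algebraMap A B)) ⊆
          Set.range (PrimeSpectrum.comap (algebraMap A B')) := by
  classical
  choose B' i1 i2 φ h1 h2 h3 h4 using exists_quasiFinite_flat_of_noetherian' A B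
  letI := i1
  letI := i2
  let U : PrimeSpectrum B → Set (PrimeSpectrum A) :=
    fun q => Set.range (PrimeSpectrum.comap (algebraMap A (B' q)))
  have hU : ∀ q, IsOpen (U q) := by
    intro q
    haveI := h1 q
    haveI := h2 q
    haveI : Algebra.FinitePresentation A (B' q) :=
      Algebra.FinitePresentation.of_finiteType.mp inferInstance
    exact (PrimeSpectrum.isOpenMap_comap_of_hasGoingDown_of_finitePresentation
      (R := A) (S := B' q)).isOpen_range
  have hT : IsCompact (Set.range (PrimeSpectrum.comap (algebraMap A B))) :=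
    TopologicalSpace.NoetherianSpace.isCompact _
  obtain ⟨t, ht⟩ := hT.elim_finite_subcover U hU (by
    rintro _ ⟨q, rfl⟩
    exact Set.mem_iUnion.mpr ⟨q, h4 q⟩)
  have key : ∀ t : Finset (PrimeSpectrum B),
      ∃ (B'' : Type u) (_ : CommRing B'') (_ : Algebra A B'') (_ : B →ₐ[A] B''),
        Module.Flat A B'' ∧ Algebra.FiniteType A B'' ∧ Algebra.QuasiFinite A B'' ∧
          (⋃ q ∈ t, U q) ⊆ Set.range (PrimeSpectrum.comap (algebraMap A B'')) := by
    intro t
    induction t using Finset.induction_on with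
    | empty =>
      refine ⟨B ⧸ (⊤ : Ideal B), inferInstance, inferInstance, Ideal.Quotient.mkₐ A _, ?_, ?_, ?_, ?_⟩
      · haveI : Subsingleton (B ⧸ (⊤ : Ideal B)) := Ideal.Quotient.subsingleton_iff.mpr rfl
        haveI : Module.Free A (B ⧸ (⊤ : Ideal B)) := Module.Free.of_subsingleton _ _
        infer_instance
      · exact Algebra.FiniteType.of_surjective (Ideal.Quotient.mkₐ A _) Ideal.Quotient.mk_surjective
      · haveI : Subsingleton (B ⧸ (⊤ : Ideal B)) := Ideal.Quotient.subsingleton_iff.mpr rfl
        haveI : Module.Finite A (B ⧸ (⊤ : Ideal B)) := Module.Finite.of_finite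
        infer_instance
      · simp
    | insert q t hqt ih =>
      obtain ⟨B'', j1, j2, ψ, k1, k2, k3, k4⟩ := ih
      haveI := h1 q
      haveI := h2 q
      haveI := h3 q
      refine ⟨B' q × B'', inferInstance, inferInstance, AlgHom.prod (φ q) ψ, ?_, inferInstance,
        quasiFinite_prod, ?_⟩
      · exact Groth.Agent.H76.UnivInj.flat_prod (B' q) B''
      · intro x hx
        simp only [Finset.mem_insert, Set.iUnion_iUnion_eq_or_left, Set.mem_union] at hx
        rcases hx with hx | hx
        · exact range_comap_prod_left hx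
        · exact range_comap_prod_right (k4 hx)
  obtain ⟨B'', j1, j2, ψ, k1, k2, k3, k4⟩ := key t
  exact ⟨B'', j1, j2, ψ, k1, k2, k3, ht.trans k4⟩



/-- Base change from a Noetherian flat model. -/
theorem exists_dominating_of_isPushout {A B R S : Type u} [CommRing A] [IsNoetherianRing A]
    [CommRing B] [Algebra A B] [Algebra.FiniteType A B] [Module.Flat A B] [CommRing R]
    [Algebra A R] [CommRing S] [Algebra R S] [Algebra B S] [Algebra A S] [IsScalarTower A R S]
    [IsScalarTower A B S] [Algebra.IsPushout A R B S] [Module.FaithfullyFlat R S] :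
    ∃ (S' : Type u) (_ : CommRing S') (_ : Algebra R S'),
      Algebra.QuasiFinite R S' ∧ Algebra.FiniteType R S' ∧ Module.FaithfullyFlat R S' ∧
        Algebra.FinitePresentation R S' ∧ Nonempty (S →ₐ[R] S') := by
  obtain ⟨B', i1, i2, φ, h1, h2, h3, h4⟩ := exists_quasiFinite_flat_cover A B
  haveI : Algebra.FinitePresentation A B' := Algebra.FinitePresentation.of_finiteType.mp h2
  refine ⟨R ⊗[A] B', inferInstance, inferInstance, inferInstance, inferInstance, ?_, inferInstance,
    ⟨(Algebra.TensorProduct.map (AlgHom.id R R) φ).comp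
      (Algebra.IsPushout.equiv A R B S).symm.toAlgHom⟩⟩
  apply Module.FaithfullyFlat.of_comap_surjective
  intro x
  obtain ⟨q', hq'⟩ := PrimeSpectrum.comap_surjective_of_faithfullyFlat (A := R) (B := S) x
  have hmem : x.comap (algebraMap A R) ∈ Set.range (PrimeSpectrum.comap (algebraMap A B)) := by
    refine ⟨q'.comap (algebraMap B S), ?_⟩
    rw [← hq', ← PrimeSpectrum.comap_comp_apply, ← PrimeSpectrum.comap_comp_apply,
      ← IsScalarTower.algebraMap_eq, ← IsScalarTower.algebraMap_eq]
  obtain ⟨Q, hQ⟩ := h4 hmem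
  obtain ⟨P, hP, hP1, -⟩ := Groth.Agent.Lib.Helper3.exists_prime_tensorProduct_comap_eq
    (R := A) (S := R) (S' := B') x.asIdeal Q.asIdeal (congrArg PrimeSpectrum.asIdeal hQ)
  exact ⟨⟨P, hP⟩, PrimeSpectrum.ext hP1⟩



/-- cokernel of a one-column matrix is the quotient by the ideal of its entries -/
noncomputable def quotEquiv {P : Type*} [CommRing P] {r : ℕ} (fJ : Fin r → P) (I : Ideal P)
    (hI : Ideal.span (Set.range fJ) = I) :
    ((Fin 1 → P) ⧸ Submodule.span P (Set.range fun (k : Fin r) (_ : Fin 1) => fJ k)) ≃ₗ[P] (P ⧸ I) :=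
  Submodule.Quotient.equiv _ _ (LinearEquiv.funUnique (Fin 1) P P) (by
    rw [Submodule.map_span, ← Set.range_comp, ← hI]
    rfl)

/-- From a flat Noetherian stage of a presentation to a quasi-finite dominating algebra. -/
theorem exists_dominating_of_stage {A R S : Type u} [CommRing A] [IsNoetherianRing A]
    [CommRing R] [Algebra A R] [CommRing S] [Algebra R S] [Module.FaithfullyFlat R S] {n r : ℕ}
    (π : MvPolynomial (Fin n) R →ₐ[R] S) (hπ : Function.Surjective π)
    (f₀ : Fin r → MvPolynomial (Fin n) A)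
    (hker : RingHom.ker π.toRingHom =
      Ideal.span (Set.range fun k => MvPolynomial.map (algebraMap A R) (f₀ k)))
    (hflat : Module.Flat A ((Fin 1 → MvPolynomial (Fin n) A) ⧸
      Submodule.span (MvPolynomial (Fin n) A) (Set.range fun (k : Fin r) (_ : Fin 1) => f₀ k))) :
    ∃ (S' : Type u) (_ : CommRing S') (_ : Algebra R S'),
      Algebra.QuasiFinite R S' ∧ Algebra.FiniteType R S' ∧ Module.FaithfullyFlat R S' ∧
        Algebra.FinitePresentation R S' ∧ Nonempty (S →ₐ[R] S') := by
  letI algAS : Algebra A S := ((algebraMap R S).comp (algebraMap A R)).toAlgebra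
  haveI : IsScalarTower A R S := IsScalarTower.of_algebraMap_eq (fun _ => rfl)
  letI algPS : Algebra (MvPolynomial (Fin n) R) S := π.toRingHom.toAlgebra
  haveI : IsScalarTower R (MvPolynomial (Fin n) R) S :=
    IsScalarTower.of_algebraMap_eq (fun r => (π.commutes r).symm)
  have hsurj : Function.Surjective (algebraMap (MvPolynomial (Fin n) R) S) := hπ
  let I₀ : Ideal (MvPolynomial (Fin n) A) := Ideal.span (Set.range f₀)
  haveI : Module.Flat A (MvPolynomial (Fin n) A ⧸ I₀) :=
    Module.Flat.of_linearEquiv ((quotEquiv f₀ I₀ rfl).symm.restrictScalars A)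
  let ψ : MvPolynomial (Fin n) A →+* S :=
    (algebraMap (MvPolynomial (Fin n) R) S).comp (MvPolynomial.map (algebraMap A R))
  have hψ : ∀ a ∈ I₀, ψ a = 0 := by
    have hle : I₀ ≤ RingHom.ker ψ := by
      rw [Ideal.span_le]
      rintro _ ⟨k, rfl⟩
      have : MvPolynomial.map (algebraMap A R) (f₀ k) ∈ RingHom.ker π.toRingHom := by
        rw [hker]
        exact Ideal.subset_span ⟨k, rfl⟩
      exact this
    exact fun a ha => hle ha
  let φ₀ : (MvPolynomial (Fin n) A ⧸ I₀) →+* S := Ideal.Quotient.lift I₀ ψ hψ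
  letI algBS : Algebra (MvPolynomial (Fin n) A ⧸ I₀) S := φ₀.toAlgebra
  haveI : IsScalarTower A (MvPolynomial (Fin n) A ⧸ I₀) S := by
    refine IsScalarTower.of_algebraMap_eq (R := A) (S := MvPolynomial (Fin n) A ⧸ I₀) (A := S)
      (fun x => ?_)
    show _ = φ₀ (algebraMap A (MvPolynomial (Fin n) A ⧸ I₀) x)
    rw [IsScalarTower.algebraMap_apply A (MvPolynomial (Fin n) A)
      (MvPolynomial (Fin n) A ⧸ I₀), Ideal.Quotient.algebraMap_eq, Ideal.Quotient.lift_mk,
      MvPolynomial.algebraMap_eq]
    show _ = π (MvPolynomial.map _ (MvPolynomial.C x))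
    rw [MvPolynomial.map_C, ← MvPolynomial.algebraMap_eq, π.commutes]
    rfl
  have hker₀ : RingHom.ker (algebraMap (MvPolynomial (Fin n) A)
      (MvPolynomial (Fin n) A ⧸ I₀)) = Ideal.span (Set.range f₀) := by
    rw [Ideal.Quotient.algebraMap_eq]
    exact Ideal.mk_ker
  haveI hpush : Algebra.IsPushout A R (MvPolynomial (Fin n) A ⧸ I₀) S :=
    Groth.Agent.H76.FlatModel.isPushout_quotient hsurj Ideal.Quotient.mk_surjective f₀ hker hker₀
      (fun p => rfl)
  haveI : Algebra.FiniteType A (MvPolynomial (Fin n) A ⧸ I₀) :=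
    Algebra.FiniteType.of_surjective (Ideal.Quotient.mkₐ A I₀) Ideal.Quotient.mk_surjective
  exact exists_dominating_of_isPushout (A := A) (B := MvPolynomial (Fin n) A ⧸ I₀)
    (R := R) (S := S)



/-- Every faithfully flat finitely presented algebra is dominated by a quasi-finite one. -/
theorem exists_quasiFinite_dominating (R : Type u) [CommRing R] (S : Type u) [CommRing S]
    [Algebra R S] [Module.FaithfullyFlat R S] [Algebra.FinitePresentation R S] :
    ∃ (S' : Type u) (_ : CommRing S') (_ : Algebra R S'),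
      Algebra.QuasiFinite R S' ∧ Algebra.FiniteType R S' ∧ Module.FaithfullyFlat R S' ∧
        Algebra.FinitePresentation R S' ∧ Nonempty (S →ₐ[R] S') := by
  classical
  obtain ⟨n, π, hπ, hker⟩ := Algebra.FinitePresentation.out (R := R) (A := S)
  obtain ⟨r, fJ, hfJ⟩ := Submodule.fg_iff_exists_fin_generating_family.mp hker
  let c : Fin r → Fin 1 → MvPolynomial (Fin n) R := fun k _ => fJ k
  haveI : Module.Flat R ((Fin 1 → MvPolynomial (Fin n) R) ⧸
      Submodule.span (MvPolynomial (Fin n) R) (Set.range c)) := by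
    have e1 := quotEquiv fJ (RingHom.ker π.toRingHom) hfJ
    have e2 : (MvPolynomial (Fin n) R ⧸ RingHom.ker π.toRingHom) ≃ₐ[R] S :=
      Ideal.quotientKerAlgEquivOfSurjective hπ
    exact Module.Flat.of_linearEquiv ((e1.restrictScalars R).trans e2.toLinearEquiv)
  obtain ⟨s, -, c', hc', hflat'⟩ :=
    Groth.Agent.H76.FlatDescentGlobal.exists_stage_flat_global c ∅
  let f₀ : Fin r → MvPolynomial (Fin n) (Stg s) := fun k => c' k 0
  have hf₀ : ∀ k, MvPolynomial.map (algebraMap (Stg s) R) (f₀ k) = fJ k :=
    fun k => congrFun (congrFun hc' k) 0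
  have hc'eq : c' = fun k _ => f₀ k := by
    funext k i
    rw [Subsingleton.elim i 0]
  rw [hc'eq] at hflat'
  haveI : Algebra.FiniteType ℤ (Stg s) := inferInstance
  haveI : IsNoetherianRing (Stg s) := Algebra.FiniteType.isNoetherianRing ℤ _
  refine exists_dominating_of_stage (A := Stg s) π hπ f₀ ?_ hflat'
  simp_rw [hf₀]
  exact hfJ.symm

end Groth.Agent.Lib.Helper22.QFSlice
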