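import Mathlib
import Groth.Agent.Lib.Helper22.QFSlice

/-!
# Flat finitely presented algebras are dominated by quasi-finite flat ones (helper22)

Variant of `QFSlice.exists_quasiFinite_dominating` without faithful flatness: the image of the
spectrum is preserved.
-/

set_option autoImplicit false
set_option linter.style.haveILetI false

open TensorProduct

open Groth.Agent.H76.FlatDescentLocal Groth.Agent.H76.FlatKernel

namespace Groth.Agent.Lib.Helper22.QFSlice

universe u

/-- Base change from a Noetherian flat model, without faithful flatness. -/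
theorem exists_dominating_of_isPushout' {A B R S : Type u} [CommRing A] [IsNoetherianRing A]
    [CommRing B] [Algebra A B] [Algebra.FiniteType A B] [Module.Flat A B] [CommRing R]
    [Algebra A R] [CommRing S] [Algebra R S] [Algebra B S] [Algebra A S] [IsScalarTower A R S]
    [IsScalarTower A B S] [Algebra.IsPushout A R B S] :
    ∃ (S' : Type u) (_ : CommRing S') (_ : Algebra R S'),
      Algebra.QuasiFinite R S' ∧ Algebra.FiniteType R S' ∧ Module.Flat R S' ∧
        Algebra.FinitePresentation R S' ∧
        Set.range (PrimeSpectrum.comap (algebraMap R S)) ⊆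
          Set.range (PrimeSpectrum.comap (algebraMap R S')) ∧ Nonempty (S →ₐ[R] S') := by
  obtain ⟨B', i1, i2, φ, h1, h2, h3, h4⟩ := exists_quasiFinite_flat_cover A B
  haveI : Algebra.FinitePresentation A B' := Algebra.FinitePresentation.of_finiteType.mp h2
  refine ⟨R ⊗[A] B', inferInstance, inferInstance, inferInstance, inferInstance, inferInstance,
    inferInstance, ?_,
    ⟨(Algebra.TensorProduct.map (AlgHom.id R R) φ).comp
      (Algebra.IsPushout.equiv A R B S).symm.toAlgHom⟩⟩
  rintro x ⟨q', hq'⟩
  have hmem : x.comap (algebraMap A R) ∈ Set.range (PrimeSpectrum.comap (algebraMap A B)) := by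
    refine ⟨q'.comap (algebraMap B S), ?_⟩
    rw [← hq', ← PrimeSpectrum.comap_comp_apply, ← PrimeSpectrum.comap_comp_apply,
      ← IsScalarTower.algebraMap_eq, ← IsScalarTower.algebraMap_eq]
  obtain ⟨Q, hQ⟩ := h4 hmem
  obtain ⟨P, hP, hP1, -⟩ := Groth.Agent.Lib.Helper3.exists_prime_tensorProduct_comap_eq
    (R := A) (S := R) (S' := B') x.asIdeal Q.asIdeal (congrArg PrimeSpectrum.asIdeal hQ)
  exact ⟨⟨P, hP⟩, PrimeSpectrum.ext hP1⟩

/-- From a flat Noetherian stage of a presentation to a quasi-finite dominating algebra. -/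
theorem exists_dominating_of_stage' {A R S : Type u} [CommRing A] [IsNoetherianRing A]
    [CommRing R] [Algebra A R] [CommRing S] [Algebra R S] {n r : ℕ}
    (π : MvPolynomial (Fin n) R →ₐ[R] S) (hπ : Function.Surjective π)
    (f₀ : Fin r → MvPolynomial (Fin n) A)
    (hker : RingHom.ker π.toRingHom =
      Ideal.span (Set.range fun k => MvPolynomial.map (algebraMap A R) (f₀ k)))
    (hflat : Module.Flat A ((Fin 1 → MvPolynomial (Fin n) A) ⧸
      Submodule.span (MvPolynomial (Fin n) A) (Set.range fun (k : Fin r) (_ : Fin 1) => f₀ k))) :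
    ∃ (S' : Type u) (_ : CommRing S') (_ : Algebra R S'),
      Algebra.QuasiFinite R S' ∧ Algebra.FiniteType R S' ∧ Module.Flat R S' ∧
        Algebra.FinitePresentation R S' ∧
        Set.range (PrimeSpectrum.comap (algebraMap R S)) ⊆
          Set.range (PrimeSpectrum.comap (algebraMap R S')) ∧ Nonempty (S →ₐ[R] S') := by
  letI algAS : Algebra A S := ((algebraMap R S).comp (algebraMap A R)).toAlgebra
  haveI : IsScalarTower A R S := IsScalarTower.of_algebraMap_eq (fun _ => rfl)
  letI algPS : Algebra (MvPolynomial (Fin n) R) S := π.toRingHom.toAlgebra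
  haveI : IsScalarTower R (MvPolynomial (Fin n) R) S :=
    IsScalarTower.of_algebraMap_eq (fun r => (π.commutes r).symm)
  have hsurj : Function.Surjective (algebraMap (MvPolynomial (Fin n) R) S) := hπ
  let I₀ : Ideal (MvPolynomial (Fin n) A) := Ideal.span (Set.range f₀)
  haveI : Module.Flat A (MvPolynomial (Fin n) A ⧸ I₀) :=
    Module.Flat.of_linearEquiv ((quotEquiv f₀ I₀ rfl).symm.restrictScalars A)
  let ψ : MvPolynomial (Fin n) A →+* S :=
    (algebraMap (MvPolynomial (Fin n) R) S).comp (MvPolynomial.map (algebraMap A R))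
  have hψ : ∀ a ∈ I₀, ψ a = 0 := by
    have hle : I₀ ≤ RingHom.ker ψ := by
      rw [Ideal.span_le]
      rintro _ ⟨k, rfl⟩
      have : MvPolynomial.map (algebraMap A R) (f₀ k) ∈ RingHom.ker π.toRingHom := by
        rw [hker]
        exact Ideal.subset_span ⟨k, rfl⟩
      exact this
    exact fun a ha => hle ha
  let φ₀ : (MvPolynomial (Fin n) A ⧸ I₀) →+* S := Ideal.Quotient.lift I₀ ψ hψ
  letI algBS : Algebra (MvPolynomial (Fin n) A ⧸ I₀) S := φ₀.toAlgebra
  haveI : IsScalarTower A (MvPolynomial (Fin n) A ⧸ I₀) S := by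
    refine IsScalarTower.of_algebraMap_eq (R := A) (S := MvPolynomial (Fin n) A ⧸ I₀) (A := S)
      (fun x => ?_)
    show _ = φ₀ (algebraMap A (MvPolynomial (Fin n) A ⧸ I₀) x)
    rw [IsScalarTower.algebraMap_apply A (MvPolynomial (Fin n) A)
      (MvPolynomial (Fin n) A ⧸ I₀), Ideal.Quotient.algebraMap_eq, Ideal.Quotient.lift_mk,
      MvPolynomial.algebraMap_eq]
    show _ = π (MvPolynomial.map _ (MvPolynomial.C x))
    rw [MvPolynomial.map_C, ← MvPolynomial.algebraMap_eq, π.commutes]
    rfl
  have hker₀ : RingHom.ker (algebraMap (MvPolynomial (Fin n) A)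
      (MvPolynomial (Fin n) A ⧸ I₀)) = Ideal.span (Set.range f₀) := by
    rw [Ideal.Quotient.algebraMap_eq]
    exact Ideal.mk_ker
  haveI hpush : Algebra.IsPushout A R (MvPolynomial (Fin n) A ⧸ I₀) S :=
    Groth.Agent.H76.FlatModel.isPushout_quotient hsurj Ideal.Quotient.mk_surjective f₀ hker hker₀
      (fun p => rfl)
  haveI : Algebra.FiniteType A (MvPolynomial (Fin n) A ⧸ I₀) :=
    Algebra.FiniteType.of_surjective (Ideal.Quotient.mkₐ A I₀) Ideal.Quotient.mk_surjective
  exact exists_dominating_of_isPushout' (A := A) (B := MvPolynomial (Fin n) A ⧸ I₀)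
    (R := R) (S := S)

/-- Every flat finitely presented algebra is dominated by a quasi-finite flat finitely presented one
with (at least) the same image on spectra. -/
theorem exists_quasiFinite_dominating' (R : Type u) [CommRing R] (S : Type u) [CommRing S]
    [Algebra R S] [Module.Flat R S] [Algebra.FinitePresentation R S] :
    ∃ (S' : Type u) (_ : CommRing S') (_ : Algebra R S'),
      Algebra.QuasiFinite R S' ∧ Algebra.FiniteType R S' ∧ Module.Flat R S' ∧
        Algebra.FinitePresentation R S' ∧
        Set.range (PrimeSpectrum.comap (algebraMap R S)) ⊆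
          Set.range (PrimeSpectrum.comap (algebraMap R S')) ∧ Nonempty (S →ₐ[R] S') := by
  classical
  obtain ⟨n, π, hπ, hker⟩ := Algebra.FinitePresentation.out (R := R) (A := S)
  obtain ⟨r, fJ, hfJ⟩ := Submodule.fg_iff_exists_fin_generating_family.mp hker
  let c : Fin r → Fin 1 → MvPolynomial (Fin n) R := fun k _ => fJ k
  haveI : Module.Flat R ((Fin 1 → MvPolynomial (Fin n) R) ⧸
      Submodule.span (MvPolynomial (Fin n) R) (Set.range c)) := by
    have e1 := quotEquiv fJ (RingHom.ker π.toRingHom) hfJ
    have e2 : (MvPolynomial (Fin n) R ⧸ RingHom.ker π.toRingHom) ≃ₐ[R] S :=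
      Ideal.quotientKerAlgEquivOfSurjective hπ
    exact Module.Flat.of_linearEquiv ((e1.restrictScalars R).trans e2.toLinearEquiv)
  obtain ⟨s, -, c', hc', hflat'⟩ :=
    Groth.Agent.H76.FlatDescentGlobal.exists_stage_flat_global c ∅
  let f₀ : Fin r → MvPolynomial (Fin n) (Stg s) := fun k => c' k 0
  have hf₀ : ∀ k, MvPolynomial.map (algebraMap (Stg s) R) (f₀ k) = fJ k :=
    fun k => congrFun (congrFun hc' k) 0
  have hc'eq : c' = fun k _ => f₀ k := by
    funext k i
    rw [Subsingleton.elim i 0]
  rw [hc'eq] at hflat'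
  haveI : Algebra.FiniteType ℤ (Stg s) := inferInstance
  haveI : IsNoetherianRing (Stg s) := Algebra.FiniteType.isNoetherianRing ℤ _
  refine exists_dominating_of_stage' (A := Stg s) π hπ f₀ ?_ hflat'
  simp_rw [hf₀]
  exact hfJ.symm

end Groth.Agent.Lib.Helper22.QFSlice
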