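import Mathlib
import Groth.Agent.Lib.Helper22.QFSliceGen

set_option autoImplicit false
set_option linter.style.haveILetI false

open AlgebraicGeometry CategoryTheory Limits

namespace Groth.Agent.Lib.Helper22.QFSliceScheme

universe u

set_option backward.isDefEq.respectTransparency false in
/-- Local form: near a point, a flat lfp morphism is dominated by an affine quasi-finite flat lfp
scheme over the base, hitting the image of the point. -/
theorem exists_local {X S : Scheme.{u}} (f : X ⟶ S) [Flat f] [LocallyOfFinitePresentation f]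
    (x : X) :
    ∃ (T : Scheme.{u}) (g : T ⟶ S) (h : T ⟶ X), IsAffine T ∧ h ≫ f = g ∧ Flat g ∧
      LocallyOfFinitePresentation g ∧ LocallyQuasiFinite g ∧ f x ∈ Set.range g := by
  obtain ⟨_, ⟨U, hU, rfl⟩, hfxU, -⟩ := S.isBasis_affineOpens.exists_subset_of_mem_open
    (Set.mem_univ (f x)) isOpen_univ
  obtain ⟨_, ⟨V, hV, rfl⟩, hxV, hVU⟩ := X.isBasis_affineOpens.exists_subset_of_mem_open
    (show x ∈ (f ⁻¹ᵁ U : Set X) from hfxU) (f ⁻¹ᵁ U).2
  have e : V ≤ f ⁻¹ᵁ U := hVU
  letI : Algebra Γ(S, U) Γ(X, V) := (f.appLE U V e).hom.toAlgebra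
  haveI : Module.Flat Γ(S, U) Γ(X, V) := f.flat_appLE hU hV e
  haveI : Algebra.FinitePresentation Γ(S, U) Γ(X, V) :=
    RingHom.finitePresentation_algebraMap.mp (f.finitePresentation_appLE hU hV e)
  obtain ⟨A', i1, i2, hqf, hft, hfl, hfp, hrange, ⟨ψ⟩⟩ :=
    Groth.Agent.Lib.Helper22.QFSlice.exists_quasiFinite_dominating' Γ(S, U) Γ(X, V)
  let g₀ : Spec (CommRingCat.of A') ⟶ Spec Γ(S, U) :=
    Spec.map (CommRingCat.ofHom (algebraMap Γ(S, U) A'))
  have hg₀1 : Flat g₀ :=
    (HasRingHomProperty.Spec_iff (P := @Flat)).mpr (RingHom.flat_algebraMap_iff.mpr hfl)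
  have hg₀2 : LocallyOfFinitePresentation g₀ :=
    (HasRingHomProperty.Spec_iff (P := @LocallyOfFinitePresentation)).mpr
      (RingHom.finitePresentation_algebraMap.mpr hfp)
  have hg₀3 : LocallyQuasiFinite g₀ :=
    (HasRingHomProperty.Spec_iff (P := @LocallyQuasiFinite)).mpr
      (RingHom.quasiFinite_algebraMap.mpr hqf)
  refine ⟨Spec (CommRingCat.of A'), g₀ ≫ hU.fromSpec,
    Spec.map (CommRingCat.ofHom ψ.toRingHom) ≫ hV.fromSpec, inferInstance, ?_, inferInstance,
    inferInstance, inferInstance, ?_⟩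
  · rw [Category.assoc, ← IsAffineOpen.SpecMap_appLE_fromSpec f hU hV e, ← Category.assoc, ← Spec.map_comp]
    congr 2
    ext a
    exact ψ.commutes a
  · have h1 : (hU.primeIdealOf ⟨f x, hfxU⟩) ∈
        Set.range (PrimeSpectrum.comap (algebraMap Γ(S, U) Γ(X, V))) :=
      ⟨hV.primeIdealOf ⟨x, hxV⟩, IsAffineOpen.comap_primeIdealOf_appLE U hU V hV e hxV⟩
    obtain ⟨Q, hQ⟩ := hrange h1
    refine ⟨Q, ?_⟩
    rw [Scheme.Hom.comp_apply]
    have : g₀ Q = hU.primeIdealOf ⟨f x, hfxU⟩ := hQ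
    rw [this, hU.fromSpec_primeIdealOf]



set_option backward.isDefEq.respectTransparency false in
/-- EGA IV 17.16.2: an fppf cover is dominated by a quasi-finite fppf cover. -/
theorem exists_quasiFinite_cover {X S : Scheme.{u}} (f : X ⟶ S)
    [Flat f] [LocallyOfFinitePresentation f] [Surjective f] :
    ∃ (S' : Scheme.{u}) (g : S' ⟶ S) (h : S' ⟶ X), h ≫ f = g ∧ Flat g ∧
      LocallyOfFinitePresentation g ∧ LocallyQuasiFinite g ∧ Surjective g ∧
      (CompactSpace S → IsAffine S') := by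
  choose x hx using f.surjective
  choose T g h hT hcomm hfl hfp hqf hmem using fun s : S => exists_local f (x s)
  have hmem' : ∀ s, s ∈ Set.range (g s) := fun s => by
    have := hmem s
    rwa [hx s] at this
  have hopen : ∀ s, IsOpen (Set.range (g s)) := fun s => by
    haveI := hfl s
    haveI := hfp s
    exact (g s).isOpenMap.isOpen_range
  have key : ∀ (ι : Type u) (σ : ι → S), (⋃ i, Set.range (g (σ i)) = Set.univ) →
      ∃ (S' : Scheme.{u}) (g' : S' ⟶ S) (h' : S' ⟶ X), h' ≫ f = g' ∧ Flat g' ∧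
        LocallyOfFinitePresentation g' ∧ LocallyQuasiFinite g' ∧ Surjective g' ∧
        (Finite ι → IsAffine S') := by
    intro ι σ hcov
    refine ⟨∐ (fun i => T (σ i)), Sigma.desc (fun i => g (σ i)), Sigma.desc (fun i => h (σ i)),
      ?_, ?_, ?_, ?_, ?_, ?_⟩
    · apply Sigma.hom_ext
      intro i
      rw [Sigma.ι_desc_assoc, Sigma.ι_desc, hcomm]
    · exact IsZariskiLocalAtSource.sigmaDesc (P := @Flat) (fun i => hfl (σ i))
    · exact IsZariskiLocalAtSource.sigmaDesc (P := @LocallyOfFinitePresentation)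
        (fun i => hfp (σ i))
    · exact IsZariskiLocalAtSource.sigmaDesc (P := @LocallyQuasiFinite) (fun i => hqf (σ i))
    · exact Surjective.sigmaDesc_of_union_range_eq_univ hcov
    · intro hfin
      haveI : ∀ i, IsAffine (T (σ i)) := fun i => hT _
      infer_instance
  by_cases hc : CompactSpace S
  · obtain ⟨t, ht⟩ := isCompact_univ.elim_finite_subcover (fun s => Set.range (g s)) hopen
      (fun s _ => Set.mem_iUnion.mpr ⟨s, hmem' s⟩)
    obtain ⟨S', g', h', h1, h2, h3, h4, h5, h6⟩ := key t (fun i => i.1) (by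
      rw [Set.eq_univ_iff_forall]
      intro s
      obtain ⟨i, hi⟩ := Set.mem_iUnion.mp (ht (Set.mem_univ s))
      obtain ⟨hit, hs⟩ := Set.mem_iUnion.mp hi
      exact Set.mem_iUnion.mpr ⟨⟨i, hit⟩, hs⟩)
    exact ⟨S', g', h', h1, h2, h3, h4, h5, fun _ => h6 inferInstance⟩
  · obtain ⟨S', g', h', h1, h2, h3, h4, h5, -⟩ := key S (fun s => s) (by
      rw [Set.eq_univ_iff_forall]
      intro s
      exact Set.mem_iUnion.mpr ⟨s, hmem' s⟩)
    exact ⟨S', g', h', h1, h2, h3, h4, h5, fun hc' => absurd hc' hc⟩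

end Groth.Agent.Lib.Helper22.QFSliceScheme
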