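import Mathlib
import Groth.Prelude.Def_Mor2
import Groth.Agent.Lib.Helper22.QFSliceScheme
import Groth.Agent.Lib.Helper22.EtaleSplitScheme
import Groth.Agent.Lib.Helper22.WeightingPieces
import Groth.Agent.Lib.Helper22.WeightingSepNbhd

/-!
# Refining fppf coverings by towers of Zariski and finite locally free coverings (helper22)
-/

set_option autoImplicit false
set_option linter.style.haveILetI false
universe u
open AlgebraicGeometry CategoryTheory Limits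

namespace Groth.Agent.Lib.Helper22.FppfTowers

open Groth.Agent.Lib.Helper22.Weighting

/-- Step 1: a flat lfp morphism is, étale locally around the image of a point, dominated by a
surjective finite locally free morphism. -/
theorem exists_etale_finLocFree {X S : Scheme.{u}} (f : X ⟶ S) [Flat f]
    [LocallyOfFinitePresentation f] (x : X) :
    ∃ (V : Scheme.{u}) (γ : V ⟶ S) (_ : Etale γ) (v : V) (P : Scheme.{u}) (π : P ⟶ V) (b : P ⟶ X),
      γ v = f x ∧ b ≫ f = π ≫ γ ∧ IsFinite π ∧ Flat π ∧ LocallyOfFinitePresentation π ∧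
        Surjective π := by
  obtain ⟨T, g, h, _, hcomm, hfl, hfp, hqf, t₀, ht₀⟩ := QFSliceScheme.exists_local f x
  have : LocallyOfFiniteType g := inferInstance
  obtain ⟨V, γ, _, P, a, π, hp, u, hau, -⟩ := exists_etale_piece_deg_eq_one g t₀
  have := hp.isFinite
  have := hp.isOpenImmersion_lift
  have hπ : pullback.lift a π hp.comm ≫ pullback.snd g γ = π := pullback.lift_snd _ _ _
  have hπfl : Flat π := by rw [← hπ]; infer_instance
  have hπfp : LocallyOfFinitePresentation π := by rw [← hπ]; infer_instance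
  let V₁ : V.Opens := ⟨Set.range π, π.isOpenMap.isOpen_range⟩
  have hu : π u ∈ V₁ := ⟨u, rfl⟩
  refine ⟨V₁, V₁.ι ≫ γ, inferInstance, ⟨π u, hu⟩, ↑(π ⁻¹ᵁ V₁), π ∣_ V₁,
    (π ⁻¹ᵁ V₁).ι ≫ a ≫ h, ?_, ?_, inferInstance, inferInstance, inferInstance, ?_⟩
  · change γ (π u) = f x
    rw [← Scheme.Hom.comp_apply, ← hp.comm, Scheme.Hom.comp_apply, hau, ht₀]
  · rw [Category.assoc, Category.assoc, hcomm, hp.comm, ← Category.assoc, ← Category.assoc,
      morphismRestrict_ι]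
  · constructor
    rintro ⟨_, ⟨p, rfl⟩⟩
    exact ⟨⟨p, ⟨p, rfl⟩⟩, Subtype.ext (morphismRestrict_base_coe π V₁ _)⟩

/-- Step 2: an étale neighbourhood is dominated, Zariski locally on the base, by a surjective finite
locally free morphism admitting local lifts around every point. -/
theorem exists_finLocFree_dominating_etale {V S : Scheme.{u}} (γ : V ⟶ S) [Etale γ] (v : V) :
    ∃ (U : S.Opens) (W : Scheme.{u}) (ϖ : W ⟶ U.toScheme), γ v ∈ U ∧ IsFinite ϖ ∧ Flat ϖ ∧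
      LocallyOfFinitePresentation ϖ ∧ Surjective ϖ ∧
      ∀ w : W, ∃ (W' : W.Opens) (h : W'.toScheme ⟶ V), w ∈ W' ∧ h ≫ γ = W'.ι ≫ ϖ ≫ U.ι := by
  obtain ⟨Vs, T, π, hs, -, hsurj, hfin, hfl, hfp, hlift⟩ :=
    EtaleSplit.exists_finite_flat_dominating γ v (γ v) rfl
  let G : Set T := {t | ∃ (W₀ : T.Opens) (h₀ : W₀.toScheme ⟶ V), t ∈ W₀ ∧
    h₀ ≫ γ = W₀.ι ≫ π ≫ Vs.ι}
  have hGo : IsOpen G := by
    rw [isOpen_iff_forall_mem_open]
    rintro t ⟨W₀, h₀, ht, hh⟩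
    exact ⟨W₀, fun t' ht' => ⟨W₀, h₀, ht', hh⟩, W₀.2, ht⟩
  have hZ : IsClosed (π '' Gᶜ) := π.isClosedMap _ hGo.isClosed_compl
  let O : Vs.toScheme.Opens := ⟨(π '' Gᶜ)ᶜ, hZ.isOpen_compl⟩
  have hsO : (⟨γ v, hs⟩ : Vs.toScheme) ∈ O := by
    rintro ⟨t, htG, ht⟩
    apply htG
    obtain ⟨W₀, h₀, htW, hh, -⟩ := hlift t (by rw [ht]; rfl)
    exact ⟨W₀, h₀, htW, hh⟩
  let e := Vs.ι.isoImage O
  have hsurjO : Surjective (π ∣_ O) := by
    constructor
    intro o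
    obtain ⟨t, ht⟩ := π.surjective o.1
    have htO : t ∈ π ⁻¹ᵁ O := by
      change π t ∈ O
      rw [ht]
      exact o.2
    exact ⟨⟨t, htO⟩, Subtype.ext ((morphismRestrict_base_coe π O _).trans ht)⟩
  refine ⟨Vs.ι ''ᵁ O, ↑(π ⁻¹ᵁ O), (π ∣_ O) ≫ e.hom, ⟨⟨γ v, hs⟩, hsO, rfl⟩, inferInstance,
    inferInstance, inferInstance, inferInstance, ?_⟩
  intro w
  have hwG : w.1 ∈ G := by
    by_contra hw
    exact w.2 ⟨w.1, hw, rfl⟩
  obtain ⟨W₀, h₀, hwW, hh⟩ := hwG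
  refine ⟨(π ⁻¹ᵁ O).ι ⁻¹ᵁ W₀, ((π ⁻¹ᵁ O).ι ∣_ W₀) ≫ h₀, hwW, ?_⟩
  rw [Category.assoc, hh, morphismRestrict_ι_assoc, Category.assoc, Scheme.Hom.isoImage_hom_ι,
    morphismRestrict_ι_assoc]

/-- A flat lfp morphism is refined, around the image of any point, by a tower: Zariski open, finite
locally free surjective, Zariski open, finite locally free surjective. -/
theorem exists_tower {X S : Scheme.{u}} (f : X ⟶ S) [Flat f] [LocallyOfFinitePresentation f]
    (x : X) :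
    ∃ (U : S.Opens) (W : Scheme.{u}) (π : W ⟶ U.toScheme), f x ∈ U ∧ Mor2.IsFinLocFree π ∧
      Surjective π ∧
      ∀ w : W, ∃ (W' : W.Opens) (T : Scheme.{u}) (ρ : T ⟶ W'.toScheme) (r : T ⟶ X),
        w ∈ W' ∧ Mor2.IsFinLocFree ρ ∧ Surjective ρ ∧ r ≫ f = ρ ≫ W'.ι ≫ π ≫ U.ι := by
  obtain ⟨V, γ, _, v, P, πP, b, hv, hb, hfin, hfl, hfp, hsurj⟩ := exists_etale_finLocFree f x
  obtain ⟨U, W, ϖ, hU, h1, h2, h3, h4, hlift⟩ := exists_finLocFree_dominating_etale γ v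
  refine ⟨U, W, ϖ, hv ▸ hU, ⟨h1, h2, h3⟩, h4, fun w => ?_⟩
  obtain ⟨W', h, hw, hh⟩ := hlift w
  refine ⟨W', pullback πP h, pullback.snd πP h, pullback.fst πP h ≫ b, hw,
    ⟨inferInstance, inferInstance, inferInstance⟩, inferInstance, ?_⟩
  rw [Category.assoc, hb, ← Category.assoc, pullback.condition, Category.assoc, hh]

end Groth.Agent.Lib.Helper22.FppfTowers
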