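import Mathlib

set_option autoImplicit false
universe u

namespace Groth.Agent.Lib.Helper22.PhAlg

/-- A finite algebra over a localization `A_a` is the localization at `a` of a finite
`A`-subalgebra. -/
theorem exists_finite_subalgebra_away {A C : Type*} [CommRing A] [CommRing C] [Algebra A C]
    (a : A) (Aa : Type*) [CommRing Aa] [Algebra A Aa] [IsLocalization.Away a Aa]
    [Algebra Aa C] [IsScalarTower A Aa C] [Module.Finite Aa C] :
    ∃ C' : Subalgebra A C, Module.Finite A C' ∧
      IsLocalization.Away (algebraMap A C' a) C := by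
  classical
  obtain ⟨s, hs⟩ := (Module.Finite.fg_top : (⊤ : Submodule Aa C).FG)
  have hint : ∀ c : C, ∃ k : ℕ, IsIntegral A (a ^ k • c) := by
    intro c
    obtain ⟨⟨_, k, rfl⟩, hk⟩ := IsIntegral.exists_multiple_integral_of_isLocalization
      (Submonoid.powers a) (Rₘ := Aa) c (IsIntegral.of_finite Aa c)
    exact ⟨k, hk⟩
  choose N hN using hint
  let t : Finset C := s.image fun c => a ^ N c • c
  let C' : Subalgebra A C := Algebra.adjoin A (t : Set C)
  have hfin : Module.Finite A C' := by
    refine Algebra.finite_adjoin_of_finite_of_isIntegral t.finite_toSet ?_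
    intro x hx
    obtain ⟨c, -, rfl⟩ := Finset.mem_image.mp hx
    exact hN c
  refine ⟨C', hfin, ?_⟩
  have hunit : IsUnit (algebraMap A C a) := by
    rw [IsScalarTower.algebraMap_apply A Aa C]
    exact (IsLocalization.Away.algebraMap_isUnit (S := Aa) a).map _
  -- every element is a fraction
  have hfrac : ∀ c : C, ∃ k : ℕ, a ^ k • c ∈ C' := by
    intro c
    have hc : c ∈ Submodule.span Aa (s : Set C) := by rw [hs]; trivial
    induction hc using Submodule.span_induction with
    | mem x hx =>
      exact ⟨N x, Algebra.subset_adjoin (Finset.mem_image_of_mem _ hx)⟩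
    | zero => exact ⟨0, by simp⟩
    | add x y _ _ hx hy =>
      obtain ⟨k, hk⟩ := hx
      obtain ⟨l, hl⟩ := hy
      refine ⟨k + l, ?_⟩
      rw [smul_add]
      refine add_mem ?_ ?_
      · rw [pow_add, mul_comm, mul_smul]
        exact Subalgebra.smul_mem _ hk _
      · rw [pow_add, mul_smul]
        exact Subalgebra.smul_mem _ hl _
    | smul r x _ hx =>
      obtain ⟨k, hk⟩ := hx
      obtain ⟨l, b, hb⟩ := IsLocalization.Away.surj a r
      refine ⟨k + l, ?_⟩
      have : a ^ (k + l) • (r • x) = b • (a ^ k • x) := by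
        rw [pow_add, mul_smul, ← smul_assoc (a ^ l) r x, Algebra.smul_def (a ^ l) r, mul_comm,
          map_pow, hb, smul_comm, algebraMap_smul]
      rw [this]
      exact Subalgebra.smul_mem _ hk _
  refine IsLocalization.Away.mk _ ?_ ?_ ?_
  · exact hunit
  · intro c
    obtain ⟨k, hk⟩ := hfrac c
    refine ⟨k, ⟨_, hk⟩, ?_⟩
    change c * (algebraMap A C a) ^ k = a ^ k • c
    rw [Algebra.smul_def, map_pow, mul_comm]
  · intro x y hxy
    refine ⟨0, ?_⟩
    have : x = y := Subtype.ext hxy
    rw [this]

end Groth.Agent.Lib.Helper22.PhAlg
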