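import Mathlib
import Groth.Agent.Lib.Helper22.PhAlg

/-!
# Finite surjective covers with local charts, and Zariski gluing of them (helper22)

`GoodOver P v G`: there is a finite surjective `q : Q ⟶ V` such that every point of `Q` over
`G ⊆ V` has an open neighbourhood `o : O ⟶ Q` with `P (o ≫ q ≫ v)`.  Main results:
`HasCover.of_basicOpen_cover` / `HasCover.of_open_cover`: on an affine scheme, `HasCover` is
Zariski local (finite morphisms over basic opens extend to finite morphisms over the whole affine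
scheme, `exists_finite_extension`).
-/

set_option autoImplicit false
set_option linter.style.haveILetI false
universe u
open AlgebraicGeometry CategoryTheory Limits

namespace Groth.Agent.Lib.Helper22.PhCover

variable {B : Scheme.{u}} (P : ∀ ⦃O : Scheme.{u}⦄, (O ⟶ B) → Prop)

/-- `(Q, q)` is finite surjective over `V` and admits `P`-charts around all points over `G`. -/
def GoodOver {V : Scheme.{u}} (v : V ⟶ B) (G : Set V) : Prop :=
  ∃ (Q : Scheme.{u}) (q : Q ⟶ V), IsFinite q ∧ Surjective q ∧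
    ∀ z : Q, q z ∈ G → ∃ (O : Scheme.{u}) (o : O ⟶ Q), IsOpenImmersion o ∧ z ∈ Set.range o ∧
      P (o ≫ q ≫ v)

/-- A finite surjective cover with `P`-charts everywhere. -/
def HasCover {V : Scheme.{u}} (v : V ⟶ B) : Prop := GoodOver P v Set.univ

variable {P}

theorem GoodOver.mono {V : Scheme.{u}} {v : V ⟶ B} {G G' : Set V} (h : GoodOver P v G)
    (hG : G' ⊆ G) : GoodOver P v G' := by
  obtain ⟨Q, q, h1, h2, h3⟩ := h
  exact ⟨Q, q, h1, h2, fun z hz => h3 z (hG hz)⟩

theorem GoodOver.empty {V : Scheme.{u}} (v : V ⟶ B) : GoodOver P v ∅ :=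
  ⟨V, 𝟙 V, inferInstance, inferInstance, fun _ hz => hz.elim⟩

theorem HasCover.of {V : Scheme.{u}} {v : V ⟶ B} (h : P v) : HasCover P v :=
  ⟨V, 𝟙 V, inferInstance, inferInstance, fun z _ => ⟨V, 𝟙 V, inferInstance, ⟨z, rfl⟩, by
    simpa using h⟩⟩

section
variable (hP : ∀ ⦃O O' : Scheme.{u}⦄ (k : O' ⟶ O) (h : O ⟶ B), P h → P (k ≫ h))
include hP

theorem GoodOver.union {V : Scheme.{u}} {v : V ⟶ B} {G₁ G₂ : Set V} (h₁ : GoodOver P v G₁)
    (h₂ : GoodOver P v G₂) : GoodOver P v (G₁ ∪ G₂) := by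
  obtain ⟨Q₁, q₁, _, _, c₁⟩ := h₁
  obtain ⟨Q₂, q₂, _, _, c₂⟩ := h₂
  refine ⟨pullback q₁ q₂, pullback.fst q₁ q₂ ≫ q₁, inferInstance, inferInstance, ?_⟩
  rintro z (hz | hz)
  · obtain ⟨O, o, _, ⟨z₀, hz₀⟩, hPo⟩ := c₁ (pullback.fst q₁ q₂ z) hz
    obtain ⟨z', hz'1, -⟩ := Scheme.Pullback.exists_preimage_pullback
      (f := pullback.fst q₁ q₂) (g := o) z z₀ hz₀.symm
    refine ⟨pullback (pullback.fst q₁ q₂) o, pullback.fst _ o, inferInstance, ⟨z', hz'1⟩, ?_⟩
    have := hP (pullback.snd (pullback.fst q₁ q₂) o) _ hPo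
    rwa [← Category.assoc, ← pullback.condition, Category.assoc] at this
  · have hz' : q₂ (pullback.snd q₁ q₂ z) ∈ G₂ := by
      rw [← Scheme.Hom.comp_apply, ← pullback.condition]; exact hz
    obtain ⟨O, o, _, ⟨z₀, hz₀⟩, hPo⟩ := c₂ (pullback.snd q₁ q₂ z) hz'
    obtain ⟨z', hz'1, -⟩ := Scheme.Pullback.exists_preimage_pullback
      (f := pullback.snd q₁ q₂) (g := o) z z₀ hz₀.symm
    refine ⟨pullback (pullback.snd q₁ q₂) o, pullback.fst _ o, inferInstance, ⟨z', hz'1⟩, ?_⟩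
    have := hP (pullback.snd (pullback.snd q₁ q₂) o) _ hPo
    rw [← Category.assoc, ← pullback.condition, Category.assoc, ← pullback.condition_assoc]
      at this
    exact this

theorem HasCover.precomp {V V' : Scheme.{u}} {v : V ⟶ B} (k : V' ⟶ V) (h : HasCover P v) :
    HasCover P (k ≫ v) := by
  obtain ⟨Q, q, _, _, c⟩ := h
  refine ⟨pullback q k, pullback.snd q k, inferInstance, inferInstance, fun z _ => ?_⟩
  obtain ⟨O, o, _, ⟨z₀, hz₀⟩, hPo⟩ := c (pullback.fst q k z) trivial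
  obtain ⟨z', hz'1, -⟩ := Scheme.Pullback.exists_preimage_pullback
    (f := pullback.fst q k) (g := o) z z₀ hz₀.symm
  refine ⟨pullback (pullback.fst q k) o, pullback.fst _ o, inferInstance, ⟨z', hz'1⟩, ?_⟩
  have := hP (pullback.snd (pullback.fst q k) o) _ hPo
  rw [← Category.assoc, ← pullback.condition, Category.assoc,
    pullback.condition_assoc (f := q) (g := k)] at this
  exact this

end

theorem HasCover.comp {V V'' : Scheme.{u}} {v'' : V'' ⟶ B} (p : V ⟶ V'') [IsFinite p]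
    [Surjective p] (h : HasCover P (p ≫ v'')) : HasCover P v'' := by
  obtain ⟨Q, q, _, _, c⟩ := h
  refine ⟨Q, q ≫ p, inferInstance, inferInstance, fun z _ => ?_⟩
  obtain ⟨O, o, h1, h2, h3⟩ := c z trivial
  exact ⟨O, o, h1, h2, by simpa using h3⟩

theorem GoodOver.precomp_iso {V V' : Scheme.{u}} {v : V ⟶ B} {G : Set V} (k : V' ⟶ V) [IsIso k]
    (h : GoodOver P v G) : GoodOver P (k ≫ v) (k ⁻¹' G) := by
  obtain ⟨Q, q, _, _, c⟩ := h
  refine ⟨Q, q ≫ inv k, inferInstance, inferInstance, fun z hz => ?_⟩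
  have hz' : q z ∈ G := by
    have : k ((q ≫ inv k) z) = q z := by
      rw [← Scheme.Hom.comp_apply, Category.assoc, IsIso.inv_hom_id, Category.comp_id]
    rw [← this]; exact hz
  obtain ⟨O, o, h1, h2, h3⟩ := c z hz'
  exact ⟨O, o, h1, h2, by simpa using h3⟩

set_option backward.isDefEq.respectTransparency false in
theorem exists_finite_extension {A : CommRingCat.{u}} (a : A) {Q₁ : Scheme.{u}}
    (q₁ : Q₁ ⟶ Scheme.Opens.toScheme (X := Spec A) (PrimeSpectrum.basicOpen a)) [IsFinite q₁] :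
    ∃ (Q' : Scheme.{u}) (q' : Q' ⟶ Spec A) (e : Q₁ ⟶ Q'), IsFinite q' ∧ IsOpenImmersion e ∧
      e ≫ q' = q₁ ≫ Scheme.Opens.ι (X := Spec A) (PrimeSpectrum.basicOpen a) ∧
      ∀ z : Q', q' z ∈ (PrimeSpectrum.basicOpen a : Set (PrimeSpectrum A)) → z ∈ Set.range e := by
  let Aa : CommRingCat.{u} := .of (Localization.Away a)
  let j := basicOpenIsoSpecAway a
  let g : Q₁ ⟶ Spec Aa := q₁ ≫ j.hom
  haveI : IsFinite g := inferInstance
  haveI : IsAffine Q₁ := isAffine_of_isAffineHom g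
  let C : CommRingCat.{u} := Γ(Q₁, ⊤)
  let ψ : Aa ⟶ C := (Scheme.ΓSpecIso Aa).inv ≫ g.appTop
  have hψ : Q₁.isoSpec.hom ≫ Spec.map ψ = g := by
    rw [Spec.map_comp, Scheme.isoSpec_hom, ← Scheme.toSpecΓ_naturality_assoc,
      toSpecΓ_SpecMap_ΓSpecIso_inv, Category.comp_id]
  have hψfin : ψ.hom.Finite := by
    have := g.finite_appTop
    rw [CommRingCat.hom_comp]
    exact RingHom.Finite.comp this (RingHom.Finite.of_surjective _
      (ConcreteCategory.bijective_of_isIso (Scheme.ΓSpecIso Aa).inv).2)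
  letI : Algebra (Localization.Away a) C := ψ.hom.toAlgebra
  letI : Algebra A C := (ψ.hom.comp (algebraMap A (Localization.Away a))).toAlgebra
  haveI : IsScalarTower A (Localization.Away a) C := IsScalarTower.of_algebraMap_eq (fun _ => rfl)
  haveI : Module.Finite (Localization.Away a) C := hψfin
  obtain ⟨C', hC'fin, hC'loc⟩ :=
    PhAlg.exists_finite_subalgebra_away (A := A) (C := C) a (Localization.Away a)
  let φ₁ : A ⟶ CommRingCat.of C' := CommRingCat.ofHom (algebraMap A C')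
  let φ₂ : CommRingCat.of C' ⟶ C := CommRingCat.ofHom (algebraMap C' C)
  have hφ : φ₁ ≫ φ₂ = CommRingCat.ofHom (algebraMap A Aa) ≫ ψ := by
    ext x; rfl
  haveI : IsOpenImmersion (Spec.map φ₂) := IsOpenImmersion.of_isLocalization (algebraMap A C' a)
  refine ⟨Spec (.of C'), Spec.map φ₁, Q₁.isoSpec.hom ≫ Spec.map φ₂, ?_, inferInstance, ?_, ?_⟩
  · rw [IsFinite.SpecMap_iff]; exact hC'fin
  · rw [Category.assoc, ← Spec.map_comp, hφ, Spec.map_comp, ← Category.assoc, hψ,
      Category.assoc, basicOpenIsoSpecAway_hom_SpecMap]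
  · intro z hz
    have hz' : z ∈ Set.range (Spec.map φ₂) := by
      change z ∈ Set.range (PrimeSpectrum.comap (algebraMap C' C))
      rw [PrimeSpectrum.localization_away_comap_range C (algebraMap A C' a)]
      exact hz
    obtain ⟨w, rfl⟩ := hz'
    obtain ⟨w', rfl⟩ := Q₁.isoSpec.hom.homeomorph.surjective w
    exact ⟨w', rfl⟩

set_option backward.isDefEq.respectTransparency false in
theorem GoodOver.of_basicOpen_Spec {A : CommRingCat.{u}} (a : A) (v : Spec A ⟶ B)
    (h : HasCover P (Scheme.Opens.ι (X := Spec A) (PrimeSpectrum.basicOpen a) ≫ v)) :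
    GoodOver P v (PrimeSpectrum.basicOpen a : Set (PrimeSpectrum A)) := by
  obtain ⟨Q₁, q₁, _, hsurj, c⟩ := h
  obtain ⟨Q', q', e, hfin, hopen, hcomm, hrange⟩ := exists_finite_extension a q₁
  let zc : Spec (.of (A ⧸ Ideal.span {a})) ⟶ Spec A :=
    Spec.map (CommRingCat.ofHom (Ideal.Quotient.mk (Ideal.span {a})))
  haveI : IsClosedImmersion zc :=
    IsClosedImmersion.spec_of_surjective _ Ideal.Quotient.mk_surjective
  have hzc : ∀ w, a ∈ (zc w).asIdeal := by
    intro w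
    change a ∈ (PrimeSpectrum.comap (Ideal.Quotient.mk (Ideal.span {a})) w).asIdeal
    rw [PrimeSpectrum.comap_asIdeal, Ideal.mem_comap,
      Ideal.Quotient.eq_zero_iff_mem.mpr (Ideal.mem_span_singleton_self a)]
    exact zero_mem _
  have hinl : (coprod.inl : Q' ⟶ Q' ⨿ _) ≫ coprod.desc q' zc = q' := coprod.inl_desc _ _
  have hinr : (coprod.inr : _ ⟶ Q' ⨿ _) ≫ coprod.desc q' zc = zc := coprod.inr_desc _ _
  refine ⟨Q' ⨿ Spec (.of (A ⧸ Ideal.span {a})), coprod.desc q' zc, inferInstance, ⟨?_⟩, ?_⟩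
  · intro y
    by_cases hy : y ∈ (PrimeSpectrum.basicOpen a : Set (PrimeSpectrum A))
    · obtain ⟨z₁, hz₁⟩ := hsurj.surj ⟨y, hy⟩
      refine ⟨(coprod.inl : Q' ⟶ Q' ⨿ _) (e z₁), ?_⟩
      rw [← Scheme.Hom.comp_apply, hinl, ← Scheme.Hom.comp_apply, hcomm, Scheme.Hom.comp_apply,
        hz₁]
      rfl
    · have hy' : y ∈ Set.range zc := by
        change y ∈ Set.range (PrimeSpectrum.comap (Ideal.Quotient.mk (Ideal.span {a})))
        rw [range_comap_of_surjective _ _ Ideal.Quotient.mk_surjective,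
          Ideal.mk_ker, PrimeSpectrum.zeroLocus_span, PrimeSpectrum.mem_zeroLocus,
          Set.singleton_subset_iff]
        by_contra hay
        exact hy hay
      obtain ⟨w, rfl⟩ := hy'
      refine ⟨(coprod.inr : _ ⟶ Q' ⨿ _) w, ?_⟩
      rw [← Scheme.Hom.comp_apply, hinr]
  · intro z hz
    have hcov := (isCompl_range_inl_inr Q' (Spec (.of (A ⧸ Ideal.span {a})))).sup_eq_top
    have hz' : z ∈ Set.range (coprod.inl : Q' ⟶ Q' ⨿ _) ∪ Set.range (coprod.inr : _ ⟶ Q' ⨿ _) := by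
      have : z ∈ (⊤ : Set _) := trivial
      rw [← hcov] at this
      exact this
    rcases hz' with ⟨z', rfl⟩ | ⟨w, rfl⟩
    · rw [← Scheme.Hom.comp_apply, hinl] at hz
      obtain ⟨z₁, rfl⟩ := hrange z' hz
      obtain ⟨O, o, _, ⟨z₀, hz₀⟩, hPo⟩ := c z₁ trivial
      refine ⟨O, o ≫ e ≫ coprod.inl, inferInstance, ⟨z₀, ?_⟩, ?_⟩
      · rw [Scheme.Hom.comp_apply, Scheme.Hom.comp_apply, hz₀]
      · rw [Category.assoc, Category.assoc, reassoc_of% hinl, reassoc_of% hcomm]
        exact hPo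
    · exfalso
      rw [← Scheme.Hom.comp_apply, hinr] at hz
      exact hz (hzc w)

section
variable (hP : ∀ ⦃O O' : Scheme.{u}⦄ (k : O' ⟶ O) (h : O ⟶ B), P h → P (k ≫ h))
include hP

theorem GoodOver.of_basicOpen {V : Scheme.{u}} [IsAffine V] (a : Γ(V, ⊤)) (v : V ⟶ B)
    (h : HasCover P ((V.basicOpen a).ι ≫ v)) : GoodOver P v (V.basicOpen a : Set V) := by
  let i := V.isoSpec
  let D' : (Spec Γ(V, ⊤)).Opens := PrimeSpectrum.basicOpen a
  have hpre : i.hom ⁻¹ᵁ D' = V.basicOpen a := V.toSpecΓ_preimage_basicOpen a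
  have hsub : Set.range (D'.ι ≫ i.inv) ⊆ Set.range (V.basicOpen a).ι := by
    rintro _ ⟨x, rfl⟩
    rw [Scheme.Opens.range_ι, ← hpre]
    change i.hom ((D'.ι ≫ i.inv) x) ∈ D'
    rw [← Scheme.Hom.comp_apply, Category.assoc, Iso.inv_hom_id, Category.comp_id]
    exact x.2
  let k : D'.toScheme ⟶ (V.basicOpen a).toScheme :=
    IsOpenImmersion.lift (V.basicOpen a).ι (D'.ι ≫ i.inv) hsub
  have hk : k ≫ (V.basicOpen a).ι = D'.ι ≫ i.inv := IsOpenImmersion.lift_fac _ _ _
  have h' : HasCover P (D'.ι ≫ i.inv ≫ v) := by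
    have := h.precomp hP k
    rwa [← Category.assoc, hk, Category.assoc] at this
  have g := (GoodOver.of_basicOpen_Spec a (i.inv ≫ v) h').precomp_iso i.hom
  rw [Iso.hom_inv_id_assoc] at g
  refine g.mono ?_
  intro x hx
  rw [← hpre] at hx
  exact hx

theorem HasCover.of_basicOpen_cover {V : Scheme.{u}} [IsAffine V] (v : V ⟶ B)
    (h : ∀ y : V, ∃ a : Γ(V, ⊤), y ∈ V.basicOpen a ∧ HasCover P ((V.basicOpen a).ι ≫ v)) :
    HasCover P v := by
  classical
  choose a ha hc using h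
  obtain ⟨t, ht⟩ := isCompact_univ.elim_finite_subcover (fun y => (V.basicOpen (a y) : Set V))
    (fun y => (V.basicOpen (a y)).2) (fun y _ => Set.mem_iUnion.2 ⟨y, ha y⟩)
  have key : ∀ t : Finset V, GoodOver P v (⋃ y ∈ t, (V.basicOpen (a y) : Set V)) := by
    intro t
    induction t using Finset.induction_on with
    | empty => simpa using GoodOver.empty v
    | insert y t _ ih =>
      rw [Finset.set_biUnion_insert]
      exact (GoodOver.of_basicOpen hP (a y) v (hc y)).union hP ih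
  exact (key t).mono ht

theorem HasCover.of_open_cover {V : Scheme.{u}} [IsAffine V] (v : V ⟶ B)
    (h : ∀ y : V, ∃ N : V.Opens, y ∈ N ∧ HasCover P (N.ι ≫ v)) : HasCover P v := by
  refine HasCover.of_basicOpen_cover hP v fun y => ?_
  obtain ⟨N, hy, hN⟩ := h y
  obtain ⟨_, ⟨_, ⟨a, rfl⟩, rfl⟩, hya, haN⟩ :=
    (isBasis_basicOpen V).exists_subset_of_mem_open hy N.2
  refine ⟨a, hya, ?_⟩
  have hle : V.basicOpen a ≤ N := haN
  have := hN.precomp hP (V.homOfLE hle)
  rwa [← Category.assoc, Scheme.homOfLE_ι] at this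

end

end Groth.Agent.Lib.Helper22.PhCover
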