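import Mathlib
import Groth.Prelude.Def_Mor2
import Groth.Agent.Lib.Helper22.PhCover
import Groth.Agent.Lib.Helper22.FppfTowers

/-!
# fppf coverings are refined by finite surjective morphisms Zariski locally (helper22)
-/

set_option autoImplicit false
set_option linter.style.haveILetI false
universe w u
open AlgebraicGeometry CategoryTheory Limits

namespace Groth.Agent.Lib.Helper22.PhCover

/-- A morphism `h : O ⟶ B` lifts to a member of the family `E` (over `g : B ⟶ T`). -/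
def Lifts {T : Scheme.{u}} (E : PreZeroHypercover.{w} T) {B : Scheme.{u}} (g : B ⟶ T) :
    ∀ ⦃O : Scheme.{u}⦄, (O ⟶ B) → Prop :=
  fun _ h => ∃ (i : E.I₀) (r : _ ⟶ E.X i), r ≫ E.f i = h ≫ g

theorem Lifts.precomp {T : Scheme.{u}} (E : PreZeroHypercover.{w} T) {B : Scheme.{u}} (g : B ⟶ T)
    ⦃O O' : Scheme.{u}⦄ (k : O' ⟶ O) (h : O ⟶ B) (hh : Lifts E g h) : Lifts E g (k ≫ h) := by
  obtain ⟨i, r, hr⟩ := hh
  exact ⟨i, k ≫ r, by rw [Category.assoc, hr, Category.assoc]⟩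

/-- An fppf covering of an affine scheme is refined by a finite surjective morphism with local
lifts. -/
theorem hasCover_of_fppf {T : Scheme.{u}} (E : PreZeroHypercover.{w} T)
    (hflat : ∀ i, Flat (E.f i)) (hfp : ∀ i, LocallyOfFinitePresentation (E.f i))
    (hsurj : ∀ t : T, ∃ (i : E.I₀) (x : E.X i), E.f i x = t)
    {B : Scheme.{u}} [IsAffine B] (g : B ⟶ T) : HasCover (Lifts E g) (𝟙 B) := by
  have hP := Lifts.precomp E g
  refine HasCover.of_open_cover hP (𝟙 B) fun t => ?_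
  obtain ⟨i, x, hx⟩ := hsurj (g t)
  haveI := hflat i
  haveI := hfp i
  obtain ⟨x', hx'1, hx'2⟩ := Scheme.Pullback.exists_preimage_pullback (f := E.f i) (g := g) x t hx
  obtain ⟨U₀, W, π, hU₀, hπ, hπs, hloc⟩ :=
    FppfTowers.exists_tower (pullback.snd (E.f i) g) x'
  rw [hx'2] at hU₀
  obtain ⟨_, ⟨_, ⟨a, rfl⟩, rfl⟩, hta, haU⟩ :=
    (isBasis_basicOpen B).exists_subset_of_mem_open hU₀ U₀.2
  have hle : B.basicOpen a ≤ U₀ := haU
  refine ⟨B.basicOpen a, hta, ?_⟩
  haveI : IsAffine (B.basicOpen a).toScheme := (isAffineOpen_top B).basicOpen a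
  haveI := hπ.1
  let ι₀ : (B.basicOpen a).toScheme ⟶ U₀.toScheme := B.homOfLE hle
  have hι₀ : ι₀ ≫ U₀.ι = (B.basicOpen a).ι := B.homOfLE_ι hle
  haveI : IsAffine (pullback π ι₀) := isAffine_of_isAffineHom (pullback.snd π ι₀)
  refine HasCover.comp (pullback.snd π ι₀) ?_
  refine HasCover.of_open_cover hP _ fun wa => ?_
  obtain ⟨W', T', ρ, r, hw, hρ, hρs, hr⟩ := hloc (pullback.fst π ι₀ wa)
  haveI := hρ.1
  refine ⟨pullback.fst π ι₀ ⁻¹ᵁ W', hw, ?_⟩
  have h1 : HasCover (Lifts E g) (ρ ≫ W'.ι ≫ π ≫ U₀.ι) := by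
    refine HasCover.of ⟨i, r ≫ pullback.fst (E.f i) g, ?_⟩
    rw [Category.assoc, pullback.condition, reassoc_of% hr]
    simp only [Category.assoc]
  have h2 : HasCover (Lifts E g) (W'.ι ≫ π ≫ U₀.ι) := HasCover.comp ρ h1
  have h3 := h2.precomp hP (pullback.fst π ι₀ ∣_ W')
  rw [morphismRestrict_ι_assoc, pullback.condition_assoc, hι₀] at h3
  rw [Category.comp_id]
  exact h3

end Groth.Agent.Lib.Helper22.PhCover
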