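import Mathlib
import Groth.Prelude.Def_MoreMor
import Groth.Prelude.Def_Hens2
import Groth.Agent.Lib.Helper22.WeightingPieces
import Groth.Agent.Lib.Helper22.BirationalBC

/-!
# Étale localisation of quasi-finite points with trivial residue field extension (helper22)

Refinement of `exists_etale_piece_of_quasiFiniteAt`: the étale neighbourhood can be taken
elementary (trivial residue field extension at the chosen point).  Then pointed pieces can be
base changed along residually trivial maps, which gives the version for finitely many points.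
-/

set_option autoImplicit false
set_option linter.style.haveILetI false
universe u
open AlgebraicGeometry CategoryTheory Limits

namespace Groth.Agent.Lib.Helper22.EtaleNbhd

open Groth.Agent.Lib.Helper7 Groth.Agent.Lib.Helper22.Weighting

/-- Surjectivity of the residue field map transfers along an isomorphism of arrows. -/
theorem surjective_residueFieldMap_of_ringEquiv {A B A' B' : Type*} [CommRing A] [CommRing B]
    [CommRing A'] [CommRing B'] [IsLocalRing A] [IsLocalRing B] [IsLocalRing A'] [IsLocalRing B']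
    (ψ : A →+* B) (ψ' : A' →+* B') [IsLocalHom ψ] [IsLocalHom ψ'] (e₁ : A ≃+* A') (e₂ : B ≃+* B')
    (h : ∀ a, e₂ (ψ a) = ψ' (e₁ a))
    (hs : Function.Surjective (IsLocalRing.ResidueField.map ψ')) :
    Function.Surjective (IsLocalRing.ResidueField.map ψ) := by
  intro z
  obtain ⟨b, rfl⟩ := IsLocalRing.residue_surjective z
  obtain ⟨y', hy'⟩ := hs (IsLocalRing.residue B' (e₂ b))
  obtain ⟨a', rfl⟩ := IsLocalRing.residue_surjective y'
  refine ⟨IsLocalRing.residue A (e₁.symm a'), ?_⟩
  rw [IsLocalRing.ResidueField.map_residue] at hy' ⊢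
  rw [← sub_eq_zero, ← map_sub, IsLocalRing.residue_eq_zero_iff] at hy' ⊢
  have h2 : e₂ (ψ (e₁.symm a') - b) = ψ' a' - e₂ b := by
    rw [map_sub, h, RingEquiv.apply_symm_apply]
  rw [← h2] at hy'
  rw [IsLocalRing.mem_maximalIdeal, mem_nonunits_iff] at hy' ⊢
  intro hu
  exact hy' (hu.map e₂)

set_option backward.isDefEq.respectTransparency false in
/-- The residue field map of `Spec.map φ` at a prime is bijective as soon as the algebraic one is. -/
theorem bijective_residueFieldMap_SpecMap {A R : CommRingCat.{u}} (φ : A ⟶ R) (P : PrimeSpectrum R)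
    (I : Ideal A) [I.IsPrime] (hI : I = P.asIdeal.comap φ.hom)
    (h : Function.Bijective (Ideal.ResidueField.map I P.asIdeal φ.hom hI)) :
    Function.Bijective ((Spec.map φ).residueFieldMap P).hom := by
  subst hI
  refine ⟨RingHom.injective _, ?_⟩
  let e := Scheme.arrowStalkMapSpecIso φ P
  have hw := e.hom.w
  let e₁ := (Arrow.leftFunc.mapIso e).commRingCatIsoToRingEquiv
  let e₂ := (Arrow.rightFunc.mapIso e).commRingCatIsoToRingEquiv
  change Function.Surjective (IsLocalRing.ResidueField.map ((Spec.map φ).stalkMap P).hom)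
  refine surjective_residueFieldMap_of_ringEquiv _ (Localization.localRingHom
      (PrimeSpectrum.comap φ.hom P).asIdeal P.asIdeal φ.hom rfl) e₁ e₂ ?_ h.2
  intro a
  have := congrArg (fun k => k.hom a) hw
  exact this.symm

set_option backward.defeqAttrib.useBackward true in
set_option backward.isDefEq.respectTransparency false in
open TensorProduct in
/-- Étale localisation of a quasi-finite point: an étale neighbourhood of `f x` and a piece over it
containing exactly one point over the chosen point of the neighbourhood, which maps to `x`.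
(Adapted from Mathlib's `exists_etale_isCompl_of_quasiFiniteAt`, dropping separatedness and keeping
the uniqueness.) -/
theorem exists_etale_piece_of_quasiFiniteAt_res {X S : Scheme.{u}} (f : X ⟶ S) [LocallyOfFiniteType f]
    (x : X) (hx : f.QuasiFiniteAt x) :
    ∃ (V : Scheme.{u}) (γ : V ⟶ S) (_ : Etale γ) (U : Scheme.{u}) (a : U ⟶ X) (π : U ⟶ V)
      (_ : IsPiece f γ a π) (u : U), a u = x ∧ (∀ u', π u' = π u → u' = u) ∧
        Function.Bijective (γ.residueFieldMap (π u)).hom := by
  obtain ⟨_, ⟨U, hU, rfl⟩, hxU, -⟩ := S.isBasis_affineOpens.exists_subset_of_mem_open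
    (Set.mem_univ (f x)) isOpen_univ
  obtain ⟨_, ⟨V, hV, rfl⟩, hxV, hUV : V ≤ f ⁻¹ᵁ U⟩ :=
    X.isBasis_affineOpens.exists_subset_of_mem_open hxU (f ⁻¹ᵁ U).2
  have : (f.appLE U V hUV).hom.FiniteType := f.finiteType_appLE hU hV hUV
  algebraize [(f.appLE U V hUV).hom]
  have : (hV.primeIdealOf ⟨x, hxV⟩).asIdeal.LiesOver (hU.primeIdealOf ⟨f x, hxU⟩).asIdeal := by
    suffices hU.primeIdealOf ⟨f x, hxU⟩ = Spec.map (f.appLE U V hUV) (hV.primeIdealOf ⟨x, hxV⟩) from
      ⟨congr(($this).1)⟩
    apply hU.isoSpec.inv.homeomorph.injective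
    apply Subtype.ext
    simp only [IsAffineOpen.primeIdealOf, Scheme.Hom.homeomorph_apply,
      ← Scheme.Hom.comp_apply, ← Scheme.Opens.ι_apply, IsAffineOpen.isoSpec_hom]
    simp
  have : Algebra.QuasiFiniteAt Γ(S, U) (hV.primeIdealOf ⟨x, hxV⟩).asIdeal :=
    hx.quasiFiniteAt hV hU hUV hxV
  obtain ⟨R, _, _, _, P, _, _, e, _, P', _, _, hP', heP', hres, _, huniq⟩ :=
    Algebra.exists_etale_isIdempotentElem_forall_liesOver_eq
    (hU.primeIdealOf ⟨f x, hxU⟩).asIdeal (hV.primeIdealOf ⟨x, hxV⟩).asIdeal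
  have : (algebraMap R (Localization.Away e)).Finite := RingHom.finite_algebraMap.mpr ‹_›
  let φ : Γ(S, U) ⟶ .of R := CommRingCat.ofHom <| algebraMap Γ(S, U) R
  have hφ : φ.hom.Etale := RingHom.etale_algebraMap.mpr ‹_›
  have : Etale (Spec.map φ) := HasRingHomProperty.Spec_iff.mpr hφ
  let e₁ : Spec (.of (R ⊗ Γ(X, V))) ≅ pullback (Spec.map (f.appLE U V hUV)) (Spec.map φ) :=
    (pullbackSpecIso _ _ _).symm ≪≫ pullbackSymmetry _ _
  have he₁ : e₁.hom ≫ pullback.fst _ _ =
      Spec.map (CommRingCat.ofHom Algebra.TensorProduct.includeRight.toRingHom) := by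
    dsimp [e₁, RingHom.algebraMap_toAlgebra]
    rw [Category.assoc, pullbackSymmetry_hom_comp_fst]
    exact pullbackSpecIso_inv_snd ..
  have he₁' : e₁.hom ≫ pullback.snd _ _ =
      Spec.map (CommRingCat.ofHom (algebraMap R (R ⊗[Γ(S, U)] Γ(X, V)))) := by
    dsimp [e₁, RingHom.algebraMap_toAlgebra]
    rw [Category.assoc, pullbackSymmetry_hom_comp_snd]
    exact pullbackSpecIso_inv_fst ..
  let g : Spec (.of (R ⊗[Γ(S, U)] Γ(X, V))) ⟶ pullback f (Spec.map φ ≫ hU.fromSpec) :=
    e₁.hom ≫ pullback.map _ _ _ _ hV.fromSpec (𝟙 _) hU.fromSpec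
      (IsAffineOpen.SpecMap_appLE_fromSpec ..) (by simp)
  have hg₂ : g ≫ pullback.snd _ _ =
      Spec.map (CommRingCat.ofHom (algebraMap R (R ⊗[Γ(S, U)] Γ(X, V)))) := by
    simp only [g, Category.assoc, pullback.lift_snd, Category.comp_id, pullback.map]
    rw [← he₁']
  let W₁ := g ''ᵁ PrimeSpectrum.basicOpen e
  have : IsFinite (W₁.ι ≫ pullback.snd f _) := by
    let ι : Spec (.of (Localization.Away e)) ⟶ pullback f (Spec.map φ ≫ hU.fromSpec) :=
      Spec.map (CommRingCat.ofHom <| algebraMap _ _) ≫ g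
    have : ι.opensRange = W₁ := by
      simp only [Scheme.Hom.opensRange_comp, ι, W₁]
      congr 1
      exact TopologicalSpace.Opens.ext <| PrimeSpectrum.localization_away_comap_range _ _
    rw [← this, ← MorphismProperty.cancel_left_of_respectsIso @IsFinite
      (Scheme.Hom.isoOpensRange _).hom]
    have H : (pullbackSpecIso _ R _).inv ≫ pullback.fst _ (Spec.map (f.appLE U V hUV)) = _ :=
      pullbackSpecIso_inv_fst ..
    simpa [Scheme.Hom.isoOpensRange, ι, g, e₁, RingHom.algebraMap_toAlgebra, φ, H,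
      ← Spec.map_comp, IsFinite.SpecMap_iff]
  refine ⟨Spec (.of R), Spec.map φ ≫ hU.fromSpec, inferInstance, W₁, W₁.ι ≫ pullback.fst _ _,
    W₁.ι ≫ pullback.snd _ _, IsPiece.of_opens W₁ ‹_›, ⟨g ⟨P', ‹_›⟩, ⟨⟨P', ‹_›⟩, heP', rfl⟩⟩, ?_, ?_, ?_⟩
  · change pullback.fst f (Spec.map φ ≫ hU.fromSpec) (g ⟨P', ‹_›⟩) = x
    trans hV.fromSpec ⟨P'.comap Algebra.TensorProduct.includeRight.toRingHom, inferInstance⟩
    · simp [← Scheme.Hom.comp_apply, -Scheme.Hom.comp_base, g, reassoc_of% he₁]; rfl
    convert! hV.fromSpec_primeIdealOf ⟨x, hxV⟩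
  · rintro ⟨_, ⟨P'', heP'', rfl⟩⟩ hu'
    apply Subtype.ext
    simp only
    have h1 : (g ≫ pullback.snd f (Spec.map φ ≫ hU.fromSpec)) P'' =
        (g ≫ pullback.snd f (Spec.map φ ≫ hU.fromSpec)) ⟨P', ‹_›⟩ := hu'
    rw [hg₂] at h1
    have h2 : P''.asIdeal.comap (algebraMap R (R ⊗[Γ(S, U)] Γ(X, V))) =
        P'.comap (algebraMap R (R ⊗[Γ(S, U)] Γ(X, V))) := congr(($h1).1)
    have hlies : P''.asIdeal.LiesOver P := ⟨by
      rw [Ideal.under_def, h2, ← Ideal.under_def, ← Ideal.over_def P' P]⟩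
    have := huniq P''.asIdeal P''.2 hlies heP''
    congr 1
    exact PrimeSpectrum.ext this
  · have hpt : (W₁.ι ≫ pullback.snd f (Spec.map φ ≫ hU.fromSpec))
        ⟨g ⟨P', ‹_›⟩, ⟨⟨P', ‹_›⟩, heP', rfl⟩⟩ = (⟨P, ‹_›⟩ : PrimeSpectrum R) := by
      change (g ≫ pullback.snd f (Spec.map φ ≫ hU.fromSpec)) ⟨P', ‹_›⟩ = _
      rw [hg₂]
      apply PrimeSpectrum.ext
      exact (P'.over_def P).symm
    refine Birational.bijective_residueFieldMap_congr_point _ hpt.symm ?_
    rw [Scheme.residueFieldMap_comp]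
    have h1 : Function.Bijective
        (hU.fromSpec.residueFieldMap (Spec.map φ (⟨P, ‹_›⟩ : PrimeSpectrum R))).hom :=
      ConcreteCategory.bijective_of_isIso _
    have h2 : Function.Bijective ((Spec.map φ).residueFieldMap (⟨P, ‹_›⟩ : PrimeSpectrum R)).hom :=
      bijective_residueFieldMap_SpecMap φ ⟨P, ‹_›⟩ (hU.primeIdealOf ⟨f x, hxU⟩).asIdeal
        (P.over_def _) hres
    exact h2.comp h1


/-- A pointed piece: a finite piece of `f` over `g` with exactly one point over `u`, which maps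
to `x`. -/
def GoodPiece {X S U : Scheme.{u}} (f : X ⟶ S) (g : U ⟶ S) (u : U) (x : X) : Prop :=
  ∃ (W : Scheme.{u}) (a : W ⟶ X) (π : W ⟶ U) (_ : IsPiece f g a π) (w : W),
    π w = u ∧ (∀ w', π w' = u → w' = w) ∧ a w = x

/-- Étale localisation at a quasi-finite point, with an elementary étale neighbourhood. -/
theorem exists_goodPiece {X S : Scheme.{u}} (f : X ⟶ S) [LocallyOfFiniteType f]
    (x : X) (hx : f.QuasiFiniteAt x) :
    ∃ (U : Scheme.{u}) (g : U ⟶ S) (u : U), Hens2.IsEtaleNbhd g u (f x) ∧ GoodPiece f g u x := by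
  obtain ⟨V, γ, hγ, U, a, π, hp, u, hau, huniq, hres⟩ := exists_etale_piece_of_quasiFiniteAt_res f x hx
  refine ⟨V, γ, π u, ⟨hγ, ?_, hres⟩, U, a, π, hp, u, rfl, huniq, hau⟩
  have h1 : (π ≫ γ) u = (a ≫ f) u := by rw [hp.comm]
  simpa [hau] using h1

/-- Pointed pieces can be base changed along residually trivial morphisms. -/
theorem GoodPiece.baseChange {X S U : Scheme.{u}} {f : X ⟶ S} {g : U ⟶ S} {u : U} {x : X}
    (h : GoodPiece f g u x) {U' : Scheme.{u}} (k : U' ⟶ U) (u' : U') (hu' : k u' = u)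
    (hres : Function.Bijective (k.residueFieldMap u').hom) : GoodPiece f (k ≫ g) u' x := by
  obtain ⟨W, a, π, hp, w, hw, huniq, haw⟩ := h
  obtain ⟨w', hw'1, hw'2⟩ := Scheme.Pullback.exists_preimage_pullback (f := π) (g := k) w u'
    (hw.trans hu'.symm)
  refine ⟨pullback π k, pullback.fst π k ≫ a, pullback.snd π k, hp.baseChange k, w', hw'2, ?_, ?_⟩
  · intro w'' hw''
    have h1 : pullback.fst π k w'' = w := by
      apply huniq
      have : (pullback.fst π k ≫ π) w'' = (pullback.snd π k ≫ k) w'' := by rw [pullback.condition]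
      simp only [Scheme.Hom.comp_apply] at this
      rw [this, hw'', hu']
    refine Birational.eq_of_isPullback (IsPullback.of_hasPullback π k).flip w'' w'
      (hw''.trans hw'2.symm) (h1.trans hw'1.symm) ?_
    exact Birational.bijective_residueFieldMap_congr_point k hw'2.symm hres
  · rw [Scheme.Hom.comp_apply, hw'1, haw]


/-- A pointed piece over an elementary étale neighbourhood in terms of opens of the fibre product. -/
theorem GoodPiece.toOpens {X S U : Scheme.{u}} {f : X ⟶ S} {g : U ⟶ S} {u : U} {x : X}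
    (h : GoodPiece f g u x) (hres : Function.Bijective (g.residueFieldMap u).hom) :
    ∃ (V : (pullback f g).Opens) (v : ↑(pullback f g)), v ∈ V ∧
      IsFinite (V.ι ≫ pullback.snd f g) ∧ pullback.snd f g v = u ∧
      (∀ w : ↑(pullback f g), w ∈ V → pullback.snd f g w = u → w = v) ∧
      pullback.fst f g v = x ∧ Function.Bijective ((pullback.fst f g).residueFieldMap v).hom := by
  obtain ⟨W, a, π, hp, w, hw, huniq, haw⟩ := h
  have := hp.isOpenImmersion_lift
  have := hp.isFinite
  obtain ⟨j, hj⟩ : ∃ j : W ⟶ pullback f g, j = pullback.lift a π hp.comm := ⟨_, rfl⟩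
  have hjo : IsOpenImmersion j := hj ▸ hp.isOpenImmersion_lift
  have hj₁ : j ≫ pullback.fst f g = a := by rw [hj]; exact pullback.lift_fst _ _ _
  have hj₂ : j ≫ pullback.snd f g = π := by rw [hj]; exact pullback.lift_snd _ _ _
  have hsnd : ∀ w₀ : W, pullback.snd f g (j w₀) = π w₀ := fun w₀ => by
    rw [← Scheme.Hom.comp_apply, hj₂]
  have hfst : ∀ w₀ : W, pullback.fst f g (j w₀) = a w₀ := fun w₀ => by
    rw [← Scheme.Hom.comp_apply, hj₁]
  refine ⟨j.opensRange, j w, ⟨w, rfl⟩, ?_, (hsnd w).trans hw, ?_, (hfst w).trans haw, ?_⟩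
  · rw [← MorphismProperty.cancel_left_of_respectsIso @IsFinite (Scheme.Hom.isoOpensRange j).hom]
    have : (Scheme.Hom.isoOpensRange j).hom ≫ j.opensRange.ι ≫ pullback.snd f g = π := by
      rw [← Category.assoc, Scheme.Hom.isoOpensRange_hom_ι, hj₂]
    rw [this]
    infer_instance
  · rintro _ ⟨w₀, rfl⟩ hw₀
    rw [hsnd] at hw₀
    rw [huniq w₀ hw₀]
  · refine Birational.bijective_residueFieldMap_of_isPullback (IsPullback.of_hasPullback f g).flip
      (j w) ?_
    exact Birational.bijective_residueFieldMap_congr_point g ((hsnd w).trans hw).symm hres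

/-- Étale localisation at finitely many quasi-finite points of one fibre. -/
theorem exists_goodPieces {X S : Scheme.{u}} (f : X ⟶ S) [LocallyOfFiniteType f] (s : S)
    (ι : Type) [Finite ι] :
    ∀ (x : ι → ↑X), (∀ i, f (x i) = s) → (∀ i, f.QuasiFiniteAt (x i)) →
      ∃ (U : Scheme.{u}) (g : U ⟶ S) (u : U), Hens2.IsEtaleNbhd g u s ∧
        ∀ i, GoodPiece f g u (x i) := by
  induction ι using Finite.induction_empty_option with
  | of_equiv e ih =>
    intro x hs hx
    obtain ⟨U, g, u, hnb, hgp⟩ := ih (x ∘ e) (fun i => hs _) (fun i => hx _)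
    refine ⟨U, g, u, hnb, fun i => ?_⟩
    have := hgp (e.symm i)
    simpa using this
  | h_empty =>
    intro x hs hx
    refine ⟨S, 𝟙 S, s, ⟨inferInstance, rfl, ?_⟩, fun i => i.elim⟩
    rw [Scheme.residueFieldMap_id]
    exact Function.bijective_id
  | h_option ih =>
    intro x hs hx
    obtain ⟨U₁, g₁, u₁, hnb₁, hgp₁⟩ := ih (fun i => x (some i)) (fun i => hs _) (fun i => hx _)
    obtain ⟨U₀, g₀, u₀, hnb₀, hgp₀⟩ := exists_goodPiece f (x none) (hx none)
    rw [hs none] at hnb₀
    haveI := hnb₁.etale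
    haveI := hnb₀.etale
    obtain ⟨u, hu₁, hu₀⟩ := Scheme.Pullback.exists_preimage_pullback (f := g₁) (g := g₀) u₁ u₀
      (hnb₁.base_eq.trans hnb₀.base_eq.symm)
    have hb₁ : Function.Bijective (g₁.residueFieldMap (pullback.fst g₁ g₀ u)).hom :=
      Birational.bijective_residueFieldMap_congr_point g₁ hu₁.symm hnb₁.residue_bijective
    have hb₀ : Function.Bijective (g₀.residueFieldMap (pullback.snd g₁ g₀ u)).hom :=
      Birational.bijective_residueFieldMap_congr_point g₀ hu₀.symm hnb₀.residue_bijective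
    have hbfst : Function.Bijective ((pullback.fst g₁ g₀).residueFieldMap u).hom :=
      Birational.bijective_residueFieldMap_of_isPullback (IsPullback.of_hasPullback g₁ g₀).flip u hb₀
    have hbsnd : Function.Bijective ((pullback.snd g₁ g₀).residueFieldMap u).hom :=
      Birational.bijective_residueFieldMap_snd g₁ g₀ u hb₁
    refine ⟨pullback g₁ g₀, pullback.fst g₁ g₀ ≫ g₁, u, ⟨inferInstance, ?_, ?_⟩, ?_⟩
    · change g₁ (pullback.fst g₁ g₀ u) = s
      rw [hu₁]; exact hnb₁.base_eq
    · rw [Scheme.residueFieldMap_comp]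
      exact hbfst.comp hb₁
    · rintro (_ | i)
      · have := hgp₀.baseChange (pullback.snd g₁ g₀) u hu₀ hbsnd
        rwa [← pullback.condition] at this
      · exact (hgp₁ i).baseChange (pullback.fst g₁ g₀) u hu₁ hbfst

end Groth.Agent.Lib.Helper22.EtaleNbhd
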