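import Mathlib

set_option autoImplicit false
set_option linter.style.haveILetI false
universe u
open TensorProduct nonZeroDivisors

namespace Groth.Agent.Lib.Helper22.FFDomains

section Generic

variable {C T : Type u} [CommRing C] [CommRing T] [Algebra C T] (M : Submonoid C)
  [IsLocalization M T]

include M in
theorem nonempty_ringEquiv_atPrime (Q : Ideal T) [Q.IsPrime] :
    Nonempty (Localization.AtPrime (Q.comap (algebraMap C T)) ≃+* Localization.AtPrime Q) := by
  haveI : IsLocalization.AtPrime (Localization.AtPrime Q) (Q.comap (algebraMap C T)) :=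
    IsLocalization.isLocalization_isLocalization_atPrime_isLocalization M (Localization.AtPrime Q) Q
  exact ⟨(IsLocalization.algEquiv (Q.comap (algebraMap C T)).primeCompl
    (Localization.AtPrime (Q.comap (algebraMap C T))) (Localization.AtPrime Q)).toRingEquiv⟩

theorem exists_prime_comap_eq (q : Ideal C) [hq : q.IsPrime] (hd : Disjoint (M : Set C) q) :
    ∃ Q : Ideal T, Q.IsPrime ∧ Q.comap (algebraMap C T) = q :=
  ⟨q.map (algebraMap C T), IsLocalization.isPrime_of_isPrime_disjoint M T q hq hd,
    IsLocalization.under_map_of_isPrime_disjoint M T hq hd⟩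

theorem disjoint_comap_of_isPrime (Q : Ideal T) [hQ : Q.IsPrime] :
    Disjoint (M : Set C) (Q.comap (algebraMap C T) : Set C) := by
  rw [Set.disjoint_left]
  intro x hxM hxQ
  exact hQ.ne_top (Ideal.eq_top_of_isUnit_mem _ hxQ (IsLocalization.map_units T ⟨x, hxM⟩))

end Generic

section Disjoint

variable {A : Type u} [CommRing A] (E : Type u) [CommRing E] [Algebra A E]
  (B : Type u) [CommRing B] [IsDomain B] [Algebra A B]

theorem disjoint_iff_comap_eq_bot (q : Ideal (B ⊗[A] E)) :
    Disjoint ((Algebra.algebraMapSubmonoid (B ⊗[A] E) B⁰ : Submonoid (B ⊗[A] E)) : Set (B ⊗[A] E))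
      (q : Set (B ⊗[A] E)) ↔ q.comap (algebraMap B (B ⊗[A] E)) = ⊥ := by
  rw [Set.disjoint_left]
  constructor
  · intro h
    rw [eq_bot_iff]
    intro b hb
    by_contra hb0
    exact h ⟨b, mem_nonZeroDivisors_of_ne_zero hb0, rfl⟩ hb
  · rintro h _ ⟨b, hb, rfl⟩ hbq
    have : b ∈ q.comap (algebraMap B (B ⊗[A] E)) := hbq
    rw [h] at this
    exact nonZeroDivisors.ne_zero hb this

end Disjoint

section SettingS

variable {A : Type u} [CommRing A] (E : Type u) [CommRing E] [Algebra A E]
  (B : Type u) [CommRing B] [IsDomain B] [Algebra A B]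
  (K : Type u) [Field K] [Algebra A K] [Algebra B K] [IsScalarTower A B K] [IsFractionRing B K]

/-- The canonical ring homomorphism `B ⊗[A] E → K ⊗[A] E`. -/
noncomputable def toKE : B ⊗[A] E →ₐ[A] K ⊗[A] E :=
  Algebra.TensorProduct.map (IsScalarTower.toAlgHom A B K : B →ₐ[A] K) (AlgHom.id A E)

omit [IsDomain B] in
theorem isLocalization_toKE :
    letI := (toKE (A := A) E B K).toRingHom.toAlgebra
    IsLocalization (Algebra.algebraMapSubmonoid (B ⊗[A] E) B⁰) (K ⊗[A] E) := by
  letI := (toKE (A := A) E B K).toRingHom.toAlgebra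
  haveI : IsScalarTower B (B ⊗[A] E) (K ⊗[A] E) := by
    refine IsScalarTower.of_algebraMap_eq fun b => ?_
    change _ = toKE E B K (b ⊗ₜ 1)
    simp [toKE, Algebra.TensorProduct.algebraMap_apply]
  refine IsLocalization.tensorProduct_tensorProduct A E B⁰ K ?_
  ext e
  change toKE E B K (1 ⊗ₜ e) = 1 ⊗ₜ e
  simp [toKE]


/-- Transfer of a local property between the localizations of `K ⊗[A] E` at its primes and the
localizations of `B ⊗[A] E` at the primes lying over `0` in `B`. -/
theorem forall_atPrime_iff (P : ∀ (R : Type u) [CommRing R], Prop)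
    (hP : ∀ (R R' : Type u) [CommRing R] [CommRing R'], (R ≃+* R') → P R → P R') :
    (∀ (Q : Ideal (K ⊗[A] E)) [Q.IsPrime], P (Localization.AtPrime Q)) ↔
      ∀ (q : Ideal (B ⊗[A] E)) [q.IsPrime], q.comap (algebraMap B (B ⊗[A] E)) = ⊥ →
        P (Localization.AtPrime q) := by
  letI := (toKE (A := A) E B K).toRingHom.toAlgebra
  haveI := isLocalization_toKE (A := A) E B K
  constructor
  · intro h q hq hq0
    obtain ⟨Q, hQ, hQq⟩ := exists_prime_comap_eq (T := K ⊗[A] E)
      (Algebra.algebraMapSubmonoid (B ⊗[A] E) B⁰) q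
      ((disjoint_iff_comap_eq_bot E B q).mpr hq0)
    obtain ⟨e⟩ := nonempty_ringEquiv_atPrime (Algebra.algebraMapSubmonoid (B ⊗[A] E) B⁰) Q
    subst hQq
    exact hP _ _ e.symm (h Q)
  · intro h Q hQ
    obtain ⟨e⟩ := nonempty_ringEquiv_atPrime (Algebra.algebraMapSubmonoid (B ⊗[A] E) B⁰) Q
    refine hP _ _ e (h _ ?_)
    exact (disjoint_iff_comap_eq_bot E B _).mp
      (disjoint_comap_of_isPrime (Algebra.algebraMapSubmonoid (B ⊗[A] E) B⁰) Q)

end SettingS



section Forward

variable {A : Type u} [CommRing A] (E : Type u) [CommRing E] [Algebra A E]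
  (B : Type u) [CommRing B] [IsDomain B] [Algebra A B]

/-- The kernel of `A → B` for a domain `B`. -/
abbrev kerP : Ideal A := RingHom.ker (algebraMap A B)

instance : (kerP (A := A) B).IsPrime := RingHom.ker_isPrime _

/-- The `κ(p)`-algebra structure on `Frac B`, `p = ker (A → B)`. -/
noncomputable def residueFieldToFrac : (kerP (A := A) B).ResidueField →+* FractionRing B :=
  Ideal.ResidueField.lift (kerP (A := A) B) (algebraMap A (FractionRing B))
    (by
      intro a ha
      rw [RingHom.mem_ker] at ha ⊢
      rw [IsScalarTower.algebraMap_apply A B (FractionRing B), ha, map_zero])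
    (by
      intro a ha
      rw [Submonoid.mem_comap, IsUnit.mem_submonoid_iff, isUnit_iff_ne_zero]
      rw [IsScalarTower.algebraMap_apply A B (FractionRing B)]
      intro h0
      apply ha
      change a ∈ RingHom.ker (algebraMap A B)
      rw [RingHom.mem_ker]
      exact (IsFractionRing.injective B (FractionRing B)) (by rw [h0, map_zero]))


/-- The `κ(p)`-algebra structure on `Frac B`. -/
noncomputable abbrev fracAlgebra : Algebra (kerP (A := A) B).ResidueField (FractionRing B) :=
  (residueFieldToFrac (A := A) B).toAlgebra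

attribute [local instance] fracAlgebra

instance fracTower : IsScalarTower A (kerP (A := A) B).ResidueField (FractionRing B) :=
  IsScalarTower.of_algebraMap_eq fun a => by
    change _ = residueFieldToFrac (A := A) B _
    unfold residueFieldToFrac
    rw [Ideal.ResidueField.lift_algebraMap]

theorem isAlgebraic_frac [Algebra.IsIntegral A B] :
    Algebra.IsAlgebraic (kerP (A := A) B).ResidueField (FractionRing B) :=
  isAlgebraic_of_isFractionRing A B (kerP (A := A) B).ResidueField (FractionRing B)

theorem finite_frac [Module.Finite A B] :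
    Module.Finite (kerP (A := A) B).ResidueField (FractionRing B) := by
  haveI := isAlgebraic_frac (A := A) B
  obtain ⟨t, ht⟩ := (Module.Finite.fg_top : (⊤ : Submodule A B).FG)
  let L := IntermediateField.adjoin (kerP (A := A) B).ResidueField
    ((algebraMap B (FractionRing B)) '' (t : Set B))
  haveI : Finite ((algebraMap B (FractionRing B)) '' (t : Set B)) :=
    (t.finite_toSet.image _).to_subtype
  haveI : FiniteDimensional (kerP (A := A) B).ResidueField L :=
    IntermediateField.finiteDimensional_adjoin fun x _ => Algebra.IsIntegral.isIntegral x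
  have hB : ∀ b : B, algebraMap B (FractionRing B) b ∈ L := by
    intro b
    have hb : b ∈ Submodule.span A (t : Set B) := by rw [ht]; trivial
    induction hb using Submodule.span_induction with
    | mem x hx => exact IntermediateField.subset_adjoin _ _ ⟨x, hx, rfl⟩
    | zero => rw [map_zero]; exact L.zero_mem
    | add x y _ _ hx hy => rw [map_add]; exact L.add_mem hx hy
    | smul a x _ hx =>
      rw [Algebra.smul_def, map_mul, ← IsScalarTower.algebraMap_apply A B (FractionRing B),
        IsScalarTower.algebraMap_apply A (kerP (A := A) B).ResidueField (FractionRing B)]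
      exact L.mul_mem (L.algebraMap_mem _) hx
  have hL : ∀ z : FractionRing B, z ∈ L := by
    intro z
    obtain ⟨b₁, b₂, -, rfl⟩ := IsFractionRing.div_surjective (A := B) z
    exact L.div_mem (hB b₁) (hB b₂)
  refine Module.Finite.of_surjective (L.val.toLinearMap) fun z => ⟨⟨z, hL z⟩, rfl⟩

end Forward



section Backward

variable {A : Type u} [CommRing A] (p : Ideal A) [p.IsPrime]
  (K : Type u) [Field K] [Algebra p.ResidueField K] [Module.Finite p.ResidueField K]
  [Algebra A K] [IsScalarTower A p.ResidueField K]

theorem exists_subalgebra_finite_isFractionRing :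
    ∃ B : Subalgebra A K, Module.Finite A B ∧ IsFractionRing B K ∧
      RingHom.ker (algebraMap A B) = p := by
  classical
  letI : Algebra (A ⧸ p) K :=
    ((algebraMap p.ResidueField K).comp (algebraMap (A ⧸ p) p.ResidueField)).toAlgebra
  haveI : IsScalarTower (A ⧸ p) p.ResidueField K := IsScalarTower.of_algebraMap_eq fun _ => rfl
  haveI : IsScalarTower A (A ⧸ p) K := IsScalarTower.of_algebraMap_eq fun a => by
    rw [IsScalarTower.algebraMap_apply A p.ResidueField K,
      IsScalarTower.algebraMap_apply A (A ⧸ p) p.ResidueField]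
    rfl
  haveI : Algebra.IsAlgebraic (A ⧸ p) p.ResidueField :=
    IsLocalization.isAlgebraic p.ResidueField (nonZeroDivisors (A ⧸ p))
  haveI : Algebra.IsAlgebraic p.ResidueField K := Algebra.IsAlgebraic.of_finite _ _
  haveI : Algebra.IsAlgebraic (A ⧸ p) K := Algebra.IsAlgebraic.trans (A ⧸ p) p.ResidueField K
  have hinjD : Function.Injective (algebraMap (A ⧸ p) K) :=
    (algebraMap p.ResidueField K).injective.comp (IsFractionRing.injective (A ⧸ p) p.ResidueField)
  have hkerK : ∀ a : A, algebraMap A K a = 0 ↔ a ∈ p := by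
    intro a
    rw [IsScalarTower.algebraMap_apply A (A ⧸ p) K, map_eq_zero_iff _ hinjD]
    exact Ideal.Quotient.eq_zero_iff_mem
  obtain ⟨s, hs⟩ := (Module.Finite.fg_top : (⊤ : Submodule p.ResidueField K).FG)
  obtain ⟨y, hy0, hy⟩ := Algebra.IsAlgebraic.exists_integral_multiples (A ⧸ p) s
  obtain ⟨a, rfl⟩ := Ideal.Quotient.mk_surjective y
  have hap : a ∉ p := fun h => hy0 (Ideal.Quotient.eq_zero_iff_mem.mpr h)
  have haK : algebraMap A K a ≠ 0 := fun h => hap ((hkerK a).mp h)
  haveI : Algebra.IsIntegral A (A ⧸ p) :=
    Algebra.IsIntegral.of_surjective (Ideal.Quotient.mkₐ A p) Ideal.Quotient.mk_surjective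
  have hint : ∀ x ∈ s, IsIntegral A (a • x) := by
    intro x hx
    have h1 : IsIntegral (A ⧸ p) ((Ideal.Quotient.mk p a) • x) := hy x hx
    have h2 : (Ideal.Quotient.mk p a) • x = a • x := by
      rw [Algebra.smul_def, Algebra.smul_def, IsScalarTower.algebraMap_apply A (A ⧸ p) K]
      rfl
    rw [h2] at h1
    exact isIntegral_trans _ h1
  let s' : Set K := (fun x => a • x) '' (s : Set K)
  have hs'fin : s'.Finite := s.finite_toSet.image _
  have hs'int : ∀ x ∈ s', IsIntegral A x := by
    rintro _ ⟨x, hx, rfl⟩
    exact hint x hx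
  refine ⟨Algebra.adjoin A s', Algebra.finite_adjoin_of_finite_of_isIntegral hs'fin hs'int, ?_, ?_⟩
  · -- fraction ring
    haveI : FaithfulSMul (Algebra.adjoin A s') K :=
      (faithfulSMul_iff_algebraMap_injective _ _).mpr Subtype.val_injective
    refine IsFractionRing.of_field _ K fun z => ?_
    have hz : z ∈ Submodule.span p.ResidueField (s : Set K) := by rw [hs]; trivial
    induction hz using Submodule.span_induction with
    | mem x hx =>
      refine ⟨⟨a • x, Algebra.subset_adjoin ⟨x, hx, rfl⟩⟩, algebraMap A _ a, ?_⟩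
      change x = (a • x) / algebraMap A K a
      rw [Algebra.smul_def, mul_div_assoc, mul_comm, div_mul_cancel₀ _ haK]
    | zero => exact ⟨0, 1, by simp⟩
    | add x y _ _ hx hy =>
      obtain ⟨x1, x2, rfl⟩ := hx
      obtain ⟨y1, y2, rfl⟩ := hy
      by_cases hx2 : algebraMap (Algebra.adjoin A s') K x2 = 0
      · refine ⟨y1, y2, ?_⟩
        rw [hx2, div_zero, zero_add]
      by_cases hy2 : algebraMap (Algebra.adjoin A s') K y2 = 0
      · refine ⟨x1, x2, ?_⟩
        rw [hy2, div_zero, add_zero]
      refine ⟨x1 * y2 + y1 * x2, x2 * y2, ?_⟩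
      rw [map_add, map_mul, map_mul, map_mul, div_add_div _ _ hx2 hy2]
      ring_nf
    | smul c x _ hx =>
      obtain ⟨x1, x2, rfl⟩ := hx
      obtain ⟨d, e, he, rfl⟩ := IsFractionRing.div_surjective (A := A ⧸ p) c
      obtain ⟨d', rfl⟩ := Ideal.Quotient.mk_surjective d
      obtain ⟨e', rfl⟩ := Ideal.Quotient.mk_surjective e
      refine ⟨algebraMap A _ d' * x1, algebraMap A _ e' * x2, ?_⟩
      rw [map_mul, map_mul, Algebra.smul_def, map_div₀]
      have h1 : algebraMap p.ResidueField K (algebraMap (A ⧸ p) p.ResidueField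
          (Ideal.Quotient.mk p d')) = algebraMap A K d' := by
        rw [IsScalarTower.algebraMap_apply A p.ResidueField K,
          IsScalarTower.algebraMap_apply A (A ⧸ p) p.ResidueField]
        rfl
      have h2 : algebraMap p.ResidueField K (algebraMap (A ⧸ p) p.ResidueField
          (Ideal.Quotient.mk p e')) = algebraMap A K e' := by
        rw [IsScalarTower.algebraMap_apply A p.ResidueField K,
          IsScalarTower.algebraMap_apply A (A ⧸ p) p.ResidueField]
        rfl
      rw [h1, h2]
      change _ = (algebraMap A K d' * _) / (algebraMap A K e' * _)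
      rw [div_mul_div_comm]
  · ext x
    rw [RingHom.mem_ker, ← hkerK x]
    constructor
    · intro h
      have := congrArg (algebraMap (Algebra.adjoin A s') K) h
      rwa [map_zero, ← IsScalarTower.algebraMap_apply] at this
    · intro h
      apply Subtype.val_injective
      change algebraMap A K x = 0
      exact h

end Backward



theorem isGeometricallyReduced_of_forall_finite (k : Type u) [Field k] (F : Type u) [CommRing F]
    [Algebra k F]
    (h : ∀ (K : Type u) [Field K] [Algebra k K] [Module.Finite k K], IsReduced (K ⊗[k] F)) :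
    Algebra.IsGeometricallyReduced k F := by
  rw [Algebra.isGeometricallyReduced_field_iff]
  have h1 : IsReduced (F ⊗[k] AlgebraicClosure k) := by
    apply IsReduced.tensorProduct_of_flat_of_forall_fg
    intro D hD
    have hfield : IsField D := Subalgebra.isField_of_algebraic D
    let L : IntermediateField k (AlgebraicClosure k) := Subalgebra.toIntermediateField' D hfield
    haveI : Algebra.FiniteType k D := (Subalgebra.fg_iff_finiteType D).mp hD
    haveI : Algebra.IsIntegral k D :=
      Algebra.IsIntegral.of_injective D.val Subtype.val_injective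
    haveI : Module.Finite k D := Algebra.IsIntegral.finite
    haveI : Module.Finite k L := ‹Module.Finite k D›
    have hr : IsReduced (L ⊗[k] F) := h L
    have hr' : IsReduced (D ⊗[k] F) := hr
    exact isReduced_of_injective (Algebra.TensorProduct.comm k F D)
      (Algebra.TensorProduct.comm k F D).injective
  exact isReduced_of_injective (Algebra.TensorProduct.comm k (AlgebraicClosure k) F)
    (Algebra.TensorProduct.comm k (AlgebraicClosure k) F).injective



section Reduced

variable {A : Type u} [CommRing A] (E : Type u) [CommRing E] [Algebra A E]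

theorem isReduced_of_ringEquiv (R R' : Type u) [CommRing R] [CommRing R'] (e : R ≃+* R')
    (h : IsReduced R) : IsReduced R' :=
  isReduced_of_injective e.symm e.symm.injective

attribute [local instance] fracAlgebra in
theorem isReduced_atPrime_of_geomReduced (B : Type u) [CommRing B] [IsDomain B] [Algebra A B]
    [Algebra.IsIntegral A B]
    (hgr : Algebra.IsGeometricallyReduced (kerP (A := A) B).ResidueField
      ((kerP (A := A) B).Fiber E))
    (q : Ideal (B ⊗[A] E)) [q.IsPrime] (hq : q.comap (algebraMap B (B ⊗[A] E)) = ⊥) :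
    IsReduced (Localization.AtPrime q) := by
  haveI := isAlgebraic_frac (A := A) B
  haveI hT : IsReduced (FractionRing B ⊗[(kerP (A := A) B).ResidueField]
      ((kerP (A := A) B).Fiber E)) := inferInstance
  have hT' : IsReduced (FractionRing B ⊗[A] E) :=
    isReduced_of_ringEquiv _ _ (Algebra.TensorProduct.cancelBaseChange A
      (kerP (A := A) B).ResidueField (FractionRing B) (FractionRing B) E).toRingEquiv hT
  exact (forall_atPrime_iff E B (FractionRing B) (fun R _ => IsReduced R)
    isReduced_of_ringEquiv).mp (fun Q _ => inferInstance) q hq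

theorem isReduced_tensor_fiber_of_forall (p : Ideal A) [p.IsPrime] (K : Type u) [Field K]
    [Algebra p.ResidueField K] [Module.Finite p.ResidueField K]
    (H : ∀ (B : Type u) [CommRing B] [IsDomain B] [Algebra A B] [Module.Finite A B]
      (q : Ideal (B ⊗[A] E)) [q.IsPrime], q.comap (algebraMap B (B ⊗[A] E)) = ⊥ →
        IsReduced (Localization.AtPrime q)) :
    IsReduced (K ⊗[p.ResidueField] p.Fiber E) := by
  letI : Algebra A K := ((algebraMap p.ResidueField K).comp (algebraMap A p.ResidueField)).toAlgebra
  haveI : IsScalarTower A p.ResidueField K := IsScalarTower.of_algebraMap_eq fun _ => rfl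
  obtain ⟨B, hfin, hfrac, -⟩ := exists_subalgebra_finite_isFractionRing p K
  have h1 : ∀ (Q : Ideal (K ⊗[A] E)) [Q.IsPrime], IsReduced (Localization.AtPrime Q) :=
    (forall_atPrime_iff E B K (fun R _ => IsReduced R) isReduced_of_ringEquiv).mpr
      (fun q _ hq => H B q hq)
  have h2 : IsReduced (K ⊗[A] E) := isReduced_ofLocalizationMaximal _ (fun J hJ => h1 J)
  exact isReduced_of_ringEquiv _ _ (Algebra.TensorProduct.cancelBaseChange A
      p.ResidueField K K E).symm.toRingEquiv h2

end Reduced


end Groth.Agent.Lib.Helper22.FFDomains
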