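import Mathlib
import Groth.Prelude.Def_EGA4b
import Groth.Agent.H46.CatenaryDim

/-!
# The dimension formula in an equidimensional catenary Noetherian local ring

`dim A = ht p + dim A/p` for every prime `p`, stated with `Order.height` and `Order.coheight`
on `PrimeSpectrum A`.
-/

namespace Groth.Agent.Lib.Helper22

open Order in
/-- In a finite dimensional partial order where coheight drops by exactly one along covers, for
`q ≤ p` one has `coheight q ≤ coheight p + height p`. -/
theorem coheight_le_coheight_add_height {α : Type*} [PartialOrder α] [FiniteDimensionalOrder α]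
    (hC : ∀ p q : α, p ⋖ q → coheight p = coheight q + 1) :
    ∀ (n : ℕ) (p q : α), q ≤ p → height p ≤ n → coheight q ≤ coheight p + height p := by
  intro n
  induction n with
  | zero =>
    intro p q hqp hp
    have hmin : IsMin p := by
      rw [← height_eq_zero]
      exact le_antisymm (by simpa using hp) bot_le
    have : q = p := le_antisymm hqp (hmin hqp)
    rw [this]
    exact le_self_add
  | succ n ih =>
    intro p q hqp hp
    rcases eq_or_lt_of_le hqp with rfl | hlt
    · exact le_self_add
    have hwf : WellFounded (fun a b : α => b < a) :=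
      SetRel.IsWellFounded.inv_of_finiteDimensional (r := {(a, b) : α × α | a < b})
    obtain ⟨r, ⟨hqr, hrp⟩, hmax⟩ := hwf.has_min {r | q ≤ r ∧ r < p} ⟨q, le_rfl, hlt⟩
    have hcov : r ⋖ p := by
      refine ⟨hrp, fun c hrc hcp => ?_⟩
      exact hmax c ⟨hqr.trans hrc.le, hcp⟩ hrc
    have hr : height r ≤ n := by
      have h1 := height_add_one_le hrp
      have h2 : height r + 1 ≤ (n : ℕ∞) + 1 := h1.trans (by exact_mod_cast hp)
      exact (ENat.add_le_add_iff_right ENat.one_ne_top).mp h2
    have h1 := ih r q hqr hr
    have h2 := hC r p hcov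
    have h3 := height_add_one_le hrp
    calc coheight q ≤ coheight r + height r := h1
      _ = coheight p + (height r + 1) := by rw [h2]; ring
      _ ≤ coheight p + height p := by gcongr

universe u

/-- In a catenary Noetherian local ring, coheight drops by one along covers. -/
theorem coheight_eq_add_one_of_covBy (A : Type u) [CommRing A] [IsNoetherianRing A] [IsLocalRing A]
    (hA' : CAlg.IsCatenary A) (p q : PrimeSpectrum A) (h : p ⋖ q) :
    Order.coheight p = Order.coheight q + 1 := by
  have hfin : FiniteDimensionalOrder (PrimeSpectrum A) := (inferInstance : FiniteRingKrullDim A)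
  have hcat := (Groth.Agent.H46.ordCatenary_iff_coheight (⊤ : PrimeSpectrum A)
    (fun x => le_top)).mp ((Groth.Agent.H46.isCatenary_iff_ordCatenary A).mp hA')
  exact (hcat p q h.lt).2 h

/-- The dimension formula: in an equidimensional catenary Noetherian local ring,
`dim A = dim A/p + ht p`. -/
theorem ringKrullDim_eq_coheight_add_height (A : Type u) [CommRing A] [IsNoetherianRing A]
    [IsLocalRing A] (hA : EGA4.IsEquidim A) (hA' : CAlg.IsCatenary A) (p : PrimeSpectrum A) :
    ringKrullDim A = ((Order.coheight p + Order.height p : ℕ∞) : WithBot ℕ∞) := by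
  have hfin : FiniteDimensionalOrder (PrimeSpectrum A) := (inferInstance : FiniteRingKrullDim A)
  apply le_antisymm
  · obtain ⟨p0, hp0, hp0le⟩ := Ideal.exists_minimalPrimes_le (bot_le : (⊥ : Ideal A) ≤ p.asIdeal)
    have hp0prime : p0.IsPrime := hp0.1.1
    have h1 := hA p0 hp0
    have h2 := Groth.Agent.H46.ringKrullDim_quotient_eq_coheight (⟨p0, hp0prime⟩ : PrimeSpectrum A)
    simp only at h2
    rw [← h1, h2]
    have hht : Order.height p ≠ ⊤ := by
      rw [← PrimeSpectrum.height_eq_orderHeight]
      exact Ideal.height_ne_top_of_isPrime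
    obtain ⟨n, hn⟩ := ENat.ne_top_iff_exists.mp hht
    exact_mod_cast coheight_le_coheight_add_height (coheight_eq_add_one_of_covBy A hA') n p
      ⟨p0, hp0prime⟩ hp0le (by rw [← hn])
  · have : Nonempty (PrimeSpectrum A) := ⟨p⟩
    rw [ringKrullDim, Order.krullDim_eq_iSup_height_add_coheight_of_nonempty, add_comm]
    exact_mod_cast le_iSup (fun a : PrimeSpectrum A => Order.height a + Order.coheight a) p

end Groth.Agent.Lib.Helper22
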