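import Mathlib
import Groth.Prelude.Def_EGA4b

set_option autoImplicit false
set_option linter.style.haveILetI false
universe u
open TensorProduct

namespace Groth.Agent.Lib.Helper22.NormalLocal

theorem isDomain_of_isNormalRing_of_isLocalRing (R : Type u) [CommRing R] [IsLocalRing R]
    (h : EGA4.IsNormalRing R) : IsDomain R := by
  obtain ⟨hdom, -⟩ := h (IsLocalRing.maximalIdeal R)
  have hinj : Function.Injective
      (algebraMap R (Localization.AtPrime (IsLocalRing.maximalIdeal R))) := by
    apply IsLocalization.injective (M := (IsLocalRing.maximalIdeal R).primeCompl)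
    intro x hx
    exact IsUnit.mem_nonZeroDivisors (IsLocalRing.notMem_maximalIdeal.mp hx)
  exact hinj.isDomain (algebraMap _ _)


end Groth.Agent.Lib.Helper22.NormalLocal
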