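import Mathlib
import Groth.Agent.Lib.Helper62.FibReg8
import Groth.Agent.H76.FlatKerFP
import Groth.Agent.H76.FlatLocusTower

set_option autoImplicit false
set_option linter.style.haveILetI false

namespace Groth.Agent.Lib.Helper22.FibSliceMod

universe u

open scoped Pointwise
open RingTheory.Sequence

/-- Module version of the annihilator argument: spreading out regularity of `h` on `M` and flatness
of `M/hM` from a prime `q` to a basic open neighbourhood. -/
theorem exists_kill {A B : Type u} [CommRing A] [CommRing B] [Algebra A B]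
    [Algebra.FinitePresentation A B] {M : Type u} [AddCommGroup M] [Module B M] [Module A M]
    [IsScalarTower A B M] [Module.FinitePresentation B M]
    (q : Ideal B) [q.IsPrime] (h : B)
    (hloc : ∀ m : M, h • m = 0 → ∃ t ∉ q, t • m = 0)
    (hflat : Module.Flat A (LocalizedModule q.primeCompl (QuotSMulTop h M))) :
    ∃ g ∉ q, (∀ m : M, h • m = 0 → ∃ k : ℕ, g ^ k • m = 0) ∧
      ∀ r : Ideal B, ∀ _ : r.IsPrime, g ∉ r →
        Module.Flat A (LocalizedModule r.primeCompl (QuotSMulTop h M)) := by
  classical
  haveI hfpQ : Module.FinitePresentation B (QuotSMulTop h M) :=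
    Groth.Agent.Lib.Helper62.FibReg.finitePresentation_quotSMulTop M h
  have hopen := Groth.Agent.H76.FlatLocusFP.isOpen_flatLocus (R := A) (S := B)
    (M := QuotSMulTop h M)
  obtain ⟨_, ⟨g₁, rfl⟩, hg₁q, hg₁U⟩ :=
    PrimeSpectrum.isTopologicalBasis_basic_opens.exists_subset_of_mem_open
      (show (⟨q, ‹_›⟩ : PrimeSpectrum B) ∈ _ from hflat) hopen
  have hg₁q' : g₁ ∉ q := hg₁q
  have hU₁ : ∀ r : Ideal B, ∀ _ : r.IsPrime, g₁ ∉ r →
      Module.Flat A (LocalizedModule r.primeCompl (QuotSMulTop h M)) :=
    fun r hr hgr => hg₁U (show (⟨r, hr⟩ : PrimeSpectrum B) ∈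
      (PrimeSpectrum.basicOpen g₁ : Set _) from hgr)
  haveI hflQ : Module.Flat A (LocalizedModule (Submonoid.powers g₁) (QuotSMulTop h M)) := by
    rw [Groth.Agent.H76.FlatLocusTower.flat_localized_iff_forall_prime]
    intro r hr hdisj
    refine hU₁ r hr (fun hgr => ?_)
    exact Set.disjoint_left.mp hdisj hgr (Submonoid.mem_powers g₁)
  haveI : Algebra.FinitePresentation B (Localization (Submonoid.powers g₁)) :=
    IsLocalization.Away.finitePresentation g₁
  haveI : Algebra.FinitePresentation A (Localization (Submonoid.powers g₁)) :=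
    Algebra.FinitePresentation.trans A B (Localization (Submonoid.powers g₁))
  let γ : LocalizedModule (Submonoid.powers g₁) M →ₗ[Localization (Submonoid.powers g₁)]
      LocalizedModule (Submonoid.powers g₁) (QuotSMulTop h M) :=
    LocalizedModule.map (Submonoid.powers g₁) (Submodule.mkQ _)
  have hγ : Function.Surjective γ :=
    LocalizedModule.map_surjective (Submonoid.powers g₁) _ (Submodule.mkQ_surjective _)
  have hker : Module.FinitePresentation (Localization (Submonoid.powers g₁)) (LinearMap.ker γ) :=
    Groth.Agent.H76.FlatKerFP.finitePresentation_ker A γ hγ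
  -- multiplication by `h`
  have hsmul : ∀ (m : M) (s : Submonoid.powers g₁),
      algebraMap B (Localization (Submonoid.powers g₁)) h •
        (LocalizedModule.mk m s : LocalizedModule (Submonoid.powers g₁) M) =
      LocalizedModule.mk (h • m) s := by
    intro m s
    rw [algebraMap_smul, LocalizedModule.smul'_mk]
  have hmem : ∀ x : LocalizedModule (Submonoid.powers g₁) M,
      (algebraMap B (Localization (Submonoid.powers g₁)) h • LinearMap.id :
        LocalizedModule (Submonoid.powers g₁) M →ₗ[Localization (Submonoid.powers g₁)]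
          LocalizedModule (Submonoid.powers g₁) M) x ∈ LinearMap.ker γ := by
    intro x
    induction x using LocalizedModule.induction_on with
    | h m s =>
      rw [LinearMap.smul_apply, LinearMap.id_apply, hsmul, LinearMap.mem_ker]
      show LocalizedModule.map (Submonoid.powers g₁) (Submodule.mkQ _) _ = 0
      rw [LocalizedModule.map_mk]
      have : (Submodule.mkQ (h • (⊤ : Submodule B M))) (h • m) = 0 := by
        rw [Submodule.mkQ_apply, Submodule.Quotient.mk_eq_zero]
        exact Submodule.smul_mem_pointwise_smul m h ⊤ Submodule.mem_top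
      rw [this, LocalizedModule.zero_mk]
  let φ : LocalizedModule (Submonoid.powers g₁) M →ₗ[Localization (Submonoid.powers g₁)]
      LinearMap.ker γ :=
    (algebraMap B (Localization (Submonoid.powers g₁)) h • LinearMap.id).codRestrict _ hmem
  have hφ : Function.Surjective φ := by
    rintro ⟨y, hy⟩
    induction y using LocalizedModule.induction_on with
    | h m s =>
      rw [LinearMap.mem_ker] at hy
      have hy' : LocalizedModule.map (Submonoid.powers g₁) (Submodule.mkQ _)
          (LocalizedModule.mk m s) = 0 := hy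
      rw [LocalizedModule.map_mk, ← LocalizedModule.zero_mk s, LocalizedModule.mk_eq] at hy'
      obtain ⟨u, hu⟩ := hy'
      have hu' : (Submodule.mkQ (h • (⊤ : Submodule B M))) (((u : B) * (s : B)) • m) = 0 := by
        rw [map_smul, mul_smul]
        simpa [Submonoid.smul_def] using hu
      rw [Submodule.mkQ_apply, Submodule.Quotient.mk_eq_zero,
        Submodule.mem_smul_pointwise_iff_exists] at hu'
      obtain ⟨m', -, hm'⟩ := hu'
      refine ⟨LocalizedModule.mk m' ((u * s) * s), Subtype.ext ?_⟩
      show (algebraMap B (Localization (Submonoid.powers g₁)) h • LinearMap.id) _ = _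
      rw [LinearMap.smul_apply, LinearMap.id_apply, hsmul, hm', LocalizedModule.mk_eq]
      refine ⟨1, ?_⟩
      simp only [one_smul, Submonoid.smul_def, mul_smul]
      rw [smul_comm (s : B) (u : B)]
  obtain ⟨T, hT⟩ := Module.FinitePresentation.fg_ker φ hφ
  have hmemφ : ∀ y : LocalizedModule (Submonoid.powers g₁) M, y ∈ LinearMap.ker φ ↔
      algebraMap B (Localization (Submonoid.powers g₁)) h • y = 0 := by
    intro y
    rw [LinearMap.mem_ker]
    constructor
    · intro hy
      exact congrArg Subtype.val hy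
    · intro hy
      exact Subtype.ext hy
  have hpow : ∀ u : Submonoid.powers g₁, (u : B) ∉ q := by
    rintro ⟨_, n, rfl⟩ hn
    exact hg₁q' (Ideal.IsPrime.mem_of_pow_mem ‹_› n hn)
  have key : ∀ (m : M) (s : Submonoid.powers g₁),
      algebraMap B (Localization (Submonoid.powers g₁)) h •
        (LocalizedModule.mk m s : LocalizedModule (Submonoid.powers g₁) M) = 0 →
      ∃ t : B, t ∉ q ∧ algebraMap B (Localization (Submonoid.powers g₁)) t •
        (LocalizedModule.mk m s : LocalizedModule (Submonoid.powers g₁) M) = 0 := by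
    intro m s hms
    rw [hsmul, ← LocalizedModule.zero_mk s, LocalizedModule.mk_eq] at hms
    obtain ⟨u, hu⟩ := hms
    have hu' : h • (((u : B) * (s : B)) • m) = 0 := by
      rw [smul_comm, mul_smul]
      simpa [Submonoid.smul_def] using hu
    obtain ⟨t, ht, htm⟩ := hloc _ hu'
    refine ⟨t * ((u : B) * (s : B)), fun hmem' => ?_, ?_⟩
    · rcases Ideal.IsPrime.mem_or_mem ‹q.IsPrime› hmem' with h1 | h1
      · exact ht h1
      · rcases Ideal.IsPrime.mem_or_mem ‹q.IsPrime› h1 with h2 | h2
        · exact hpow u h2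
        · exact hpow s h2
    · rw [algebraMap_smul, LocalizedModule.smul'_mk, mul_smul, htm, LocalizedModule.zero_mk]
  have hex : ∀ y : LocalizedModule (Submonoid.powers g₁) M, ∃ t : B, t ∉ q ∧
      (y ∈ T → algebraMap B (Localization (Submonoid.powers g₁)) t • y = 0) := by
    intro y
    by_cases hy : y ∈ T
    · have hy0 := (hmemφ y).mp (hT ▸ Submodule.subset_span hy)
      obtain ⟨m, s, rfl⟩ : ∃ m s, y = LocalizedModule.mk m s := by
        induction y using LocalizedModule.induction_on with
        | h m s => exact ⟨m, s, rfl⟩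
      obtain ⟨t, ht, htm⟩ := key m s hy0
      exact ⟨t, ht, fun _ => htm⟩
    · exact ⟨1, (Ideal.ne_top_iff_one q).mp (Ideal.IsPrime.ne_top ‹_›), fun h => absurd h hy⟩
  choose t ht htk using hex
  have htq : (∏ y ∈ T, t y) ∉ q := by
    intro hmem'
    obtain ⟨y, -, hy⟩ := (Ideal.IsPrime.prod_mem_iff (p := q)).mp hmem'
    exact ht y hy
  have hkill : ∀ y ∈ LinearMap.ker φ,
      algebraMap B (Localization (Submonoid.powers g₁)) (∏ y ∈ T, t y) • y = 0 := by
    intro y hy
    have hy' : y ∈ Submodule.span (Localization (Submonoid.powers g₁))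
        (T : Set (LocalizedModule (Submonoid.powers g₁) M)) := hT ▸ hy
    have hle : Submodule.span (Localization (Submonoid.powers g₁))
        (T : Set (LocalizedModule (Submonoid.powers g₁) M)) ≤
        LinearMap.ker ((algebraMap B (Localization (Submonoid.powers g₁)) (∏ y ∈ T, t y)) •
          (LinearMap.id : LocalizedModule (Submonoid.powers g₁) M →ₗ[
            Localization (Submonoid.powers g₁)] LocalizedModule (Submonoid.powers g₁) M)) := by
      rw [Submodule.span_le]
      intro k hk
      rw [SetLike.mem_coe, LinearMap.mem_ker, LinearMap.smul_apply, LinearMap.id_apply,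
        ← Finset.mul_prod_erase T t hk, mul_comm (t k), map_mul, mul_smul, htk k hk, smul_zero]
    exact hle hy'
  refine ⟨g₁ * ∏ y ∈ T, t y, fun hmem' => ?_, ?_, ?_⟩
  · rcases Ideal.IsPrime.mem_or_mem ‹q.IsPrime› hmem' with h1 | h1
    · exact hg₁q' h1
    · exact htq h1
  · intro m hm
    have h1 : algebraMap B (Localization (Submonoid.powers g₁)) h •
        (LocalizedModule.mk m 1 : LocalizedModule (Submonoid.powers g₁) M) = 0 := by
      rw [hsmul, hm, LocalizedModule.zero_mk]
    have h2 := hkill _ ((hmemφ _).mpr h1)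
    rw [algebraMap_smul, LocalizedModule.smul'_mk, ← LocalizedModule.zero_mk 1,
      LocalizedModule.mk_eq] at h2
    obtain ⟨⟨_, n, rfl⟩, hu⟩ := h2
    have h3 : (g₁ ^ n * ∏ y ∈ T, t y) • m = 0 := by
      rw [mul_smul]
      simpa [Submonoid.smul_def] using hu
    refine ⟨n + 1, ?_⟩
    have : (g₁ * ∏ y ∈ T, t y) ^ (n + 1) = (g₁ * (∏ y ∈ T, t y) ^ n) * (g₁ ^ n * ∏ y ∈ T, t y) := by
      ring
    rw [this, mul_smul, h3, smul_zero]
  · intro r hr hgr
    exact hU₁ r hr (fun hg₁r => hgr (Ideal.mul_mem_right _ _ hg₁r))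

section Good

variable (A : Type u) {B : Type u} [CommRing A] [CommRing B] [Algebra A B]

/-- `Good A r hs M`: at the prime `r`, the sequence `hs` is regular on `M` with all successive
quotients flat over `A` (recursive formulation). -/
def Good (r : Ideal B) [r.IsPrime] : List B → ∀ (M : Type u) [AddCommGroup M] [Module B M]
    [Module A M] [IsScalarTower A B M], Prop
  | [], M, _, _, _, _ => Module.Flat A (LocalizedModule r.primeCompl M)
  | h :: t, M, _, _, _, _ => Module.Flat A (LocalizedModule r.primeCompl M) ∧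
      (∀ m : M, h • m = 0 → ∃ s ∉ r, s • m = 0) ∧ Good r t (QuotSMulTop h M)

variable {A}

theorem Good.flat {r : Ideal B} [r.IsPrime] {hs : List B} {M : Type u} [AddCommGroup M]
    [Module B M] [Module A M] [IsScalarTower A B M] (h : Good A r hs M) :
    Module.Flat A (LocalizedModule r.primeCompl M) := by
  cases hs with
  | nil => exact h
  | cons a t => exact h.1

variable [Algebra.FinitePresentation A B]

theorem exists_flat_basicOpen {M : Type u} [AddCommGroup M] [Module B M] [Module A M]
    [IsScalarTower A B M] [Module.FinitePresentation B M] (q : Ideal B) [q.IsPrime]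
    (hflat : Module.Flat A (LocalizedModule q.primeCompl M)) :
    ∃ g ∉ q, ∀ (r : Ideal B) [r.IsPrime], g ∉ r →
      Module.Flat A (LocalizedModule r.primeCompl M) := by
  have hopen := Groth.Agent.H76.FlatLocusFP.isOpen_flatLocus (R := A) (S := B) (M := M)
  obtain ⟨_, ⟨g₁, rfl⟩, hg₁q, hg₁U⟩ :=
    PrimeSpectrum.isTopologicalBasis_basic_opens.exists_subset_of_mem_open
      (show (⟨q, ‹_›⟩ : PrimeSpectrum B) ∈ _ from hflat) hopen
  exact ⟨g₁, hg₁q, fun r hr hgr => hg₁U (show (⟨r, hr⟩ : PrimeSpectrum B) ∈
      (PrimeSpectrum.basicOpen g₁ : Set _) from hgr)⟩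

/-- Openness of `Good`. -/
theorem good_open (hs : List B) : ∀ (M : Type u) [AddCommGroup M] [Module B M] [Module A M]
    [IsScalarTower A B M] [Module.FinitePresentation B M] (q : Ideal B) [q.IsPrime],
    Good A q hs M → ∃ g ∉ q, ∀ (r : Ideal B) [r.IsPrime], g ∉ r → Good A r hs M := by
  induction hs with
  | nil =>
    intro M _ _ _ _ _ q _ hq
    exact exists_flat_basicOpen q hq
  | cons h t ih =>
    intro M _ _ _ _ _ q _ hq
    obtain ⟨hfl, hreg, hrest⟩ := hq
    obtain ⟨g₀, hg₀, hU₀⟩ := exists_flat_basicOpen q hfl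
    obtain ⟨g₁, hg₁, hk₁, -⟩ := exists_kill (A := A) q h hreg hrest.flat
    haveI : Module.FinitePresentation B (QuotSMulTop h M) :=
      Groth.Agent.Lib.Helper62.FibReg.finitePresentation_quotSMulTop M h
    obtain ⟨g₂, hg₂, hU₂⟩ := ih (QuotSMulTop h M) q hrest
    refine ⟨g₀ * g₁ * g₂, fun hmem => ?_, fun r hr hgr => ?_⟩
    · rcases Ideal.IsPrime.mem_or_mem ‹q.IsPrime› hmem with h1 | h1
      · rcases Ideal.IsPrime.mem_or_mem ‹q.IsPrime› h1 with h2 | h2
        · exact hg₀ h2
        · exact hg₁ h2
      · exact hg₂ h1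
    · have h0 : g₀ ∉ r := fun h0 => hgr (Ideal.mul_mem_right _ _ (Ideal.mul_mem_right _ _ h0))
      have h1 : g₁ ∉ r := fun h1 => hgr (Ideal.mul_mem_right _ _ (Ideal.mul_mem_left _ _ h1))
      have h2 : g₂ ∉ r := fun h2 => hgr (Ideal.mul_mem_left _ _ h2)
      refine ⟨hU₀ r h0, fun m hm => ?_, hU₂ r h2⟩
      obtain ⟨k, hk⟩ := hk₁ m hm
      exact ⟨g₁ ^ k, fun hmem => h1 (Ideal.IsPrime.mem_of_pow_mem hr k hmem), hk⟩

/-- Entry: fibrewise regularity at `q` (on a localization `N` of `M` at `q`, flat over `A`)
gives `Good` at `q`. -/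
theorem good_of_fibre (q : Ideal B) [q.IsPrime] (hs : List B) :
    ∀ (M : Type u) [AddCommGroup M] [Module B M] [Module A M] [IsScalarTower A B M]
      [Module.FinitePresentation B M]
      (N : Type u) [AddCommGroup N] [Module B N] [Module A N] [IsScalarTower A B N]
      (ℓ : M →ₗ[B] N) [IsLocalizedModule q.primeCompl ℓ] [Module.Flat A N],
      IsWeaklyRegular
        (N ⧸ ((q.comap (algebraMap A B)).map (algebraMap A B) • (⊤ : Submodule B N))) hs →
      Good A q hs M := by
  induction hs with
  | nil =>
    intro M _ _ _ _ _ N _ _ _ _ ℓ _ _ _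
    exact (Groth.Agent.H76.FlatBaseChange.flat_iff_flat_localized (R := A) q.primeCompl ℓ).mp
      inferInstance
  | cons y l ih =>
    intro M _ _ _ _ _ N _ _ _ _ ℓ _ _ hreg
    rw [isWeaklyRegular_cons_iff] at hreg
    obtain ⟨h1, h2⟩ := Groth.Agent.Lib.Helper62.FibReg.step q ℓ y hreg.1
    have h3 : IsWeaklyRegular (QuotSMulTop y N ⧸
        ((q.comap (algebraMap A B)).map (algebraMap A B) •
          (⊤ : Submodule B (QuotSMulTop y N)))) l :=
      ((Groth.Agent.Lib.Helper93.DepthFlat.fibreQuotSMulTopEquiv N
        ((q.comap (algebraMap A B)).map (algebraMap A B)) y).isWeaklyRegular_congr l).mpr hreg.2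
    haveI hfp : Module.FinitePresentation B (QuotSMulTop y M) :=
      Groth.Agent.Lib.Helper62.FibReg.finitePresentation_quotSMulTop M y
    haveI hloc : IsLocalizedModule q.primeCompl (QuotSMulTop.map y ℓ) :=
      Groth.Agent.Lib.Helper62.FibReg.isLocalizedModule_quotSMulTop_map q.primeCompl ℓ y
    refine ⟨?_, ?_, ih (QuotSMulTop y M) (QuotSMulTop y N) (QuotSMulTop.map y ℓ) h3⟩
    · exact (Groth.Agent.H76.FlatBaseChange.flat_iff_flat_localized (R := A) q.primeCompl ℓ).mp
        inferInstance
    · intro m hm
      have h4 : y • ℓ m = y • (0 : N) := by rw [smul_zero, ← map_smul, hm, map_zero]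
      have h5 : ℓ m = 0 := h1 h4
      obtain ⟨s, hs⟩ := (IsLocalizedModule.eq_zero_iff q.primeCompl ℓ).mp h5
      exact ⟨s.1, s.2, hs⟩

/-- Local torsion at all primes of `D(g)` is `g`-power torsion. -/
theorem exists_pow_smul_eq_zero {M : Type*} [AddCommGroup M] [Module B M] (g : B) (m : M)
    (hm : ∀ (r : Ideal B) [r.IsPrime], g ∉ r → ∃ s ∉ r, s • m = 0) :
    ∃ k : ℕ, g ^ k • m = 0 := by
  by_contra hcon
  push Not at hcon
  have hdisj : Disjoint (LinearMap.ker (LinearMap.toSpanSingleton B M m) : Set B)
      (Submonoid.powers g : Set B) := by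
    rw [Set.disjoint_left]
    rintro _ hc ⟨k, rfl⟩
    rw [SetLike.mem_coe, LinearMap.mem_ker, LinearMap.toSpanSingleton_apply] at hc
    exact hcon k hc
  obtain ⟨r, hrprime, hle, hrW⟩ := Ideal.exists_le_prime_disjoint _ _ hdisj
  have hgr : g ∉ r := fun hgr => Set.disjoint_left.mp hrW hgr (Submonoid.mem_powers g)
  obtain ⟨s, hs, hsm⟩ := hm r hgr
  exact hs (hle (by rw [LinearMap.mem_ker, LinearMap.toSpanSingleton_apply]; exact hsm))

/-- `g`-power torsion of the annihilator of `h` gives regularity of `h` on `M_g`. -/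
theorem isSMulRegular_localizedModule {M : Type*} [AddCommGroup M] [Module B M] (g h : B)
    (hk : ∀ m : M, h • m = 0 → ∃ k : ℕ, g ^ k • m = 0) :
    IsSMulRegular (LocalizedModule (Submonoid.powers g) M) h := by
  rw [isSMulRegular_iff_right_eq_zero_of_smul]
  intro x hx
  induction x using LocalizedModule.induction_on with
  | h m s =>
    rw [LocalizedModule.smul'_mk, ← LocalizedModule.zero_mk s, LocalizedModule.mk_eq] at hx
    obtain ⟨u, hu⟩ := hx
    have hu' : h • (((u : B) * (s : B)) • m) = 0 := by
      rw [smul_comm, mul_smul]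
      simpa [Submonoid.smul_def] using hu
    obtain ⟨k, hk'⟩ := hk _ hu'
    rw [← LocalizedModule.zero_mk s, LocalizedModule.mk_eq]
    refine ⟨⟨g ^ k, k, rfl⟩ * u, ?_⟩
    simp only [smul_zero, Submonoid.smul_def, mul_smul]
    rw [← mul_smul (u : B) (s : B), hk']

theorem isWeaklyRegular_of_good (g : B) (hs : List B) :
    ∀ (M : Type u) [AddCommGroup M] [Module B M] [Module A M] [IsScalarTower A B M],
      (∀ (r : Ideal B) [r.IsPrime], g ∉ r → Good A r hs M) →
      IsWeaklyRegular (LocalizedModule (Submonoid.powers g) M) hs := by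
  induction hs with
  | nil =>
    intro M _ _ _ _ _
    exact IsWeaklyRegular.nil B _
  | cons h t ih =>
    intro M _ _ _ _ hgood
    rw [isWeaklyRegular_cons_iff]
    refine ⟨?_, ?_⟩
    · apply isSMulRegular_localizedModule g h
      intro m hm
      exact exists_pow_smul_eq_zero g m (fun r _ hgr => (hgood r hgr).2.1 m hm)
    · have h1 := ih (QuotSMulTop h M) (fun r _ hgr => (hgood r hgr).2.2)
      haveI : IsLocalizedModule (Submonoid.powers g)
          (QuotSMulTop.map h (LocalizedModule.mkLinearMap (Submonoid.powers g) M)) :=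
        Groth.Agent.Lib.Helper62.FibReg.isLocalizedModule_quotSMulTop_map (Submonoid.powers g) _ h
      exact ((IsLocalizedModule.iso (Submonoid.powers g)
        (QuotSMulTop.map h (LocalizedModule.mkLinearMap (Submonoid.powers g) M))).isWeaklyRegular_congr
          t).mp h1

/-- Flatness of a localization only depends on the module up to `B`-linear isomorphism. -/
theorem flat_localizedModule_congr {M₁ M₂ : Type*} [AddCommGroup M₁] [Module B M₁] [Module A M₁]
    [IsScalarTower A B M₁] [AddCommGroup M₂] [Module B M₂] [Module A M₂] [IsScalarTower A B M₂]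
    (W : Submonoid B) (e : M₁ ≃ₗ[B] M₂) (h : Module.Flat A (LocalizedModule W M₁)) :
    Module.Flat A (LocalizedModule W M₂) := by
  haveI : IsLocalizedModule W ((LocalizedModule.mkLinearMap W M₁) ∘ₗ e.symm.toLinearMap) :=
    IsLocalizedModule.of_linearEquiv_right W (LocalizedModule.mkLinearMap W M₁) e.symm
  exact (Groth.Agent.H76.FlatBaseChange.flat_iff_flat_localized (R := A) W
    ((LocalizedModule.mkLinearMap W M₁) ∘ₗ e.symm.toLinearMap)).mp h

theorem Good.flat_quot {r : Ideal B} [r.IsPrime] (hs : List B) :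
    ∀ (M : Type u) [AddCommGroup M] [Module B M] [Module A M] [IsScalarTower A B M],
      Good A r hs M →
      Module.Flat A (LocalizedModule r.primeCompl
        (M ⧸ (Ideal.ofList hs • (⊤ : Submodule B M)))) := by
  induction hs with
  | nil =>
    intro M _ _ _ _ hgood
    have hbot : Ideal.ofList ([] : List B) • (⊤ : Submodule B M) = ⊥ := by
      rw [Ideal.ofList_nil, Submodule.bot_smul]
    exact flat_localizedModule_congr r.primeCompl (Submodule.quotEquivOfEqBot _ hbot).symm hgood
  | cons h t ih =>
    intro M _ _ _ _ hgood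
    have h1 := ih (QuotSMulTop h M) hgood.2.2
    exact flat_localizedModule_congr r.primeCompl
      (Submodule.quotOfListConsSMulTopEquivQuotSMulTopInner M h t).symm h1

theorem flat_of_good (g : B) (hs : List B) (M : Type u) [AddCommGroup M] [Module B M]
    [Module A M] [IsScalarTower A B M]
    (hgood : ∀ (r : Ideal B) [r.IsPrime], g ∉ r → Good A r hs M) :
    Module.Flat A (LocalizedModule (Submonoid.powers g)
      (M ⧸ (Ideal.ofList hs • (⊤ : Submodule B M)))) := by
  rw [Groth.Agent.H76.FlatLocusTower.flat_localized_iff_forall_prime]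
  intro r hr hdisj
  have hgr : g ∉ r := fun hgr => Set.disjoint_left.mp hdisj hgr (Submonoid.mem_powers g)
  exact (hgood r hgr).flat_quot hs M

/-- Ring-level exit: for `C = B_g` with `D(g)` in the good locus of `B`, the images of `hs` form a
weakly regular sequence of `C` and `C/(hs)` is `A`-flat. -/
theorem ring_exit (g : B) (hs : List B)
    (hgood : ∀ (r : Ideal B) [r.IsPrime], g ∉ r → Good A r hs B)
    (C : Type u) [CommRing C] [Algebra B C] [IsLocalization.Away g C]
    [Algebra A C] [IsScalarTower A B C] :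
    IsWeaklyRegular C (hs.map (algebraMap B C)) ∧
      Module.Flat A (C ⧸ Ideal.ofList (hs.map (algebraMap B C))) := by
  have hwr := isWeaklyRegular_of_good (A := A) g hs B hgood
  have hfl := flat_of_good g hs B hgood
  refine ⟨?_, ?_⟩
  · rw [isWeaklyRegular_map_algebraMap_iff]
    exact ((IsLocalizedModule.iso (Submonoid.powers g)
      (Algebra.linearMap B C)).isWeaklyRegular_congr hs).mp hwr
  · have h1 : Module.Flat A (C ⧸ (Ideal.ofList hs • (⊤ : Submodule B B)).localized' C
        (Submonoid.powers g) (Algebra.linearMap B C)) :=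
      (Groth.Agent.H76.FlatBaseChange.flat_iff_flat_localized (R := A) (Submonoid.powers g)
        (Submodule.toLocalizedQuotient' C (Submonoid.powers g) (Algebra.linearMap B C)
          (Ideal.ofList hs • (⊤ : Submodule B B)))).mpr hfl
    have hJ : (Ideal.ofList hs • (⊤ : Submodule B B)).localized' C
        (Submonoid.powers g) (Algebra.linearMap B C) =
        Ideal.ofList (hs.map (algebraMap B C)) := by
      have : (Ideal.ofList hs • (⊤ : Submodule B B)) = Ideal.ofList hs := by
        rw [smul_eq_mul, Ideal.mul_top]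
      rw [this, Ideal.localized'_eq_map, Ideal.map_ofList]
    exact Module.Flat.of_linearEquiv
      ((Submodule.quotEquivOfEq _ _ hJ).restrictScalars A).symm


theorem Good.take {r : Ideal B} [r.IsPrime] (hs : List B) :
    ∀ (i : ℕ) (M : Type u) [AddCommGroup M] [Module B M] [Module A M] [IsScalarTower A B M],
      Good A r hs M → Good A r (hs.take i) M := by
  induction hs with
  | nil =>
    intro i M _ _ _ _ h
    rwa [List.take_nil]
  | cons a t ih =>
    intro i M _ _ _ _ h
    cases i with
    | zero =>
      rw [List.take_zero]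
      exact h.1
    | succ j =>
      rw [List.take_succ_cons]
      exact ⟨h.1, h.2.1, ih j (QuotSMulTop a M) h.2.2⟩

end Good

end Groth.Agent.Lib.Helper22.FibSliceMod
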