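import Mathlib
import Groth.Agent.Lib.Helper22.FibSliceMod
import Groth.Agent.Lib.Helper62.FibReg18

set_option autoImplicit false
set_option linter.style.haveILetI false

namespace Groth.Agent.Lib.Helper22.FibSliceBC

universe u

open scoped Pointwise TensorProduct
open RingTheory.Sequence Groth.Agent.Lib.Helper22.FibSliceMod

section

variable (A : Type u) {B : Type u} [CommRing A] [CommRing B] [Algebra A B]

/-- `QuotSMulTop` commutes with tensoring over a smaller base ring. -/
noncomputable def quotSMulTopTensorEquiv (h : B) (N : Type u) [AddCommGroup N] [Module B N]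
    [Module A N] [IsScalarTower A B N] (Q : Type u) [AddCommGroup Q] [Module A Q] :
    QuotSMulTop h (N ⊗[A] Q) ≃ₗ[B] (QuotSMulTop h N) ⊗[A] Q :=
  QuotSMulTop.equivQuotTensor h (N ⊗[A] Q) ≪≫ₗ
    (TensorProduct.AlgebraTensorModule.assoc A B B (B ⧸ Ideal.span {h}) N Q).symm ≪≫ₗ
    TensorProduct.AlgebraTensorModule.congr (QuotSMulTop.equivQuotTensor h N).symm
      (LinearEquiv.refl A Q)

/-- `FlatReg A hs N`: `hs` is weakly regular on `N` and all the successive quotients are flat
over `A`. -/
def FlatReg : List B → ∀ (N : Type u) [AddCommGroup N] [Module B N] [Module A N]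
    [IsScalarTower A B N], Prop
  | [], _, _, _, _, _ => True
  | h :: t, N, _, _, _, _ => IsSMulRegular N h ∧ Module.Flat A (QuotSMulTop h N) ∧
      FlatReg t (QuotSMulTop h N)

variable {A}

theorem FlatReg.congr (hs : List B) : ∀ (N N' : Type u) [AddCommGroup N] [Module B N] [Module A N]
    [IsScalarTower A B N] [AddCommGroup N'] [Module B N'] [Module A N'] [IsScalarTower A B N']
    (_ : N ≃ₗ[B] N'), FlatReg A hs N → FlatReg A hs N' := by
  induction hs with
  | nil =>
    intro N N' _ _ _ _ _ _ _ _ e h
    trivial
  | cons a t ih =>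
    intro N N' _ _ _ _ _ _ _ _ e h
    obtain ⟨h1, h2, h3⟩ := h
    refine ⟨(e.isSMulRegular_congr a).mp h1, ?_, ih _ _ (QuotSMulTop.congr a e) h3⟩
    haveI := h2
    exact Module.Flat.of_linearEquiv ((QuotSMulTop.congr a e).restrictScalars A).symm

theorem FlatReg.isWeaklyRegular (hs : List B) : ∀ (N : Type u) [AddCommGroup N] [Module B N]
    [Module A N] [IsScalarTower A B N], FlatReg A hs N → IsWeaklyRegular N hs := by
  induction hs with
  | nil =>
    intro N _ _ _ _ _
    exact IsWeaklyRegular.nil B N
  | cons a t ih =>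
    intro N _ _ _ _ h
    rw [isWeaklyRegular_cons_iff]
    exact ⟨h.1, ih _ h.2.2⟩

/-- Base change: a sequence which is regular with flat successive quotients stays regular after
tensoring with an arbitrary module over the base. -/
theorem FlatReg.isWeaklyRegular_tensor (hs : List B) : ∀ (N : Type u) [AddCommGroup N]
    [Module B N] [Module A N] [IsScalarTower A B N] (Q : Type u) [AddCommGroup Q] [Module A Q],
    FlatReg A hs N → IsWeaklyRegular (N ⊗[A] Q) hs := by
  induction hs with
  | nil =>
    intro N _ _ _ _ Q _ _ _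
    exact IsWeaklyRegular.nil B _
  | cons a t ih =>
    intro N _ _ _ _ Q _ _ h
    obtain ⟨h1, h2, h3⟩ := h
    rw [isWeaklyRegular_cons_iff]
    refine ⟨?_, ?_⟩
    · haveI := h2
      have hinj := Groth.Agent.Lib.Helper62.FibReg.lTensor_lsmul_injective_of_regular_flat
        (R := A) a h1 Q
      rw [LinearMap.lTensor_inj_iff_rTensor_inj] at hinj
      intro x y hxy
      apply hinj
      rw [Groth.Agent.Lib.Helper62.FibReg.rTensor_lsmul_apply,
        Groth.Agent.Lib.Helper62.FibReg.rTensor_lsmul_apply]
      exact hxy
    · exact ((quotSMulTopTensorEquiv A a N Q).isWeaklyRegular_congr t).mpr (ih _ Q h3)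

/-- From `Good` on `D(g)` to `FlatReg` on the localization. -/
theorem flatReg_of_good (g : B) (hs : List B) :
    ∀ (M : Type u) [AddCommGroup M] [Module B M] [Module A M] [IsScalarTower A B M],
      (∀ (r : Ideal B) [r.IsPrime], g ∉ r → Good A r hs M) →
      FlatReg A hs (LocalizedModule (Submonoid.powers g) M) := by
  induction hs with
  | nil =>
    intro M _ _ _ _ _
    trivial
  | cons h t ih =>
    intro M _ _ _ _ hgood
    haveI : IsLocalizedModule (Submonoid.powers g)
        (QuotSMulTop.map h (LocalizedModule.mkLinearMap (Submonoid.powers g) M)) :=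
      Groth.Agent.Lib.Helper62.FibReg.isLocalizedModule_quotSMulTop_map (Submonoid.powers g) _ h
    let e := IsLocalizedModule.iso (Submonoid.powers g)
        (QuotSMulTop.map h (LocalizedModule.mkLinearMap (Submonoid.powers g) M))
    have h1 := ih (QuotSMulTop h M) (fun r _ hgr => (hgood r hgr).2.2)
    refine ⟨?_, ?_, FlatReg.congr t _ _ e h1⟩
    · apply isSMulRegular_localizedModule g h
      intro m hm
      exact exists_pow_smul_eq_zero g m (fun r _ hgr => (hgood r hgr).2.1 m hm)
    · have hfl : Module.Flat A (LocalizedModule (Submonoid.powers g) (QuotSMulTop h M)) := by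
        rw [Groth.Agent.H76.FlatLocusTower.flat_localized_iff_forall_prime]
        intro r hr hdisj
        have hgr : g ∉ r := fun hgr => Set.disjoint_left.mp hdisj hgr (Submonoid.mem_powers g)
        exact (hgood r hgr).2.2.flat
      exact Module.Flat.of_linearEquiv (e.restrictScalars A).symm

/-- Ring-level exit with base change: on `C = B_g` (with `D(g)` in the good locus), the images of
`hs` stay weakly regular in `C ⊗[A] A'` for every `A`-algebra `A'`. -/
theorem ring_exit_bc (g : B) (hs : List B)
    (hgood : ∀ (r : Ideal B) [r.IsPrime], g ∉ r → Good A r hs B)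
    (C : Type u) [CommRing C] [Algebra B C] [IsLocalization.Away g C]
    [Algebra A C] [IsScalarTower A B C] (A' : Type u) [CommRing A'] [Algebra A A'] :
    IsWeaklyRegular (C ⊗[A] A') ((hs.map (algebraMap B C)).map
      (Algebra.TensorProduct.includeLeft : C →ₐ[A] C ⊗[A] A')) := by
  have h1 := flatReg_of_good (A := A) g hs B hgood
  have h2 := FlatReg.congr hs _ _ (IsLocalizedModule.iso (Submonoid.powers g)
    (Algebra.linearMap B C)) h1
  have h3 := FlatReg.isWeaklyRegular_tensor hs C A' h2
  have hmap : (hs.map (algebraMap B C)).map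
      (Algebra.TensorProduct.includeLeft : C →ₐ[A] C ⊗[A] A') =
      hs.map (algebraMap B (C ⊗[A] A')) := by
    rw [List.map_map]
    rfl
  rw [hmap, isWeaklyRegular_map_algebraMap_iff]
  exact h3

end

end Groth.Agent.Lib.Helper22.FibSliceBC
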