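import Mathlib
import Groth.Prelude.Def_Mor2
import Groth.Agent.H8.RegImmFlat

set_option autoImplicit false
set_option linter.style.haveILetI false

open AlgebraicGeometry CategoryTheory Limits

namespace Groth.Agent.Lib.Helper22.FibSliceBCScheme

universe u

open RingTheory.Sequence

/-- Precomposing with an isomorphism preserves regular closed immersions. -/
theorem isRegularClosedImmersion_iso_comp {Z' Z Y : Scheme.{u}} (e : Z' ⟶ Z) [IsIso e] (j : Z ⟶ Y)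
    (hj : Mor2.IsRegularClosedImmersion j) : Mor2.IsRegularClosedImmersion (e ≫ j) := by
  obtain ⟨hci, h⟩ := hj
  refine ⟨inferInstance, fun z => ?_⟩
  obtain ⟨U, hU, hzU, rs, hrs, hker⟩ := h (e z)
  refine ⟨U, hU, hzU, rs, hrs, ?_⟩
  rw [Scheme.Hom.ker_comp_of_isIso, hker]

/-- Base change of a closed immersion is a regular closed immersion provided the pulled back
generators stay regular on suitable affine opens. -/
theorem baseChange_of_local {X X' Y : Scheme.{u}} (f : Y ⟶ X) (g : X' ⟶ X) [IsClosedImmersion f]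
    (H : ∀ z' : ↑(pullback f g), ∃ (U' : X'.Opens) (hU' : IsAffineOpen U') (U : X.Opens)
      (hU : IsAffineOpen U) (e : U' ≤ g ⁻¹ᵁ U) (rs : List Γ(X, U)),
      pullback.snd f g z' ∈ U' ∧ f.ker.ideal ⟨U, hU⟩ = Ideal.ofList rs ∧
      IsWeaklyRegular Γ(X', U') (rs.map (g.appLE U U' e).hom)) :
    Mor2.IsRegularClosedImmersion (pullback.snd f g) := by
  refine ⟨inferInstance, fun z' => ?_⟩
  obtain ⟨U', hU', U, hU, e, rs, hz', hrsI, hreg⟩ := H z'
  have hideal : (pullback.snd f g).ker.ideal ⟨U', hU'⟩ =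
      Ideal.ofList (rs.map (g.appLE U U' e).hom) := by
    rw [Groth.Agent.H8.RegImmFlat.ker_pullback_snd,
      Groth.Agent.Lib.Helper18.ideal_comap_of_le g f.ker ⟨U', hU'⟩ ⟨U, hU⟩ e, hrsI,
      Ideal.map_ofList]
  exact ⟨U', hU', hz', _, ⟨hreg, Groth.Agent.H8.RegImmStalk.top_ne_ofList_smul_top
    (pullback.snd f g) z' ⟨U', hU'⟩ hz' _ hideal⟩, hideal⟩

set_option backward.isDefEq.respectTransparency false in
/-- The kernel ideal of `Spec (C/I) ⟶ V` on the top affine open of `V`. -/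
theorem ker_ideal_top {X : Scheme.{u}} (V : X.Opens) (hV : IsAffineOpen V) (I : Ideal Γ(X, V)) :
    haveI : IsAffine (V : Scheme.{u}) := hV
    (Spec.map (CommRingCat.ofHom (Ideal.Quotient.mk I)) ≫ hV.isoSpec.inv).ker.ideal
      ⟨⊤, isAffineOpen_top _⟩ =
      I.comap (hV.isoSpec.inv.appTop ≫ (Scheme.ΓSpecIso Γ(X, V)).hom).hom := by
  haveI : IsClosedImmersion (Spec.map (CommRingCat.ofHom (Ideal.Quotient.mk I))) :=
    IsClosedImmersion.spec_of_surjective _ Ideal.Quotient.mk_surjective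
  haveI : IsAffine (V : Scheme.{u}) := hV
  set ψ : Γ((V : Scheme.{u}), ⊤) ⟶ Γ(X, V) :=
    hV.isoSpec.inv.appTop ≫ (Scheme.ΓSpecIso Γ(X, V)).hom with hψ
  have hnat : (Spec.map (CommRingCat.ofHom (Ideal.Quotient.mk I)) ≫ hV.isoSpec.inv).appTop ≫
      (Scheme.ΓSpecIso (CommRingCat.of (Γ(X, V) ⧸ I))).hom =
      ψ ≫ CommRingCat.ofHom (Ideal.Quotient.mk I) := by
    rw [Scheme.Hom.comp_appTop, Category.assoc, Scheme.ΓSpecIso_naturality, ← Category.assoc]
    rfl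
  rw [Scheme.Hom.ker_apply]
  ext a
  rw [RingHom.mem_ker, Ideal.mem_comap]
  have h1 := congrArg (fun φ => φ.hom a) hnat
  simp only [CommRingCat.hom_comp, RingHom.comp_apply, CommRingCat.hom_ofHom] at h1
  have hinj : Function.Injective (Scheme.ΓSpecIso (CommRingCat.of (Γ(X, V) ⧸ I))).hom.hom :=
    (ConcreteCategory.bijective_of_isIso (Scheme.ΓSpecIso (CommRingCat.of (Γ(X, V) ⧸ I))).hom).1
  constructor
  · intro ha
    have h2 : (Ideal.Quotient.mk I) (ψ.hom a) = 0 := by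
      rw [← h1]
      show (Scheme.ΓSpecIso (CommRingCat.of (Γ(X, V) ⧸ I))).hom.hom _ = 0
      rw [show ((Spec.map (CommRingCat.ofHom (Ideal.Quotient.mk I)) ≫
        hV.isoSpec.inv).appTop).hom a = 0 from ha, map_zero]
    exact Ideal.Quotient.eq_zero_iff_mem.mp h2
  · intro ha
    have h2 : (Ideal.Quotient.mk I) (ψ.hom a) = 0 := Ideal.Quotient.eq_zero_iff_mem.mpr ha
    rw [← h1] at h2
    apply hinj
    rw [map_zero]
    exact h2

set_option backward.isDefEq.respectTransparency false in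
/-- Regularity on an affine chart `j' : Spec T ⟶ Y'` of a scheme over the affine open `V`. -/
theorem isWeaklyRegular_chart {X : Scheme.{u}} (V : X.Opens) (hV : IsAffineOpen V)
    {Y' : Scheme.{u}} (π : Y' ⟶ (V : Scheme.{u})) (T : Type u) [CommRing T]
    (j' : Spec (CommRingCat.of T) ⟶ Y') [IsOpenImmersion j'] (ι : Γ(X, V) →+* T)
    (hj : j' ≫ π = Spec.map (CommRingCat.ofHom ι) ≫ hV.isoSpec.inv)
    (rs : List Γ((V : Scheme.{u}), ⊤))
    (hreg : IsWeaklyRegular T (rs.map (fun a => ι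
      ((hV.isoSpec.inv.appTop ≫ (Scheme.ΓSpecIso Γ(X, V)).hom).hom a)))) :
    IsWeaklyRegular Γ(Y', j' ''ᵁ ⊤) (rs.map (π.appLE ⊤ (j' ''ᵁ ⊤) le_top).hom) := by
  set ψ : Γ((V : Scheme.{u}), ⊤) ⟶ Γ(X, V) :=
    hV.isoSpec.inv.appTop ≫ (Scheme.ΓSpecIso Γ(X, V)).hom with hψ
  let θ : Γ(Y', j' ''ᵁ ⊤) ≅ CommRingCat.of T := j'.appIso ⊤ ≪≫ Scheme.ΓSpecIso (CommRingCat.of T)
  let θr : Γ(Y', j' ''ᵁ ⊤) ≃+* T := θ.commRingCatIsoToRingEquiv
  have hθ : π.appLE ⊤ (j' ''ᵁ ⊤) le_top ≫ θ.hom = ψ ≫ CommRingCat.ofHom ι := by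
    show π.appLE ⊤ (j' ''ᵁ ⊤) le_top ≫ (j'.appIso ⊤).hom ≫ (Scheme.ΓSpecIso (CommRingCat.of T)).hom = _
    rw [Scheme.Hom.appIso_hom', ← Category.assoc, Scheme.Hom.appLE_comp_appLE]
    have h1 : (j' ≫ π).appLE ⊤ ⊤ le_top = (j' ≫ π).appTop := by
      simp [Scheme.Hom.appLE]
    rw [h1, hj, Scheme.Hom.comp_appTop, Category.assoc, Scheme.ΓSpecIso_naturality,
      ← Category.assoc]
    rfl
  have key : ∀ a : Γ((V : Scheme.{u}), ⊤),
      θr ((π.appLE ⊤ (j' ''ᵁ ⊤) le_top).hom a) = ι (ψ.hom a) := by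
    intro a
    have := congrArg (fun φ => φ.hom a) hθ
    exact this
  refine (AddEquiv.isWeaklyRegular_congr (e := θr.toAddEquiv) ?_).mpr hreg
  rw [List.forall₂_map_left_iff, List.forall₂_map_right_iff]
  apply List.forall₂_same.mpr
  intro a _ x
  show θr ((π.appLE ⊤ (j' ''ᵁ ⊤) le_top).hom a * x) = ι (ψ.hom a) * θr x
  rw [map_mul, key]

/-- The base change map between fibre products over `S` is a base change of `i`. -/
theorem pullback_map_regular {Z Y S S' : Scheme.{u}} (i : Z ⟶ Y) (fY : Y ⟶ S) (g : S' ⟶ S)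
    (h : Z ⟶ S) (hh : h = i ≫ fY) (w₁ : h ≫ 𝟙 S = i ≫ fY) (w₂ : g ≫ 𝟙 S = 𝟙 S' ≫ g)
    (H : Mor2.IsRegularClosedImmersion (pullback.snd i (pullback.fst fY g))) :
    Mor2.IsRegularClosedImmersion (pullback.map h g fY g i (𝟙 S') (𝟙 S) w₁ w₂) := by
  subst hh
  have heq : pullback.map (i ≫ fY) g fY g i (𝟙 S') (𝟙 S) w₁ w₂ =
      (pullbackRightPullbackFstIso fY g i).inv ≫ pullback.snd i (pullback.fst fY g) := by
    apply pullback.hom_ext
    · rw [pullback.lift_fst, Category.assoc, pullbackRightPullbackFstIso_inv_snd_fst]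
    · rw [pullback.lift_snd, Category.assoc, pullbackRightPullbackFstIso_inv_snd_snd,
        Category.comp_id]
  rw [heq]
  exact isRegularClosedImmersion_iso_comp _ _ H

open TensorProduct in
set_option backward.isDefEq.respectTransparency false in
/-- Affine charts of the fibre product `U ×_S S'`. -/
theorem exists_chart {X S S' : Scheme.{u}} (f : X ⟶ S) (g : S' ⟶ S) (U : X.Opens)
    (hU : IsAffineOpen U) (VS : S.Opens) (hVS : IsAffineOpen VS) (e' : U ≤ f ⁻¹ᵁ VS)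
    (W' : S'.Opens) (hW' : IsAffineOpen W') (e'' : W' ≤ g ⁻¹ᵁ VS) :
    letI : Algebra Γ(S, VS) Γ(X, U) := (f.appLE VS U e').hom.toAlgebra
    letI : Algebra Γ(S, VS) Γ(S', W') := (g.appLE VS W' e'').hom.toAlgebra
    ∃ j' : Spec (CommRingCat.of (Γ(X, U) ⊗[Γ(S, VS)] Γ(S', W'))) ⟶ pullback (U.ι ≫ f) g,
      IsOpenImmersion j' ∧
      j' ≫ pullback.fst (U.ι ≫ f) g =
        Spec.map (CommRingCat.ofHom (Algebra.TensorProduct.includeLeftRingHom)) ≫
          hU.isoSpec.inv ∧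
      ∀ y' : ↑(pullback (U.ι ≫ f) g), pullback.snd (U.ι ≫ f) g y' ∈ W' → y' ∈ Set.range j' := by
  letI : Algebra Γ(S, VS) Γ(X, U) := (f.appLE VS U e').hom.toAlgebra
  letI : Algebra Γ(S, VS) Γ(S', W') := (g.appLE VS W' e'').hom.toAlgebra
  have e₁ : Spec.map (CommRingCat.ofHom (algebraMap Γ(S, VS) Γ(X, U))) ≫ hVS.fromSpec =
      hU.isoSpec.inv ≫ U.ι ≫ f := by
    have := IsAffineOpen.SpecMap_appLE_fromSpec f hVS hU e'
    rw [← Category.assoc, IsAffineOpen.isoSpec_inv_ι]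
    exact this
  have e₂ : Spec.map (CommRingCat.ofHom (algebraMap Γ(S, VS) Γ(S', W'))) ≫ hVS.fromSpec =
      hW'.fromSpec ≫ g := IsAffineOpen.SpecMap_appLE_fromSpec g hVS hW' e''
  refine ⟨(pullbackSpecIso Γ(S, VS) Γ(X, U) Γ(S', W')).inv ≫
    pullback.map _ _ (U.ι ≫ f) g hU.isoSpec.inv hW'.fromSpec hVS.fromSpec e₁ e₂,
    inferInstance, ?_, ?_⟩
  · rw [Category.assoc, pullback.lift_fst, ← Category.assoc, pullbackSpecIso_inv_fst]
  · intro y' hy'
    have hmem : y' ∈ Set.range (pullback.map _ _ (U.ι ≫ f) g hU.isoSpec.inv hW'.fromSpec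
        hVS.fromSpec e₁ e₂) := by
      rw [Scheme.Pullback.range_map]
      refine ⟨?_, ?_⟩
      · rw [Set.mem_preimage]
        exact ⟨hU.isoSpec.hom (pullback.fst (U.ι ≫ f) g y'), by
          rw [← Scheme.Hom.comp_apply, Iso.hom_inv_id]; rfl⟩
      · rw [Set.mem_preimage, hW'.range_fromSpec]
        exact hy'
    obtain ⟨t, rfl⟩ := hmem
    refine ⟨(pullbackSpecIso Γ(S, VS) Γ(X, U) Γ(S', W')).hom t, ?_⟩
    rw [Scheme.Hom.comp_apply, ← Scheme.Hom.comp_apply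
      (pullbackSpecIso Γ(S, VS) Γ(X, U) Γ(S', W')).hom, Iso.hom_inv_id]
    rfl

end Groth.Agent.Lib.Helper22.FibSliceBCScheme
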