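import Mathlib
import Groth.Prelude.Def_CAlg

set_option autoImplicit false
set_option linter.style.haveILetI false

namespace Groth.Agent.Lib.Helper22.CMSop

universe u

open RingTheory.Sequence IsLocalRing

theorem withBot_le_zero_of_add_eq (a : WithBot ℕ∞) (n : ℕ)
    (h : a + (n : WithBot ℕ∞) = ((n : ℕ∞) : WithBot ℕ∞)) : a ≤ 0 := by
  induction a with
  | bot => exact bot_le
  | coe a =>
    have h1 : ((a + (n : ℕ∞) : ℕ∞) : WithBot ℕ∞) = ((n : ℕ∞) : WithBot ℕ∞) := by
      rw [← h]; push_cast; rfl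
    have h2 : a + (n : ℕ∞) = 0 + n := by
      rw [zero_add]
      exact_mod_cast h1
    have h3 : a = 0 := ENat.add_left_injective_of_ne_top (ENat.natCast_ne_top n) h2
    rw [h3]
    rfl

/-- A Cohen–Macaulay local ring has a regular sequence in its maximal ideal with Artinian
quotient. -/
theorem exists_regular_sop (R : Type u) [CommRing R] [hCM : LocCoh.IsCohenMacaulayLocalRing R] :
    ∃ rs : List R, IsRegular R rs ∧ (∀ r ∈ rs, r ∈ maximalIdeal R) ∧
      IsArtinianRing (R ⧸ Ideal.ofList rs) := by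
  classical
  have h := hCM.supportDim_eq_depth
  rw [Module.supportDim_self_eq_ringKrullDim] at h
  have hne : (maximalIdeal R) • (⊤ : Submodule R R) ≠ ⊤ := by
    rw [smul_eq_mul, Ideal.mul_top]
    exact (maximalIdeal.isMaximal R).ne_top
  have hdepth : LocCoh.depth R R = ⨆ (rs : List R)
      (_ : IsWeaklyRegular R rs ∧ ∀ r ∈ rs, r ∈ maximalIdeal R), (rs.length : ℕ∞) := by
    unfold LocCoh.depth LocCoh.idealDepth
    rw [if_neg hne]
  have hlt : LocCoh.depth R R < ⊤ := by
    have h1 : ringKrullDim R < ⊤ := ringKrullDim_lt_top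
    rw [h, ← WithBot.coe_top, WithBot.coe_lt_coe] at h1
    exact h1
  rw [hdepth, iSup_subtype'] at hlt
  haveI : Nonempty {rs : List R // IsWeaklyRegular R rs ∧ ∀ r ∈ rs, r ∈ maximalIdeal R} :=
    ⟨⟨[], IsWeaklyRegular.nil R R, by simp⟩⟩
  obtain ⟨⟨rs, hwr, hmem⟩, hrs⟩ := ENat.exists_eq_iSup_of_lt_top hlt
  have hreg : IsRegular R rs := by
    refine ⟨hwr, fun htop => ?_⟩
    have hle : Ideal.ofList rs ≤ maximalIdeal R := by
      rw [Ideal.ofList, Ideal.span_le]
      intro r hr
      exact hmem r hr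
    have h2 : (⊤ : Submodule R R) ≤ maximalIdeal R • (⊤ : Submodule R R) :=
      htop.le.trans (Submodule.smul_mono_left hle)
    exact hne (eq_top_iff.mpr h2)
  refine ⟨rs, hreg, hmem, ?_⟩
  have hdim := ringKrullDim_add_length_eq_ringKrullDim_of_isRegular rs hreg
  have hlen : ((rs.length : ℕ∞) : WithBot ℕ∞) = ringKrullDim R := by
    rw [h, hdepth, iSup_subtype', ← hrs]
  have h0 : ringKrullDim (R ⧸ Ideal.ofList rs) ≤ 0 := by
    rw [← hlen] at hdim
    exact withBot_le_zero_of_add_eq _ _ hdim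
  haveI : Ring.KrullDimLE 0 (R ⧸ Ideal.ofList rs) := Ring.krullDimLE_iff.mpr (by exact_mod_cast h0)
  exact isArtinianRing_iff_isNoetherianRing_krullDimLE_zero.mpr ⟨inferInstance, inferInstance⟩

end Groth.Agent.Lib.Helper22.CMSop
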