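import Mathlib
import Groth.Agent.Lib.Helper62.FibReg8
import Groth.Agent.H76.FlatKerFP
import Groth.Agent.H76.FlatLocusTower

set_option autoImplicit false
set_option linter.style.haveILetI false

namespace Groth.Agent.Lib.Helper22.FibSlice

universe u

open scoped Pointwise

/-- If `C` is finitely presented over `A` and `C/h` is `A`-flat, the annihilator of `h` is a
finitely generated ideal; hence if it vanishes at a prime `q` it is killed by some `t ∉ q`. -/
theorem exists_annihilator_killer {A C : Type u} [CommRing A] [CommRing C] [Algebra A C]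
    [Algebra.FinitePresentation A C] (h : C) [Module.Flat A (C ⧸ Ideal.span {h})]
    (q : Ideal C) [q.IsPrime] (hq : ∀ c : C, h * c = 0 → ∃ t ∉ q, t * c = 0) :
    ∃ t ∉ q, ∀ c : C, h * c = 0 → t * c = 0 := by
  classical
  have hfpQ : Module.FinitePresentation C (C ⧸ Ideal.span {h}) := by
    refine Module.finitePresentation_of_surjective (Submodule.mkQ (Ideal.span {h}))
      (Submodule.mkQ_surjective _) ?_
    rw [Submodule.ker_mkQ]
    exact ⟨{h}, by simp [Ideal.span]⟩
  have hker : Module.FinitePresentation C (LinearMap.ker (Submodule.mkQ (Ideal.span {h}))) :=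
    Groth.Agent.H76.FlatKerFP.finitePresentation_ker A (Submodule.mkQ (Ideal.span {h}))
      (Submodule.mkQ_surjective _)
  let φ : C →ₗ[C] LinearMap.ker (Submodule.mkQ (Ideal.span {h})) :=
    (LinearMap.mulLeft C h).codRestrict _ (fun c => by
      rw [Submodule.ker_mkQ]
      exact Ideal.mul_mem_right _ _ (Ideal.subset_span rfl))
  have hφ : Function.Surjective φ := by
    rintro ⟨y, hy⟩
    rw [Submodule.ker_mkQ, Ideal.mem_span_singleton'] at hy
    obtain ⟨a, rfl⟩ := hy
    exact ⟨a, Subtype.ext (mul_comm _ _)⟩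
  obtain ⟨T, hT⟩ := Module.FinitePresentation.fg_ker φ hφ
  have hmem : ∀ c : C, c ∈ LinearMap.ker φ ↔ h * c = 0 := by
    intro c
    rw [LinearMap.mem_ker]
    constructor
    · intro hc
      exact congrArg Subtype.val hc
    · intro hc
      exact Subtype.ext hc
  have hex : ∀ k : C, ∃ t : C, t ∉ q ∧ (k ∈ T → t * k = 0) := by
    intro k
    by_cases hk : k ∈ T
    · have : k ∈ LinearMap.ker φ := hT ▸ Submodule.subset_span hk
      obtain ⟨t, ht, htk⟩ := hq k ((hmem k).mp this)
      exact ⟨t, ht, fun _ => htk⟩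
    · exact ⟨1, (Ideal.ne_top_iff_one q).mp (Ideal.IsPrime.ne_top ‹_›), fun h => absurd h hk⟩
  choose t ht htk using hex
  refine ⟨∏ k ∈ T, t k, ?_, ?_⟩
  · intro hmem'
    obtain ⟨k, -, hk⟩ := (Ideal.IsPrime.prod_mem_iff (p := q)).mp hmem'
    exact ht k hk
  · intro c hc
    have hc' : c ∈ Submodule.span C (T : Set C) := hT ▸ (hmem c).mpr hc
    have hle : Submodule.span C (T : Set C) ≤ LinearMap.ker (LinearMap.mulLeft C (∏ k ∈ T, t k)) := by
      rw [Submodule.span_le]
      intro k hk
      rw [SetLike.mem_coe, LinearMap.mem_ker, LinearMap.mulLeft_apply]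
      rw [← Finset.mul_prod_erase T t hk, mul_comm (t k), mul_assoc, htk k hk, mul_zero]
    exact hle hc'

/-- `C/hC` as an `A`-module, in its two guises. -/
noncomputable def quotEquiv (A : Type*) {B C : Type*} [CommRing A] [CommRing B] [CommRing C] [Algebra A B]
    [Algebra B C] [Algebra A C] [IsScalarTower A B C] (h : B) :
    QuotSMulTop h C ≃ₗ[A] (C ⧸ Ideal.span {algebraMap B C h}) :=
  (Submodule.Quotient.restrictScalarsEquiv A (h • (⊤ : Submodule B C))).symm ≪≫ₗ
    Submodule.quotEquivOfEq _ _ (by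
      ext c
      simp only [Submodule.restrictScalars_mem]
      rw [Submodule.mem_smul_pointwise_iff_exists, Ideal.mem_span_singleton']
      constructor
      · rintro ⟨c', -, rfl⟩
        exact ⟨c', by rw [Algebra.smul_def, mul_comm]⟩
      · rintro ⟨c', rfl⟩
        exact ⟨c', trivial, by rw [Algebra.smul_def, mul_comm]⟩) ≪≫ₗ
    Submodule.Quotient.restrictScalarsEquiv A (Ideal.span {algebraMap B C h})

/-- Flatness of `C/hC` for `C = B_g` when `D(g)` lies in the flat locus of `B/hB`. -/
theorem flat_quotient_away {A B : Type u} [CommRing A] [CommRing B] [Algebra A B] (h g : B)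
    (hU : ∀ r : Ideal B, ∀ _ : r.IsPrime, g ∉ r →
      Module.Flat A (LocalizedModule r.primeCompl (QuotSMulTop h B)))
    (C : Type u) [CommRing C] [Algebra B C] [IsLocalization.Away g C]
    [Algebra A C] [IsScalarTower A B C] :
    Module.Flat A (C ⧸ Ideal.span {algebraMap B C h}) := by
  have h1 : Module.Flat A (LocalizedModule (Submonoid.powers g) (QuotSMulTop h B)) := by
    rw [Groth.Agent.H76.FlatLocusTower.flat_localized_iff_forall_prime]
    intro r hr hdisj
    refine hU r hr (fun hgr => ?_)
    exact Set.disjoint_left.mp hdisj hgr (Submonoid.mem_powers g)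
  haveI hloc : IsLocalizedModule (Submonoid.powers g)
      (QuotSMulTop.map h (Algebra.linearMap B C)) :=
    Groth.Agent.Lib.Helper62.FibReg.isLocalizedModule_quotSMulTop_map (Submonoid.powers g) _ h
  have h2 : Module.Flat A (QuotSMulTop h C) :=
    (Groth.Agent.H76.FlatBaseChange.flat_iff_flat_localized (R := A) (Submonoid.powers g)
      (QuotSMulTop.map h (Algebra.linearMap B C))).mpr h1
  exact Module.Flat.of_linearEquiv (quotEquiv A h).symm

/-- The local statement: at the prime `q`, `h` is regular and the quotient is flat. -/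
theorem local_step {A B : Type u} [CommRing A] [CommRing B] [Algebra A B]
    [Algebra.FinitePresentation A B] (q : Ideal B) [q.IsPrime]
    (L : Type u) [CommRing L] [Algebra B L] [IsLocalization.AtPrime L q]
    [Algebra A L] [IsScalarTower A B L] [Module.Flat A L] (h : B)
    (hreg : ∀ l : L, algebraMap B L h * l ∈ Ideal.map (algebraMap A L) (q.comap (algebraMap A B)) →
       l ∈ Ideal.map (algebraMap A L) (q.comap (algebraMap A B))) :
    (∀ b : B, h * b = 0 → ∃ t ∉ q, t * b = 0) ∧
      Module.Flat A (LocalizedModule q.primeCompl (QuotSMulTop h B)) := by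
  have hJ : ∀ l : L, l ∈ ((q.comap (algebraMap A B)).map (algebraMap A B)) • (⊤ : Submodule B L) ↔
      l ∈ Ideal.map (algebraMap A L) (q.comap (algebraMap A B)) := by
    intro l
    rw [Ideal.smul_top_eq_map, Submodule.restrictScalars_mem, Ideal.map_map,
      ← IsScalarTower.algebraMap_eq]
  have hy : IsSMulRegular (L ⧸ ((q.comap (algebraMap A B)).map (algebraMap A B)) •
      (⊤ : Submodule B L)) h := by
    rw [isSMulRegular_quotient_iff_mem_of_smul_mem]
    intro l hl
    rw [hJ, Algebra.smul_def] at hl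
    exact (hJ l).mpr (hreg l hl)
  obtain ⟨h1, h2⟩ := Groth.Agent.Lib.Helper62.FibReg.step q (Algebra.linearMap B L) h hy
  refine ⟨?_, ?_⟩
  · intro b hb
    have h3 : h • (algebraMap B L b) = h • (0 : L) := by
      rw [smul_zero, Algebra.smul_def, ← map_mul, hb, map_zero]
    have h4 : algebraMap B L b = 0 := h1 h3
    obtain ⟨m, hm⟩ := (IsLocalization.map_eq_zero_iff q.primeCompl L b).mp h4
    exact ⟨m.1, m.2, hm⟩
  · haveI hloc : IsLocalizedModule q.primeCompl (QuotSMulTop.map h (Algebra.linearMap B L)) :=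
      Groth.Agent.Lib.Helper62.FibReg.isLocalizedModule_quotSMulTop_map q.primeCompl _ h
    exact (Groth.Agent.H76.FlatBaseChange.flat_iff_flat_localized (R := A) q.primeCompl
      (QuotSMulTop.map h (Algebra.linearMap B L))).mp h2

/-- Spreading out: if `h` is regular at `q` and `B/h` is `A`-flat at `q`, then for some `g ∉ q`,
`h` is a nonzerodivisor of `B_g` and `B_g/h` is `A`-flat. -/
theorem exists_away_nzd_flat {A B : Type u} [CommRing A] [CommRing B] [Algebra A B]
    [Algebra.FinitePresentation A B] (q : Ideal B) [q.IsPrime] (h : B)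
    (hloc : ∀ b : B, h * b = 0 → ∃ t ∉ q, t * b = 0)
    (hflat : Module.Flat A (LocalizedModule q.primeCompl (QuotSMulTop h B))) :
    ∃ g ∉ q, ∀ (C : Type u) [CommRing C] [Algebra B C] [IsLocalization.Away g C]
      [Algebra A C] [IsScalarTower A B C],
      algebraMap B C h ∈ nonZeroDivisors C ∧
        Module.Flat A (C ⧸ Ideal.span {algebraMap B C h}) := by
  haveI hfpM : Module.FinitePresentation B (QuotSMulTop h B) :=
    Groth.Agent.Lib.Helper62.FibReg.finitePresentation_quotSMulTop B h
  have hopen := Groth.Agent.H76.FlatLocusFP.isOpen_flatLocus (R := A) (S := B)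
    (M := QuotSMulTop h B)
  obtain ⟨_, ⟨g₁, rfl⟩, hg₁q, hg₁U⟩ :=
    PrimeSpectrum.isTopologicalBasis_basic_opens.exists_subset_of_mem_open
      (show (⟨q, ‹_›⟩ : PrimeSpectrum B) ∈ _ from hflat) hopen
  have hg₁q' : g₁ ∉ q := hg₁q
  have hU₁ : ∀ r : Ideal B, ∀ _ : r.IsPrime, g₁ ∉ r →
      Module.Flat A (LocalizedModule r.primeCompl (QuotSMulTop h B)) :=
    fun r hr hgr => hg₁U (show (⟨r, hr⟩ : PrimeSpectrum B) ∈
      (PrimeSpectrum.basicOpen g₁ : Set _) from hgr)
  -- the ring `C₁ = B[1/g₁]`
  haveI : Algebra.FinitePresentation B (Localization.Away g₁) :=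
    IsLocalization.Away.finitePresentation g₁
  haveI : Algebra.FinitePresentation A (Localization.Away g₁) :=
    Algebra.FinitePresentation.trans A B (Localization.Away g₁)
  haveI hfl₁ : Module.Flat A (Localization.Away g₁ ⧸
      Ideal.span {algebraMap B (Localization.Away g₁) h}) :=
    flat_quotient_away h g₁ hU₁ (Localization.Away g₁)
  have hdisj : Disjoint (Submonoid.powers g₁ : Set B) q := by
    rw [Set.disjoint_left]
    rintro _ ⟨n, rfl⟩ hn
    exact hg₁q' (Ideal.IsPrime.mem_of_pow_mem ‹_› n hn)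
  haveI hq₁ : (Ideal.map (algebraMap B (Localization.Away g₁)) q).IsPrime :=
    IsLocalization.isPrime_of_isPrime_disjoint (Submonoid.powers g₁) _ q ‹_› hdisj
  have hcomap : (Ideal.map (algebraMap B (Localization.Away g₁)) q).comap
      (algebraMap B (Localization.Away g₁)) = q :=
    IsLocalization.under_map_of_isPrime_disjoint (Submonoid.powers g₁) _ ‹_› hdisj
  have hnotmem : ∀ b : B, b ∉ q → algebraMap B (Localization.Away g₁) b ∉
      Ideal.map (algebraMap B (Localization.Away g₁)) q := by
    intro b hb hmem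
    apply hb
    rw [← hcomap]
    exact hmem
  have hreg₁ : ∀ c : Localization.Away g₁, algebraMap B (Localization.Away g₁) h * c = 0 →
      ∃ t ∉ Ideal.map (algebraMap B (Localization.Away g₁)) q, t * c = 0 := by
    intro c hc
    obtain ⟨b, s, rfl⟩ := IsLocalization.exists_mk'_eq (Submonoid.powers g₁) c
    rw [IsLocalization.mul_mk'_eq_mk'_of_mul, IsLocalization.mk'_eq_zero_iff] at hc
    obtain ⟨m, hm⟩ := hc
    obtain ⟨t, ht, htb⟩ := hloc (m.1 * b) (by rw [← hm]; ring)
    have hmq : (m : B) ∉ q := fun hmq => Set.disjoint_left.mp hdisj m.2 hmq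
    refine ⟨algebraMap B _ (t * m.1), hnotmem _ (fun hmem => ?_), ?_⟩
    · rcases Ideal.IsPrime.mem_or_mem ‹q.IsPrime› hmem with h1 | h1
      · exact ht h1
      · exact hmq h1
    · rw [IsLocalization.mul_mk'_eq_mk'_of_mul, IsLocalization.mk'_eq_zero_iff]
      exact ⟨1, by rw [OneMemClass.coe_one, one_mul, mul_assoc]; exact htb⟩
  obtain ⟨t₁, ht₁, hkill⟩ := exists_annihilator_killer (A := A)
    (algebraMap B (Localization.Away g₁) h) (Ideal.map (algebraMap B (Localization.Away g₁)) q) hreg₁
  obtain ⟨b₁, s₁, rfl⟩ := IsLocalization.exists_mk'_eq (Submonoid.powers g₁) t₁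
  have hb₁ : b₁ ∉ q := by
    intro hb₁
    apply ht₁
    have : IsLocalization.mk' (Localization.Away g₁) b₁ s₁ =
        IsLocalization.mk' (Localization.Away g₁) 1 s₁ * algebraMap B _ b₁ := by
      rw [mul_comm, IsLocalization.mul_mk'_eq_mk'_of_mul, mul_one]
    rw [this]
    exact Ideal.mul_mem_left _ _ (Ideal.mem_map_of_mem _ hb₁)
  -- the key statement in `B`
  have hkey : ∀ b : B, h * b = 0 → ∃ k : ℕ, g₁ ^ k * (b₁ * b) = 0 := by
    intro b hb
    have h1 : algebraMap B (Localization.Away g₁) h * algebraMap B _ b = 0 := by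
      rw [← map_mul, hb, map_zero]
    have h2 := hkill _ h1
    have h3 : algebraMap B (Localization.Away g₁) (b₁ * b) = 0 := by
      have : algebraMap B (Localization.Away g₁) (b₁ * b) =
          algebraMap B _ (s₁ : B) * (IsLocalization.mk' (Localization.Away g₁) b₁ s₁ *
            algebraMap B _ b) := by
        rw [← mul_assoc, IsLocalization.mul_mk'_eq_mk'_of_mul, mul_comm (s₁ : B),
          IsLocalization.mk'_mul_cancel_right, map_mul]
      rw [this, h2, mul_zero]
    obtain ⟨m, hm⟩ := (IsLocalization.map_eq_zero_iff (Submonoid.powers g₁) _ _).mp h3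
    obtain ⟨k, hk⟩ := m.2
    exact ⟨k, by simpa only [← hk] using hm⟩
  refine ⟨g₁ * b₁, fun hmem => ?_, ?_⟩
  · rcases Ideal.IsPrime.mem_or_mem ‹q.IsPrime› hmem with h1 | h1
    · exact hg₁q' h1
    · exact hb₁ h1
  · intro C _ _ _ _ _
    refine ⟨?_, ?_⟩
    · have hu : IsUnit (algebraMap B C (g₁ * b₁)) := IsLocalization.Away.algebraMap_isUnit _
      have hu1 : IsUnit (algebraMap B C g₁) := by
        rw [map_mul] at hu
        exact isUnit_of_mul_isUnit_left hu
      have hu2 : IsUnit (algebraMap B C b₁) := by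
        rw [map_mul] at hu
        exact isUnit_of_mul_isUnit_right hu
      rw [mem_nonZeroDivisors_iff_right]
      intro c hc
      obtain ⟨b, s, rfl⟩ := IsLocalization.exists_mk'_eq (Submonoid.powers (g₁ * b₁)) c
      rw [mul_comm, IsLocalization.mul_mk'_eq_mk'_of_mul, IsLocalization.mk'_eq_zero_iff] at hc
      obtain ⟨m, hm⟩ := hc
      obtain ⟨k, hk⟩ := hkey (m.1 * b) (by rw [← hm]; ring)
      rw [IsLocalization.mk'_eq_zero_iff]
      have h5 : algebraMap B C b = 0 := by
        have h6 : algebraMap B C (g₁ ^ k * (b₁ * (m.1 * b))) = 0 := by rw [hk, map_zero]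
        rw [map_mul, map_mul, map_mul, map_pow] at h6
        have hum : IsUnit (algebraMap B C m.1) := IsLocalization.map_units C m
        have h7 : IsUnit (algebraMap B C g₁ ^ k * (algebraMap B C b₁ * algebraMap B C m.1)) :=
          (hu1.pow k).mul (hu2.mul hum)
        apply h7.mul_right_injective
        show _ * _ = _ * 0
        rw [mul_zero, ← h6]
        ring
      exact (IsLocalization.map_eq_zero_iff (Submonoid.powers (g₁ * b₁)) C b).mp h5
    · refine flat_quotient_away h (g₁ * b₁) (fun r hr hgr => hU₁ r hr (fun hg₁r => ?_)) C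
      exact hgr (Ideal.mul_mem_right _ _ hg₁r)

end Groth.Agent.Lib.Helper22.FibSlice
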