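import Mathlib
import Groth.Agent.Lib.Helper22.FibSlice

set_option autoImplicit false
set_option linter.style.haveILetI false

open AlgebraicGeometry CategoryTheory Limits

namespace Groth.Agent.Lib.Helper22.FibSliceScheme

universe u

set_option backward.isDefEq.respectTransparency false in
/-- Affine local data around a point for an lfp morphism, with a given germ represented. -/
theorem exists_affine_data {X S : Scheme.{u}} (f : X ⟶ S) (x : X) (h : X.presheaf.stalk x) :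
    ∃ (V : S.Opens) (_ : IsAffineOpen V) (U : X.Opens) (_ : IsAffineOpen U) (_ : U ≤ f ⁻¹ᵁ V)
      (hx : x ∈ U) (h₀ : Γ(X, U)), X.presheaf.germ U x hx h₀ = h := by
  obtain ⟨_, ⟨V, hV, rfl⟩, hfxV, -⟩ := S.isBasis_affineOpens.exists_subset_of_mem_open
    (Set.mem_univ (f x)) isOpen_univ
  obtain ⟨W, hxW, s, hs⟩ := X.presheaf.exists_germ_eq h
  obtain ⟨_, ⟨U, hU, rfl⟩, hxU, hUW⟩ := X.isBasis_affineOpens.exists_subset_of_mem_open
    (show x ∈ ((f ⁻¹ᵁ V) ⊓ W : X.Opens) from ⟨hfxV, hxW⟩) ((f ⁻¹ᵁ V) ⊓ W).2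
  have e : U ≤ f ⁻¹ᵁ V := fun y hy => (hUW hy).1
  have e' : U ≤ W := fun y hy => (hUW hy).2
  refine ⟨V, hV, U, hU, e, hxU, X.presheaf.map (homOfLE e').op s, ?_⟩
  rw [← hs]
  exact TopCat.Presheaf.germ_res_apply X.presheaf (homOfLE e') x hxU s

set_option backward.isDefEq.respectTransparency false in
/-- Translation of the stalkwise hypotheses into algebra over affine charts. -/
theorem local_algebra {X S : Scheme.{u}} (f : X ⟶ S) (x : X)
    (hflat : (f.stalkMap x).hom.Flat)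
    (V : S.Opens) (hV : IsAffineOpen V) (U : X.Opens) (hU : IsAffineOpen U) (e : U ≤ f ⁻¹ᵁ V)
    (hx : x ∈ U) :
    letI : Algebra Γ(S, V) Γ(X, U) := (f.appLE V U e).hom.toAlgebra
    letI : Algebra Γ(X, U) (X.presheaf.stalk x) := (X.presheaf.germ U x hx).hom.toAlgebra
    letI : Algebra Γ(S, V) (X.presheaf.stalk x) :=
      ((X.presheaf.germ U x hx).hom.comp (f.appLE V U e).hom).toAlgebra
    Module.Flat Γ(S, V) (X.presheaf.stalk x) ∧
    Ideal.map (f.stalkMap x).hom (IsLocalRing.maximalIdeal (S.presheaf.stalk (f x))) =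
      Ideal.map (algebraMap Γ(S, V) (X.presheaf.stalk x))
        ((hU.primeIdealOf ⟨x, hx⟩).asIdeal.comap (algebraMap Γ(S, V) Γ(X, U))) := by
  letI : Algebra Γ(S, V) Γ(X, U) := (f.appLE V U e).hom.toAlgebra
  letI : Algebra Γ(X, U) (X.presheaf.stalk x) := (X.presheaf.germ U x hx).hom.toAlgebra
  letI : Algebra Γ(S, V) (X.presheaf.stalk x) :=
    ((X.presheaf.germ U x hx).hom.comp (f.appLE V U e).hom).toAlgebra
  have hfx : f x ∈ V := e hx
  have heq : (X.presheaf.germ U x hx).hom.comp (f.appLE V U e).hom =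
      (f.stalkMap x).hom.comp (S.presheaf.germ V (f x) hfx).hom := by
    rw [← CommRingCat.hom_comp, ← CommRingCat.hom_comp, Scheme.Hom.germ_stalkMap,
      Scheme.Hom.appLE, Category.assoc, X.presheaf.germ_res]
  letI : Algebra Γ(S, V) (S.presheaf.stalk (f x)) := (S.presheaf.germ V (f x) hfx).hom.toAlgebra
  haveI hloc : IsLocalization.AtPrime (S.presheaf.stalk (f x))
      (hV.primeIdealOf ⟨f x, hfx⟩).asIdeal := hV.isLocalization_stalk ⟨f x, hfx⟩
  refine ⟨?_, ?_⟩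
  · have h1 : (S.presheaf.germ V (f x) hfx).hom.Flat := by
      have := IsLocalization.flat (S.presheaf.stalk (f x))
        (hV.primeIdealOf ⟨f x, hfx⟩).asIdeal.primeCompl
      exact this
    have h2 := RingHom.Flat.comp h1 hflat
    rw [← heq] at h2
    exact h2
  · have hcomap : (hU.primeIdealOf ⟨x, hx⟩).asIdeal.comap (algebraMap Γ(S, V) Γ(X, U)) =
        (hV.primeIdealOf ⟨f x, hfx⟩).asIdeal :=
      congrArg PrimeSpectrum.asIdeal (IsAffineOpen.comap_primeIdealOf_appLE V hV U hU e hx)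
    rw [hcomap]
    have hmax := IsLocalization.AtPrime.map_eq_maximalIdeal
      (hV.primeIdealOf ⟨f x, hfx⟩).asIdeal (S.presheaf.stalk (f x))
    rw [← hmax, Ideal.map_map]
    congr 1
    exact heq.symm

set_option backward.isDefEq.respectTransparency false in
/-- Slicing a flat lfp morphism by a fibrewise nonzerodivisor (EGA IV 11.3.8 spread out). -/
theorem slice_one {X S : Scheme.{u}} (f : X ⟶ S) [LocallyOfFinitePresentation f] (x : X)
    (hflat : (f.stalkMap x).hom.Flat) (h : X.presheaf.stalk x)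
    (hreg : Ideal.Quotient.mk (Ideal.map (f.stalkMap x).hom (IsLocalRing.maximalIdeal (S.presheaf.stalk (f x)))) h ∈
      nonZeroDivisors (X.presheaf.stalk x ⧸ Ideal.map (f.stalkMap x).hom (IsLocalRing.maximalIdeal (S.presheaf.stalk (f x))))) :
    ∃ (U : X.Opens) (hU : IsAffineOpen U) (hx : x ∈ U) (h' : Γ(X, U)), X.presheaf.germ U x hx h' = h ∧ h' ∈ nonZeroDivisors Γ(X, U) ∧
      Flat (Spec.map (CommRingCat.ofHom (Ideal.Quotient.mk (Ideal.span {h'}))) ≫ hU.fromSpec ≫ f) ∧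
      LocallyOfFinitePresentation (Spec.map (CommRingCat.ofHom (Ideal.Quotient.mk (Ideal.span {h'}))) ≫ hU.fromSpec ≫ f) := by
  obtain ⟨V, hV, U₀, hU₀, e, hx, h₀, hh₀⟩ := exists_affine_data f x h
  obtain ⟨hfl, hJ⟩ := local_algebra f x hflat V hV U₀ hU₀ e hx
  letI algAB : Algebra Γ(S, V) Γ(X, U₀) := (f.appLE V U₀ e).hom.toAlgebra
  letI algBL : Algebra Γ(X, U₀) (X.presheaf.stalk x) := (X.presheaf.germ U₀ x hx).hom.toAlgebra
  letI algAL : Algebra Γ(S, V) (X.presheaf.stalk x) :=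
    ((X.presheaf.germ U₀ x hx).hom.comp (f.appLE V U₀ e).hom).toAlgebra
  haveI : IsScalarTower Γ(S, V) Γ(X, U₀) (X.presheaf.stalk x) :=
    IsScalarTower.of_algebraMap_eq (fun _ => rfl)
  haveI : Algebra.FinitePresentation Γ(S, V) Γ(X, U₀) :=
    RingHom.finitePresentation_algebraMap.mp (f.finitePresentation_appLE hV hU₀ e)
  haveI hloc : IsLocalization.AtPrime (X.presheaf.stalk x) (hU₀.primeIdealOf ⟨x, hx⟩).asIdeal :=
    hU₀.isLocalization_stalk ⟨x, hx⟩
  haveI : Module.Flat Γ(S, V) (X.presheaf.stalk x) := hfl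
  have hreg' : ∀ l : X.presheaf.stalk x,
      algebraMap Γ(X, U₀) (X.presheaf.stalk x) h₀ * l ∈
        Ideal.map (algebraMap Γ(S, V) (X.presheaf.stalk x))
          ((hU₀.primeIdealOf ⟨x, hx⟩).asIdeal.comap (algebraMap Γ(S, V) Γ(X, U₀))) →
      l ∈ Ideal.map (algebraMap Γ(S, V) (X.presheaf.stalk x))
          ((hU₀.primeIdealOf ⟨x, hx⟩).asIdeal.comap (algebraMap Γ(S, V) Γ(X, U₀))) := by
    intro l hl
    rw [← hJ] at hl ⊢
    have h1 : algebraMap Γ(X, U₀) (X.presheaf.stalk x) h₀ = h := hh₀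
    rw [h1] at hl
    rw [← Ideal.Quotient.eq_zero_iff_mem] at hl ⊢
    rw [map_mul] at hl
    exact (mem_nonZeroDivisors_iff_right.mp hreg) _ (by rw [mul_comm]; exact hl)
  obtain ⟨hl1, hl2⟩ := Groth.Agent.Lib.Helper22.FibSlice.local_step
    (hU₀.primeIdealOf ⟨x, hx⟩).asIdeal (X.presheaf.stalk x) h₀ hreg'
  obtain ⟨g, hgq, hC⟩ := Groth.Agent.Lib.Helper22.FibSlice.exists_away_nzd_flat
    (A := Γ(S, V)) (hU₀.primeIdealOf ⟨x, hx⟩).asIdeal h₀ hl1 hl2
  have hUg : IsAffineOpen (X.basicOpen g) := hU₀.basicOpen g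
  have hxg : x ∈ X.basicOpen g := by
    have h1 : hU₀.primeIdealOf ⟨x, hx⟩ ∈ (PrimeSpectrum.basicOpen g : Set _) := hgq
    have h2 : hU₀.primeIdealOf ⟨x, hx⟩ ∈ hU₀.fromSpec ⁻¹ᵁ X.basicOpen g := by
      rw [hU₀.fromSpec_preimage_basicOpen]
      exact h1
    have h3 : hU₀.fromSpec (hU₀.primeIdealOf ⟨x, hx⟩) ∈ X.basicOpen g := h2
    rwa [hU₀.fromSpec_primeIdealOf ⟨x, hx⟩] at h3
  have e' : X.basicOpen g ≤ f ⁻¹ᵁ V := (X.basicOpen_le g).trans e
  letI algAC : Algebra Γ(S, V) Γ(X, X.basicOpen g) :=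
    (f.appLE V (X.basicOpen g) e').hom.toAlgebra
  haveI : IsScalarTower Γ(S, V) Γ(X, U₀) Γ(X, X.basicOpen g) :=
    IsScalarTower.of_algebraMap_eq (fun a => by
      show (f.appLE V (X.basicOpen g) e').hom a =
        (X.presheaf.map (homOfLE (X.basicOpen_le g)).op).hom ((f.appLE V U₀ e).hom a)
      rw [← Scheme.Hom.appLE_map f e (homOfLE (X.basicOpen_le g)).op]
      rfl)
  haveI := hU₀.isLocalization_basicOpen g
  obtain ⟨hnzd, hflatC⟩ := hC Γ(X, X.basicOpen g)
  refine ⟨X.basicOpen g, hUg, hxg, algebraMap Γ(X, U₀) Γ(X, X.basicOpen g) h₀, ?_, hnzd, ?_, ?_⟩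
  · rw [← hh₀]
    exact TopCat.Presheaf.germ_res_apply X.presheaf (homOfLE (X.basicOpen_le g)) x hxg h₀
  · have hfac : Spec.map (CommRingCat.ofHom (Ideal.Quotient.mk
          (Ideal.span {algebraMap Γ(X, U₀) Γ(X, X.basicOpen g) h₀}))) ≫ hUg.fromSpec ≫ f =
        Spec.map (f.appLE V (X.basicOpen g) e' ≫ CommRingCat.ofHom (Ideal.Quotient.mk
          (Ideal.span {algebraMap Γ(X, U₀) Γ(X, X.basicOpen g) h₀}))) ≫ hV.fromSpec := by
      rw [Spec.map_comp, Category.assoc, IsAffineOpen.SpecMap_appLE_fromSpec f hV hUg e']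
    rw [hfac]
    haveI : Flat (Spec.map (f.appLE V (X.basicOpen g) e' ≫ CommRingCat.ofHom (Ideal.Quotient.mk
          (Ideal.span {algebraMap Γ(X, U₀) Γ(X, X.basicOpen g) h₀})))) := by
      rw [HasRingHomProperty.Spec_iff (P := @Flat)]
      exact RingHom.flat_algebraMap_iff.mpr hflatC
    infer_instance
  · haveI : LocallyOfFinitePresentation (Spec.map (CommRingCat.ofHom (Ideal.Quotient.mk
          (Ideal.span {algebraMap Γ(X, U₀) Γ(X, X.basicOpen g) h₀})))) := by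
      rw [HasRingHomProperty.Spec_iff (P := @LocallyOfFinitePresentation)]
      refine RingHom.FinitePresentation.of_surjective _ Ideal.Quotient.mk_surjective ?_
      rw [CommRingCat.hom_ofHom, Ideal.mk_ker]
      exact Submodule.fg_span_singleton _
    infer_instance

end Groth.Agent.Lib.Helper22.FibSliceScheme
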