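import Mathlib
import Groth.Prelude.Def_MoreMor
import Groth.Prelude.Def_Mor2
import Groth.Agent.Lib.Helper22.FibSliceScheme
import Groth.Agent.Lib.Helper22.FibSliceMod
import Groth.Agent.Lib.Helper22.CMSop
import Groth.Agent.Lib.Helper24.FibreStalkQuot
import Groth.Agent.Lib.Helper24.CMFibreBaseChange
import Groth.Agent.Lib.Helper47.FibrePoints

set_option autoImplicit false
set_option linter.style.haveILetI false

open AlgebraicGeometry CategoryTheory Limits

namespace Groth.Agent.Lib.Helper22.FibSliceCM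

universe u

open RingTheory.Sequence Groth.Agent.Lib.Helper22.FibSliceMod

/-- If `L = C_𝔮` and `L/JL` is Artinian, then `𝔮` is the only prime between `J` and `𝔮`. -/
theorem prime_eq_of_artinian {C : Type*} [CommRing C] (𝔮 : Ideal C) [𝔮.IsPrime] (L : Type*)
    [CommRing L] [Algebra C L] [IsLocalization.AtPrime L 𝔮] (J : Ideal C)
    [IsArtinianRing (L ⧸ J.map (algebraMap C L))] (𝔮' : Ideal C) [𝔮'.IsPrime]
    (h1 : J ≤ 𝔮') (h2 : 𝔮' ≤ 𝔮) : 𝔮' = 𝔮 := by
  have hd' : Disjoint (𝔮.primeCompl : Set C) 𝔮' := by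
    rw [Set.disjoint_left]
    intro c hc hc'
    exact hc (h2 hc')
  have hd : Disjoint (𝔮.primeCompl : Set C) 𝔮 := by
    rw [Set.disjoint_left]
    intro c hc hc'
    exact hc hc'
  haveI hP' : (𝔮'.map (algebraMap C L)).IsPrime :=
    IsLocalization.isPrime_of_isPrime_disjoint 𝔮.primeCompl L 𝔮' ‹_› hd'
  haveI hP : (𝔮.map (algebraMap C L)).IsPrime :=
    IsLocalization.isPrime_of_isPrime_disjoint 𝔮.primeCompl L 𝔮 ‹_› hd
  have hc' : (𝔮'.map (algebraMap C L)).comap (algebraMap C L) = 𝔮' :=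
    IsLocalization.under_map_of_isPrime_disjoint 𝔮.primeCompl L ‹_› hd'
  have hc : (𝔮.map (algebraMap C L)).comap (algebraMap C L) = 𝔮 :=
    IsLocalization.under_map_of_isPrime_disjoint 𝔮.primeCompl L ‹_› hd
  -- pass to the quotient
  set K := J.map (algebraMap C L) with hK
  have hK' : K ≤ 𝔮'.map (algebraMap C L) := Ideal.map_mono h1
  have hKq : K ≤ 𝔮.map (algebraMap C L) := Ideal.map_mono (h1.trans h2)
  have hker : RingHom.ker (Ideal.Quotient.mk K) = K := Ideal.mk_ker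
  haveI hQ' : ((𝔮'.map (algebraMap C L)).map (Ideal.Quotient.mk K)).IsPrime :=
    Ideal.map_isPrime_of_surjective Ideal.Quotient.mk_surjective (by rw [hker]; exact hK')
  haveI hQ : ((𝔮.map (algebraMap C L)).map (Ideal.Quotient.mk K)).IsPrime :=
    Ideal.map_isPrime_of_surjective Ideal.Quotient.mk_surjective (by rw [hker]; exact hKq)
  have hmax' : ((𝔮'.map (algebraMap C L)).map (Ideal.Quotient.mk K)).IsMaximal :=
    Ideal.IsPrime.isMaximal' inferInstance
  have hle : (𝔮'.map (algebraMap C L)).map (Ideal.Quotient.mk K) ≤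
      (𝔮.map (algebraMap C L)).map (Ideal.Quotient.mk K) :=
    Ideal.map_mono (Ideal.map_mono h2)
  have heq := hmax'.eq_of_le hQ.ne_top hle
  have heq2 : 𝔮'.map (algebraMap C L) = 𝔮.map (algebraMap C L) := by
    have e1 := Ideal.comap_map_of_surjective (Ideal.Quotient.mk K) Ideal.Quotient.mk_surjective
      (𝔮'.map (algebraMap C L))
    have e2 := Ideal.comap_map_of_surjective (Ideal.Quotient.mk K) Ideal.Quotient.mk_surjective
      (𝔮.map (algebraMap C L))
    rw [← RingHom.ker_eq_comap_bot, hker] at e1 e2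
    rw [sup_eq_left.mpr hK'] at e1
    rw [sup_eq_left.mpr hKq] at e2
    rw [← e1, ← e2, heq]
  rw [← hc', ← hc, heq2]

/-- Pointwise criterion for quasi-finiteness at a point. -/
theorem quasiFiniteAt_of_forall_specializes {Z S : Scheme.{u}} (c : Z ⟶ S)
    [LocallyOfFiniteType c] (z : Z) (hfin : (c.residueFieldMap z).hom.Finite)
    (hgen : ∀ w : Z, c w = c z → w ⤳ z → w = z) : c.QuasiFiniteAt z := by
  rw [Groth.Agent.Lib.Helper47.quasiFiniteAt_iff_isClosed_and_forall_specializes]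
  refine ⟨(Groth.Agent.Lib.Helper47.isClosed_singleton_asFiber_iff_finite c z).mpr hfin, ?_⟩
  intro z' hz'
  have h1 : c.fiberι (c z) z' ⤳ z := by
    have := hz'.map (c.fiberι (c z)).continuous
    rwa [Scheme.Hom.fiberι_asFiber] at this
  have h2 : c (c.fiberι (c z) z') = c z := by
    have : c.fiberι (c z) z' ∈ Set.range (c.fiberι (c z)) := ⟨z', rfl⟩
    rw [Scheme.Hom.range_fiberι] at this
    exact this
  have h3 := hgen _ h2 h1
  apply (c.fiberι (c z)).isEmbedding.injective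
  rw [h3, Scheme.Hom.fiberι_asFiber]

/-- Around a quasi-finite point there is an open neighbourhood consisting of quasi-finite points
and meeting the fibre only in the given point. -/
theorem exists_open_of_quasiFiniteAt {Z S : Scheme.{u}} (c : Z ⟶ S) [LocallyOfFiniteType c]
    (z : Z) (hz : c.QuasiFiniteAt z) :
    ∃ W : Z.Opens, z ∈ W ∧ (∀ w ∈ W, c.QuasiFiniteAt w) ∧ ∀ w ∈ W, c w = c z → w = z := by
  have hopen : IsOpen ({c.asFiber z} : Set ↑(c.fiber (c z))) :=
    Scheme.Hom.quasiFiniteAt_iff_isOpen_singleton_asFiber.mp hz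
  obtain ⟨O, hO, hOeq⟩ := (c.fiberι (c z)).isEmbedding.isInducing.isOpen_iff.mp hopen
  refine ⟨c.quasiFiniteLocus ⊓ ⟨O, hO⟩, ⟨hz, ?_⟩, fun w hw => hw.1, fun w hw hcw => ?_⟩
  · have : c.asFiber z ∈ (c.fiberι (c z)) ⁻¹' O := by rw [hOeq]; rfl
    rw [Set.mem_preimage, Scheme.Hom.fiberι_asFiber] at this
    exact this
  · have hw' : w ∈ Set.range (c.fiberι (c z)) := by
      rw [Scheme.Hom.range_fiberι]; exact hcw
    obtain ⟨w', rfl⟩ := hw'
    have : w' ∈ (c.fiberι (c z)) ⁻¹' O := hw.2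
    rw [hOeq, Set.mem_singleton_iff] at this
    rw [this, Scheme.Hom.fiberι_asFiber]

theorem exists_sections_list {X : Scheme.{u}} (x : X) (hs : List (X.presheaf.stalk x)) :
    ∃ (W : X.Opens) (hx : x ∈ W) (ss : List Γ(X, W)),
      ss.map (X.presheaf.germ W x hx) = hs := by
  induction hs with
  | nil => exact ⟨⊤, trivial, [], rfl⟩
  | cons h t ih =>
    obtain ⟨W₁, hx₁, ss₁, h₁⟩ := ih
    obtain ⟨W₂, hx₂, s, hs⟩ := X.presheaf.exists_germ_eq h
    refine ⟨W₁ ⊓ W₂, ⟨hx₁, hx₂⟩, X.presheaf.map (homOfLE inf_le_right).op s ::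
      ss₁.map (X.presheaf.map (homOfLE inf_le_left).op), ?_⟩
    rw [List.map_cons, List.map_map, ← hs, ← h₁]
    congr 1
    · exact TopCat.Presheaf.germ_res_apply X.presheaf (homOfLE inf_le_right) x ⟨hx₁, hx₂⟩ s
    · apply List.map_congr_left
      intro a _
      exact TopCat.Presheaf.germ_res_apply X.presheaf (homOfLE inf_le_left) x ⟨hx₁, hx₂⟩ a

set_option backward.isDefEq.respectTransparency false in
theorem exists_affine_data_list {X S : Scheme.{u}} (f : X ⟶ S) (x : X)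
    (hs : List (X.presheaf.stalk x)) :
    ∃ (V : S.Opens) (_ : IsAffineOpen V) (U : X.Opens) (_ : IsAffineOpen U) (_ : U ≤ f ⁻¹ᵁ V)
      (hx : x ∈ U) (hs₀ : List Γ(X, U)), hs₀.map (X.presheaf.germ U x hx) = hs := by
  obtain ⟨_, ⟨V, hV, rfl⟩, hfxV, -⟩ := S.isBasis_affineOpens.exists_subset_of_mem_open
    (Set.mem_univ (f x)) isOpen_univ
  obtain ⟨W, hxW, ss, hss⟩ := exists_sections_list x hs
  obtain ⟨_, ⟨U, hU, rfl⟩, hxU, hUW⟩ := X.isBasis_affineOpens.exists_subset_of_mem_open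
    (show x ∈ ((f ⁻¹ᵁ V) ⊓ W : X.Opens) from ⟨hfxV, hxW⟩) ((f ⁻¹ᵁ V) ⊓ W).2
  have e : U ≤ f ⁻¹ᵁ V := fun y hy => (hUW hy).1
  have e' : U ≤ W := fun y hy => (hUW hy).2
  refine ⟨V, hV, U, hU, e, hxU, ss.map (X.presheaf.map (homOfLE e').op), ?_⟩
  rw [List.map_map, ← hss]
  apply List.map_congr_left
  intro a _
  exact TopCat.Presheaf.germ_res_apply X.presheaf (homOfLE e') x hxU a


/-- Pure algebra: from a regular sequence of the fibre ring `L/J` (with Artinian quotient) to the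
`B`-module formulation and the Artinian double quotient. -/
theorem algebra_data {A B L : Type u} [CommRing A] [CommRing B] [CommRing L] [Algebra A B]
    [Algebra B L] [Algebra A L] [IsScalarTower A B L] (p : Ideal A) (J : Ideal L)
    (hJ : J = Ideal.map (algebraMap A L) p) (hs₀ : List B)
    (hreg : IsRegular (L ⧸ J) ((hs₀.map (algebraMap B L)).map (Ideal.Quotient.mk J)))
    (hart : IsArtinianRing ((L ⧸ J) ⧸
      Ideal.ofList ((hs₀.map (algebraMap B L)).map (Ideal.Quotient.mk J)))) :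
    IsWeaklyRegular (L ⧸ (p.map (algebraMap A B)) • (⊤ : Submodule B L)) hs₀ ∧
      IsArtinianRing (L ⧸ (p.map (algebraMap A B) ⊔ Ideal.ofList hs₀).map (algebraMap B L)) := by
  refine ⟨?_, ?_⟩
  · have h1 : IsWeaklyRegular (L ⧸ J) (hs₀.map (algebraMap B (L ⧸ J))) := by
      have : hs₀.map (algebraMap B (L ⧸ J)) =
          (hs₀.map (algebraMap B L)).map (Ideal.Quotient.mk J) := by
        rw [List.map_map]
        rfl
      rw [this]
      exact hreg.toIsWeaklyRegular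
    rw [isWeaklyRegular_map_algebraMap_iff] at h1
    have heq : J.restrictScalars B = (p.map (algebraMap A B)) • (⊤ : Submodule B L) := by
      rw [Ideal.smul_top_eq_map, Ideal.map_map, ← IsScalarTower.algebraMap_eq, hJ]
    let e : (L ⧸ J) ≃ₗ[B] (L ⧸ (p.map (algebraMap A B)) • (⊤ : Submodule B L)) :=
      (Submodule.Quotient.restrictScalarsEquiv B J).symm ≪≫ₗ Submodule.quotEquivOfEq _ _ heq
    exact (e.isWeaklyRegular_congr hs₀).mp h1
  · have hmap : (p.map (algebraMap A B) ⊔ Ideal.ofList hs₀).map (algebraMap B L) =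
        J ⊔ Ideal.ofList (hs₀.map (algebraMap B L)) := by
      rw [Ideal.map_sup, Ideal.map_map, ← IsScalarTower.algebraMap_eq, ← hJ, Ideal.map_ofList]
    rw [hmap]
    have e := DoubleQuot.quotQuotEquivQuotSup J (Ideal.ofList (hs₀.map (algebraMap B L)))
    rw [Ideal.map_ofList] at e
    exact e.isArtinianRing

set_option backward.isDefEq.respectTransparency false in
theorem cm_local_data {X S : Scheme.{u}} (f : X ⟶ S) [LocallyOfFinitePresentation f] (x : X)
    (hcm : MoreMor.IsCMAt f x) :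
    ∃ (V : S.Opens) (hV : IsAffineOpen V) (U₀ : X.Opens) (hU₀ : IsAffineOpen U₀)
      (e : U₀ ≤ f ⁻¹ᵁ V) (hx : x ∈ U₀) (hs₀ : List Γ(X, U₀)),
      letI : Algebra Γ(S, V) Γ(X, U₀) := (f.appLE V U₀ e).hom.toAlgebra
      (∀ b ∈ hs₀, b ∈ (hU₀.primeIdealOf ⟨x, hx⟩).asIdeal) ∧
      Good Γ(S, V) (hU₀.primeIdealOf ⟨x, hx⟩).asIdeal hs₀ Γ(X, U₀) ∧
      (letI : Algebra Γ(X, U₀) (X.presheaf.stalk x) := (X.presheaf.germ U₀ x hx).hom.toAlgebra
       IsArtinianRing (X.presheaf.stalk x ⧸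
        ((((hU₀.primeIdealOf ⟨x, hx⟩).asIdeal.comap (algebraMap Γ(S, V) Γ(X, U₀))).map
          (algebraMap Γ(S, V) Γ(X, U₀)) ⊔ Ideal.ofList hs₀).map
            (algebraMap Γ(X, U₀) (X.presheaf.stalk x))))) := by
  obtain ⟨hflat, hCM⟩ := hcm
  obtain ⟨e1⟩ := Groth.Agent.Lib.Helper24.nonempty_fibre_stalk_ringEquiv_quotient f x
  haveI hCM' := Groth.Agent.Lib.Helper29.isCohenMacaulayLocalRing_of_ringEquiv e1 hCM
  obtain ⟨rs, hreg, hmem, hart⟩ := Groth.Agent.Lib.Helper22.CMSop.exists_regular_sop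
    (↑(X.presheaf.stalk x) ⧸
      (IsLocalRing.maximalIdeal ↑(S.presheaf.stalk (f x))).map (f.stalkMap x).hom)
  obtain ⟨hs, hhs⟩ := List.map_surjective_iff.mpr (Ideal.Quotient.mk_surjective
    (I := (IsLocalRing.maximalIdeal ↑(S.presheaf.stalk (f x))).map (f.stalkMap x).hom)) rs
  obtain ⟨V, hV, U₀, hU₀, e, hx, hs₀, hhs₀⟩ := exists_affine_data_list f x hs
  obtain ⟨hfl, hJ⟩ := Groth.Agent.Lib.Helper22.FibSliceScheme.local_algebra f x hflat V hV U₀ hU₀ e hx
  refine ⟨V, hV, U₀, hU₀, e, hx, hs₀, ?_⟩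
  letI algAB : Algebra Γ(S, V) Γ(X, U₀) := (f.appLE V U₀ e).hom.toAlgebra
  letI algBL : Algebra Γ(X, U₀) (X.presheaf.stalk x) := (X.presheaf.germ U₀ x hx).hom.toAlgebra
  letI algAL : Algebra Γ(S, V) (X.presheaf.stalk x) :=
    ((X.presheaf.germ U₀ x hx).hom.comp (f.appLE V U₀ e).hom).toAlgebra
  haveI : IsScalarTower Γ(S, V) Γ(X, U₀) (X.presheaf.stalk x) :=
    IsScalarTower.of_algebraMap_eq (fun _ => rfl)
  haveI : Algebra.FinitePresentation Γ(S, V) Γ(X, U₀) :=
    RingHom.finitePresentation_algebraMap.mp (f.finitePresentation_appLE hV hU₀ e)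
  haveI hloc : IsLocalization.AtPrime (X.presheaf.stalk x) (hU₀.primeIdealOf ⟨x, hx⟩).asIdeal :=
    hU₀.isLocalization_stalk ⟨x, hx⟩
  haveI : Module.Flat Γ(S, V) (X.presheaf.stalk x) := hfl
  have hmaps : hs₀.map (algebraMap Γ(X, U₀) (X.presheaf.stalk x)) = hs := hhs₀
  obtain ⟨h1, h2⟩ := algebra_data ((hU₀.primeIdealOf ⟨x, hx⟩).asIdeal.comap
      (algebraMap Γ(S, V) Γ(X, U₀)))
    ((IsLocalRing.maximalIdeal ↑(S.presheaf.stalk (f x))).map (f.stalkMap x).hom) hJ hs₀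
    (by rw [hmaps, hhs]; exact hreg) (by rw [hmaps, hhs]; exact hart)
  refine ⟨?_, ?_, h2⟩
  · intro b hb
    have hb1 : algebraMap Γ(X, U₀) (X.presheaf.stalk x) b ∈ hs := by
      rw [← hmaps]; exact List.mem_map_of_mem hb
    have hb2 : Ideal.Quotient.mk _ (algebraMap Γ(X, U₀) (X.presheaf.stalk x) b) ∈ rs := by
      rw [← hhs]; exact List.mem_map_of_mem hb1
    have hb3 := hmem _ hb2
    have hb4 : algebraMap Γ(X, U₀) (X.presheaf.stalk x) b ∈
        IsLocalRing.maximalIdeal (X.presheaf.stalk x) := by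
      rw [IsLocalRing.mem_maximalIdeal, mem_nonunits_iff] at hb3 ⊢
      exact fun hu => hb3 (hu.map _)
    exact (IsLocalization.AtPrime.to_map_mem_maximal_iff (X.presheaf.stalk x)
      (hU₀.primeIdealOf ⟨x, hx⟩).asIdeal b).mp hb4
  · exact good_of_fibre (hU₀.primeIdealOf ⟨x, hx⟩).asIdeal hs₀ Γ(X, U₀) (X.presheaf.stalk x)
      (Algebra.linearMap Γ(X, U₀) (X.presheaf.stalk x)) h1

end Groth.Agent.Lib.Helper22.FibSliceCM
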