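import Mathlib
import Groth.Agent.Lib.Helper22.FibSliceCM

set_option autoImplicit false
set_option linter.style.haveILetI false

open AlgebraicGeometry CategoryTheory Limits

namespace Groth.Agent.Lib.Helper22.FibSliceQF

universe u

open Groth.Agent.Lib.Helper22.FibSliceCM

set_option backward.isDefEq.respectTransparency false in
theorem exists_qf_basicOpen {X S : Scheme.{u}} (f : X ⟶ S) [LocallyOfFiniteType f] (x : X)
    (hcl : IsClosed ({f.asFiber x} : Set ↑(f.fiber (f x))))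
    (V : S.Opens) (hV : IsAffineOpen V) (U₀ : X.Opens) (hU₀ : IsAffineOpen U₀)
    (e : U₀ ≤ f ⁻¹ᵁ V) (hx : x ∈ U₀) (I : Ideal Γ(X, U₀))
    (hI : I ≤ (hU₀.primeIdealOf ⟨x, hx⟩).asIdeal)
    (hart : letI : Algebra Γ(S, V) Γ(X, U₀) := (f.appLE V U₀ e).hom.toAlgebra
      letI : Algebra Γ(X, U₀) (X.presheaf.stalk x) := (X.presheaf.germ U₀ x hx).hom.toAlgebra
      IsArtinianRing (X.presheaf.stalk x ⧸
        ((((hU₀.primeIdealOf ⟨x, hx⟩).asIdeal.comap (algebraMap Γ(S, V) Γ(X, U₀))).map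
          (algebraMap Γ(S, V) Γ(X, U₀)) ⊔ I).map
            (algebraMap Γ(X, U₀) (X.presheaf.stalk x))))) :
    ∃ g₁ : Γ(X, U₀), g₁ ∉ (hU₀.primeIdealOf ⟨x, hx⟩).asIdeal ∧
      ∀ w : Spec (CommRingCat.of (Γ(X, U₀) ⧸ I)), Ideal.Quotient.mk I g₁ ∉ w.asIdeal →
        (Spec.map (CommRingCat.ofHom (Ideal.Quotient.mk I)) ≫ hU₀.fromSpec ≫ f).QuasiFiniteAt w ∧
        (f (hU₀.fromSpec (Spec.map (CommRingCat.ofHom (Ideal.Quotient.mk I)) w)) = f x →
          hU₀.fromSpec (Spec.map (CommRingCat.ofHom (Ideal.Quotient.mk I)) w) = x) := by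
  letI algAB : Algebra Γ(S, V) Γ(X, U₀) := (f.appLE V U₀ e).hom.toAlgebra
  letI algBL : Algebra Γ(X, U₀) (X.presheaf.stalk x) := (X.presheaf.germ U₀ x hx).hom.toAlgebra
  haveI hloc : IsLocalization.AtPrime (X.presheaf.stalk x) (hU₀.primeIdealOf ⟨x, hx⟩).asIdeal :=
    hU₀.isLocalization_stalk ⟨x, hx⟩
  set q : Ideal Γ(X, U₀) := (hU₀.primeIdealOf ⟨x, hx⟩).asIdeal with hq
  set π := Ideal.Quotient.mk I with hπ
  have hπs : Function.Surjective π := Ideal.Quotient.mk_surjective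
  haveI : IsClosedImmersion (Spec.map (CommRingCat.ofHom π)) :=
    IsClosedImmersion.spec_of_surjective _ hπs
  set jm := Spec.map (CommRingCat.ofHom π) with hjm
  set c := jm ≫ hU₀.fromSpec ≫ f with hc
  have hker : RingHom.ker π = I := Ideal.mk_ker
  haveI hqπ : (q.map π).IsPrime :=
    Ideal.map_isPrime_of_surjective hπs (by rw [hker]; exact hI)
  let zB : Spec (CommRingCat.of (Γ(X, U₀) ⧸ I)) := ⟨q.map π, hqπ⟩
  have hcm : (q.map π).comap π = q := by
    rw [Ideal.comap_map_of_surjective π hπs, ← RingHom.ker_eq_comap_bot, hker]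
    exact sup_eq_left.mpr hI
  have hjz : jm zB = hU₀.primeIdealOf ⟨x, hx⟩ := by
    apply PrimeSpectrum.ext
    exact hcm
  have hjzx : hU₀.fromSpec (jm zB) = x := by
    rw [hjz, hU₀.fromSpec_primeIdealOf ⟨x, hx⟩]
  have hcapp : ∀ w, c w = f (hU₀.fromSpec (jm w)) := fun w => rfl
  have hjapp : ∀ w, (jm ≫ hU₀.fromSpec) w = hU₀.fromSpec (jm w) := fun w => rfl
  have hcz : c zB = f x := by
    rw [hcapp, hjzx]
  have hinj : Function.Injective (jm ≫ hU₀.fromSpec) :=
    (jm ≫ hU₀.fromSpec).isEmbedding.injective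
  -- closedness in the fibre
  have hclosed : IsClosed ({c.asFiber zB} : Set ↑(c.fiber (c zB))) := by
    rw [Groth.Agent.Lib.Helper47.isClosed_singleton_asFiber_iff_forall_specializes]
    intro w' hsp hcw
    have h1 := (Groth.Agent.Lib.Helper47.isClosed_singleton_asFiber_iff_forall_specializes f x).mp
      hcl (hU₀.fromSpec (jm w')) (by
        have := hsp.map (jm ≫ hU₀.fromSpec).continuous
        rw [hjapp, hjapp, hjzx] at this
        exact this) (by
        rw [← hcapp, hcw, hcz])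
    apply hinj
    rw [hjapp, hjapp, h1, hjzx]
  have hfin := (Groth.Agent.Lib.Helper47.isClosed_singleton_asFiber_iff_finite c zB).mp hclosed
  -- no generizations in the fibre
  have hgen : ∀ w : Spec (CommRingCat.of (Γ(X, U₀) ⧸ I)), c w = c zB → w ⤳ zB → w = zB := by
    intro w hcw hsp
    haveI hw' : (w.asIdeal.comap π).IsPrime := Ideal.comap_isPrime π w.asIdeal
    have h1 : I ≤ w.asIdeal.comap π := by
      intro a ha
      rw [Ideal.mem_comap]
      have h0 : π a = 0 := Ideal.Quotient.eq_zero_iff_mem.mpr ha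
      rw [h0]
      exact zero_mem _
    have h2 : w.asIdeal.comap π ≤ q := by
      have hle' : w.asIdeal ≤ q.map π :=
        (PrimeSpectrum.le_iff_specializes (R := Γ(X, U₀) ⧸ I) w zB).mpr hsp
      calc w.asIdeal.comap π ≤ (q.map π).comap π := Ideal.comap_mono hle'
        _ = q := hcm
    have h3 : (q.comap (algebraMap Γ(S, V) Γ(X, U₀))).map (algebraMap Γ(S, V) Γ(X, U₀)) ≤
        w.asIdeal.comap π := by
      rw [Ideal.map_le_iff_le_comap]
      have hcomm := IsAffineOpen.SpecMap_appLE_fromSpec f hV hU₀ e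
      have e1 : hV.fromSpec (Spec.map (f.appLE V U₀ e) (jm w)) =
          hV.fromSpec (Spec.map (f.appLE V U₀ e) (jm zB)) := by
        have e0 : ∀ P, hV.fromSpec (Spec.map (f.appLE V U₀ e) P) = f (hU₀.fromSpec P) := by
          intro P
          have := congrArg (fun φ => (φ : _ ⟶ S) P) hcomm
          exact this
        rw [e0, e0, ← hcapp, hcw, hcz, hjzx]
      have e2 := hV.fromSpec.isOpenEmbedding.injective e1
      have e3 : ((Spec.map (f.appLE V U₀ e)) (jm w)).asIdeal =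
          ((Spec.map (f.appLE V U₀ e)) (jm zB)).asIdeal := by rw [e2]
      have e4 : ((Spec.map (f.appLE V U₀ e)) (jm zB)).asIdeal =
          q.comap (algebraMap Γ(S, V) Γ(X, U₀)) := by
        rw [hjz]
        rfl
      have e5 : ((Spec.map (f.appLE V U₀ e)) (jm w)).asIdeal =
          (w.asIdeal.comap π).comap (algebraMap Γ(S, V) Γ(X, U₀)) := rfl
      rw [← e4, ← e3, e5]
    have h4 := prime_eq_of_artinian q (X.presheaf.stalk x)
      ((q.comap (algebraMap Γ(S, V) Γ(X, U₀))).map (algebraMap Γ(S, V) Γ(X, U₀)) ⊔ I)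
      (w.asIdeal.comap π) (sup_le h3 h1) h2
    apply PrimeSpectrum.ext
    show w.asIdeal = q.map π
    rw [← h4, Ideal.map_comap_of_surjective π hπs]
  have hz := quasiFiniteAt_of_forall_specializes c zB hfin hgen
  obtain ⟨W, hzW, hW1, hW2⟩ := exists_open_of_quasiFiniteAt c zB hz
  obtain ⟨_, ⟨gb, rfl⟩, hgz, hgW⟩ :=
    PrimeSpectrum.isTopologicalBasis_basic_opens.exists_subset_of_mem_open hzW W.2
  obtain ⟨g₁, rfl⟩ := hπs gb
  refine ⟨g₁, fun hg => ?_, fun w hw => ?_⟩
  · exact hgz (Ideal.mem_map_of_mem π hg)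
  · have hwW : w ∈ W := hgW hw
    refine ⟨hW1 w hwW, fun hfw => ?_⟩
    have : c w = c zB := by
      rw [hcz, ← hfw, hcapp]
    rw [hW2 w hwW this, hjzx]

end Groth.Agent.Lib.Helper22.FibSliceQF
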