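import Mathlib
import Groth.Agent.Lib.Helper22.FibSliceCM
import Groth.Agent.Lib.Helper22.FibSliceQF

set_option autoImplicit false
set_option linter.style.haveILetI false

open AlgebraicGeometry CategoryTheory Limits

namespace Groth.Agent.Lib.Helper22.FibSliceMain

universe u

open RingTheory.Sequence Groth.Agent.Lib.Helper22.FibSliceMod
open Groth.Agent.Lib.Helper22.FibSliceCM Groth.Agent.Lib.Helper22.FibSliceQF

set_option backward.isDefEq.respectTransparency false in
/-- Membership in the prime ideal of a point, via germs. -/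
theorem mem_primeIdealOf_iff {X : Scheme.{u}} {U : X.Opens} (hU : IsAffineOpen U) (x : X)
    (hx : x ∈ U) (b : Γ(X, U)) :
    b ∈ (hU.primeIdealOf ⟨x, hx⟩).asIdeal ↔
      X.presheaf.germ U x hx b ∈ IsLocalRing.maximalIdeal (X.presheaf.stalk x) := by
  letI : Algebra Γ(X, U) (X.presheaf.stalk x) := (X.presheaf.germ U x hx).hom.toAlgebra
  haveI hloc : IsLocalization.AtPrime (X.presheaf.stalk x) (hU.primeIdealOf ⟨x, hx⟩).asIdeal :=
    hU.isLocalization_stalk ⟨x, hx⟩
  exact (IsLocalization.AtPrime.to_map_mem_maximal_iff (X.presheaf.stalk x)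
      (hU.primeIdealOf ⟨x, hx⟩).asIdeal b).symm

set_option backward.isDefEq.respectTransparency false in
/-- Kernel ideal of a closed immersion `Spec (C/I) ⟶ V` into an affine open subscheme. -/
theorem regular_immersion_of_affine {X : Scheme.{u}} (V : X.Opens) (hV : IsAffineOpen V)
    (rs : List Γ(X, V)) (hreg : IsWeaklyRegular Γ(X, V) rs) (hne : Ideal.ofList rs ≠ ⊤) :
    Mor2.IsRegularClosedImmersion
      (Spec.map (CommRingCat.ofHom (Ideal.Quotient.mk (Ideal.ofList rs))) ≫ hV.isoSpec.inv) := by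
  set I := Ideal.ofList rs with hI
  haveI : IsClosedImmersion (Spec.map (CommRingCat.ofHom (Ideal.Quotient.mk I))) :=
    IsClosedImmersion.spec_of_surjective _ Ideal.Quotient.mk_surjective
  haveI : IsAffine (V : Scheme.{u}) := hV
  refine ⟨inferInstance, fun z => ⟨⊤, isAffineOpen_top _, trivial, ?_⟩⟩
  let ψ : Γ((V : Scheme.{u}), ⊤) ⟶ Γ(X, V) :=
    hV.isoSpec.inv.appTop ≫ (Scheme.ΓSpecIso Γ(X, V)).hom
  haveI : IsIso ψ := by
    dsimp only [ψ]
    infer_instance
  let ψr : Γ((V : Scheme.{u}), ⊤) ≃+* Γ(X, V) := (asIso ψ).commRingCatIsoToRingEquiv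
  have hψr : ∀ a, ψr a = ψ.hom a := fun a => rfl
  have hnat : (Spec.map (CommRingCat.ofHom (Ideal.Quotient.mk I)) ≫ hV.isoSpec.inv).appTop ≫
      (Scheme.ΓSpecIso (CommRingCat.of (Γ(X, V) ⧸ I))).hom =
      ψ ≫ CommRingCat.ofHom (Ideal.Quotient.mk I) := by
    rw [Scheme.Hom.comp_appTop, Category.assoc, Scheme.ΓSpecIso_naturality, ← Category.assoc]
    rfl
  have hker : (Spec.map (CommRingCat.ofHom (Ideal.Quotient.mk I)) ≫ hV.isoSpec.inv).ker.ideal
      ⟨⊤, isAffineOpen_top _⟩ = I.comap ψr.toRingHom := by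
    rw [Scheme.Hom.ker_apply]
    ext a
    rw [RingHom.mem_ker, Ideal.mem_comap]
    have h1 := congrArg (fun φ => φ.hom a) hnat
    simp only [CommRingCat.hom_comp, RingHom.comp_apply, CommRingCat.hom_ofHom] at h1
    have hinj : Function.Injective (Scheme.ΓSpecIso (CommRingCat.of (Γ(X, V) ⧸ I))).hom.hom :=
      (ConcreteCategory.bijective_of_isIso (Scheme.ΓSpecIso (CommRingCat.of (Γ(X, V) ⧸ I))).hom).1
    constructor
    · intro ha
      have h2 : (Ideal.Quotient.mk I) (ψ.hom a) = 0 := by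
        rw [← h1]
        show (Scheme.ΓSpecIso (CommRingCat.of (Γ(X, V) ⧸ I))).hom.hom _ = 0
        rw [show ((Spec.map (CommRingCat.ofHom (Ideal.Quotient.mk I)) ≫ hV.isoSpec.inv).appTop).hom a = 0
          from ha, map_zero]
      exact Ideal.Quotient.eq_zero_iff_mem.mp h2
    · intro ha
      have h2 : (Ideal.Quotient.mk I) (ψ.hom a) = 0 := Ideal.Quotient.eq_zero_iff_mem.mpr ha
      rw [← h1] at h2
      apply hinj
      rw [map_zero]
      exact h2
  refine ⟨rs.map ψr.symm, ?_, ?_⟩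
  · have hregular : IsRegular Γ(X, V) rs := by
      refine ⟨hreg, ?_⟩
      rw [smul_eq_mul, Ideal.mul_top]
      exact hne.symm
    exact (AddEquiv.isRegular_congr (e := ψr.symm.toAddEquiv)
      (List.forall₂_map_right_iff.mpr (List.forall₂_same.mpr
        fun r _ x => map_mul ψr.symm r x))).mp hregular
  · rw [hker]
    have : Ideal.ofList (rs.map ψr.symm) = Ideal.map ψr.symm.toRingHom I := by
      rw [hI, Ideal.map_ofList]
      rfl
    rw [this]
    exact (Ideal.map_symm ψr).symm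

set_option backward.isDefEq.respectTransparency false in
/-- EGA IV 19.2.? style slicing: a CM point closed in its fibre lies on a regularly immersed
subscheme which is flat, lfp and locally quasi-finite over the base. -/
theorem slice_cm {X S : Scheme.{u}} (f : X ⟶ S) [LocallyOfFinitePresentation f] (x : X)
    (hcm : MoreMor.IsCMAt f x) (hcl : IsClosed ({f.asFiber x} : Set ↑(f.fiber (f x)))) :
    ∃ (V : X.Opens) (Z : Scheme.{u}) (i : Z ⟶ (V : Scheme.{u})),
      Mor2.IsRegularClosedImmersion i ∧ x ∈ Set.range ⇑(i ≫ V.ι) ∧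
      Flat (i ≫ V.ι ≫ f) ∧ LocallyOfFinitePresentation (i ≫ V.ι ≫ f) ∧
      LocallyQuasiFinite (i ≫ V.ι ≫ f) ∧
      ∀ z : Z, f (V.ι (i z)) = f x → V.ι (i z) = x := by
  obtain ⟨VS, hVS, U₀, hU₀, e, hx, hs₀, hmem, hgood, hart⟩ := cm_local_data f x hcm
  letI algAB : Algebra Γ(S, VS) Γ(X, U₀) := (f.appLE VS U₀ e).hom.toAlgebra
  haveI : Algebra.FinitePresentation Γ(S, VS) Γ(X, U₀) :=
    RingHom.finitePresentation_algebraMap.mp (f.finitePresentation_appLE hVS hU₀ e)
  have hIq : Ideal.ofList hs₀ ≤ (hU₀.primeIdealOf ⟨x, hx⟩).asIdeal := by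
    rw [Ideal.span_le]
    intro b hb
    exact hmem b hb
  obtain ⟨g₁, hg₁, hqf⟩ := exists_qf_basicOpen f x hcl VS hVS U₀ hU₀ e hx (Ideal.ofList hs₀) hIq hart
  obtain ⟨g₀, hg₀, hgoodU⟩ := good_open hs₀ Γ(X, U₀) (hU₀.primeIdealOf ⟨x, hx⟩).asIdeal hgood
  set g := g₀ * g₁ with hg
  have hgq : g ∉ (hU₀.primeIdealOf ⟨x, hx⟩).asIdeal := by
    intro hmem'
    rcases Ideal.IsPrime.mem_or_mem (hU₀.primeIdealOf ⟨x, hx⟩).isPrime hmem' with h1 | h1
    · exact hg₀ h1
    · exact hg₁ h1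
  have hUg : IsAffineOpen (X.basicOpen g) := hU₀.basicOpen g
  have hxg : x ∈ X.basicOpen g := by
    have h1 : hU₀.primeIdealOf ⟨x, hx⟩ ∈ (PrimeSpectrum.basicOpen g : Set _) := hgq
    have h2 : hU₀.primeIdealOf ⟨x, hx⟩ ∈ hU₀.fromSpec ⁻¹ᵁ X.basicOpen g := by
      rw [hU₀.fromSpec_preimage_basicOpen]
      exact h1
    have h3 : hU₀.fromSpec (hU₀.primeIdealOf ⟨x, hx⟩) ∈ X.basicOpen g := h2
    rwa [hU₀.fromSpec_primeIdealOf ⟨x, hx⟩] at h3
  have e' : X.basicOpen g ≤ f ⁻¹ᵁ VS := (X.basicOpen_le g).trans e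
  letI algAC : Algebra Γ(S, VS) Γ(X, X.basicOpen g) :=
    (f.appLE VS (X.basicOpen g) e').hom.toAlgebra
  haveI : IsScalarTower Γ(S, VS) Γ(X, U₀) Γ(X, X.basicOpen g) :=
    IsScalarTower.of_algebraMap_eq (fun a => by
      show (f.appLE VS (X.basicOpen g) e').hom a =
        (X.presheaf.map (homOfLE (X.basicOpen_le g)).op).hom ((f.appLE VS U₀ e).hom a)
      rw [← Scheme.Hom.appLE_map f e (homOfLE (X.basicOpen_le g)).op]
      rfl)
  haveI := hU₀.isLocalization_basicOpen g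
  obtain ⟨hwr, hflatC⟩ := ring_exit (A := Γ(S, VS)) g hs₀
    (fun r _ hgr => hgoodU r (fun h0 => hgr (Ideal.mul_mem_right _ _ h0))) Γ(X, X.basicOpen g)
  -- notation
  set hs' : List Γ(X, X.basicOpen g) := hs₀.map (algebraMap Γ(X, U₀) Γ(X, X.basicOpen g)) with hhs'
  set IC : Ideal Γ(X, X.basicOpen g) := Ideal.ofList hs' with hIC
  -- membership of the generators in the prime of `x`
  have hICle : IC ≤ (hUg.primeIdealOf ⟨x, hxg⟩).asIdeal := by
    rw [hIC, Ideal.span_le]
    intro c hc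
    obtain ⟨b, hb, rfl⟩ := List.mem_map.mp hc
    rw [SetLike.mem_coe, mem_primeIdealOf_iff]
    have h1 : X.presheaf.germ (X.basicOpen g) x hxg (algebraMap Γ(X, U₀) Γ(X, X.basicOpen g) b) =
        X.presheaf.germ U₀ x hx b :=
      TopCat.Presheaf.germ_res_apply X.presheaf (homOfLE (X.basicOpen_le g)) x hxg b
    rw [h1, ← mem_primeIdealOf_iff hU₀]
    exact hmem b hb
  have hICne : IC ≠ ⊤ := by
    intro htop
    have := (hUg.primeIdealOf ⟨x, hxg⟩).isPrime.ne_top
    exact this (top_le_iff.mp (htop ▸ hICle))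
  have hreg := regular_immersion_of_affine (X.basicOpen g) hUg hs' hwr hICne
  refine ⟨X.basicOpen g, Spec (CommRingCat.of (Γ(X, X.basicOpen g) ⧸ IC)),
    Spec.map (CommRingCat.ofHom (Ideal.Quotient.mk IC)) ≫ hUg.isoSpec.inv, hreg, ?_⟩
  have hiι : (Spec.map (CommRingCat.ofHom (Ideal.Quotient.mk IC)) ≫ hUg.isoSpec.inv) ≫
      (X.basicOpen g).ι = Spec.map (CommRingCat.ofHom (Ideal.Quotient.mk IC)) ≫ hUg.fromSpec := by
    rw [Category.assoc, IsAffineOpen.isoSpec_inv_ι]
  have hiιf : (Spec.map (CommRingCat.ofHom (Ideal.Quotient.mk IC)) ≫ hUg.isoSpec.inv) ≫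
      (X.basicOpen g).ι ≫ f =
      Spec.map (CommRingCat.ofHom (Ideal.Quotient.mk IC)) ≫ hUg.fromSpec ≫ f := by
    rw [← Category.assoc, hiι, Category.assoc]
  -- the comparison map `Spec (C/IC) ⟶ Spec (B/I)`
  have hle : Ideal.ofList hs₀ ≤ IC.comap (algebraMap Γ(X, U₀) Γ(X, X.basicOpen g)) := by
    rw [← Ideal.map_le_iff_le_comap, Ideal.map_ofList]
  set ρ : Γ(X, U₀) ⧸ Ideal.ofList hs₀ →+* Γ(X, X.basicOpen g) ⧸ IC :=
    Ideal.quotientMap IC (algebraMap Γ(X, U₀) Γ(X, X.basicOpen g)) hle with hρ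
  have hρmk : ρ.comp (Ideal.Quotient.mk (Ideal.ofList hs₀)) =
      (Ideal.Quotient.mk IC).comp (algebraMap Γ(X, U₀) Γ(X, X.basicOpen g)) := by
    ext b
    rfl
  have hfac : Spec.map (CommRingCat.ofHom (Ideal.Quotient.mk IC)) ≫ hUg.fromSpec =
      Spec.map (CommRingCat.ofHom ρ) ≫
        Spec.map (CommRingCat.ofHom (Ideal.Quotient.mk (Ideal.ofList hs₀))) ≫ hU₀.fromSpec := by
    rw [← hU₀.map_fromSpec hUg (homOfLE (X.basicOpen_le g)).op, ← Category.assoc, ← Category.assoc,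
      ← Spec.map_comp, ← Spec.map_comp]
    congr 2
  have hu : IsUnit (algebraMap Γ(X, U₀) Γ(X, X.basicOpen g) g₁) := by
    have h0 : IsUnit (algebraMap Γ(X, U₀) Γ(X, X.basicOpen g) g) :=
      IsLocalization.Away.algebraMap_isUnit g
    rw [hg, map_mul] at h0
    exact isUnit_of_mul_isUnit_right h0
  have hunit : ∀ z : Spec (CommRingCat.of (Γ(X, X.basicOpen g) ⧸ IC)),
      Ideal.Quotient.mk (Ideal.ofList hs₀) g₁ ∉
        (Spec.map (CommRingCat.ofHom ρ) z).asIdeal := by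
    intro z hmem'
    have hu' : IsUnit (ρ (Ideal.Quotient.mk (Ideal.ofList hs₀) g₁)) :=
      hu.map (Ideal.Quotient.mk IC)
    exact z.isPrime.ne_top (Ideal.eq_top_of_isUnit_mem _ hmem' hu')
  have hLFP : LocallyOfFinitePresentation
      ((Spec.map (CommRingCat.ofHom (Ideal.Quotient.mk IC)) ≫ hUg.isoSpec.inv) ≫
      (X.basicOpen g).ι ≫ f) := by
    rw [hiιf]
    haveI : LocallyOfFinitePresentation
        (Spec.map (CommRingCat.ofHom (Ideal.Quotient.mk IC))) := by
      rw [HasRingHomProperty.Spec_iff (P := @LocallyOfFinitePresentation)]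
      refine RingHom.FinitePresentation.of_surjective _ Ideal.Quotient.mk_surjective ?_
      rw [CommRingCat.hom_ofHom, Ideal.mk_ker]
      exact Submodule.fg_span (List.finite_toSet hs')
    infer_instance
  refine ⟨?_, ?_, hLFP, ?_, ?_⟩
  · rw [hiι]
    have hker : RingHom.ker (Ideal.Quotient.mk IC) = IC := Ideal.mk_ker
    haveI hP : ((hUg.primeIdealOf ⟨x, hxg⟩).asIdeal.map (Ideal.Quotient.mk IC)).IsPrime :=
      Ideal.map_isPrime_of_surjective Ideal.Quotient.mk_surjective (by rw [hker]; exact hICle)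
    refine ⟨⟨_, hP⟩, ?_⟩
    have h1 : Spec.map (CommRingCat.ofHom (Ideal.Quotient.mk IC)) ⟨_, hP⟩ =
        hUg.primeIdealOf ⟨x, hxg⟩ := by
      apply PrimeSpectrum.ext
      show Ideal.comap (Ideal.Quotient.mk IC) (Ideal.map (Ideal.Quotient.mk IC) _) = _
      rw [Ideal.comap_map_of_surjective _ Ideal.Quotient.mk_surjective,
        ← RingHom.ker_eq_comap_bot, hker]
      exact sup_eq_left.mpr hICle
    show hUg.fromSpec (Spec.map (CommRingCat.ofHom (Ideal.Quotient.mk IC)) ⟨_, hP⟩) = x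
    rw [h1, hUg.fromSpec_primeIdealOf ⟨x, hxg⟩]
  · rw [hiιf]
    have hfac2 : Spec.map (CommRingCat.ofHom (Ideal.Quotient.mk IC)) ≫ hUg.fromSpec ≫ f =
        Spec.map (f.appLE VS (X.basicOpen g) e' ≫ CommRingCat.ofHom (Ideal.Quotient.mk IC)) ≫
          hVS.fromSpec := by
      rw [Spec.map_comp, Category.assoc, IsAffineOpen.SpecMap_appLE_fromSpec f hVS hUg e']
    rw [hfac2]
    haveI : Flat (Spec.map (f.appLE VS (X.basicOpen g) e' ≫
        CommRingCat.ofHom (Ideal.Quotient.mk IC))) := by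
      rw [HasRingHomProperty.Spec_iff (P := @Flat)]
      exact RingHom.flat_algebraMap_iff.mpr hflatC
    infer_instance
  · haveI := hLFP
    rw [← Scheme.Hom.quasiFiniteLocus_eq_top_iff]
    apply top_le_iff.mp
    intro z _
    have hρqf : LocallyQuasiFinite (Spec.map (CommRingCat.ofHom ρ)) := by
      rw [HasRingHomProperty.Spec_iff (P := @LocallyQuasiFinite), CommRingCat.hom_ofHom]
      apply RingHom.QuasiFinite.of_comp (g := Ideal.Quotient.mk (Ideal.ofList hs₀))
      rw [hρmk]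
      refine RingHom.QuasiFinite.comp (RingHom.QuasiFinite.of_finite
        (RingHom.Finite.of_surjective _ Ideal.Quotient.mk_surjective)) ?_
      exact RingHom.quasiFinite_algebraMap.mpr
        (Algebra.QuasiFinite.of_isLocalization (Submonoid.powers g))
    have h1 : (Spec.map (CommRingCat.ofHom ρ)).QuasiFiniteAt z :=
      (Spec.map (CommRingCat.ofHom ρ)).quasiFiniteAt z
    have h2 := (hqf _ (hunit z)).1
    have hmor : (Spec.map (CommRingCat.ofHom (Ideal.Quotient.mk IC)) ≫ hUg.isoSpec.inv) ≫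
        (X.basicOpen g).ι ≫ f = Spec.map (CommRingCat.ofHom ρ) ≫
        (Spec.map (CommRingCat.ofHom (Ideal.Quotient.mk (Ideal.ofList hs₀))) ≫
          hU₀.fromSpec ≫ f) := by
      rw [hiιf, ← Category.assoc, hfac, Category.assoc, Category.assoc]
    have hqfz : (Spec.map (CommRingCat.ofHom ρ) ≫
        (Spec.map (CommRingCat.ofHom (Ideal.Quotient.mk (Ideal.ofList hs₀))) ≫
          hU₀.fromSpec ≫ f)).QuasiFiniteAt z := by
      show (Scheme.Hom.stalkMap _ z).hom.QuasiFinite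
      rw [Scheme.Hom.stalkMap_comp, CommRingCat.hom_comp]
      exact RingHom.QuasiFinite.comp h1 h2
    show Scheme.Hom.QuasiFiniteAt _ z
    rw [hmor]
    exact hqfz
  · intro z hz
    have key : (X.basicOpen g).ι ((Spec.map (CommRingCat.ofHom (Ideal.Quotient.mk IC)) ≫
        hUg.isoSpec.inv) z) = hU₀.fromSpec (Spec.map (CommRingCat.ofHom
          (Ideal.Quotient.mk (Ideal.ofList hs₀))) (Spec.map (CommRingCat.ofHom ρ) z)) := by
      have := congrArg (fun φ => (φ : _ ⟶ X) z) (hiι.trans hfac)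
      exact this
    rw [key] at hz ⊢
    exact (hqf _ (hunit z)).2 hz

end Groth.Agent.Lib.Helper22.FibSliceMain
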