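import Mathlib
import Groth.Agent.Lib.Helper22.FibSliceMain
import Groth.Agent.Lib.Helper22.FibSliceBC
import Groth.Agent.Lib.Helper22.FibSliceBCScheme

set_option autoImplicit false
set_option linter.style.haveILetI false

open AlgebraicGeometry CategoryTheory Limits

namespace Groth.Agent.Lib.Helper22.FibSliceReg

universe u

open RingTheory.Sequence Groth.Agent.Lib.Helper22.FibSliceMod
open Groth.Agent.Lib.Helper22.FibSliceCM Groth.Agent.Lib.Helper22.FibSliceMain
open Groth.Agent.Lib.Helper22.FibSliceBC Groth.Agent.Lib.Helper22.FibSliceBCScheme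

/-- Pure algebra: from a regular sequence of the fibre ring `L/J` to the `B`-module formulation. -/
theorem algebra_data_reg {A B L : Type u} [CommRing A] [CommRing B] [CommRing L] [Algebra A B]
    [Algebra B L] [Algebra A L] [IsScalarTower A B L] (p : Ideal A) (J : Ideal L)
    (hJ : J = Ideal.map (algebraMap A L) p) (hs₀ : List B)
    (hreg : IsWeaklyRegular (L ⧸ J) ((hs₀.map (algebraMap B L)).map (Ideal.Quotient.mk J))) :
    IsWeaklyRegular (L ⧸ (p.map (algebraMap A B)) • (⊤ : Submodule B L)) hs₀ := by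
  have h1 : IsWeaklyRegular (L ⧸ J) (hs₀.map (algebraMap B (L ⧸ J))) := by
    have : hs₀.map (algebraMap B (L ⧸ J)) =
        (hs₀.map (algebraMap B L)).map (Ideal.Quotient.mk J) := by
      rw [List.map_map]
      rfl
    rw [this]
    exact hreg
  rw [isWeaklyRegular_map_algebraMap_iff] at h1
  have heq : J.restrictScalars B = (p.map (algebraMap A B)) • (⊤ : Submodule B L) := by
    rw [Ideal.smul_top_eq_map, Ideal.map_map, ← IsScalarTower.algebraMap_eq, hJ]
  let e : (L ⧸ J) ≃ₗ[B] (L ⧸ (p.map (algebraMap A B)) • (⊤ : Submodule B L)) :=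
    (Submodule.Quotient.restrictScalarsEquiv B J).symm ≪≫ₗ Submodule.quotEquivOfEq _ _ heq
  exact (e.isWeaklyRegular_congr hs₀).mp h1

/-- Elements of a regular sequence of a quotient of a local ring lie in the maximal ideal. -/
theorem mem_maximalIdeal_of_isRegular {L : Type u} [CommRing L] [IsLocalRing L] (J : Ideal L)
    (hs : List L) (hreg : IsRegular (L ⧸ J) (hs.map (Ideal.Quotient.mk J))) (l : L) (hl : l ∈ hs) :
    l ∈ IsLocalRing.maximalIdeal L := by
  rw [IsLocalRing.mem_maximalIdeal, mem_nonunits_iff]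
  intro hu
  apply hreg.2
  have h1 : Ideal.Quotient.mk J l ∈ Ideal.ofList (hs.map (Ideal.Quotient.mk J)) :=
    Ideal.subset_span (List.mem_map_of_mem hl)
  have h2 : Ideal.ofList (hs.map (Ideal.Quotient.mk J)) = ⊤ :=
    Ideal.eq_top_of_isUnit_mem _ h1 (hu.map _)
  rw [h2, smul_eq_mul, Ideal.mul_top]

open TensorProduct in
set_option backward.isDefEq.respectTransparency false in
/-- EGA IV 19.2.? : slicing a flat lfp morphism by a fibrewise regular sequence, compatibly with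
arbitrary base change. -/
theorem slice_reg {X S : Scheme.{u}} (f : X ⟶ S) [LocallyOfFinitePresentation f] (x : X)
    (hflat : (f.stalkMap x).hom.Flat) (hs : List ↑(X.presheaf.stalk x))
    (hreg : RingTheory.Sequence.IsRegular (↑(X.presheaf.stalk x) ⧸ Ideal.map (f.stalkMap x).hom (IsLocalRing.maximalIdeal ↑(S.presheaf.stalk (f x))))
      (hs.map (Ideal.Quotient.mk (Ideal.map (f.stalkMap x).hom (IsLocalRing.maximalIdeal ↑(S.presheaf.stalk (f x))))))) :
    ∃ (U : X.Opens) (hU : IsAffineOpen U) (hx : x ∈ U) (hs' : List Γ(X, U)), hs'.map (X.presheaf.germ U x hx) = hs ∧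
      Mor2.IsRegularClosedImmersion (Spec.map (CommRingCat.ofHom (Ideal.Quotient.mk (Ideal.ofList hs'))) ≫ hU.isoSpec.inv) ∧
      x ∈ Set.range ⇑(Spec.map (CommRingCat.ofHom (Ideal.Quotient.mk (Ideal.ofList hs'))) ≫ hU.fromSpec) ∧
      Flat (Spec.map (CommRingCat.ofHom (Ideal.Quotient.mk (Ideal.ofList hs'))) ≫ hU.fromSpec ≫ f) ∧ LocallyOfFinitePresentation (Spec.map (CommRingCat.ofHom (Ideal.Quotient.mk (Ideal.ofList hs'))) ≫ hU.fromSpec ≫ f) ∧
      ∀ (S' : Scheme.{u}) (g : S' ⟶ S), Mor2.IsRegularClosedImmersion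
        (pullback.map (Spec.map (CommRingCat.ofHom (Ideal.Quotient.mk (Ideal.ofList hs'))) ≫ hU.isoSpec.inv ≫ U.ι ≫ f) g (U.ι ≫ f) g (Spec.map (CommRingCat.ofHom (Ideal.Quotient.mk (Ideal.ofList hs'))) ≫ hU.isoSpec.inv) (𝟙 S') (𝟙 S)
          (Category.comp_id _) ((Category.comp_id g).trans (Category.id_comp g).symm)) := by
  obtain ⟨VS, hVS, U₀, hU₀, e, hx, hs₀, hhs₀⟩ := exists_affine_data_list f x hs
  obtain ⟨hfl, hJ⟩ := Groth.Agent.Lib.Helper22.FibSliceScheme.local_algebra f x hflat VS hVS U₀ hU₀ e hx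
  letI algAB : Algebra Γ(S, VS) Γ(X, U₀) := (f.appLE VS U₀ e).hom.toAlgebra
  letI algBL : Algebra Γ(X, U₀) (X.presheaf.stalk x) := (X.presheaf.germ U₀ x hx).hom.toAlgebra
  letI algAL : Algebra Γ(S, VS) (X.presheaf.stalk x) :=
    ((X.presheaf.germ U₀ x hx).hom.comp (f.appLE VS U₀ e).hom).toAlgebra
  haveI : IsScalarTower Γ(S, VS) Γ(X, U₀) (X.presheaf.stalk x) :=
    IsScalarTower.of_algebraMap_eq (fun _ => rfl)
  haveI : Algebra.FinitePresentation Γ(S, VS) Γ(X, U₀) :=
    RingHom.finitePresentation_algebraMap.mp (f.finitePresentation_appLE hVS hU₀ e)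
  haveI hloc : IsLocalization.AtPrime (X.presheaf.stalk x) (hU₀.primeIdealOf ⟨x, hx⟩).asIdeal :=
    hU₀.isLocalization_stalk ⟨x, hx⟩
  haveI : Module.Flat Γ(S, VS) (X.presheaf.stalk x) := hfl
  have hmaps : hs₀.map (algebraMap Γ(X, U₀) (X.presheaf.stalk x)) = hs := hhs₀
  have h1 := algebra_data_reg ((hU₀.primeIdealOf ⟨x, hx⟩).asIdeal.comap
      (algebraMap Γ(S, VS) Γ(X, U₀)))
    ((IsLocalRing.maximalIdeal ↑(S.presheaf.stalk (f x))).map (f.stalkMap x).hom) hJ hs₀
    (by rw [hmaps]; exact hreg.toIsWeaklyRegular)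
  have hmem : ∀ b ∈ hs₀, b ∈ (hU₀.primeIdealOf ⟨x, hx⟩).asIdeal := by
    intro b hb
    rw [mem_primeIdealOf_iff]
    apply mem_maximalIdeal_of_isRegular _ hs hreg
    rw [← hhs₀]
    exact List.mem_map_of_mem hb
  have hgood : Good Γ(S, VS) (hU₀.primeIdealOf ⟨x, hx⟩).asIdeal hs₀ Γ(X, U₀) :=
    good_of_fibre (hU₀.primeIdealOf ⟨x, hx⟩).asIdeal hs₀ Γ(X, U₀) (X.presheaf.stalk x)
      (Algebra.linearMap Γ(X, U₀) (X.presheaf.stalk x)) h1
  obtain ⟨g, hgq, hgoodU⟩ := good_open hs₀ Γ(X, U₀) (hU₀.primeIdealOf ⟨x, hx⟩).asIdeal hgood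
  have hUg : IsAffineOpen (X.basicOpen g) := hU₀.basicOpen g
  have hxg : x ∈ X.basicOpen g := by
    have h1 : hU₀.primeIdealOf ⟨x, hx⟩ ∈ (PrimeSpectrum.basicOpen g : Set _) := hgq
    have h2 : hU₀.primeIdealOf ⟨x, hx⟩ ∈ hU₀.fromSpec ⁻¹ᵁ X.basicOpen g := by
      rw [hU₀.fromSpec_preimage_basicOpen]
      exact h1
    have h3 : hU₀.fromSpec (hU₀.primeIdealOf ⟨x, hx⟩) ∈ X.basicOpen g := h2
    rwa [hU₀.fromSpec_primeIdealOf ⟨x, hx⟩] at h3
  have e' : X.basicOpen g ≤ f ⁻¹ᵁ VS := (X.basicOpen_le g).trans e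
  letI algAC : Algebra Γ(S, VS) Γ(X, X.basicOpen g) :=
    (f.appLE VS (X.basicOpen g) e').hom.toAlgebra
  haveI : IsScalarTower Γ(S, VS) Γ(X, U₀) Γ(X, X.basicOpen g) :=
    IsScalarTower.of_algebraMap_eq (fun a => by
      show (f.appLE VS (X.basicOpen g) e').hom a =
        (X.presheaf.map (homOfLE (X.basicOpen_le g)).op).hom ((f.appLE VS U₀ e).hom a)
      rw [← Scheme.Hom.appLE_map f e (homOfLE (X.basicOpen_le g)).op]
      rfl)
  haveI := hU₀.isLocalization_basicOpen g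
  obtain ⟨hwr, hflatC⟩ := ring_exit (A := Γ(S, VS)) g hs₀
    (fun r _ hgr => hgoodU r hgr) Γ(X, X.basicOpen g)
  have hbc := fun (A' : Type u) [CommRing A'] [Algebra Γ(S, VS) A'] =>
    ring_exit_bc (A := Γ(S, VS)) g hs₀ (fun r _ hgr => hgoodU r hgr) Γ(X, X.basicOpen g) A'
  set hs' : List Γ(X, X.basicOpen g) := hs₀.map (algebraMap Γ(X, U₀) Γ(X, X.basicOpen g)) with hhs'
  set IC : Ideal Γ(X, X.basicOpen g) := Ideal.ofList hs' with hIC
  have hICle : IC ≤ (hUg.primeIdealOf ⟨x, hxg⟩).asIdeal := by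
    rw [hIC, Ideal.span_le]
    intro c hc
    obtain ⟨b, hb, rfl⟩ := List.mem_map.mp hc
    rw [SetLike.mem_coe, mem_primeIdealOf_iff]
    have h1 : X.presheaf.germ (X.basicOpen g) x hxg (algebraMap Γ(X, U₀) Γ(X, X.basicOpen g) b) =
        X.presheaf.germ U₀ x hx b :=
      TopCat.Presheaf.germ_res_apply X.presheaf (homOfLE (X.basicOpen_le g)) x hxg b
    rw [h1, ← mem_primeIdealOf_iff hU₀]
    exact hmem b hb
  have hICne : IC ≠ ⊤ := by
    intro htop
    have := (hUg.primeIdealOf ⟨x, hxg⟩).isPrime.ne_top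
    exact this (top_le_iff.mp (htop ▸ hICle))
  have hregimm := regular_immersion_of_affine (X.basicOpen g) hUg hs' hwr hICne
  refine ⟨X.basicOpen g, hUg, hxg, hs', ?_, hregimm, ?_, ?_, ?_, ?_⟩
  · rw [hhs', List.map_map, ← hhs₀]
    apply List.map_congr_left
    intro b _
    exact TopCat.Presheaf.germ_res_apply X.presheaf (homOfLE (X.basicOpen_le g)) x hxg b
  · have hker : RingHom.ker (Ideal.Quotient.mk IC) = IC := Ideal.mk_ker
    haveI hP : ((hUg.primeIdealOf ⟨x, hxg⟩).asIdeal.map (Ideal.Quotient.mk IC)).IsPrime :=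
      Ideal.map_isPrime_of_surjective Ideal.Quotient.mk_surjective (by rw [hker]; exact hICle)
    refine ⟨⟨_, hP⟩, ?_⟩
    have h1 : Spec.map (CommRingCat.ofHom (Ideal.Quotient.mk IC)) ⟨_, hP⟩ =
        hUg.primeIdealOf ⟨x, hxg⟩ := by
      apply PrimeSpectrum.ext
      show Ideal.comap (Ideal.Quotient.mk IC) (Ideal.map (Ideal.Quotient.mk IC) _) = _
      rw [Ideal.comap_map_of_surjective _ Ideal.Quotient.mk_surjective,
        ← RingHom.ker_eq_comap_bot, hker]
      exact sup_eq_left.mpr hICle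
    show hUg.fromSpec (Spec.map (CommRingCat.ofHom (Ideal.Quotient.mk IC)) ⟨_, hP⟩) = x
    rw [h1, hUg.fromSpec_primeIdealOf ⟨x, hxg⟩]
  · have hfac2 : Spec.map (CommRingCat.ofHom (Ideal.Quotient.mk IC)) ≫ hUg.fromSpec ≫ f =
        Spec.map (f.appLE VS (X.basicOpen g) e' ≫ CommRingCat.ofHom (Ideal.Quotient.mk IC)) ≫
          hVS.fromSpec := by
      rw [Spec.map_comp, Category.assoc, IsAffineOpen.SpecMap_appLE_fromSpec f hVS hUg e']
    rw [hfac2]
    haveI : Flat (Spec.map (f.appLE VS (X.basicOpen g) e' ≫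
        CommRingCat.ofHom (Ideal.Quotient.mk IC))) := by
      rw [HasRingHomProperty.Spec_iff (P := @Flat)]
      exact RingHom.flat_algebraMap_iff.mpr hflatC
    infer_instance
  · haveI : LocallyOfFinitePresentation
        (Spec.map (CommRingCat.ofHom (Ideal.Quotient.mk IC))) := by
      rw [HasRingHomProperty.Spec_iff (P := @LocallyOfFinitePresentation)]
      refine RingHom.FinitePresentation.of_surjective _ Ideal.Quotient.mk_surjective ?_
      rw [CommRingCat.hom_ofHom, Ideal.mk_ker]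
      exact Submodule.fg_span (List.finite_toSet hs')
    infer_instance
  · intro S' gS
    haveI : IsAffine ((X.basicOpen g : X.Opens) : Scheme.{u}) := hUg
    haveI : IsClosedImmersion (Spec.map (CommRingCat.ofHom (Ideal.Quotient.mk IC))) :=
      IsClosedImmersion.spec_of_surjective _ Ideal.Quotient.mk_surjective
    apply pullback_map_regular
      (Spec.map (CommRingCat.ofHom (Ideal.Quotient.mk IC)) ≫ hUg.isoSpec.inv)
      ((X.basicOpen g).ι ≫ f) gS _ (by rw [Category.assoc])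
    apply baseChange_of_local
    intro z'
    have hgs' : gS (pullback.snd ((X.basicOpen g).ι ≫ f) gS
        (pullback.snd (Spec.map (CommRingCat.ofHom (Ideal.Quotient.mk IC)) ≫ hUg.isoSpec.inv)
          (pullback.fst ((X.basicOpen g).ι ≫ f) gS) z')) ∈ VS := by
      have hc := congrArg (fun φ => (φ : _ ⟶ S)
        (pullback.snd (Spec.map (CommRingCat.ofHom (Ideal.Quotient.mk IC)) ≫ hUg.isoSpec.inv)
          (pullback.fst ((X.basicOpen g).ι ≫ f) gS) z'))
        (pullback.condition (f := (X.basicOpen g).ι ≫ f) (g := gS))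
      have hc' : gS (pullback.snd ((X.basicOpen g).ι ≫ f) gS
        (pullback.snd (Spec.map (CommRingCat.ofHom (Ideal.Quotient.mk IC)) ≫ hUg.isoSpec.inv)
          (pullback.fst ((X.basicOpen g).ι ≫ f) gS) z')) =
          f ((X.basicOpen g).ι (pullback.fst ((X.basicOpen g).ι ≫ f) gS
            (pullback.snd (Spec.map (CommRingCat.ofHom (Ideal.Quotient.mk IC)) ≫ hUg.isoSpec.inv)
          (pullback.fst ((X.basicOpen g).ι ≫ f) gS) z'))) := hc.symm
      rw [hc']
      exact e' (Subtype.prop _)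
    obtain ⟨_, ⟨W', hW', rfl⟩, hsW', hW'le⟩ :=
      S'.isBasis_affineOpens.exists_subset_of_mem_open
        (show _ ∈ gS ⁻¹ᵁ VS from hgs') (gS ⁻¹ᵁ VS).isOpen
    have e'' : W' ≤ gS ⁻¹ᵁ VS := hW'le
    letI algAA' : Algebra Γ(S, VS) Γ(S', W') := (gS.appLE VS W' e'').hom.toAlgebra
    obtain ⟨j', hjopen, hjπ, hjrange⟩ :=
      exists_chart f gS (X.basicOpen g) hUg VS hVS e' W' hW' e''
    haveI := hjopen
    set ψ : Γ(((X.basicOpen g : X.Opens) : Scheme.{u}), ⊤) ⟶ Γ(X, X.basicOpen g) :=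
      hUg.isoSpec.inv.appTop ≫ (Scheme.ΓSpecIso Γ(X, X.basicOpen g)).hom with hψ
    haveI : IsIso ψ := by
      rw [hψ]
      infer_instance
    let ψr : Γ(((X.basicOpen g : X.Opens) : Scheme.{u}), ⊤) ≃+* Γ(X, X.basicOpen g) :=
      (asIso ψ).commRingCatIsoToRingEquiv
    refine ⟨j' ''ᵁ ⊤, (isAffineOpen_top _).image_of_isOpenImmersion j', ⊤, isAffineOpen_top _,
      le_top, hs'.map ψr.symm, ?_, ?_, ?_⟩
    · obtain ⟨t, ht⟩ := hjrange _ hsW'
      exact ⟨t, trivial, ht⟩
    · rw [ker_ideal_top]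
      have h1 : Ideal.ofList (hs'.map ψr.symm) = Ideal.map ψr.symm.toRingHom IC := by
        rw [hIC, Ideal.map_ofList]
        rfl
      rw [h1]
      exact (Ideal.map_symm ψr).symm
    · apply isWeaklyRegular_chart (X.basicOpen g) hUg _ _ j'
        Algebra.TensorProduct.includeLeftRingHom hjπ
      have h2 := hbc Γ(S', W')
      have h3 : (hs'.map ψr.symm).map (fun a => (Algebra.TensorProduct.includeLeftRingHom :
          Γ(X, X.basicOpen g) →+* Γ(X, X.basicOpen g) ⊗[Γ(S, VS)] Γ(S', W')) (ψ.hom a)) =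
          hs'.map (Algebra.TensorProduct.includeLeft :
            Γ(X, X.basicOpen g) →ₐ[Γ(S, VS)] Γ(X, X.basicOpen g) ⊗[Γ(S, VS)] Γ(S', W')) := by
        rw [List.map_map]
        apply List.map_congr_left
        intro c _
        show Algebra.TensorProduct.includeLeftRingHom (ψr (ψr.symm c)) = _
        rw [RingEquiv.apply_symm_apply]
        rfl
      rw [h3]
      exact h2

end Groth.Agent.Lib.Helper22.FibSliceReg
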