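import Mathlib
import Groth.Agent.Lib.Helper23.GluePushout

set_option autoImplicit false
set_option linter.style.haveILetI false
universe u
open AlgebraicGeometry CategoryTheory Limits TopologicalSpace

namespace Groth.Agent.Lib.Helper22.AbsApprox

open Groth.Agent.Lib.Helper23

/-- (T5) A scheme covered by two opens `U`, `V` with intersection `W` is the pushout of
`U ← W → V`. -/
theorem isIso_pushout_desc {W U V S : Scheme.{u}} (o : W ⟶ U) (e : W ⟶ V) [IsOpenImmersion o]
    [IsOpenImmersion e] (u : U ⟶ S) (v : V ⟶ S) [IsOpenImmersion u] [IsOpenImmersion v]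
    (comm : o ≫ u = e ≫ v) (hcov : ∀ x : S, x ∈ Set.range u ∨ x ∈ Set.range v)
    (hint : ∀ (y : U) (z : V), u y = v z → ∃ w : W, o w = y ∧ e w = z) :
    IsIso (pushout.desc u v comm) := by
  have hcond : ∀ w : W, pushout.inl o e (o w) = pushout.inr o e (e w) := fun w =>
    congr($(pushout.condition (f := o) (g := e)) w)
  have hinl : ∀ y : U, pushout.desc u v comm (pushout.inl o e y) = u y := fun y => by
    rw [← Scheme.Hom.comp_apply, pushout.inl_desc]
  have hinr : ∀ z : V, pushout.desc u v comm (pushout.inr o e z) = v z := fun z => by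
    rw [← Scheme.Hom.comp_apply, pushout.inr_desc]
  have h₁ : IsPullback (pushout.inl o e) (𝟙 U) (pushout.desc u v comm) u := by
    refine (IsOpenImmersion.isPullback (𝟙 U) (pushout.inl o e) u (pushout.desc u v comm)
      (by rw [pushout.inl_desc, Category.id_comp]) ?_).flip
    apply SetLike.coe_injective
    ext x
    simp only [Scheme.Hom.coe_preimage, Scheme.Hom.coe_opensRange, Set.mem_preimage, Set.mem_range]
    constructor
    · rintro ⟨y, hy⟩
      rcases pushout_jointly_surjective o e x with ⟨y', rfl⟩ | ⟨z, rfl⟩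
      · exact ⟨y', rfl⟩
      · rw [hinr] at hy
        obtain ⟨w, rfl, rfl⟩ := hint y z hy
        exact ⟨o w, hcond w⟩
    · rintro ⟨y, rfl⟩
      exact ⟨y, (hinl y).symm⟩
  have h₂ : IsPullback (pushout.inr o e) (𝟙 V) (pushout.desc u v comm) v := by
    refine (IsOpenImmersion.isPullback (𝟙 V) (pushout.inr o e) v (pushout.desc u v comm)
      (by rw [pushout.inr_desc, Category.id_comp]) ?_).flip
    apply SetLike.coe_injective
    ext x
    simp only [Scheme.Hom.coe_preimage, Scheme.Hom.coe_opensRange, Set.mem_preimage, Set.mem_range]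
    constructor
    · rintro ⟨z, hz⟩
      rcases pushout_jointly_surjective o e x with ⟨y, rfl⟩ | ⟨z', rfl⟩
      · rw [hinl] at hz
        obtain ⟨w, rfl, rfl⟩ := hint y z hz.symm
        exact ⟨e w, (hcond w).symm⟩
      · exact ⟨z', rfl⟩
    · rintro ⟨z, rfl⟩
      exact ⟨z, (hinr z).symm⟩
  exact isIso_of_cover2 u v hcov (pushout.desc u v comm) (pushout.inl o e) (𝟙 U)
    (pushout.inr o e) (𝟙 V) h₁ h₂

end Groth.Agent.Lib.Helper22.AbsApprox
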