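import Mathlib
import Groth.Agent.Lib.Helper22.AbsApproxT3

set_option autoImplicit false
set_option linter.style.haveILetI false
universe u
open AlgebraicGeometry CategoryTheory Limits TopologicalSpace

namespace Groth.Agent.Lib.Helper22.AbsApprox

/-- (T6a) A quasi-compact open of `Spec B` is a finite union of basic opens. -/
theorem exists_basicOpen_cover {B : CommRingCat.{u}} (O : (Spec B).Opens)
    (hO : IsCompact (O : Set (Spec B))) :
    ∃ (n : ℕ) (g : Fin n → B), ((O : Set (Spec B)) : Set (PrimeSpectrum B)) =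
      ⋃ k, (PrimeSpectrum.basicOpen (g k) : Set (PrimeSpectrum B)) := by
  obtain ⟨s, hs, hOs⟩ := (isCompact_open_iff_eq_finite_iUnion_of_isTopologicalBasis
    (fun r : B => (PrimeSpectrum.basicOpen r : Set (PrimeSpectrum B)))
    PrimeSpectrum.isTopologicalBasis_basic_opens (fun r => PrimeSpectrum.isCompact_basicOpen r)
    ((O : Set (Spec B)) : Set (PrimeSpectrum B))).mp ⟨hO, O.isOpen⟩
  let e := hs.toFinset.equivFin
  refine ⟨hs.toFinset.card, fun k => (e.symm k).1, ?_⟩
  rw [hOs]
  ext x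
  simp only [Set.mem_iUnion, SetLike.mem_coe, exists_prop]
  constructor
  · rintro ⟨r, hr, hx⟩
    refine ⟨e ⟨r, hs.mem_toFinset.mpr hr⟩, ?_⟩
    rw [Equiv.symm_apply_apply]
    exact hx
  · rintro ⟨k, hx⟩
    exact ⟨(e.symm k).1, hs.mem_toFinset.mp (e.symm k).2, hx⟩

/-- (T6b) Every morphism to an affine scheme is induced by the map on global sections. -/
theorem eq_toSpec {X : Scheme.{u}} {B : CommRingCat.{u}} (b : X ⟶ Spec B) :
    b = X.toSpecΓ ≫ Spec.map ((Scheme.ΓSpecIso B).inv ≫ b.appTop) := by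
  rw [Spec.map_comp, ← Category.assoc, ← Scheme.toSpecΓ_naturality, Category.assoc,
    toSpecΓ_SpecMap_ΓSpecIso_inv, Category.comp_id]

/-- (T6c) The non-vanishing locus of `s g` is affine when `X ⟶ Spec B` is an open immersion whose
range contains `D(g)`. -/
theorem isAffineOpen_basicOpen_of_toSpec {X : Scheme.{u}} {B : CommRingCat.{u}}
    (s : B ⟶ Γ(X, ⊤)) [IsOpenImmersion (X.toSpecΓ ≫ Spec.map s)] (g : B)
    (hg : (PrimeSpectrum.basicOpen g : Set (PrimeSpectrum B)) ⊆
      Set.range (X.toSpecΓ ≫ Spec.map s)) : IsAffineOpen (X.basicOpen (s.hom g)) := by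
  have hjtop : (X.toSpecΓ ≫ Spec.map s).appTop ((Scheme.ΓSpecIso B).inv g) = s.hom g :=
    congr($(toSpecΓ_SpecMap_appTop s) g)
  have hg' : (Spec B).basicOpen ((Scheme.ΓSpecIso B).inv g) ≤
      (X.toSpecΓ ≫ Spec.map s).opensRange := by
    rw [basicOpen_eq_of_affine]
    exact hg
  have hE : (X.toSpecΓ ≫ Spec.map s) ⁻¹ᵁ (Spec B).basicOpen ((Scheme.ΓSpecIso B).inv g) =
      X.basicOpen (s.hom g) := by
    rw [Scheme.preimage_basicOpen_top, hjtop]
  have h1 : IsAffineOpen ((Spec B).basicOpen ((Scheme.ΓSpecIso B).inv g)) :=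
    (isAffineOpen_top (Spec B)).basicOpen _
  have h2 : (X.toSpecΓ ≫ Spec.map s) ''ᵁ ((X.toSpecΓ ≫ Spec.map s) ⁻¹ᵁ
      (Spec B).basicOpen ((Scheme.ΓSpecIso B).inv g)) =
      (Spec B).basicOpen ((Scheme.ΓSpecIso B).inv g) := by
    rw [Scheme.Hom.image_preimage_eq_opensRange_inf]
    exact inf_eq_right.mpr hg'
  rw [← h2] at h1
  rw [← hE]
  exact ((X.toSpecΓ ≫ Spec.map s).isAffineOpen_iff_of_isOpenImmersion).mp h1

/-- (T6d) Open subschemes of schemes locally of finite type over `ℤ` are locally of finite type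
over `ℤ`. -/
theorem lft_opens (X : Scheme.{u})
    [LocallyOfFiniteType (IsTerminal.from specULiftZIsTerminal X)] (U : X.Opens) :
    LocallyOfFiniteType (IsTerminal.from specULiftZIsTerminal U.toScheme) := by
  rw [specULiftZIsTerminal.hom_ext (IsTerminal.from specULiftZIsTerminal U.toScheme)
    (U.ι ≫ IsTerminal.from specULiftZIsTerminal X)]
  infer_instance

instance isNoetherianRing_ulift_int' : IsNoetherianRing (ULift.{u} ℤ) :=
  isNoetherianRing_of_ringEquiv ℤ ULift.ringEquiv.symm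

/-- (T6d) A scheme locally of finite type over `ℤ` is quasi-separated. -/
theorem qs_of_lft (X : Scheme.{u}) [CompactSpace X]
    [LocallyOfFiniteType (IsTerminal.from specULiftZIsTerminal X)] : QuasiSeparatedSpace X := by
  haveI : IsLocallyNoetherian X :=
    LocallyOfFiniteType.isLocallyNoetherian (IsTerminal.from specULiftZIsTerminal X)
  infer_instance

end Groth.Agent.Lib.Helper22.AbsApprox
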