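import Mathlib
set_option autoImplicit false
set_option linter.style.haveILetI false
universe u
open TensorProduct
namespace Groth.Agent.Lib.Helper22.AdaptedOpens

/-- **Lemma P**: `E` integral over a field `κ`, `ρ : B →+* E`, `t` a finite set of elements of `B`
whose images generate the unit ideal of `E`. Then some element of the ideal of `B` generated by `t`
maps to a unit of `E`. (Prime avoidance in the preimage of the finite `κ`-algebra generated by
`ρ(t)`.) -/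
theorem exists_mem_span_isUnit {κ E B : Type*} [Field κ] [CommRing E] [Algebra κ E]
    [Algebra.IsIntegral κ E] [CommRing B] (ρ : B →+* E) (t : Finset B)
    (ht : Ideal.span (ρ '' (t : Set B)) = ⊤) :
    ∃ f ∈ Ideal.span (t : Set B), IsUnit (ρ f) := by
  classical
  let E₀ : Subalgebra κ E := Algebra.adjoin κ (ρ '' (t : Set B))
  haveI : Module.Finite κ E₀ :=
    Algebra.finite_adjoin_of_finite_of_isIntegral ((Finset.finite_toSet t).image ρ)
      (fun x _ => Algebra.IsIntegral.isIntegral x)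
  haveI : IsArtinianRing E₀ := IsArtinianRing.of_finite κ E₀
  haveI : Finite (PrimeSpectrum E₀) := inferInstance
  -- the subring `B₀ = ρ⁻¹(E₀)` and the restricted map
  let B₀ : Subring B := E₀.toSubring.comap ρ
  have htB₀ : ∀ b ∈ t, b ∈ B₀ := fun b hb =>
    Algebra.subset_adjoin (Set.mem_image_of_mem ρ hb)
  let ρ₀ : B₀ →+* E₀ := (ρ.comp B₀.subtype).codRestrict E₀.toSubring (fun b => b.2)
  have hρ₀ : ∀ b : B₀, ((ρ₀ b : E₀) : E) = ρ (b : B) := fun _ => rfl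
  let t₀ : Set B₀ := {b | (b : B) ∈ t}
  let 𝔞 : Ideal B₀ := Ideal.span t₀
  -- `𝔞` is contained in no contracted prime
  have hnot : ∀ 𝔫 : PrimeSpectrum E₀, ¬ (𝔞 ≤ 𝔫.asIdeal.comap ρ₀) := by
    intro 𝔫 hle
    haveI : Algebra.IsIntegral E₀ E := by
      refine ⟨fun x => ?_⟩
      exact (Algebra.IsIntegral.isIntegral (R := κ) x).tower_top
    obtain ⟨𝔐, -, h𝔐p, h𝔐⟩ := Ideal.exists_ideal_over_prime_of_isIntegral
      (S := E) 𝔫.asIdeal (⊥ : Ideal E) (by
        rw [Ideal.comap_bot_of_injective _ (FaithfulSMul.algebraMap_injective E₀ E)]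
        exact bot_le)
    have hsub : Ideal.span (ρ '' (t : Set B)) ≤ 𝔐 := by
      rw [Ideal.span_le]
      rintro _ ⟨b, hb, rfl⟩
      have h1 : (⟨b, htB₀ b hb⟩ : B₀) ∈ 𝔞 := Ideal.subset_span hb
      have h2 := hle h1
      rw [Ideal.mem_comap] at h2
      have h3 : (ρ₀ ⟨b, htB₀ b hb⟩ : E₀) ∈ 𝔐.comap (algebraMap E₀ E) := by
        rw [h𝔐]; exact h2
      exact h3
    rw [ht] at hsub
    exact h𝔐p.ne_top (top_le_iff.mp hsub)
  -- the trivial case
  rcases subsingleton_or_nontrivial E with hE | hE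
  · exact ⟨0, zero_mem _, by rw [map_zero]; exact isUnit_of_subsingleton 0⟩
  haveI : Nontrivial E₀ := ⟨⟨0, 1, fun h => zero_ne_one (congrArg Subtype.val h)⟩⟩
  obtain ⟨𝔫₀⟩ : Nonempty (PrimeSpectrum E₀) := inferInstance
  letI : Fintype (PrimeSpectrum E₀) := Fintype.ofFinite _
  -- prime avoidance
  have havoid : ¬ ((𝔞 : Set B₀) ⊆
      ⋃ 𝔫 ∈ ((Finset.univ : Finset (PrimeSpectrum E₀)) : Set (PrimeSpectrum E₀)),
      ((𝔫.asIdeal.comap ρ₀ : Ideal B₀) : Set B₀)) := by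
    rw [Ideal.subset_union_prime 𝔫₀ 𝔫₀ (fun 𝔫 _ _ _ => Ideal.comap_isPrime ρ₀ 𝔫.asIdeal)]
    rintro ⟨𝔫, -, hle⟩
    exact hnot 𝔫 hle
  rw [Set.not_subset] at havoid
  obtain ⟨a, ha𝔞, hanot⟩ := havoid
  have ha𝔫 : ∀ 𝔫 : PrimeSpectrum E₀, ρ₀ a ∉ 𝔫.asIdeal := by
    intro 𝔫 hmem
    apply hanot
    simp only [Set.mem_iUnion, Finset.coe_univ, Set.mem_univ, exists_prop, true_and]
    exact ⟨𝔫, hmem⟩
  have hunit₀ : IsUnit (ρ₀ a) := by
    by_contra hnu
    obtain ⟨M, hM, haM⟩ := exists_max_ideal_of_mem_nonunits hnu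
    exact ha𝔫 ⟨M, hM.isPrime⟩ haM
  refine ⟨(a : B), ?_, ?_⟩
  · have h1 : (B₀.subtype a) ∈ Ideal.map B₀.subtype 𝔞 := Ideal.mem_map_of_mem _ ha𝔞
    rw [Ideal.map_span] at h1
    refine Ideal.span_mono ?_ h1
    rintro _ ⟨b, hb, rfl⟩
    exact hb
  · have := hunit₀.map (algebraMap E₀ E)
    exact this

/-- **Lemma Q**: `C → D` integral, `𝔮` a prime of `C`, `ρ : B →+* D`, `S ⊆ B` such that every
prime of `D` over `𝔮` misses the image of some element of `S`. Then a single element of the ideal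
generated by `S` has image outside all primes of `D` over `𝔮`. -/
theorem exists_mem_span_forall_notMem {C D B : Type*} [CommRing C] [CommRing D] [Algebra C D]
    [Algebra.IsIntegral C D] [CommRing B] (𝔮 : Ideal C) [𝔮.IsPrime] (ρ : B →+* D) (S : Set B)
    (hS : ∀ 𝔪 : Ideal D, 𝔪.IsPrime → 𝔪.comap (algebraMap C D) = 𝔮 → ∃ f ∈ S, ρ f ∉ 𝔪) :
    ∃ f ∈ Ideal.span S, ∀ 𝔪 : Ideal D, 𝔪.IsPrime → 𝔪.comap (algebraMap C D) = 𝔮 → ρ f ∉ 𝔪 := by
  classical
  let E := 𝔮.ResidueField ⊗[C] D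
  let ι : D →ₐ[C] E := Algebra.TensorProduct.includeRight
  let ρE : B →+* E := ι.toRingHom.comp ρ
  have hρE : ∀ b, ρE b = (1 : 𝔮.ResidueField) ⊗ₜ[C] ρ b := fun _ => rfl
  have htop : Ideal.span (ρE '' S) = ⊤ := by
    by_contra hne
    obtain ⟨𝔐, h𝔐max, hle⟩ := Ideal.exists_le_maximal _ hne
    haveI : 𝔐.IsPrime := h𝔐max.isPrime
    have hover : 𝔮 = 𝔐.under C := Ideal.over_def 𝔐 𝔮
    have hcomap : (𝔐.comap ι.toRingHom).comap (algebraMap C D) = 𝔮 := by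
      refine Eq.trans ?_ hover.symm
      rw [Ideal.under_def, Ideal.comap_comap]
      congr 1
      exact ι.comp_algebraMap
    obtain ⟨f, hfS, hf⟩ := hS (𝔐.comap ι.toRingHom) (Ideal.comap_isPrime _ _) hcomap
    apply hf
    rw [Ideal.mem_comap]
    exact hle (Ideal.subset_span ⟨f, hfS, rfl⟩)
  have h1 : (1 : E) ∈ Ideal.span (ρE '' S) := by rw [htop]; trivial
  obtain ⟨T, hTS, h1T⟩ := Submodule.mem_span_finite_of_mem_span h1
  obtain ⟨t, htS, rfl⟩ := Finset.subset_set_image_iff.mp hTS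
  have htop' : Ideal.span (ρE '' (t : Set B)) = ⊤ := by
    rw [Ideal.eq_top_iff_one]
    rw [Finset.coe_image] at h1T
    exact h1T
  obtain ⟨f, hft, hfu⟩ := exists_mem_span_isUnit (κ := 𝔮.ResidueField) ρE t htop'
  refine ⟨f, Ideal.span_mono htS hft, ?_⟩
  intro 𝔪 h𝔪 h𝔪𝔮 hmem
  let g₁ : 𝔮.ResidueField →ₐ[C] 𝔪.ResidueField :=
    Ideal.ResidueField.mapₐ 𝔮 𝔪 (Algebra.ofId C D) h𝔪𝔮.symm
  let g₂ : D →ₐ[C] 𝔪.ResidueField := IsScalarTower.toAlgHom C D 𝔪.ResidueField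
  let φ : E →ₐ[C] 𝔪.ResidueField :=
    Algebra.TensorProduct.lift g₁ g₂ (fun _ _ => Commute.all _ _)
  have hφ : φ (ρE f) = 0 := by
    rw [hρE, Algebra.TensorProduct.lift_tmul, map_one, one_mul]
    exact Ideal.algebraMap_residueField_eq_zero.mpr hmem
  exact (hfu.map φ).ne_zero hφ

end Groth.Agent.Lib.Helper22.AdaptedOpens
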