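import Groth.Agent.Lib.Helper22.SpecDense
import Groth.Agent.Lib.Helper47.FibrePoints
set_option autoImplicit false
set_option linter.style.haveILetI false
universe u
open Polynomial AlgebraicGeometry CategoryTheory
namespace Groth.Agent.Lib.Helper22.SpecDense

section Eval
variable {X : Scheme.{u}}

theorem mem_ker_evaluation_iff (U : X.Opens) (x : X) (hx : x ∈ U) (s : Γ(X, U)) :
    s ∈ RingHom.ker (X.evaluation U x hx).hom ↔ x ∉ X.basicOpen s := by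
  rw [RingHom.mem_ker]
  exact X.evaluation_eq_zero_iff_notMem_basicOpen x hx s

theorem ker_evaluation_le_of_specializes (U : X.Opens) {x x' : X} (h : x ⤳ x') (hx : x ∈ U)
    (hx' : x' ∈ U) :
    RingHom.ker (X.evaluation U x hx).hom ≤ RingHom.ker (X.evaluation U x' hx').hom := by
  intro s hs
  rw [mem_ker_evaluation_iff] at hs ⊢
  exact fun h' => hs (h.mem_open (X.basicOpen s).isOpen h')

theorem specializes_of_ker_evaluation_le {U : X.Opens} (hU : IsAffineOpen U) {x x' : X}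
    (hx : x ∈ U) (hx' : x' ∈ U)
    (h : RingHom.ker (X.evaluation U x hx).hom ≤ RingHom.ker (X.evaluation U x' hx').hom) :
    x ⤳ x' := by
  rw [specializes_iff_forall_open]
  intro W hW hx'W
  obtain ⟨s, hsW, hx's⟩ := hU.exists_basicOpen_le (V := ⟨W, hW⟩) ⟨x', hx'W⟩ hx'
  apply hsW
  by_contra hxs
  exact ((mem_ker_evaluation_iff U x' hx' s).mp
    (h ((mem_ker_evaluation_iff U x hx s).mpr hxs))) hx's

theorem evaluation_fraction {U : X.Opens} (hU : IsAffineOpen U) (x : X) (hx : x ∈ U)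
    (z : X.residueField x) :
    ∃ a s : Γ(X, U), (X.evaluation U x hx).hom s ≠ 0 ∧
      z * (X.evaluation U x hx).hom s = (X.evaluation U x hx).hom a := by
  let _ : Algebra Γ(X, U) (X.presheaf.stalk x) := (X.presheaf.germ U x hx).hom.toAlgebra
  have hloc : IsLocalization.AtPrime (X.presheaf.stalk x) (hU.primeIdealOf ⟨x, hx⟩).asIdeal :=
    hU.isLocalization_stalk ⟨x, hx⟩
  obtain ⟨w, rfl⟩ := X.residue_surjective x z
  obtain ⟨⟨a, s⟩, h⟩ := IsLocalization.surj (hU.primeIdealOf ⟨x, hx⟩).asIdeal.primeCompl w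
  refine ⟨a, s, ?_, ?_⟩
  · have hu : IsUnit ((X.presheaf.germ U x hx).hom s) :=
      IsLocalization.map_units (X.presheaf.stalk x) s
    exact (hu.map (X.residue x).hom).ne_zero
  · change (X.residue x).hom w * (X.residue x).hom ((X.presheaf.germ U x hx).hom s) =
      (X.residue x).hom ((X.presheaf.germ U x hx).hom a)
    rw [← map_mul]
    exact congr_arg _ h

theorem exists_ker_evaluation_eq {U : X.Opens} (hU : IsAffineOpen U) (Q : Ideal Γ(X, U))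
    [Q.IsPrime] :
    ∃ (y : X) (hy : y ∈ U), RingHom.ker (X.evaluation U y hy).hom = Q := by
  let q : Spec Γ(X, U) := ⟨Q, inferInstance⟩
  have hy : hU.fromSpec q ∈ U := by
    have : hU.fromSpec q ∈ Set.range hU.fromSpec := ⟨q, rfl⟩
    rwa [hU.range_fromSpec] at this
  refine ⟨hU.fromSpec q, hy, ?_⟩
  ext s
  rw [mem_ker_evaluation_iff]
  have h1 := hU.fromSpec_preimage_basicOpen s
  have h2 : hU.fromSpec q ∈ X.basicOpen s ↔ q ∈ hU.fromSpec ⁻¹ᵁ X.basicOpen s := Iff.rfl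
  rw [h2, h1]
  change ¬ (s ∉ Q) ↔ _
  rw [not_not]

theorem evaluation_appLE {S : Scheme.{u}} (f : X ⟶ S) (V : S.Opens) (U : X.Opens)
    (e : U ≤ f ⁻¹ᵁ V) (x : X) (hx : x ∈ U) (a : Γ(S, V)) :
    (X.evaluation U x hx).hom ((f.appLE V U e).hom a) =
      (f.residueFieldMap x).hom ((S.evaluation V (f x) (e hx)).hom a) := by
  have h1 := Scheme.evaluation_naturality_apply f x (e hx) a
  have h2 : f.appLE V U e ≫ X.evaluation U x hx =
      f.app V ≫ X.evaluation (f ⁻¹ᵁ V) x (e hx) := by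
    rw [Scheme.Hom.appLE, Category.assoc]
    congr 1
    rw [Scheme.evaluation, ← Category.assoc, X.presheaf.germ_res]
    rfl
  have h3 := congr($h2 a)
  exact h3.trans h1.symm

theorem ker_evaluation_comap_appLE {S : Scheme.{u}} (f : X ⟶ S) (V : S.Opens) (U : X.Opens)
    (e : U ≤ f ⁻¹ᵁ V) (x : X) (hx : x ∈ U) :
    (RingHom.ker (X.evaluation U x hx).hom).comap (f.appLE V U e).hom =
      RingHom.ker (S.evaluation V (f x) (e hx)).hom := by
  ext a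
  rw [Ideal.mem_comap, RingHom.mem_ker, RingHom.mem_ker, evaluation_appLE,
    map_eq_zero_iff _ (f.residueFieldMap x).hom.injective]

theorem eq_of_ker_evaluation_eq {U : X.Opens} (hU : IsAffineOpen U) {x x' : X}
    (hx : x ∈ U) (hx' : x' ∈ U)
    (h : RingHom.ker (X.evaluation U x hx).hom = RingHom.ker (X.evaluation U x' hx').hom) :
    x = x' :=
  ((specializes_of_ker_evaluation_le hU hx hx' h.le).antisymm
    (specializes_of_ker_evaluation_le hU hx' hx h.ge)).eq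

end Eval


open Groth.Agent.Lib.Helper47 in
/-- Scheme-level core of Stacks 053U-type statement: between `x ⤳ x'` over different points of
the base, with `x'` closed in its fibre, there are points `x₁` of the fibre of `f x`, closed in
that fibre, with `x ⤳ x₁ ⤳ x'`, in every open neighbourhood of `x`. -/
theorem exists_between {X S : Scheme.{u}} (f : X ⟶ S) [LocallyOfFiniteType f] (x x' : X)
    (hsp : x ⤳ x') (hne : f x ≠ f x')
    (hcl : ∀ y : X, x' ⤳ y → f y = f x' → y = x') (O : X.Opens) (hxO : x ∈ O) :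
    ∃ x₁ : X, x₁ ∈ O ∧ f x₁ = f x ∧ (∀ y : X, x₁ ⤳ y → f y = f x₁ → y = x₁) ∧
      x ⤳ x₁ ∧ x₁ ⤳ x' := by
  -- affine charts
  obtain ⟨V₀, hV₀, hx'V₀⟩ : ∃ V₀ : S.Opens, IsAffineOpen V₀ ∧ f x' ∈ V₀ := by
    obtain ⟨_, ⟨V₀, hV₀, rfl⟩, h, -⟩ :=
      S.isBasis_affineOpens.exists_subset_of_mem_open (Set.mem_univ (f x')) isOpen_univ
    exact ⟨V₀, hV₀, h⟩
  obtain ⟨U₀, hU₀, hx'U₀, hU₀V₀⟩ :
      ∃ U₀ : X.Opens, IsAffineOpen U₀ ∧ x' ∈ U₀ ∧ U₀ ≤ f ⁻¹ᵁ V₀ := by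
    obtain ⟨_, ⟨U₀, hU₀, rfl⟩, h, hle⟩ :=
      X.isBasis_affineOpens.exists_subset_of_mem_open
        (show x' ∈ ((f ⁻¹ᵁ V₀ : X.Opens) : Set X) from hx'V₀) (f ⁻¹ᵁ V₀).isOpen
    exact ⟨U₀, hU₀, h, hle⟩
  have hxU₀ : x ∈ U₀ := hsp.mem_open U₀.isOpen hx'U₀
  obtain ⟨g, hgO, hxg⟩ := hU₀.exists_basicOpen_le (V := O ⊓ U₀) ⟨x, ⟨hxO, hxU₀⟩⟩ hxU₀
  -- ring setup
  let φ : Γ(S, V₀) →+* Γ(X, U₀) := (f.appLE V₀ U₀ hU₀V₀).hom
  letI : Algebra Γ(S, V₀) Γ(X, U₀) := φ.toAlgebra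
  haveI : Algebra.FiniteType Γ(S, V₀) Γ(X, U₀) := f.finiteType_appLE hV₀ hU₀ hU₀V₀
  let P : Ideal Γ(X, U₀) := RingHom.ker (X.evaluation U₀ x hxU₀).hom
  let P' : Ideal Γ(X, U₀) := RingHom.ker (X.evaluation U₀ x' hx'U₀).hom
  haveI : P.IsPrime := RingHom.ker_isPrime _
  haveI : P'.IsPrime := RingHom.ker_isPrime _
  have hPP' : P ≤ P' := ker_evaluation_le_of_specializes U₀ hsp hxU₀ hx'U₀
  have hcomap : ∀ (y : X) (hy : y ∈ U₀),
      (RingHom.ker (X.evaluation U₀ y hy).hom).comap (algebraMap Γ(S, V₀) Γ(X, U₀)) =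
        RingHom.ker (S.evaluation V₀ (f y) (hU₀V₀ hy)).hom := fun y hy =>
    ker_evaluation_comap_appLE f V₀ U₀ hU₀V₀ y hy
  have hneP : P.comap (algebraMap Γ(S, V₀) Γ(X, U₀)) ≠ P'.comap (algebraMap Γ(S, V₀) Γ(X, U₀)) := by
    intro heq
    rw [hcomap x hxU₀, hcomap x' hx'U₀] at heq
    exact hne (eq_of_ker_evaluation_eq hV₀ _ _ heq)
  -- `κ(x')` is finite over `κ(f x')`
  have hfin : (f.residueFieldMap x').hom.Finite :=
    (isClosed_singleton_asFiber_iff_finite f x').mp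
      ((isClosed_singleton_asFiber_iff_forall_specializes f x').mpr hcl)
  have halg : ∀ c : Γ(X, U₀), ∃ p : Γ(S, V₀)[X],
      p.leadingCoeff ∉ P'.comap (algebraMap Γ(S, V₀) Γ(X, U₀)) ∧ aeval c p ∈ P' :=
    halg_of_isIntegral (S.evaluation V₀ (f x') (hU₀V₀ hx'U₀)).hom
      (X.evaluation U₀ x' hx'U₀).hom (f.residueFieldMap x').hom
      (fun a => evaluation_appLE f V₀ U₀ hU₀V₀ x' hx'U₀ a)
      (evaluation_fraction hV₀ (f x') (hU₀V₀ hx'U₀)) hfin.to_isIntegral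
  have hgP : g ∉ P := fun h => (mem_ker_evaluation_iff U₀ x hxU₀ g).mp h hxg
  obtain ⟨Q, hQprime, hPQ, hQP', hQ𝔭, hgQ, hQalg⟩ := core P P' hPP' hneP halg g hgP
  obtain ⟨x₁, hx₁U₀, hker⟩ := exists_ker_evaluation_eq hU₀ Q
  have hx₁g : x₁ ∈ X.basicOpen g := by
    by_contra hcon
    exact hgQ (hker ▸ (mem_ker_evaluation_iff U₀ x₁ hx₁U₀ g).mpr hcon)
  have hfx₁ : f x₁ = f x := by
    apply eq_of_ker_evaluation_eq hV₀ (hU₀V₀ hx₁U₀) (hU₀V₀ hxU₀)
    rw [← hcomap x₁ hx₁U₀, ← hcomap x hxU₀, hker]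
    exact hQ𝔭
  have hint : (f.residueFieldMap x₁).hom.IsIntegral := by
    refine isIntegral_of_halg (S.evaluation V₀ (f x₁) (hU₀V₀ hx₁U₀)).hom
      (X.evaluation U₀ x₁ hx₁U₀).hom (f.residueFieldMap x₁).hom
      (fun a => evaluation_appLE f V₀ U₀ hU₀V₀ x₁ hx₁U₀ a)
      (evaluation_fraction hU₀ x₁ hx₁U₀) ?_
    intro c
    obtain ⟨p, hlc, hp⟩ := hQalg c
    rw [hker]
    exact ⟨p, hQ𝔭 ▸ hlc, hp⟩
  refine ⟨x₁, (hgO hx₁g).1, hfx₁, ?_, ?_, ?_⟩
  · exact (isClosed_singleton_asFiber_iff_forall_specializes f x₁).mp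
      (isClosed_singleton_asFiber_of_isIntegral f x₁ hint)
  · apply specializes_of_ker_evaluation_le hU₀ hxU₀ hx₁U₀
    rw [hker]
    exact hPQ
  · apply specializes_of_ker_evaluation_le hU₀ hx₁U₀ hx'U₀
    rw [hker]
    exact hQP'


theorem isClosed_preimage_singleton_iff {T : Type*} [TopologicalSpace T] (F : Set T) (x : T)
    (hx : x ∈ F) :
    IsClosed (Subtype.val ⁻¹' {x} : Set ↑F) ↔ ∀ y ∈ F, x ⤳ y → y = x := by
  have hset : (Subtype.val ⁻¹' {x} : Set ↑F) = {⟨x, hx⟩} := by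
    ext ⟨y, hy⟩
    simp only [Set.mem_preimage, Set.mem_singleton_iff, Subtype.mk.injEq]
  rw [hset, ← closure_subset_iff_isClosed]
  constructor
  · intro h y hy hxy
    have h1 : (⟨x, hx⟩ : ↑F) ⤳ ⟨y, hy⟩ := by
      rw [← Topology.IsInducing.subtypeVal.specializes_iff]
      exact hxy
    have h2 := h (specializes_iff_mem_closure.mp h1)
    rw [Set.mem_singleton_iff] at h2
    exact congrArg Subtype.val h2
  · rintro h ⟨y, hy⟩ hy'
    rw [← specializes_iff_mem_closure, ← Topology.IsInducing.subtypeVal.specializes_iff] at hy'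
    rw [Set.mem_singleton_iff]
    exact Subtype.ext (h y hy hy')

theorem dense_between {X S : Scheme.{u}} (f : X ⟶ S) [LocallyOfFiniteType f] (x x' : X) (hsp : x ⤳ x') (hne : f x ≠ f x')
    (hcl : IsClosed (Subtype.val ⁻¹' {x'} : Set ↑(f ⁻¹' {f x'}))) :
    Dense (Subtype.val ⁻¹' {x₁ : ↑X | f x₁ = f x ∧ IsClosed (Subtype.val ⁻¹' {x₁} : Set ↑(f ⁻¹' {f x})) ∧ x ⤳ x₁ ∧ x₁ ⤳ x'} :
      Set ↑(closure {x} ∩ f ⁻¹' {f x})) := by
  rw [dense_iff_inter_open]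
  rintro U hU ⟨⟨z, hz⟩, hzU⟩
  obtain ⟨O, hO, rfl⟩ := isOpen_induced_iff.mp hU
  have hxz : x ⤳ z := specializes_iff_mem_closure.mpr hz.1
  have hxO : x ∈ O := hxz.mem_open hO hzU
  have hcl' : ∀ y : X, x' ⤳ y → f y = f x' → y = x' := fun y hy hfy =>
    (isClosed_preimage_singleton_iff (f ⁻¹' {f x'}) x' rfl).mp hcl y hfy hy
  obtain ⟨x₁, hx₁O, hfx₁, hx₁cl, hxx₁, hx₁x'⟩ := exists_between f x x' hsp hne hcl' ⟨O, hO⟩ hxO
  refine ⟨⟨x₁, specializes_iff_mem_closure.mp hxx₁, hfx₁⟩, hx₁O, hfx₁, ?_, hxx₁, hx₁x'⟩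
  rw [isClosed_preimage_singleton_iff (f ⁻¹' {f x}) x₁ hfx₁]
  intro y hy hx₁y
  exact hx₁cl y hx₁y (hy.trans hfx₁.symm)

end Groth.Agent.Lib.Helper22.SpecDense
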