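import Groth.Agent.Lib.Helper22.AdaptedOpens
import Groth.Agent.Lib.Helper22.SpecDenseScheme
set_option autoImplicit false
set_option linter.style.haveILetI false
universe u
open AlgebraicGeometry CategoryTheory
namespace Groth.Agent.Lib.Helper22.AdaptedOpens

open Groth.Agent.Lib.Helper22.SpecDense

/-- Step A: an open containing a fibre of a closed map contains the preimage of a basic open
neighbourhood of the point. -/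
theorem exists_basicOpen_preimage_le {Z Y : Scheme.{u}} (j : Z ⟶ Y) [IsIntegralHom j] (y : Y)
    {V₁ : Y.Opens} (hV₁ : IsAffineOpen V₁) (hy : y ∈ V₁) (O : Z.Opens)
    (hO : j ⁻¹' {y} ⊆ (O : Set Z)) :
    ∃ g : Γ(Y, V₁), y ∈ Y.basicOpen g ∧ j ⁻¹ᵁ (Y.basicOpen g) ≤ O := by
  have hcl : IsClosed (j '' ((O : Set Z)ᶜ)) := j.isClosedMap _ O.isOpen.isClosed_compl
  have hyK : y ∉ j '' ((O : Set Z)ᶜ) := by
    rintro ⟨z, hz, rfl⟩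
    exact hz (hO rfl)
  obtain ⟨g, hg1, hg2⟩ := hV₁.exists_basicOpen_le
    (V := ⟨(j '' ((O : Set Z)ᶜ))ᶜ, hcl.isOpen_compl⟩) ⟨y, hyK⟩ hy
  refine ⟨g, hg2, ?_⟩
  intro z hz
  by_contra hzO
  exact hg1 hz ⟨z, hzO, rfl⟩

/-- Step C: lifting sections along a closed immersion. -/
theorem exists_lift_basicOpen {Z X : Scheme.{u}} (i : Z ⟶ X) [IsClosedImmersion i] {U : X.Opens}
    (hU : IsAffineOpen U) (f' : Γ(Z, i ⁻¹ᵁ U)) :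
    ∃ f : Γ(X, U), i ⁻¹ᵁ (X.basicOpen f) = Z.basicOpen f' := by
  obtain ⟨f, hf⟩ := i.app_surjective U hU f'
  exact ⟨f, by rw [Scheme.preimage_basicOpen, hf]⟩

/-- Step B: a principal open between a fibre of an integral morphism and the preimage of an
affine open neighbourhood. -/
theorem exists_basicOpen_between {Z Y : Scheme.{u}} (j : Z ⟶ Y) [IsIntegralHom j] (y : Y)
    {V₁ : Y.Opens} (hV₁ : IsAffineOpen V₁) (hy : y ∈ V₁) {W' : Z.Opens} (hW' : IsAffineOpen W')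
    (hle : j ⁻¹ᵁ V₁ ≤ W') :
    ∃ f : Γ(Z, W'), Z.basicOpen f ≤ j ⁻¹ᵁ V₁ ∧ j ⁻¹' {y} ⊆ (Z.basicOpen f : Set Z) := by
  have hO : IsAffineOpen (j ⁻¹ᵁ V₁) := hV₁.preimage j
  letI : Algebra Γ(Y, V₁) Γ(Z, j ⁻¹ᵁ V₁) := (j.appLE V₁ (j ⁻¹ᵁ V₁) le_rfl).hom.toAlgebra
  haveI : Algebra.IsIntegral Γ(Y, V₁) Γ(Z, j ⁻¹ᵁ V₁) := by
    have h1 : (j.appLE V₁ (j ⁻¹ᵁ V₁) le_rfl).hom.IsIntegral := by
      rw [← Scheme.Hom.app_eq_appLE]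
      exact j.isIntegral_app V₁ hV₁
    exact algebraMap_isIntegral_iff.mp h1
  let ρ : Γ(Z, W') →+* Γ(Z, j ⁻¹ᵁ V₁) := (Z.presheaf.map (homOfLE hle).op).hom
  have hρ : ∀ f : Γ(Z, W'), Z.basicOpen (ρ f) = j ⁻¹ᵁ V₁ ⊓ Z.basicOpen f := fun f =>
    Scheme.basicOpen_res _ _ _
  let 𝔮 : Ideal Γ(Y, V₁) := RingHom.ker (Y.evaluation V₁ y hy).hom
  haveI : 𝔮.IsPrime := RingHom.ker_isPrime _
  let S : Set Γ(Z, W') := {f | Z.basicOpen f ≤ j ⁻¹ᵁ V₁}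
  have hS : ∀ 𝔪 : Ideal Γ(Z, j ⁻¹ᵁ V₁), 𝔪.IsPrime →
      𝔪.comap (algebraMap Γ(Y, V₁) Γ(Z, j ⁻¹ᵁ V₁)) = 𝔮 → ∃ f ∈ S, ρ f ∉ 𝔪 := by
    intro 𝔪 h𝔪 _
    obtain ⟨z, hzO, hker⟩ := exists_ker_evaluation_eq hO 𝔪
    obtain ⟨f, hf1, hf2⟩ := hW'.exists_basicOpen_le (V := j ⁻¹ᵁ V₁) ⟨z, hzO⟩ (hle hzO)
    refine ⟨f, hf1, ?_⟩
    rw [← hker, mem_ker_evaluation_iff, not_not, hρ]
    exact ⟨hzO, hf2⟩
  obtain ⟨f, hfS, hf⟩ := exists_mem_span_forall_notMem 𝔮 ρ S hS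
  have hspan : ∀ f ∈ Ideal.span S, Z.basicOpen f ≤ j ⁻¹ᵁ V₁ := by
    intro f hf
    induction hf using Submodule.span_induction with
    | mem x hx => exact hx
    | zero => rw [Scheme.basicOpen_zero]; exact bot_le
    | add x y _ _ hx hy => exact (Z.basicOpen_add_le x y).trans (sup_le hx hy)
    | smul a x _ hx =>
      rw [smul_eq_mul, Scheme.basicOpen_mul]
      exact inf_le_right.trans hx
  refine ⟨f, hspan f hfS, ?_⟩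
  rintro z rfl
  have hzO : z ∈ j ⁻¹ᵁ V₁ := hy
  have h1 := hf (RingHom.ker (Z.evaluation (j ⁻¹ᵁ V₁) z hzO).hom) (RingHom.ker_isPrime _)
    (ker_evaluation_comap_appLE j V₁ (j ⁻¹ᵁ V₁) le_rfl z hzO)
  rw [mem_ker_evaluation_iff, not_not, hρ] at h1
  exact h1.2

/-- Stacks-type lemma: affine opens adapted to a closed immersion and an integral morphism. -/
theorem exists_adapted_opens {X Y Z : Scheme.{u}} (i : Z ⟶ X) [IsClosedImmersion i] (j : Z ⟶ Y)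
    [IsIntegralHom j]
    (h : ∀ y : Y, ∃ U : X.Opens, IsAffineOpen U ∧ j ⁻¹' {y} ⊆ (i ⁻¹ᵁ U : Set ↑Z)) (y : Y) :
    ∃ (U : X.Opens) (V : Y.Opens), IsAffineOpen U ∧ IsAffineOpen V ∧ y ∈ V ∧
      i ⁻¹ᵁ U = j ⁻¹ᵁ V := by
  obtain ⟨U₁, hU₁, hyU₁⟩ := h y
  -- an affine open neighbourhood `V₁` of `y` with `j⁻¹ V₁ ⊆ i⁻¹ U₁`
  obtain ⟨V₀, hV₀, hyV₀⟩ : ∃ V₀ : Y.Opens, IsAffineOpen V₀ ∧ y ∈ V₀ := by
    obtain ⟨_, ⟨V₀, hV₀, rfl⟩, hmem, -⟩ :=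
      Y.isBasis_affineOpens.exists_subset_of_mem_open (Set.mem_univ y) isOpen_univ
    exact ⟨V₀, hV₀, hmem⟩
  obtain ⟨g₀, hyg₀, hg₀⟩ := exists_basicOpen_preimage_le j y hV₀ hyV₀ (i ⁻¹ᵁ U₁) hyU₁
  have hV₁ : IsAffineOpen (Y.basicOpen g₀) := hV₀.basicOpen g₀
  -- shrink `U₁` to `U₂` with `j⁻¹(y) ⊆ i⁻¹ U₂ ⊆ j⁻¹ V₁`
  have hW' : IsAffineOpen (i ⁻¹ᵁ U₁) := hU₁.preimage i
  obtain ⟨f₁', hf₁'le, hf₁'y⟩ := exists_basicOpen_between j y hV₁ hyg₀ hW' hg₀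
  obtain ⟨f₁, hf₁⟩ := exists_lift_basicOpen i hU₁ f₁'
  have hU₂ : IsAffineOpen (X.basicOpen f₁) := hU₁.basicOpen f₁
  -- a basic open `D(g) ⊆ V₁` around `y` with `j⁻¹ D(g) ⊆ i⁻¹ U₂`
  obtain ⟨g, hyg, hg⟩ := exists_basicOpen_preimage_le j y hV₁ hyg₀ (i ⁻¹ᵁ X.basicOpen f₁)
    (by rw [hf₁]; exact hf₁'y)
  -- pull `g` back to `i⁻¹ U₂` and lift it to `U₂`
  have hle₂ : i ⁻¹ᵁ X.basicOpen f₁ ≤ j ⁻¹ᵁ Y.basicOpen g₀ := by rw [hf₁]; exact hf₁'le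
  let g' : Γ(Z, i ⁻¹ᵁ X.basicOpen f₁) := (j.appLE (Y.basicOpen g₀) _ hle₂).hom g
  have hg' : Z.basicOpen g' = i ⁻¹ᵁ X.basicOpen f₁ ⊓ j ⁻¹ᵁ Y.basicOpen g := by
    change Z.basicOpen ((j.appLE (Y.basicOpen g₀) _ hle₂).hom g) = _
    rw [Scheme.Hom.appLE, CommRingCat.hom_comp, RingHom.comp_apply]
    erw [Scheme.basicOpen_res]
    rw [← Scheme.preimage_basicOpen]
  obtain ⟨f₂, hf₂⟩ := exists_lift_basicOpen i hU₂ g'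
  refine ⟨X.basicOpen f₂, Y.basicOpen g, hU₂.basicOpen f₂, hV₁.basicOpen g, hyg, ?_⟩
  rw [hf₂, hg']
  exact inf_eq_right.mpr hg

end Groth.Agent.Lib.Helper22.AdaptedOpens
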