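import Mathlib
import Groth.Agent.Lib.Helper22.RelApprox4

set_option autoImplicit false
set_option linter.style.haveILetI false
set_option linter.unusedSectionVars false
universe u
open CategoryTheory AlgebraicGeometry Limits Opposite

namespace Groth.Agent.Lib.Helper22.AffLim

/-- A cofiltered limit (in `Over X`) of schemes affine over `X` is affine over `X`. -/
theorem isAffineHom_of_isLimit {X : Scheme.{u}} {J : Type u} [SmallCategory J] [IsCofiltered J]
    (D : J ⥤ Over X) (c : Cone D) (hc : IsLimit c) (h : ∀ j, IsAffineHom (D.obj j).hom) :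
    IsAffineHom c.pt.hom := by
  haveI : IsConnected J := IsCofiltered.isConnected _
  have hc' : IsLimit ((Over.forget X).mapCone c) := isLimitOfPreserves (Over.forget X) hc
  haveI : ∀ {i j : J} (a : i ⟶ j), IsAffineHom ((D ⋙ Over.forget X).map a) := by
    intro i j a
    have h1 : (D.map a).left ≫ (D.obj j).hom = (D.obj i).hom := Over.w (D.map a)
    haveI := h i
    haveI := h j
    have h2 : IsAffineHom ((D.map a).left ≫ (D.obj j).hom) := by rw [h1]; infer_instance
    have hsep : IsSeparated (D.obj j).hom := inferInstance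
    exact MorphismProperty.of_postcomp (W := @IsAffineHom) (W' := @IsSeparated) _ (D.obj j).hom
      hsep h2
  obtain ⟨j⟩ := IsCofiltered.nonempty (C := J)
  have h3 := isAffineHom_π_app _ _ hc' j
  have h2 : c.pt.hom = (c.π.app j).left ≫ (D.obj j).hom := (Over.w (c.π.app j)).symm
  rw [h2]
  haveI := h j
  haveI : IsAffineHom (c.π.app j).left := h3
  infer_instance

/-- If a cofiltered limit (in `Over X`, `X` quasi-compact) of quasi-compact quasi-separated
`X`-schemes with affine transition maps is affine over `X`, then the terms are eventually affine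
over `X`. -/
theorem exists_affine_stage {X : Scheme.{u}} [CompactSpace X] {J : Type u} [SmallCategory J]
    [IsCofiltered J]
    (D : J ⥤ Over X) (c : Cone D) (hc : IsLimit c)
    (haff : ∀ (i j : J) (a : i ⟶ j), IsAffineHom (D.map a).left)
    (hqc : ∀ j, QuasiCompact (D.obj j).hom) (hqs : ∀ j, QuasiSeparated (D.obj j).hom)
    (hf : IsAffineHom c.pt.hom) :
    ∃ j₀ : J, ∀ (j : J) (_ : j ⟶ j₀), IsAffineHom (D.obj j).hom := by
  classical
  haveI : IsConnected J := IsCofiltered.isConnected _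
  have hc' : IsLimit ((Over.forget X).mapCone c) := isLimitOfPreserves (Over.forget X) hc
  haveI : ∀ {i j : J} (a : i ⟶ j), IsAffineHom ((D ⋙ Over.forget X).map a) :=
    fun a => haff _ _ a
  -- key claim, for one affine open
  have key : ∀ U : X.Opens, IsAffineOpen U →
      ∃ jU : J, ∀ (j : J) (_ : j ⟶ jU), IsAffineOpen ((D.obj j).hom ⁻¹ᵁ U) := by
    intro U hU
    obtain ⟨j₁⟩ := IsCofiltered.nonempty (C := J)
    let D' := D ⋙ Over.forget X
    let c' := (Over.forget X).mapCone c
    let V : (D'.obj j₁).Opens := (D.obj j₁).hom ⁻¹ᵁ U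
    have hV : ∀ k : Over j₁, D'.map k.hom ⁻¹ᵁ V = (D.obj k.left).hom ⁻¹ᵁ U := by
      intro k
      show (D.map k.hom).left ⁻¹ᵁ ((D.obj j₁).hom ⁻¹ᵁ U) = _
      rw [← Scheme.Hom.comp_preimage, Over.w]
    haveI : ∀ k : Over j₁, CompactSpace ((opensDiagram D' j₁ V).obj k) := by
      intro k
      show CompactSpace ((D'.map k.hom ⁻¹ᵁ V : (D'.obj k.left).Opens) : Scheme)
      rw [hV k]
      haveI := hqc k.left
      exact isCompact_iff_compactSpace.mp
        (Scheme.Hom.isCompact_preimage (f := (D.obj k.left).hom) hU.isCompact)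
    haveI : ∀ k : Over j₁, QuasiSeparatedSpace ((opensDiagram D' j₁ V).obj k) := by
      intro k
      show QuasiSeparatedSpace ((D'.map k.hom ⁻¹ᵁ V : (D'.obj k.left).Opens) : Scheme)
      rw [hV k]
      haveI := hqs k.left
      exact (isQuasiSeparated_iff_quasiSeparatedSpace _ ((D.obj k.left).hom ⁻¹ᵁ U).2).mp
        (Scheme.Hom.isQuasiSeparated_preimage (f := (D.obj k.left).hom) hU.isQuasiSeparated)
    haveI : IsAffine (opensCone D' c' j₁ V).pt := by
      show IsAffine ((c'.π.app j₁ ⁻¹ᵁ V : c'.pt.Opens) : Scheme)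
      have : c'.π.app j₁ ⁻¹ᵁ V = c.pt.hom ⁻¹ᵁ U := by
        show (c.π.app j₁).left ⁻¹ᵁ ((D.obj j₁).hom ⁻¹ᵁ U) = _
        rw [← Scheme.Hom.comp_preimage, Over.w]
        rfl
      rw [this]
      exact hU.preimage c.pt.hom
    obtain ⟨k, hk⟩ := Scheme.exists_isAffine_of_isLimit _ _ (isLimitOpensCone D' c' hc' j₁ V)
    refine ⟨k.left, fun j a => ?_⟩
    have hk' : IsAffineOpen ((D.obj k.left).hom ⁻¹ᵁ U) := by
      rw [← hV k]; exact hk
    have : (D.obj j).hom ⁻¹ᵁ U = (D.map a).left ⁻¹ᵁ ((D.obj k.left).hom ⁻¹ᵁ U) := by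
      rw [← Scheme.Hom.comp_preimage, Over.w]
    rw [this]
    haveI := haff _ _ a
    exact hk'.preimage _
  choose jU hjU using key
  -- finite affine cover
  obtain ⟨s, hs⟩ := isCompact_univ.elim_finite_subcover
    (fun U : X.affineOpens => ((U : X.Opens) : Set X)) (fun U => (U : X.Opens).isOpen)
    (by
      intro x _
      obtain ⟨_, ⟨(W : X.Opens), hW, rfl⟩, hxW, -⟩ :=
        X.isBasis_affineOpens.exists_subset_of_mem_open (Set.mem_univ x) isOpen_univ
      exact Set.mem_iUnion.mpr ⟨⟨W, hW⟩, hxW⟩)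
  let jf : X.affineOpens → J := fun U => jU U.1 U.2
  obtain ⟨j₀, hj₀⟩ := IsCofiltered.inf_objs_exists (s.image jf)
  refine ⟨j₀, fun j a => ?_⟩
  apply isAffineHom_of_forall_exists_isAffineOpen
  intro x
  obtain ⟨U, hU, hxU⟩ := Set.mem_iUnion₂.mp (hs (Set.mem_univ x))
  refine ⟨U.1, hxU, U.2, ?_⟩
  have hmem : jf U ∈ s.image jf := Finset.mem_image_of_mem _ hU
  exact hjU U.1 U.2 j (a ≫ (hj₀ hmem).some)

end Groth.Agent.Lib.Helper22.AffLim
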