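import Mathlib
import Groth.Agent.Lib.Helper22.RelApprox4
import Groth.Agent.Lib.Helper22.AffLim

set_option autoImplicit false
set_option linter.style.haveILetI false
set_option linter.unusedSectionVars false
universe u
open CategoryTheory AlgebraicGeometry Limits Opposite

namespace Groth.Agent.Lib.Helper22.AffLim

open Groth.Agent.Lib.Helper22.GenChev in
/-- An affine morphism between qcqs schemes is a directed limit of affine morphisms of finite
presentation (directed preorder version). -/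
theorem exists_affine_fp_limit_preorder
    (happ : ∀ (S : Scheme.{u}) [CompactSpace S] [QuasiSeparatedSpace S], HasApprox S)
    {X Y : Scheme.{u}} (f : Y ⟶ X)
    [CompactSpace X] [QuasiSeparatedSpace X] [CompactSpace Y] [QuasiSeparatedSpace Y]
    [IsAffineHom f] :
    ∃ (I : Type u) (_ : Preorder I) (_ : IsDirected I (fun a b => a ≤ b)) (_ : Nonempty I)
      (D : Iᵒᵖ ⥤ Over X) (c : Limits.Cone D) (_ : Limits.IsLimit c),
      (∀ i, IsAffineHom (D.obj i).hom ∧ LocallyOfFinitePresentation (D.obj i).hom) ∧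
      Nonempty (c.pt ≅ Over.mk f) := by
  obtain ⟨I, i1, i2, i3, D, c, hc, h1, h2, ⟨e⟩⟩ :=
    Groth.Agent.Lib.Helper22.RelApprox.exists_relApprox happ f
  haveI : IsFiltered I := isFiltered_of_directed_le_nonempty I
  have hcf : IsAffineHom c.pt.hom := by
    have : c.pt.hom = e.hom.left ≫ f := (Over.w e.hom).symm
    rw [this]
    haveI : IsIso e.hom.left := Functor.map_isIso (Over.forget X) e.hom
    infer_instance
  obtain ⟨j₀, hj₀⟩ := exists_affine_stage D c hc h2 (fun j => (h1 j).2.1) (fun j => (h1 j).2.2) hcf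
  let i₀ : I := j₀.unop
  let I' : Type u := {i : I // i₀ ≤ i}
  haveI : Nonempty I' := ⟨⟨i₀, le_refl _⟩⟩
  haveI hdir : IsDirected I' (fun a b => a ≤ b) := by
    refine ⟨fun a b => ?_⟩
    obtain ⟨k, hak, hbk⟩ := i2.directed a.1 b.1
    exact ⟨⟨k, a.2.trans hak⟩, hak, hbk⟩
  haveI : IsFiltered I' := isFiltered_of_directed_le_nonempty I'
  let ι : I'ᵒᵖ ⥤ Iᵒᵖ := (Monotone.functor (f := fun a : I' => a.1) (fun _ _ h => h)).op
  haveI : ι.Initial := by
    apply Functor.initial_of_exists_of_isCofiltered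
    · intro d
      obtain ⟨k, hk1, hk2⟩ := i2.directed d.unop i₀
      exact ⟨op ⟨k, hk2⟩, ⟨(homOfLE hk1).op⟩⟩
    · intro d c s s'
      exact ⟨c, 𝟙 _, Subsingleton.elim _ _⟩
  refine ⟨I', inferInstance, hdir, inferInstance, ι ⋙ D, c.whisker ι,
    (Functor.Initial.isLimitWhiskerEquiv ι c).symm hc, fun i => ⟨?_, (h1 _).1⟩, ⟨e⟩⟩
  exact hj₀ (ι.obj i) (homOfLE i.unop.2).op

open Groth.Agent.Lib.Helper22.GenChev in
/-- An affine morphism between qcqs schemes is a directed limit of affine morphisms of finite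
presentation. -/
theorem exists_affine_fp_limit
    (happ : ∀ (S : Scheme.{u}) [CompactSpace S] [QuasiSeparatedSpace S], HasApprox S)
    {X Y : Scheme.{u}} (f : Y ⟶ X)
    [CompactSpace X] [QuasiSeparatedSpace X] [CompactSpace Y] [QuasiSeparatedSpace Y]
    [IsAffineHom f] :
    ∃ (I : Type u) (_ : SmallCategory I) (_ : IsFiltered I) (D : Iᵒᵖ ⥤ Over X)
      (c : Limits.Cone D) (_ : Limits.IsLimit c),
      (∀ i, IsAffineHom (D.obj i).hom ∧ LocallyOfFinitePresentation (D.obj i).hom) ∧
      Nonempty (c.pt ≅ Over.mk f) := by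
  obtain ⟨I, i1, i2, i3, D, c, hc, h, he⟩ := exists_affine_fp_limit_preorder happ f
  exact ⟨I, inferInstance, isFiltered_of_directed_le_nonempty I, D, c, hc, h, he⟩

end Groth.Agent.Lib.Helper22.AffLim
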