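import Mathlib
import Groth.Prelude.Def_MoreMor

/-!
# Finite affine stratifications of quasi-compact quasi-separated schemes (helper22)
-/

set_option autoImplicit false
set_option linter.style.haveILetI false
universe u
open AlgebraicGeometry CategoryTheory Limits TopologicalSpace

namespace Groth.Agent.Lib.Helper22.AffStrat

variable {X : Scheme.{u}}

/-- The union of a list of opens, as a set. -/
def covered (L : List X.Opens) : Set X := {x | ∃ B ∈ L, x ∈ B}

@[simp] lemma covered_nil : covered ([] : List X.Opens) = ∅ := by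
  ext x; simp [covered]

@[simp] lemma covered_cons (B : X.Opens) (L : List X.Opens) :
    covered (B :: L) = (B : Set X) ∪ covered L := by
  ext x; simp [covered]

@[simp] lemma covered_append (L₁ L₂ : List X.Opens) :
    covered (L₁ ++ L₂) = covered L₁ ∪ covered L₂ := by
  ext x; simp only [covered, List.mem_append, Set.mem_ofPred_eq, Set.mem_union]
  constructor
  · rintro ⟨B, hB | hB, hx⟩
    · exact Or.inl ⟨B, hB, hx⟩
    · exact Or.inr ⟨B, hB, hx⟩
  · rintro (⟨B, hB, hx⟩ | ⟨B, hB, hx⟩)
    · exact ⟨B, Or.inl hB, hx⟩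
    · exact ⟨B, Or.inr hB, hx⟩

lemma isOpen_covered (L : List X.Opens) : IsOpen (covered L) := by
  induction L with
  | nil => simp
  | cons B L ih => rw [covered_cons]; exact B.isOpen.union ih

lemma subset_covered {L : List X.Opens} {B : X.Opens} (hB : B ∈ L) : (B : Set X) ⊆ covered L :=
  fun _ hx => ⟨B, hB, hx⟩

/-- The strata `B ∖ (acc ∪ earlier members)` of a list of opens all satisfy `P`. -/
def GoodFrom (P : Set X → Prop) : Set X → List X.Opens → Prop
  | _, [] => True
  | acc, B :: L => P ((B : Set X) \ acc) ∧ GoodFrom P (acc ∪ B) L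

lemma goodFrom_append (P : Set X → Prop) (acc : Set X) (L₁ L₂ : List X.Opens) :
    GoodFrom P acc (L₁ ++ L₂) ↔ GoodFrom P acc L₁ ∧ GoodFrom P (acc ∪ covered L₁) L₂ := by
  induction L₁ generalizing acc with
  | nil => simp [GoodFrom]
  | cons B L ih =>
    simp only [List.cons_append, GoodFrom, covered_cons, ih, Set.union_assoc, and_assoc]

lemma goodFrom_mono {P : Set X → Prop} (hP : ∀ S S' : Set X, S' ⊆ S → P S → P S')
    {acc acc' : Set X} (h : acc ⊆ acc') {L : List X.Opens} (hL : GoodFrom P acc L) :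
    GoodFrom P acc' L := by
  induction L generalizing acc acc' with
  | nil => trivial
  | cons B L ih =>
    exact ⟨hP _ _ (Set.sdiff_subset_sdiff_right h) hL.1,
      ih (Set.union_subset_union_left _ h) hL.2⟩

lemma goodFrom_imp {P Q : Set X → Prop} {acc : Set X} {L : List X.Opens}
    (h : ∀ B ∈ L, ∀ S : Set X, S ⊆ (B : Set X) → Disjoint S acc → P S → Q S)
    (hL : GoodFrom P acc L) : GoodFrom Q acc L := by
  induction L generalizing acc with
  | nil => trivial
  | cons B L ih =>
    refine ⟨h B (List.mem_cons_self) _ Set.sdiff_subset Set.disjoint_sdiff_left hL.1, ih ?_ hL.2⟩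
    intro B' hB' S hS hdisj hPS
    exact h B' (List.mem_cons_of_mem _ hB') S hS (hdisj.mono_right Set.subset_union_left) hPS

lemma goodFrom_of_forall {P : Set X → Prop} (hP : ∀ S S' : Set X, S' ⊆ S → P S → P S')
    {acc : Set X} {L : List X.Opens} (h : ∀ B ∈ L, P ((B : Set X) \ acc)) : GoodFrom P acc L := by
  induction L generalizing acc with
  | nil => trivial
  | cons B L ih =>
    refine ⟨h B List.mem_cons_self, ih fun B' hB' => ?_⟩
    exact hP _ _ (Set.sdiff_subset_sdiff_right Set.subset_union_left)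
      (h B' (List.mem_cons_of_mem _ hB'))

lemma goodFrom_getElem {P : Set X → Prop} {acc : Set X} {L : List X.Opens}
    (hL : GoodFrom P acc L) (k : ℕ) (hk : k < L.length) :
    P ((L[k] : Set X) \ (acc ∪ covered (L.take k))) := by
  induction L generalizing acc k with
  | nil => simp at hk
  | cons B L ih =>
    cases k with
    | zero => simpa using hL.1
    | succ k =>
      have := ih hL.2 k (by simpa using hk)
      simpa [List.take_succ_cons, Set.union_assoc] using this

/-- The dichotomy: `S` is contained in or disjoint from each member of `Us`. -/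
def Dich (Us : List X.Opens) (S : Set X) : Prop :=
  ∀ U ∈ Us, S ⊆ (U : Set X) ∨ Disjoint S (U : Set X)

lemma dich_anti (Us : List X.Opens) (S S' : Set X) (h : S' ⊆ S) (hS : Dich Us S) : Dich Us S' :=
  fun U hU => (hS U hU).imp (fun h' => h.trans h') (fun h' => h'.mono_left h)

/-- A compact open is a finite union of affine opens, presented as a list. -/
lemma exists_affine_list_of_isCompact (V : X.Opens) (hV : IsCompact (V : Set X)) :
    ∃ Cs : List X.Opens, (∀ C ∈ Cs, IsAffineOpen C) ∧ covered Cs = (V : Set X) := by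
  obtain ⟨s, hs, e⟩ := isCompact_iff_finite_and_eq_biUnion_affineOpens.mp hV
  refine ⟨hs.toFinset.toList.map (fun i : X.affineOpens => i.1), ?_, ?_⟩
  · intro C hC
    obtain ⟨i, _, rfl⟩ := List.mem_map.mp hC
    exact i.2
  · ext x
    rw [e]
    simp only [covered, Set.mem_ofPred_eq, Opens.iSup_mk, Opens.carrier_eq_coe, Opens.coe_mk,
      Set.mem_iUnion, SetLike.mem_coe]
    constructor
    · rintro ⟨B, hB, hx⟩
      obtain ⟨i, hi, rfl⟩ := List.mem_map.mp hB
      exact ⟨i, hs.mem_toFinset.mp (Finset.mem_toList.mp hi), hx⟩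
    · rintro ⟨i, hi, hx⟩
      exact ⟨i.1, List.mem_map.mpr ⟨i, Finset.mem_toList.mpr (hs.mem_toFinset.mpr hi), rfl⟩, hx⟩

/-- Key combinatorial construction: for finitely many quasi-compact opens of a quasi-separated
scheme there is a finite sequence of affine opens, with the same union, whose successive
differences are each contained in or disjoint from every one of the given opens. -/
theorem exists_good_list [QuasiSeparatedSpace X] : ∀ (n : ℕ) (Us : List X.Opens),
    Us.length = n → (∀ U ∈ Us, IsCompact (U : Set X)) →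
    ∃ Bs : List X.Opens, (∀ B ∈ Bs, IsAffineOpen B) ∧ covered Bs = covered Us ∧
      GoodFrom (Dich Us) ∅ Bs := by
  intro n
  induction n with
  | zero =>
    intro Us hUs _
    obtain rfl := List.length_eq_zero_iff.mp hUs
    exact ⟨[], by simp, rfl, trivial⟩
  | succ n ih =>
    intro Us hUs hc
    cases Us with
    | nil => simp at hUs
    | cons V Us' =>
    have hlen : Us'.length = n := by simpa using hUs
    have hVc : IsCompact (V : Set X) := hc V List.mem_cons_self
    have hc' : ∀ U ∈ Us', IsCompact (U : Set X) := fun U hU => hc U (List.mem_cons_of_mem _ hU)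
    obtain ⟨Bs₁, hB₁aff, hB₁cov, hB₁good⟩ := ih (Us'.map (· ⊓ V)) (by simpa using hlen) (by
      intro U hU
      simp only [List.mem_map] at hU
      obtain ⟨U', hU', rfl⟩ := hU
      exact QuasiSeparatedSpace.inter_isCompact _ _ U'.isOpen (hc' U' hU') V.isOpen hVc)
    obtain ⟨Bs₂, hB₂aff, hB₂cov, hB₂good⟩ := ih Us' hlen hc'
    obtain ⟨Cs, hCaff, hCcov⟩ := exists_affine_list_of_isCompact V hVc
    have hcov₁ : covered Bs₁ = covered Us' ∩ V := by
      rw [hB₁cov]; ext x
      simp only [covered, List.mem_map, Set.mem_ofPred_eq, Set.mem_inter_iff, SetLike.mem_coe]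
      constructor
      · rintro ⟨_, ⟨U, hU, rfl⟩, hx⟩; exact ⟨⟨U, hU, hx.1⟩, hx.2⟩
      · rintro ⟨⟨U, hU, hx⟩, hxV⟩; exact ⟨_, ⟨U, hU, rfl⟩, ⟨hx, hxV⟩⟩
    refine ⟨Bs₁ ++ (Cs ++ Bs₂), ?_, ?_, ?_⟩
    · intro B hB
      rcases List.mem_append.mp hB with h | h
      · exact hB₁aff B h
      · rcases List.mem_append.mp h with h | h
        · exact hCaff B h
        · exact hB₂aff B h
    · rw [covered_append, covered_append, hcov₁, hCcov, hB₂cov, covered_cons]
      ext x; simp only [Set.mem_union, Set.mem_inter_iff]; tauto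
    · rw [goodFrom_append, goodFrom_append]
      refine ⟨?_, ?_, ?_⟩
      · refine goodFrom_imp ?_ hB₁good
        intro B hB S hSB _ hS U hU
        have hSV : S ⊆ (V : Set X) :=
          hSB.trans ((subset_covered hB).trans (hcov₁ ▸ Set.inter_subset_right))
        rcases List.mem_cons.mp hU with rfl | hU
        · exact Or.inl hSV
        · rcases hS (U ⊓ V) (List.mem_map_of_mem hU) with h | h
          · exact Or.inl (h.trans (fun x hx => hx.1))
          · right
            rw [Set.disjoint_left] at h ⊢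
            intro x hxS hxU
            exact h hxS ⟨hxU, hSV hxS⟩
      · apply goodFrom_of_forall (dich_anti _)
        intro C hC U hU
        have hCV : (C : Set X) ⊆ (V : Set X) := (subset_covered hC).trans hCcov.le
        rcases List.mem_cons.mp hU with rfl | hU
        · exact Or.inl (Set.sdiff_subset.trans hCV)
        · right
          rw [Set.disjoint_left]
          rintro x ⟨hxC, hxacc⟩ hxU
          apply hxacc
          right
          rw [hcov₁]; exact ⟨⟨U, hU, hxU⟩, hCV hxC⟩
      · have h1 : GoodFrom (Dich Us') ((∅ ∪ covered Bs₁) ∪ covered Cs) Bs₂ :=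
          goodFrom_mono (dich_anti _) (Set.empty_subset _) hB₂good
        refine goodFrom_imp ?_ h1
        intro B hB S _ hdisj hS U hU
        rcases List.mem_cons.mp hU with rfl | hU
        · right; exact hdisj.mono_right (by rw [hCcov]; exact Set.subset_union_right)
        · exact hS U hU

/-- An immersion from an affine scheme whose image is contained in or disjoint from each member
of an affine open cover is an affine morphism. -/
lemma isAffineHom_of_dich {Z : Scheme.{u}} [IsAffine Z] (ι : Z ⟶ X)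
    (h : ∀ x : X, ∃ U : X.Opens, x ∈ U ∧ IsAffineOpen U ∧
      (Set.range ι ⊆ (U : Set X) ∨ Disjoint (Set.range ι) (U : Set X))) : IsAffineHom ι := by
  apply isAffineHom_of_forall_exists_isAffineOpen
  intro x
  obtain ⟨U, hxU, hU, h | h⟩ := h x
  · refine ⟨U, hxU, hU, ?_⟩
    have : ι ⁻¹ᵁ U = ⊤ := by
      ext z
      simp only [Scheme.Hom.coe_preimage, Set.mem_preimage, SetLike.mem_coe, Opens.coe_top,
        Set.mem_univ, iff_true]
      exact h ⟨z, rfl⟩
    rw [this]; exact isAffineOpen_top Z
  · refine ⟨U, hxU, hU, ?_⟩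
    have : ι ⁻¹ᵁ U = ⊥ := by
      ext z
      simp only [Scheme.Hom.coe_preimage, Set.mem_preimage, SetLike.mem_coe, Opens.coe_bot,
        Set.mem_empty_iff_false, iff_false]
      intro hz; exact Set.disjoint_left.mp h ⟨z, rfl⟩ hz
    rw [this]; exact isAffineOpen_bot Z

/-- A closed subset of an affine open is the image of an immersion from an affine scheme. -/
lemma exists_affine_immersion (B : X.Opens) (hB : IsAffineOpen B) (T : Set X) (hT : IsClosed T) :
    ∃ (Z : Scheme.{u}) (ι : Z ⟶ X), IsImmersion ι ∧ IsAffine Z ∧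
      Set.range ι = (B : Set X) ∩ T := by
  have hBaff : IsAffine B.toScheme := hB
  let T' : Closeds B.toScheme := ⟨B.ι ⁻¹' T, hT.preimage B.ι.continuous⟩
  refine ⟨(Scheme.IdealSheafData.vanishingIdeal T').subscheme,
    (Scheme.IdealSheafData.vanishingIdeal T').subschemeι ≫ B.ι, inferInstance, ?_, ?_⟩
  · exact isAffine_of_isAffineHom (Scheme.IdealSheafData.vanishingIdeal T').subschemeι
  · rw [Scheme.Hom.comp_base, TopCat.coe_comp, Set.range_comp,
      Scheme.IdealSheafData.range_subschemeι, Scheme.IdealSheafData.coe_support_vanishingIdeal]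
    change B.ι '' (B.ι ⁻¹' T) = _
    rw [Set.image_preimage_eq_inter_range, Scheme.Opens.range_ι, Set.inter_comm]

lemma mem_covered_take (L : List X.Opens) (k : ℕ) (x : X) :
    x ∈ covered (L.take k) ↔ ∃ j, j < k ∧ ∃ hj : j < L.length, x ∈ L[j] := by
  constructor
  · rintro ⟨B, hB, hx⟩
    obtain ⟨j, hj, rfl⟩ := List.mem_take_iff_getElem.mp hB
    exact ⟨j, (lt_min_iff.mp hj).1, (lt_min_iff.mp hj).2, hx⟩
  · rintro ⟨j, hjk, hj, hx⟩
    exact ⟨L[j], List.mem_take_iff_getElem.mpr ⟨j, lt_min hjk hj, rfl⟩, hx⟩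

/-- A finite sequence of affine opens covering `X` whose successive differences are adapted to an
affine open cover yields an affine stratification. -/
theorem hasAffineStratification_of_list (n : ℕ) (L : List X.Opens) (hlen : L.length = n + 1)
    (hL : ∀ B ∈ L, IsAffineOpen B) (hcov : covered L = Set.univ)
    (Us : List X.Opens) (hUs : ∀ U ∈ Us, IsAffineOpen U) (hUcov : covered Us = Set.univ)
    (hgood : ∀ k (hk : k < L.length), Dich Us ((L[k] : Set X) \ covered (L.take k))) :
    MoreMor.HasAffineStratification X n := by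
  classical
  have hex : ∀ x : X, ∃ k, ∃ hk : k < L.length, x ∈ L[k] := fun x => by
    have hx : x ∈ covered L := hcov ▸ Set.mem_univ x
    obtain ⟨B, hB, hx⟩ := hx
    obtain ⟨k, hk, rfl⟩ := List.getElem_of_mem hB
    exact ⟨k, hk, hx⟩
  have hfirst_lt : ∀ x, Nat.find (hex x) < n + 1 := fun x =>
    hlen ▸ (Nat.find_spec (hex x)).1
  let s : X → Fin (n + 1) := fun x => (⟨Nat.find (hex x), hfirst_lt x⟩ : Fin (n + 1)).rev
  have hsle : ∀ i : Fin (n + 1), {x : X | s x ≤ i} = (covered (L.take (i.rev : ℕ)))ᶜ := by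
    intro i
    ext x
    have h1 : s x ≤ i ↔ (i.rev : ℕ) ≤ Nat.find (hex x) := by
      rw [← Fin.rev_rev i, Fin.rev_le_rev, Fin.rev_rev]
      exact Iff.rfl
    rw [Set.mem_ofPred_eq, h1, Nat.le_find_iff, Set.mem_compl_iff, mem_covered_take]
    constructor
    · rintro h ⟨j, hj, hj2⟩; exact h j hj hj2
    · intro h j hj hj2; exact h ⟨j, hj, hj2⟩
  have hseq : ∀ i : Fin (n + 1), ∀ hk : (i.rev : ℕ) < L.length,
      {x : X | s x = i} = (L[(i.rev : ℕ)] : Set X) \ covered (L.take (i.rev : ℕ)) := by
    intro i hk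
    ext x
    have h1 : s x = i ↔ Nat.find (hex x) = (i.rev : ℕ) := by
      rw [Fin.rev_eq_iff, Fin.ext_iff]
    rw [Set.mem_ofPred_eq, h1, Nat.find_eq_iff, Set.mem_sdiff, mem_covered_take]
    constructor
    · rintro ⟨⟨_, hx⟩, h⟩
      exact ⟨hx, fun ⟨j, hj, hj2⟩ => h j hj hj2⟩
    · rintro ⟨hx, h⟩
      exact ⟨⟨hk, hx⟩, fun j hj hj2 => h ⟨j, hj, hj2⟩⟩
  refine ⟨s, fun i => ?_, fun i => ?_⟩
  · rw [hsle]; exact (isOpen_covered _).isClosed_compl
  · have hk : (i.rev : ℕ) < L.length := by rw [hlen]; exact i.rev.2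
    obtain ⟨Z, ι, himm, hZ, hrange⟩ := exists_affine_immersion L[(i.rev : ℕ)]
      (hL _ (List.getElem_mem hk)) (covered (L.take (i.rev : ℕ)))ᶜ
      (isOpen_covered _).isClosed_compl
    have hrange' : Set.range ι = {x : X | s x = i} := by
      rw [hrange, hseq i hk]; rfl
    refine ⟨Z, ι, himm, hZ, ?_, hrange'⟩
    apply isAffineHom_of_dich
    intro x
    have hx : x ∈ covered Us := hUcov ▸ Set.mem_univ x
    obtain ⟨U, hU, hxU⟩ := hx
    refine ⟨U, hxU, hUs U hU, ?_⟩
    rw [hrange', hseq i hk]
    exact hgood _ hk U hU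

/-- A quasi-compact quasi-separated scheme has a finite affine stratification. -/
theorem exists_hasAffineStratification [CompactSpace X] [QuasiSeparatedSpace X] :
    ∃ n : ℕ, MoreMor.HasAffineStratification X n := by
  obtain ⟨Us, hUs, hUcov⟩ := exists_affine_list_of_isCompact (⊤ : X.Opens)
    (by simpa using isCompact_univ)
  have hUcov' : covered Us = Set.univ := by simpa using hUcov
  obtain ⟨Bs, hBs, hBcov, hgood⟩ := exists_good_list (X := X) _ Us rfl
    (fun U hU => (hUs U hU).isCompact)
  refine ⟨Bs.length, hasAffineStratification_of_list Bs.length (Bs ++ [⊥]) (by simp) ?_ ?_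
    Us hUs hUcov' ?_⟩
  · intro B hB
    rcases List.mem_append.mp hB with h | h
    · exact hBs B h
    · rw [List.mem_singleton.mp h]; exact isAffineOpen_bot X
  · rw [covered_append, hBcov, hUcov', Set.univ_union]
  · have hgood' : GoodFrom (Dich Us) ∅ (Bs ++ [⊥]) := by
      rw [goodFrom_append]
      refine ⟨hgood, ?_, trivial⟩
      intro U _
      left
      simp
    intro k hk
    have := goodFrom_getElem hgood' k hk
    simpa using this

/-- A scheme with a finite affine stratification is quasi-compact. -/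
theorem compactSpace_of_hasAffineStratification {n : ℕ}
    (h : MoreMor.HasAffineStratification X n) : CompactSpace X := by
  obtain ⟨s, -, hstrata⟩ := h
  choose Z ι h1 h2 h3 h4 using hstrata
  refine ⟨?_⟩
  have : (Set.univ : Set X) = ⋃ i, Set.range (ι i) := by
    ext x
    simp only [Set.mem_univ, Set.mem_iUnion, true_iff]
    exact ⟨s x, by rw [h4]; rfl⟩
  rw [this]
  exact isCompact_iUnion fun i => by
    have := h2 i
    exact isCompact_range (ι i).continuous

/-- A scheme with a finite affine stratification is quasi-separated. -/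
theorem quasiSeparatedSpace_of_hasAffineStratification {n : ℕ}
    (h : MoreMor.HasAffineStratification X n) : QuasiSeparatedSpace X := by
  obtain ⟨s, -, hstrata⟩ := h
  choose Z ι h1 h2 h3 h4 using hstrata
  rw [quasiSeparatedSpace_iff_forall_affineOpens]
  intro U V
  have : ((U : X.Opens) : Set X) ∩ ((V : X.Opens) : Set X) =
      ⋃ i, (ι i) '' (((ι i) ⁻¹ᵁ (U : X.Opens) : Set (Z i)) ∩ ((ι i) ⁻¹ᵁ (V : X.Opens) : Set (Z i))) := by
    ext x
    simp only [Set.mem_inter_iff, SetLike.mem_coe, Set.mem_iUnion, Set.mem_image,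
      Scheme.Hom.coe_preimage, Set.mem_preimage]
    constructor
    · rintro ⟨hxU, hxV⟩
      have hx : x ∈ Set.range (ι (s x)) := by rw [h4]; rfl
      obtain ⟨z, hz⟩ := hx
      refine ⟨s x, z, ⟨?_, ?_⟩, hz⟩
      · rw [hz]; exact hxU
      · rw [hz]; exact hxV
    · rintro ⟨i, z, ⟨hzU, hzV⟩, rfl⟩
      exact ⟨hzU, hzV⟩
  rw [this]
  refine isCompact_iUnion fun i => IsCompact.image ?_ (ι i).continuous
  have := h2 i
  have := h3 i
  exact QuasiSeparatedSpace.inter_isCompact _ _ ((ι i) ⁻¹ᵁ (U : X.Opens)).isOpen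
    (U.2.preimage (ι i)).isCompact ((ι i) ⁻¹ᵁ (V : X.Opens)).isOpen (V.2.preimage (ι i)).isCompact

end Groth.Agent.Lib.Helper22.AffStrat
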