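import Mathlib
import Groth.Prelude.Def_MoreMor
import Groth.Agent.Lib.Helper22.AffStrat

/-!
# Affine stratification number of a Noetherian scheme is at most its dimension (helper22)
-/

set_option autoImplicit false
set_option linter.style.haveILetI false
universe u
open AlgebraicGeometry CategoryTheory Limits TopologicalSpace

namespace Groth.Agent.Lib.Helper22.AffStrat

/-- In a Noetherian scheme there is an affine open `U`, meeting every irreducible component,
whose inclusion into `X` is an affine morphism. -/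
theorem exists_affine_open_meeting_components (X : Scheme.{u}) [IsNoetherian X] :
    ∃ U : X.Opens, IsAffineOpen U ∧ IsAffineHom U.ι ∧
      ∀ C ∈ irreducibleComponents X, (C ∩ (U : Set X)).Nonempty := by
  classical
  have hfin : (irreducibleComponents X).Finite := NoetherianSpace.finite_irreducibleComponents
  have : Finite ↥(irreducibleComponents X) := hfin.to_subtype
  obtain ⟨Ws, hWs, hWcov⟩ := exists_affine_list_of_isCompact (⊤ : X.Opens)
    (by simpa using isCompact_univ)
  have hWcov' : covered Ws = Set.univ := by simpa using hWcov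
  -- generic points
  have hgen : ∀ c : ↥(irreducibleComponents X), ∃ η : X, IsGenericPoint η c.1 := fun c =>
    QuasiSober.sober c.2.1 (isClosed_of_mem_irreducibleComponents c.1 c.2)
  choose η hη using hgen
  -- the open complement of the other components
  let O : ↥(irreducibleComponents X) → Set X := fun c =>
    (⋃ C' ∈ (irreducibleComponents X) \ {c.1}, C')ᶜ
  have hOopen : ∀ c, IsOpen (O c) := fun c =>
    (Set.Finite.isClosed_biUnion (hfin.subset Set.sdiff_subset)
      (fun C' hC' => isClosed_of_mem_irreducibleComponents C' hC'.1)).isOpen_compl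
  have hOsub : ∀ c x, x ∈ O c → x ∈ c.1 := by
    intro c x hx
    by_contra hxc
    apply hx
    simp only [Set.mem_iUnion]
    refine ⟨irreducibleComponent x, ⟨irreducibleComponent_mem_irreducibleComponents x, ?_⟩,
      mem_irreducibleComponent⟩
    rintro (h : irreducibleComponent x = c.1)
    exact hxc (h ▸ mem_irreducibleComponent)
  have hηO : ∀ c, η c ∈ O c := by
    intro c hc
    simp only [Set.mem_iUnion] at hc
    obtain ⟨C', ⟨hC', hne⟩, hηC'⟩ := hc
    apply hne
    have h1 : c.1 ⊆ C' := by
      rw [← (hη c).def]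
      exact (isClosed_of_mem_irreducibleComponents C' hC').closure_subset_iff.mpr
        (Set.singleton_subset_iff.mpr hηC')
    exact (c.2.eq_of_ge hC'.1 h1)
  -- the neighbourhood in which to pick the affine open
  let N : ↥(irreducibleComponents X) → Set X := fun c =>
    O c ∩ ⋂ W ∈ {W : X.Opens | W ∈ Ws ∧ η c ∈ W}, (W : Set X)
  have hNopen : ∀ c, IsOpen (N c) := fun c =>
    (hOopen c).inter (Set.Finite.isOpen_biInter
      ((List.finite_toSet Ws).subset fun W hW => hW.1) fun W _ => W.isOpen)
  have hηN : ∀ c, η c ∈ N c := fun c =>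
    ⟨hηO c, Set.mem_iInter₂.mpr fun W hW => hW.2⟩
  have hV : ∀ c, ∃ V : X.Opens, IsAffineOpen V ∧ η c ∈ V ∧ (V : Set X) ⊆ N c := by
    intro c
    obtain ⟨_, ⟨V, hV, rfl⟩, hxV, hVN⟩ :=
      X.isBasis_affineOpens.exists_subset_of_mem_open (hηN c) (hNopen c)
    exact ⟨V, hV, hxV, hVN⟩
  choose V hVaff hηV hVN using hV
  have hVc : ∀ c x, x ∈ V c → x ∈ c.1 := fun c x hx => hOsub c x (hVN c hx).1
  have hdisj : Pairwise (Function.onFun Disjoint V) := by
    intro c c' hcc'
    change Disjoint (V c) (V c')
    rw [disjoint_iff_inf_le]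
    intro x hx
    exfalso
    have h1 : x ∈ O c := (hVN c hx.1).1
    have h2 : x ∈ c'.1 := hVc c' x hx.2
    apply h1
    simp only [Set.mem_iUnion]
    exact ⟨c'.1, ⟨c'.2, fun h => hcc' (Subtype.ext h.symm)⟩, h2⟩
  refine ⟨⨆ c, V c, IsAffineOpen.iSup_of_disjoint hVaff hdisj, ?_, ?_⟩
  · apply isAffineHom_of_forall_exists_isAffineOpen
    intro x
    have hx : x ∈ covered Ws := hWcov' ▸ Set.mem_univ x
    obtain ⟨W, hW, hxW⟩ := hx
    refine ⟨W, hxW, hWs W hW, ?_⟩
    rw [← Scheme.Hom.isAffineOpen_iff_of_isOpenImmersion (⨆ c, V c).ι,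
      Scheme.Hom.image_preimage_eq_opensRange_inf, Scheme.Opens.opensRange_ι, iSup_inf_eq]
    refine IsAffineOpen.iSup_of_disjoint (fun c => ?_) ?_
    · by_cases hηW : η c ∈ W
      · have : V c ⊓ W = V c := inf_eq_left.mpr fun y hy =>
          Set.mem_iInter₂.mp (hVN c hy).2 W ⟨hW, hηW⟩
        rw [this]; exact hVaff c
      · have : V c ⊓ W = ⊥ := by
          rw [eq_bot_iff]
          intro y hy
          exfalso
          apply hηW
          exact ((hη c).mem_open_set_iff W.isOpen).mpr ⟨y, hVc c y hy.1, hy.2⟩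
        rw [this]; exact isAffineOpen_bot X
    · intro c c' hcc'
      exact (hdisj hcc').mono inf_le_left inf_le_left
  · intro C hC
    exact ⟨η ⟨C, hC⟩, hVc ⟨C, hC⟩ _ (hηV ⟨C, hC⟩),
      (Opens.mem_iSup.mpr ⟨⟨C, hC⟩, hηV ⟨C, hC⟩⟩ : η ⟨C, hC⟩ ∈ ⨆ c, V c)⟩

/-- Extending an affine stratification of the closed complement of an affine open with affine
inclusion by one top stratum. -/
theorem hasAffineStratification_succ_of_closed_compl {X Z : Scheme.{u}} (U : X.Opens)
    (hU : IsAffineOpen U) (hUι : IsAffineHom U.ι) (i : Z ⟶ X) [IsClosedImmersion i]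
    (hi : Set.range i = (U : Set X)ᶜ) {n : ℕ} (hZ : MoreMor.HasAffineStratification Z n) :
    MoreMor.HasAffineStratification X (n + 1) := by
  classical
  obtain ⟨s, hs, hstrata⟩ := hZ
  have hex : ∀ x : X, x ∉ U → ∃ z : Z, i z = x := fun x hx => by
    have : x ∈ Set.range i := by rw [hi]; exact hx
    exact this
  have hinj : Function.Injective i := i.isClosedEmbedding.injective
  have hiU : ∀ z : Z, i z ∉ U := fun z => by
    have : i z ∈ Set.range i := ⟨z, rfl⟩
    rw [hi] at this; exact this
  let s' : X → Fin (n + 1 + 1) := fun x =>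
    if h : x ∈ U then Fin.last (n + 1) else (s (Classical.choose (hex x h))).castSucc
  have hs'i : ∀ z : Z, s' (i z) = (s z).castSucc := by
    intro z
    have h1 : s' (i z) = (s (Classical.choose (hex (i z) (hiU z)))).castSucc := dif_neg (hiU z)
    rw [h1, hinj (Classical.choose_spec (hex (i z) (hiU z)))]
  have hs'U : ∀ x, x ∈ U → s' x = Fin.last (n + 1) := fun x hx => dif_pos hx
  have hlevel_last : {x | s' x = Fin.last (n + 1)} = (U : Set X) := by
    ext x
    by_cases hx : x ∈ U
    · simp only [Set.mem_ofPred_eq, hs'U x hx, SetLike.mem_coe, hx]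
    · obtain ⟨z, rfl⟩ := hex x hx
      simp only [Set.mem_ofPred_eq, hs'i, SetLike.mem_coe, hx, iff_false]
      exact (Fin.castSucc_lt_last _).ne
  have hlevel_cast : ∀ j : Fin (n + 1), {x | s' x = j.castSucc} = i '' {z | s z = j} := by
    intro j
    ext x
    constructor
    · intro hx
      have hxU : x ∉ U := fun h => by
        rw [Set.mem_ofPred_eq, hs'U x h] at hx
        exact (Fin.castSucc_lt_last j).ne hx.symm
      obtain ⟨z, rfl⟩ := hex x hxU
      rw [Set.mem_ofPred_eq, hs'i] at hx
      exact ⟨z, Fin.castSucc_injective _ hx, rfl⟩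
    · rintro ⟨z, hz, rfl⟩
      rw [Set.mem_ofPred_eq, hs'i, show s z = j from hz]
  have hsub_cast : ∀ j : Fin (n + 1), {x | s' x ≤ j.castSucc} = i '' {z | s z ≤ j} := by
    intro j
    ext x
    constructor
    · intro hx
      have hxU : x ∉ U := fun h => by
        rw [Set.mem_ofPred_eq, hs'U x h] at hx
        exact absurd (Fin.castSucc_lt_last j) (not_lt.mpr hx)
      obtain ⟨z, rfl⟩ := hex x hxU
      rw [Set.mem_ofPred_eq, hs'i, Fin.castSucc_le_castSucc_iff] at hx
      exact ⟨z, hx, rfl⟩
    · rintro ⟨z, hz, rfl⟩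
      rw [Set.mem_ofPred_eq, hs'i, Fin.castSucc_le_castSucc_iff]
      exact hz
  refine ⟨s', fun k => ?_, fun k => ?_⟩
  · refine Fin.lastCases ?_ (fun j => ?_) k
    · have : {x | s' x ≤ Fin.last (n + 1)} = Set.univ := by
        ext x; simp [Fin.le_last]
      rw [this]; exact isClosed_univ
    · rw [hsub_cast]; exact i.isClosedEmbedding.isClosedMap _ (hs j)
  · refine Fin.lastCases ?_ (fun j => ?_) k
    · exact ⟨U, U.ι, inferInstance, hU, hUι, by rw [hlevel_last, Scheme.Opens.range_ι]⟩
    · obtain ⟨Zj, ιj, h1, h2, h3, h4⟩ := hstrata j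
      refine ⟨Zj, ιj ≫ i, inferInstance, h2, inferInstance, ?_⟩
      rw [hlevel_cast, Scheme.Hom.comp_base, TopCat.coe_comp, Set.range_comp, h4]

/-- If `U` meets every irreducible component, its closed complement has smaller dimension. -/
theorem topologicalKrullDim_lt_of_closed_compl {X Z : Scheme.{u}} (U : X.Opens)
    (hUC : ∀ C ∈ irreducibleComponents X, (C ∩ (U : Set X)).Nonempty)
    (i : Z ⟶ X) [IsClosedImmersion i] (hi : Set.range i = (U : Set X)ᶜ) (d : ℕ)
    (hd : topologicalKrullDim X < ((d + 1 : ℕ) : WithBot ℕ∞)) :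
    topologicalKrullDim Z < ((d : ℕ) : WithBot ℕ∞) := by
  rw [topologicalKrullDim, Order.krullDim_lt_coe_iff]
  intro l
  have hφ : StrictMono (IrreducibleCloseds.map i i.continuous) :=
    IrreducibleCloseds.map_strictMono_of_isInducing i.isClosedEmbedding.isInducing
  obtain ⟨l', hl'⟩ : ∃ l' : LTSeries (IrreducibleCloseds X), l' = l.map _ hφ := ⟨_, rfl⟩
  have hlast_sub : (l'.last : Set X) ⊆ (U : Set X)ᶜ := by
    rw [hl', LTSeries.last_map, IrreducibleCloseds.coe_map]
    refine (U.isOpen.isClosed_compl).closure_subset_iff.mpr ?_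
    rw [← hi]
    exact Set.image_subset_range _ _
  obtain ⟨t, ht, hlt, hmax⟩ := exists_preirreducible (l'.last : Set X)
    l'.last.isIrreducible.isPreirreducible
  have htirr : IsIrreducible t := ⟨l'.last.isIrreducible.nonempty.mono hlt, ht⟩
  have htC : t ∈ irreducibleComponents X :=
    ⟨htirr, fun u hu htu => (hmax u hu.isPreirreducible htu).le⟩
  have hne : (l'.last : Set X) ≠ t := by
    intro h
    obtain ⟨x, hxt, hxU⟩ := hUC t htC
    exact hlast_sub (h ▸ hxt) hxU
  obtain ⟨Cic, hCic⟩ : ∃ Cic : IrreducibleCloseds X, (Cic : Set X) = t :=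
    ⟨⟨t, htirr, isClosed_of_mem_irreducibleComponents t htC⟩, rfl⟩
  have hlt' : l'.last < Cic := by
    refine lt_of_le_of_ne ?_ ?_
    · change (l'.last : Set X) ⊆ (Cic : Set X)
      rw [hCic]; exact hlt
    · intro h
      exact hne (by rw [← hCic, ← h])
  have hlen := Order.LTSeries.length_le_krullDim (l'.snoc Cic hlt')
  have h2 : (((l'.snoc Cic hlt').length : ℕ) : WithBot ℕ∞) < ((d + 1 : ℕ) : WithBot ℕ∞) :=
    lt_of_le_of_lt hlen hd
  have h3 : (l'.snoc Cic hlt').length = l.length + 1 := by
    have h5 : l'.length = l.length := by rw [hl']; rfl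
    rw [← h5]; rfl
  rw [h3] at h2
  have h4 : l.length + 1 < d + 1 := by exact_mod_cast h2
  omega

/-- A Noetherian scheme of dimension at most `d` has an affine stratification indexed by
`{0, …, d}`. -/
theorem hasAffineStratification_of_noetherian : ∀ (d : ℕ) (X : Scheme.{u}) [IsNoetherian X],
    topologicalKrullDim X < ((d + 1 : ℕ) : WithBot ℕ∞) →
      MoreMor.HasAffineStratification X d := by
  intro d
  induction d with
  | zero =>
    intro X _ hd
    obtain ⟨U, hU, hUι, hUC⟩ := exists_affine_open_meeting_components X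
    obtain ⟨I, hI⟩ : ∃ I : X.IdealSheafData, (I.support : Set X) = (U : Set X)ᶜ :=
      ⟨Scheme.IdealSheafData.vanishingIdeal ⟨(U : Set X)ᶜ, U.isOpen.isClosed_compl⟩,
        Scheme.IdealSheafData.coe_support_vanishingIdeal _⟩
    have hi : Set.range I.subschemeι = (U : Set X)ᶜ := by rw [I.range_subschemeι, hI]
    have hZdim := topologicalKrullDim_lt_of_closed_compl U hUC I.subschemeι hi 0 hd
    have hZempty : IsEmpty I.subscheme := by
      by_contra hne
      rw [not_isEmpty_iff] at hne
      obtain ⟨z⟩ := hne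
      have : Nonempty (IrreducibleCloseds I.subscheme) :=
        ⟨⟨closure {z}, isIrreducible_singleton.closure, isClosed_closure⟩⟩
      have h0 : (0 : WithBot ℕ∞) ≤ topologicalKrullDim I.subscheme := Order.krullDim_nonneg
      exact absurd hZdim (not_lt.mpr (by exact_mod_cast h0))
    have hUuniv : (U : Set X) = Set.univ := by
      rw [← Set.compl_empty_iff, ← hi]
      exact Set.range_eq_empty _
    refine ⟨fun _ => 0, fun j => ?_, fun j => ?_⟩
    · have : {x : X | (0 : Fin (0 + 1)) ≤ j} = Set.univ := by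
        ext x; simp
      rw [this]; exact isClosed_univ
    · refine ⟨U, U.ι, inferInstance, hU, hUι, ?_⟩
      rw [Scheme.Opens.range_ι, hUuniv]
      ext x
      simp only [Set.mem_univ, Set.mem_ofPred_eq, true_iff]
      exact Fin.ext (by have := j.2; simp only [Fin.val_zero]; omega)
  | succ d ih =>
    intro X _ hd
    obtain ⟨U, hU, hUι, hUC⟩ := exists_affine_open_meeting_components X
    obtain ⟨I, hI⟩ : ∃ I : X.IdealSheafData, (I.support : Set X) = (U : Set X)ᶜ :=
      ⟨Scheme.IdealSheafData.vanishingIdeal ⟨(U : Set X)ᶜ, U.isOpen.isClosed_compl⟩,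
        Scheme.IdealSheafData.coe_support_vanishingIdeal _⟩
    have hi : Set.range I.subschemeι = (U : Set X)ᶜ := by rw [I.range_subschemeι, hI]
    have hZdim := topologicalKrullDim_lt_of_closed_compl U hUC I.subschemeι hi (d + 1) hd
    have h1 : IsLocallyNoetherian I.subscheme :=
      LocallyOfFiniteType.isLocallyNoetherian I.subschemeι
    have h2 : CompactSpace I.subscheme := QuasiCompact.compactSpace_of_compactSpace I.subschemeι
    have h3 : IsNoetherian I.subscheme := { }
    exact hasAffineStratification_succ_of_closed_compl U hU hUι I.subschemeι hi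
      (ih I.subscheme hZdim)

end Groth.Agent.Lib.Helper22.AffStrat
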