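import Mathlib
import Groth.Agent.Lib.Helper22.GenChev
import Groth.Agent.S7381
import Groth.Agent.S2120
import Groth.Agent.S0440

set_option autoImplicit false
set_option linter.style.haveILetI false
universe u
open AlgebraicGeometry CategoryTheory Limits

namespace Groth.Agent.Lib.Helper22.GenChev

theorem ker_toImage {X Y : Scheme.{u}} (f : X ⟶ Y) [QuasiCompact f] : f.toImage.ker = ⊥ := by
  refine Scheme.IdealSheafData.ext_of_iSup_eq_top (ι := Y.affineOpens)
    (fun V => ⟨f.imageι ⁻¹ᵁ V.1, V.2.preimage f.imageι⟩) ?_ ?_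
  · show ⨆ V : Y.affineOpens, f.imageι ⁻¹ᵁ V.1 = ⊤
    rw [← Scheme.Hom.preimage_iSup, iSup_affineOpens_eq_top]
    rfl
  · intro V
    rw [Scheme.Hom.ker_apply, Scheme.IdealSheafData.ideal_bot]
    exact (RingHom.injective_iff_ker_eq_bot _).mp (f.toImage_app_injective V)

theorem isFinite_toImage {X Y : Scheme.{u}} (f : X ⟶ Y) [IsFinite f] : IsFinite f.toImage := by
  have : IsFinite (f.toImage ≫ f.imageι) := by rw [f.toImage_imageι]; infer_instance
  exact IsFinite.of_comp f.toImage f.imageι

theorem surjective_toImage {X Y : Scheme.{u}} (f : X ⟶ Y) [IsFinite f] : Surjective f.toImage := by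
  haveI : IsFinite f.toImage := isFinite_toImage f
  constructor
  have hd : DenseRange f.toImage := f.toImage.denseRange
  have hcl : IsClosed (Set.range f.toImage) := f.toImage.isClosedMap.isClosed_range
  rw [← Set.range_eq_univ, ← hcl.closure_eq, hd.closure_range]

/-- Chevalley for a finite surjective schematically dominant morphism from an affine scheme onto a
qcqs scheme with a Noetherian approximation. -/
theorem isAffine_of_finite_surjective_ker {X Y : Scheme.{u}} (hX : HasApprox X)
    [CompactSpace X] [QuasiSeparatedSpace X] (f : Y ⟶ X)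
    [IsFinite f] [Surjective f] [IsAffine Y] (hker : f.ker = ⊥) : IsAffine X := by
  obtain ⟨I, _, _, _, D, c, hc, hD, hcl, ⟨e⟩⟩ := Groth.Agent.S7381.result f
  let D' : Iᵒᵖ ⥤ Scheme.{u} := D ⋙ Over.forget X
  let c' : Cone D' := (Over.forget X).mapCone c
  haveI : IsConnected Iᵒᵖ := IsCofiltered.isConnected _
  have hc' : IsLimit c' := isLimitOfPreserves (Over.forget X) hc
  haveI : ∀ {i j : Iᵒᵖ} (a : i ⟶ j), IsAffineHom (D'.map a) := fun a => by
    haveI := hcl _ _ a
    show IsAffineHom (D.map a).left
    infer_instance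
  let fs : ∀ i, D'.obj i ⟶ X := fun i => (D.obj i).hom
  haveI : ∀ i, IsFinite (fs i) := fun i => (hD i).1
  haveI : ∀ i, CompactSpace (D'.obj i) := fun i =>
    QuasiCompact.compactSpace_of_compactSpace (fs i)
  haveI : ∀ i, QuasiSeparatedSpace (D'.obj i) := fun i =>
    quasiSeparatedSpace_of_quasiSeparated (fs i)
  haveI : IsAffine c'.pt := by
    haveI : IsAffine ((Over.forget X).obj (Over.mk f)) := ‹IsAffine Y›
    exact IsAffine.of_isIso ((Over.forget X).mapIso e).hom
  obtain ⟨i, hi⟩ := Scheme.exists_isAffine_of_isLimit D' c' hc'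
  let fi : D'.obj i ⟶ X := (D.obj i).hom
  haveI : IsFinite fi := (hD i).1
  haveI : LocallyOfFinitePresentation fi := (hD i).2
  let g : Y ⟶ D'.obj i := e.inv.left ≫ (c.π.app i).left
  have hg : g ≫ fi = f := by
    show (e.inv.left ≫ (c.π.app i).left) ≫ (D.obj i).hom = f
    rw [Category.assoc, Over.w]
    exact Over.w e.inv
  haveI : Surjective fi := by
    have : Surjective (g ≫ fi) := by rw [hg]; infer_instance
    exact Surjective.of_comp g fi
  have hk : fi.ker = ⊥ := by
    have h1 : fi.ker ≤ (g ≫ fi).ker := Scheme.Hom.le_ker_comp g fi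
    rw [hg, hker] at h1
    exact le_bot_iff.mp h1
  haveI : IsAffine (D'.obj i) := hi
  exact isAffine_of_finite_fp_surjective hX fi hk

/-- **Chevalley's theorem** for finite surjective morphisms, without Noetherian hypotheses, assuming
absolute Noetherian approximation. -/
theorem isAffine_of_finite_surjective
    (happ : ∀ (S : Scheme.{u}) [CompactSpace S] [QuasiSeparatedSpace S], HasApprox S)
    {X Y : Scheme.{u}} (f : Y ⟶ X) [IsFinite f] [Surjective f] [IsAffine Y] : IsAffine X := by
  haveI : IsFinite f.toImage := isFinite_toImage f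
  haveI : Surjective f.toImage := surjective_toImage f
  have hker : f.toImage.ker = ⊥ := ker_toImage f
  haveI : CompactSpace f.image := by
    constructor
    rw [← Set.range_eq_univ.mpr f.toImage.surjective]
    exact isCompact_range f.toImage.continuous
  haveI : QuasiSeparatedSpace f.image := (Groth.Agent.S2120.result f.toImage).1 inferInstance
  have hι : Function.Surjective f.imageι := by
    intro x
    obtain ⟨y, rfl⟩ := f.surjective x
    exact ⟨f.toImage y, by rw [← Scheme.Hom.comp_apply, f.toImage_imageι]⟩
  haveI : IsAffine f.image := isAffine_of_finite_surjective_ker (happ f.image) f.toImage hker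
  exact Groth.Agent.S0440.result f.imageι hι

end Groth.Agent.Lib.Helper22.GenChev
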