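import Mathlib
import Groth.Agent.S0082

set_option autoImplicit false
set_option linter.style.haveILetI false

namespace Groth.Agent.Lib.Helper22.QAff

open AlgebraicGeometry CategoryTheory Limits TopologicalSpace

universe u

/-- A clopen subset of an affine scheme is an affine open. -/
theorem isAffineOpen_of_isClosed {Z : Scheme.{u}} [IsAffine Z] (T : Z.Opens)
    (hT : IsClosed (T : Set Z)) : IsAffineOpen T := by
  haveI : IsClosedImmersion T.ι :=
    IsClosedImmersion.of_isPreimmersion T.ι (by rw [Scheme.Opens.range_ι]; exact hT)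
  exact isAffine_of_isAffineHom T.ι

/-- The intersection of an affine open with a clopen subset is an affine open. -/
theorem IsAffineOpen.inf_of_isClosed {P : Scheme.{u}} {U : P.Opens} (hU : IsAffineOpen U)
    (T : P.Opens) (hT : IsClosed (T : Set P)) : IsAffineOpen (U ⊓ T) := by
  haveI : IsAffine U.toScheme := hU
  have h1 : IsAffineOpen (U.ι ⁻¹ᵁ T) :=
    isAffineOpen_of_isClosed _ (hT.preimage U.ι.continuous)
  have h2 := h1.image_of_isOpenImmersion U.ι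
  rwa [Scheme.Hom.image_preimage_eq_opensRange_inf, Scheme.Opens.opensRange_ι] at h2

/-- fpqc descent of affineness of an open subset. -/
theorem isAffineOpen_of_preimage {V N : Scheme.{u}} [IsAffine V] [IsAffine N] (δ : V ⟶ N)
    [Surjective δ] [Flat δ] (O : N.Opens) (h : IsAffineOpen (δ ⁻¹ᵁ O)) : IsAffineOpen O := by
  have hpb := (isPullback_morphismRestrict δ O).flip
  haveI : IsAffine (δ ⁻¹ᵁ O).toScheme := h
  have h1 : IsAffineHom (δ ⁻¹ᵁ O).ι := inferInstance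
  have hQ : (@Surjective ⊓ @Flat ⊓ @QuasiCompact : MorphismProperty Scheme.{u}) δ :=
    ⟨⟨‹_›, ‹_›⟩, inferInstance⟩
  haveI := Groth.Agent.S0082.result.{u}
  have h2 : IsAffineHom O.ι :=
    MorphismProperty.of_isPullback_of_descendsAlong (P := @IsAffineHom)
      (Q := (@Surjective ⊓ @Flat ⊓ @QuasiCompact : MorphismProperty Scheme.{u})) hpb hQ h1
  exact isAffine_of_isAffineHom O.ι

/-- Étale-local affineness of an open gives Zariski-local affineness near the image point. -/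
theorem exists_isAffineOpen_inf_of_etale {V Y : Scheme.{u}} [IsAffine V] [IsAffine Y] (δ : V ⟶ Y)
    [Etale δ] (O : Y.Opens) (h : IsAffineOpen (δ ⁻¹ᵁ O)) (v : V) :
    ∃ M : Y.Opens, δ v ∈ M ∧ IsAffineOpen M ∧ IsAffineOpen (O ⊓ M) := by
  have hopen : IsOpen (Set.range δ) := δ.isOpenMap.isOpen_range
  obtain ⟨_, ⟨_, ⟨s, rfl⟩, rfl⟩, hvs, hsr⟩ := (isBasis_basicOpen Y).exists_subset_of_mem_open
    (Set.mem_range_self v) hopen
  refine ⟨Y.basicOpen s, hvs, (isAffineOpen_top Y).basicOpen s, ?_⟩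
  set M := Y.basicOpen s with hM
  have hMa : IsAffineOpen M := (isAffineOpen_top Y).basicOpen s
  haveI : IsAffine M.toScheme := hMa
  haveI : IsAffine (δ ⁻¹ᵁ M).toScheme := hMa.preimage δ
  haveI : Surjective (δ ∣_ M) := by
    refine ⟨fun m => ?_⟩
    obtain ⟨v₁, hv₁⟩ := hsr m.2
    have hv₁M : v₁ ∈ δ ⁻¹ᵁ M := by
      change δ v₁ ∈ M
      rw [hv₁]; exact m.2
    obtain ⟨z, hz⟩ : ∃ z : (δ ⁻¹ᵁ M).toScheme, (δ ⁻¹ᵁ M).ι z = v₁ := by
      have : v₁ ∈ Set.range (δ ⁻¹ᵁ M).ι := by rw [Scheme.Opens.range_ι]; exact hv₁M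
      exact this
    refine ⟨z, ?_⟩
    apply M.ι.isOpenEmbedding.injective
    rw [← Scheme.Hom.comp_apply, morphismRestrict_ι, Scheme.Hom.comp_apply, hz]
    exact hv₁
  have hpre : IsAffineOpen ((δ ∣_ M) ⁻¹ᵁ (M.ι ⁻¹ᵁ O)) := by
    have h3 : IsAffineOpen (δ ⁻¹ᵁ M ⊓ δ ⁻¹ᵁ O) := (hMa.preimage δ).inf h
    have h4 : (δ ⁻¹ᵁ M).ι ''ᵁ ((δ ∣_ M) ⁻¹ᵁ (M.ι ⁻¹ᵁ O)) = δ ⁻¹ᵁ M ⊓ δ ⁻¹ᵁ O := by
      rw [image_morphismRestrict_preimage, Scheme.Hom.image_preimage_eq_opensRange_inf,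
        Scheme.Opens.opensRange_ι, Scheme.Hom.preimage_inf]
    rw [← h4] at h3
    exact ((δ ⁻¹ᵁ M).ι.isAffineOpen_iff_of_isOpenImmersion).mp h3
  have h5 := isAffineOpen_of_preimage (δ ∣_ M) (M.ι ⁻¹ᵁ O) hpre
  have h6 := h5.image_of_isOpenImmersion M.ι
  rwa [Scheme.Hom.image_preimage_eq_opensRange_inf, Scheme.Opens.opensRange_ι, inf_comm] at h6

end Groth.Agent.Lib.Helper22.QAff
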