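import Mathlib
import Groth.Agent.Lib.Helper22.WeightingFinite
import Groth.Agent.Lib.Helper22.QAffDescent

set_option autoImplicit false
set_option linter.style.haveILetI false
universe u
open AlgebraicGeometry CategoryTheory Limits

namespace Groth.Agent.Lib.Helper22.Weighting

open Groth.Agent.Lib.Helper7 Groth.Agent.Lib.Helper22.QAff

variable {X Y : Scheme.{u}} (f : X ⟶ Y) [LocallyQuasiFinite f] [LocallyOfFiniteType f]
  [IsSeparated f] [IsAffineHom f]

/-- **Charts for the induction on the maximal value of a fibre integral**: étale locally around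
`f x`, the fibre integral of `w` is `e + ` the fibre integral of a positive weighting on an affine
scheme quasi-finite over the (affine) chart, where `e > 0`. -/
theorem exists_chart_ft (hfin : ∀ y, (f ⁻¹' {y}).Finite) {w : X → ℤ}
    (hw : MoreMor.IsWeighting f w) (hpos : ∀ x, 0 < w x) (x : X) :
    ∃ (V : Scheme.{u}) (δ : V ⟶ Y) (_ : Etale δ) (_ : IsAffine V) (v : V) (_ : δ v = f x)
      (S : Scheme.{u}) (q : S ⟶ V) (_ : IsAffine S) (_ : LocallyQuasiFinite q)
      (_ : LocallyOfFiniteType q) (w' : S → ℤ) (_ : MoreMor.IsWeighting q w')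
      (_ : ∀ z, 0 < w' z) (e : ℤ) (_ : 0 < e),
      ∀ v₁ : V, MoreMor.fibreIntegral f w (δ v₁) = e + MoreMor.fibreIntegral q w' v₁ := by

  have hp₀ := isPiece_empty f (𝟙 Y)
  obtain ⟨n, hn⟩ : ∃ n : ℕ, deg (pullback.snd f (𝟙 Y)) (f x) = deg (Scheme.emptyTo Y) (f x) + n := by
    refine ⟨(deg (pullback.snd f (𝟙 Y)) (f x)).toNat, ?_⟩
    rw [Int.toNat_of_nonneg (deg_nonneg' _ (f x))]
    have : deg (Scheme.emptyTo Y) (f x) = 0 :=
      fibreIntegral_eq_zero_of_isEmpty _ _ _ (fun u => isEmptyElim u)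
    rw [this, zero_add]
  obtain ⟨V', γ', _, v', hv', γ, hγ, U, a, π, hp, hcover⟩ :=
    exists_piece_covering_fibre f hfin n (𝟙 Y) hp₀ (f x) hn
  have hγ' : γ = γ' := hγ.trans (Category.comp_id _)
  subst hγ'
  have := hp.isFinite
  have := hp.isOpenImmersion_lift
  obtain ⟨R, hR, hfinR, hsplit⟩ := hp.exists_compl_in_pullback f hfin
  obtain ⟨j, hj⟩ : ∃ j : U ⟶ pullback f γ, j = pullback.lift a π hp.comm := ⟨_, rfl⟩
  have hjo : IsOpenImmersion j := by rw [hj]; infer_instance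
  have hj₁ : j ≫ pullback.fst f γ = a := by rw [hj]; exact pullback.lift_fst _ _ _
  have hj₂ : j ≫ pullback.snd f γ = π := by rw [hj]; exact pullback.lift_snd _ _ _
  rw [← hj] at hR hsplit hcover
  have hbc : ∀ v₁, MoreMor.fibreIntegral (pullback.snd f γ) (w ∘ ⇑(pullback.fst f γ)) v₁ =
      MoreMor.fibreIntegral f w (γ v₁) := fun v₁ =>
    fibreIntegral_baseChange f hfin (pullback.snd f γ) (pullback.fst f γ) γ
      (IsPullback.of_hasPullback f γ) w v₁
  have hsp : ∀ v₁, MoreMor.fibreIntegral f w (γ v₁) =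
      MoreMor.fibreIntegral π (fun u => w (a u)) v₁ +
        MoreMor.fibreIntegral (R.ι ≫ pullback.snd f γ) ((w ∘ ⇑(pullback.fst f γ)) ∘ ⇑R.ι) v₁ := by
    intro v₁
    rw [← hbc, hsplit]
    congr 2
    funext u
    simp only [Function.comp_apply]
    rw [← Scheme.Hom.comp_apply, hj₁]
  have hRv : MoreMor.fibreIntegral (R.ι ≫ pullback.snd f γ)
      ((w ∘ ⇑(pullback.fst f γ)) ∘ ⇑R.ι) v' = 0 := by
    apply fibreIntegral_eq_zero_of_isEmpty
    intro z hz
    have h1 : (R.ι z) ∈ Set.range j := hcover _ hz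
    have h2 : (R.ι z) ∈ (R : Set ↥(pullback f γ)) := z.2
    rw [hR] at h2
    exact h2 h1
  obtain ⟨e, he⟩ : ∃ e : ℤ, e = MoreMor.fibreIntegral f w (f x) := ⟨_, rfl⟩
  have hepos : 0 < e := by
    have h1 := le_fibreIntegral_of_nonneg' f w (fun _ => (hpos _).le) x (hfin _)
    have h2 := hpos x
    rw [he]; linarith
  have hπv : MoreMor.fibreIntegral π (fun u => w (a u)) v' = e := by
    have := hsp v'
    rw [hRv, add_zero, hv'] at this
    rw [he]; exact this.symm
  have hlc := isLocallyConstant_fibreIntegral_of_isPiece hw hp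
  obtain ⟨N₀, hN₀o, hvN₀, hN₀⟩ := (IsLocallyConstant.iff_exists_open _).mp hlc v'
  obtain ⟨_, ⟨(N : V'.Opens), hNaff, rfl⟩, hvN, hNN₀⟩ :=
    V'.isBasis_affineOpens.exists_subset_of_mem_open hvN₀ hN₀o
  -- the chart
  obtain ⟨ρ, hρ⟩ : ∃ ρ : R.toScheme ⟶ V', ρ = R.ι ≫ pullback.snd f γ := ⟨_, rfl⟩
  rw [← hρ] at hsp hfinR hRv
  have hwP : MoreMor.IsWeighting (pullback.snd f γ) (w ∘ ⇑(pullback.fst f γ)) :=
    isWeighting_baseChange hw (IsPullback.of_hasPullback f γ)
  have hlqfP : LocallyQuasiFinite (pullback.snd f γ) := inferInstance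
  haveI : IsAffineHom (pullback.snd f γ) :=
    MorphismProperty.of_isPullback (P := @IsAffineHom) (IsPullback.of_hasPullback f γ) ‹_›
  have hwR : MoreMor.IsWeighting ρ ((w ∘ ⇑(pullback.fst f γ)) ∘ ⇑R.ι) := by
    rw [hρ]; exact isWeighting_comp_openImmersion hwP R.ι
  haveI : LocallyQuasiFinite ρ := by rw [hρ]; infer_instance
  haveI : LocallyOfFiniteType ρ := by rw [hρ]; infer_instance
  have hpb := (isPullback_morphismRestrict ρ N).flip
  have hwq := isWeighting_baseChange hwR hpb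
  haveI : IsAffine N.toScheme := hNaff
  -- affineness of the source
  have hRclosed : IsClosed (R : Set ↥(pullback f γ)) := by
    rw [hR]; exact j.isOpenEmbedding.isOpen_range.isClosed_compl
  have haff1 : IsAffineOpen ((pullback.snd f γ) ⁻¹ᵁ N ⊓ R) :=
    IsAffineOpen.inf_of_isClosed (hNaff.preimage (pullback.snd f γ)) R hRclosed
  have haff2 : IsAffineOpen (ρ ⁻¹ᵁ N) := by
    have h4 : R.ι ''ᵁ (ρ ⁻¹ᵁ N) = (pullback.snd f γ) ⁻¹ᵁ N ⊓ R := by
      rw [hρ, Scheme.Hom.comp_preimage, Scheme.Hom.image_preimage_eq_opensRange_inf,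
        Scheme.Opens.opensRange_ι, inf_comm]
    rw [← h4] at haff1
    exact (R.ι.isAffineOpen_iff_of_isOpenImmersion).mp haff1
  refine ⟨N.toScheme, N.ι ≫ γ, inferInstance, hNaff, ⟨v', hvN⟩, hv', (ρ ⁻¹ᵁ N).toScheme, ρ ∣_ N,
    haff2, inferInstance, inferInstance, _, hwq, fun z => hpos _, e, hepos, fun v₁ => ?_⟩
  rw [Scheme.Hom.comp_apply, hsp, hN₀ (N.ι v₁) (hNN₀ v₁.2), hπv]
  congr 1
  exact (fibreIntegral_baseChange ρ hfinR _ _ _ hpb _ v₁).symm

end Groth.Agent.Lib.Helper22.Weighting
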