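import Mathlib

set_option autoImplicit false
set_option linter.style.haveILetI false

namespace Groth.Agent.Lib.Helper22.QAff

open Polynomial

section Alg

variable {R C : Type*} [CommRing R] [CommRing C]

/-- The ring-level hypothesis package: `ρ : R → C`, a family `r i` of elements of `R` such that
`Spec C → Spec R` lands in `⋃ D(r i)`, is integral over each `D(r i)`, and is surjective onto
`⋃ D (r i)`. -/
structure HPack {ι : Type*} (ρ : R →+* C) (r : ι → R) : Prop where
  span : Ideal.span (Set.range (fun i => ρ (r i))) = ⊤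
  integral : ∀ i c, ∃ k : ℕ, ρ.IsIntegralElem (ρ (r i) ^ k * c)
  nil : ∀ i b, ρ b = 0 → IsNilpotent (r i * b)

/-- Lying over for a map which is integral and has nil kernel away from `r`. -/
theorem exists_prime_comap_eq (ρ : R →+* C) (r : R)
    (hint : ∀ c, ∃ k : ℕ, ρ.IsIntegralElem (ρ r ^ k * c))
    (hnil : ∀ b, ρ b = 0 → IsNilpotent (r * b))
    (p : Ideal R) [hp : p.IsPrime] (hr : r ∉ p) :
    ∃ q : Ideal C, q.IsPrime ∧ q.comap ρ = p := by
  letI : Algebra R C := ρ.toAlgebra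
  have halg : ∀ x, algebraMap R C x = ρ x := fun _ => rfl
  let C₁ := integralClosure R C
  have hker : RingHom.ker (algebraMap R C₁) ≤ p := by
    intro b hb
    have hb' : ρ b = 0 := by
      have := congrArg (C₁.val) (RingHom.mem_ker.mp hb)
      simpa [halg] using this
    obtain ⟨k, hk⟩ := hnil b hb'
    have : r * b ∈ p := hp.mem_of_pow_mem k (by rw [hk]; exact p.zero_mem)
    exact (hp.mem_or_mem this).resolve_left hr
  obtain ⟨q₁, -, hq₁, hq₁p⟩ := Ideal.exists_ideal_over_prime_of_isIntegral p (⊥ : Ideal C₁)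
    (by rwa [← RingHom.ker_eq_comap_bot])
  have hmono : ∀ (c : C) (k j : ℕ) (z : C₁), z ∈ q₁ → (z : C) = ρ r ^ k * c →
      ∃ z' ∈ q₁, (z' : C) = ρ r ^ (k + j) * c := by
    intro c k j z hz hzc
    refine ⟨algebraMap R C₁ (r ^ j) * z, q₁.mul_mem_left _ hz, ?_⟩
    rw [Subalgebra.coe_mul, hzc, Subalgebra.coe_algebraMap, halg, map_pow]
    ring
  have key : ∀ c ∈ Ideal.map ρ p, ∃ (k : ℕ), ∃ z ∈ q₁, (z : C) = ρ r ^ k * c := by
    intro c hc
    refine Submodule.span_induction ?_ ?_ ?_ ?_ hc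
    · rintro _ ⟨a, ha, rfl⟩
      refine ⟨0, algebraMap R C₁ a, ?_, ?_⟩
      · rw [← Ideal.mem_comap, hq₁p]
        exact ha
      · rw [Subalgebra.coe_algebraMap, halg, pow_zero, one_mul]
    · exact ⟨0, 0, q₁.zero_mem, by simp⟩
    · rintro x y - - ⟨k₁, z₁, hz₁, hx⟩ ⟨k₂, z₂, hz₂, hy⟩
      obtain ⟨z₁', hz₁', hx'⟩ := hmono x k₁ k₂ z₁ hz₁ hx
      obtain ⟨z₂', hz₂', hy'⟩ := hmono y k₂ k₁ z₂ hz₂ hy
      refine ⟨k₁ + k₂, z₁' + z₂', q₁.add_mem hz₁' hz₂', ?_⟩
      rw [Subalgebra.coe_add, hx', hy', add_comm k₂ k₁]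
      ring
    · rintro a x - ⟨k, z, hz, hx⟩
      obtain ⟨k', hk'⟩ := hint a
      have hk'' : ρ r ^ k' * a ∈ C₁ := hk'
      refine ⟨k' + k, ⟨_, hk''⟩ * z, q₁.mul_mem_left _ hz, ?_⟩
      rw [Subalgebra.coe_mul, hx, smul_eq_mul]
      ring
  have hdisj : Disjoint (Ideal.map ρ p : Set C) (p.primeCompl.map ρ : Submonoid C) := by
    rw [Set.disjoint_left]
    rintro _ hc ⟨t, ht, rfl⟩
    obtain ⟨k, z, hz, hzc⟩ := key _ hc
    have : z = algebraMap R C₁ (r ^ k * t) :=
      Subtype.ext (by rw [hzc, Subalgebra.coe_algebraMap, halg, map_mul, map_pow])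
    rw [this, ← Ideal.mem_comap, hq₁p] at hz
    rcases hp.mem_or_mem hz with h1 | h1
    · exact hr (hp.mem_of_pow_mem k h1)
    · exact ht h1
  obtain ⟨q, hq, hle, hdis⟩ := Ideal.exists_le_prime_disjoint _ _ hdisj
  refine ⟨q, hq, le_antisymm ?_ (Ideal.map_le_iff_le_comap.mp hle)⟩
  intro x hx
  by_contra hxp
  exact Set.disjoint_left.mp hdis hx ⟨x, hxp, rfl⟩

/-- If `ρ r ^ k * c` is integral for suitable `k`, then the localized map is integral. -/
theorem isIntegral_awayMap (ρ : R →+* C) (r : R) (R' C' : Type*) [CommRing R'] [CommRing C']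
    [Algebra R R'] [Algebra C C'] [IsLocalization.Away r R'] [IsLocalization.Away (ρ r) C']
    (hint : ∀ c, ∃ k : ℕ, ρ.IsIntegralElem (ρ r ^ k * c)) :
    (IsLocalization.Away.map R' C' ρ r).IsIntegral := by
  intro x
  obtain ⟨φ, hφ⟩ : ∃ φ, φ = IsLocalization.Away.map R' C' ρ r := ⟨_, rfl⟩
  rw [← hφ]
  have hcomm : ∀ a, φ (algebraMap R R' a) = algebraMap C C' (ρ a) := fun a => by
    rw [hφ]; exact IsLocalization.map_eq _ a
  obtain ⟨n, c, hc⟩ := IsLocalization.Away.surj (ρ r) x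
  obtain ⟨k, p, hp, hpe⟩ := hint c
  have hint' : φ.IsIntegralElem (algebraMap C C' (ρ r ^ k * c)) := by
    refine ⟨p.map (algebraMap R R'), hp.map _, ?_⟩
    rw [Polynomial.eval₂_map]
    have : φ.comp (algebraMap R R') = (algebraMap C C').comp ρ := RingHom.ext hcomm
    rw [this, ← Polynomial.hom_eval₂, hpe, map_zero]
  obtain ⟨u, hu⟩ := IsLocalization.Away.algebraMap_isUnit (S := R') r
  have h1 : φ (u : R') = algebraMap C C' (ρ r) := by rw [hu, hcomm]
  have h2 : algebraMap C C' (ρ r) * φ ((u⁻¹ : R'ˣ) : R') = 1 := by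
    rw [← h1, ← map_mul]; simp
  have hx : x = algebraMap C C' (ρ r ^ k * c) * φ (((u⁻¹ : R'ˣ) : R') ^ (n + k)) := by
    have h3 : (algebraMap C C' (ρ r) * φ ((u⁻¹ : R'ˣ) : R')) ^ (n + k) = 1 := by
      rw [h2, one_pow]
    calc x = x * (algebraMap C C' (ρ r) * φ ((u⁻¹ : R'ˣ) : R')) ^ (n + k) := by
          rw [h3, mul_one]
      _ = algebraMap C C' (ρ r) ^ k * (x * algebraMap C C' (ρ r) ^ n) *
          φ ((u⁻¹ : R'ˣ) : R') ^ (n + k) := by rw [mul_pow, pow_add]; ring
      _ = _ := by rw [hc, map_mul, map_pow, map_pow]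
  rw [hx]
  exact RingHom.IsIntegralElem.mul _ hint' (φ.isIntegralElem_map)

/-- Conversely: integrality of the localized map gives integrality of `ρ r ^ k * c`. -/
theorem exists_pow_mul_isIntegralElem (ρ : R →+* C) (r : R) (R' C' : Type*) [CommRing R']
    [CommRing C'] [Algebra R R'] [Algebra C C'] [IsLocalization.Away r R']
    [IsLocalization.Away (ρ r) C']
    (hφ : (IsLocalization.Away.map R' C' ρ r).IsIntegral) (c : C) :
    ∃ k : ℕ, ρ.IsIntegralElem (ρ r ^ k * c) := by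
  letI : Algebra R C := ρ.toAlgebra
  letI : Algebra R' C' := (IsLocalization.Away.map R' C' ρ r).toAlgebra
  letI : Algebra R C' := ((algebraMap C C').comp ρ).toAlgebra
  haveI : IsScalarTower R R' C' := .of_algebraMap_eq' (by
    ext a
    change algebraMap C C' (ρ a) = IsLocalization.Away.map R' C' ρ r (algebraMap R R' a)
    rw [IsLocalization.Away.map, IsLocalization.map_eq])
  haveI : IsScalarTower R C C' := .of_algebraMap_eq' rfl
  have hx : IsIntegral R' (algebraMap C C' c) := hφ _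
  obtain ⟨⟨_, n, rfl⟩, p, hp, hp'⟩ :=
    hx.exists_multiple_integral_of_isLocalization (.powers r)
  rw [IsScalarTower.algebraMap_eq R C, Submonoid.smul_def, Algebra.smul_def,
    IsScalarTower.algebraMap_apply R C, ← map_mul, ← hom_eval₂,
    IsLocalization.map_eq_zero_iff (.powers (ρ r))] at hp'
  obtain ⟨⟨x, m, (rfl : ρ r ^ m = x)⟩, e⟩ := hp'
  by_cases hp1 : 1 ≤ p.natDegree; swap
  · obtain rfl : p = 1 := eq_one_of_monic_natDegree_zero hp (by lia)
    refine ⟨m, ?_⟩
    have : ρ r ^ m = 0 := by simpa using e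
    rw [this, zero_mul]; exact ρ.isIntegralElem_zero
  refine ⟨m + n, p.scaleRoots (r ^ m), (monic_scaleRoots_iff _).mpr hp, ?_⟩
  change eval₂ (algebraMap R C) (algebraMap R C r ^ (m + n) * c) _ = 0
  have := p.scaleRoots_eval₂_mul (algebraMap R C) (r ^ n • c) (r ^ m)
  simp only [← Algebra.smul_def, ← map_pow] at e
  have hval : algebraMap R C r ^ (m + n) * c = algebraMap R C (r ^ m) * r ^ n • c := by
    simp only [Algebra.smul_def, map_pow, pow_add]; ring
  rw [hval, this, ← tsub_add_cancel_of_le hp1, pow_succ, mul_assoc]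
  have e'' : algebraMap R C (r ^ m) * eval₂ (algebraMap R C) (r ^ n • c) p = 0 := e
  rw [e'', mul_zero]

/-- Transport of the package along isomorphisms. -/
theorem HPack.of_equiv {ι : Type*} {R' C' : Type*} [CommRing R'] [CommRing C'] {ρ : R →+* C}
    {r : ι → R} (h : HPack ρ r) (eR : R' ≃+* R) (eC : C ≃+* C') (ρ' : R' →+* C')
    (hρ' : ∀ x, ρ' x = eC (ρ (eR x))) :
    HPack ρ' (fun i => eR.symm (r i)) where
  span := by
    have : Set.range (fun i => ρ' (eR.symm (r i))) =
        (eC : C →+* C') '' Set.range (fun i => ρ (r i)) := by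
      ext y; simp [hρ']
    rw [this, ← Ideal.map_span (eC : C →+* C'), h.span, Ideal.map_top]
  integral := fun i c' => by
    obtain ⟨k, p, hp, hpe⟩ := h.integral i (eC.symm c')
    refine ⟨k, p.map (eR.symm : R →+* R'), hp.map _, ?_⟩
    rw [eval₂_map]
    have hcomp : ρ'.comp (eR.symm : R →+* R') = (eC : C →+* C').comp ρ := by
      ext x; simp [hρ']
    have hval : ρ' (eR.symm (r i)) ^ k * c' = (eC : C →+* C') (ρ (r i) ^ k * eC.symm c') := by
      simp [hρ']
    rw [hcomp, hval, ← hom_eval₂, hpe, map_zero]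
  nil := fun i b' hb' => by
    have hb : ρ (eR b') = 0 := by
      apply eC.injective
      rw [← hρ', hb', map_zero]
    have := (h.nil i (eR b') hb).map (eR.symm : R →+* R')
    simpa using this

end Alg

section Approx

universe u

variable {R C : Type u} [CommRing R] [CommRing C]

/-- Noetherian approximation of the package. -/
theorem HPack.exists_noetherian_model {ι : Type*} [Finite ι] {ρ : R →+* C} {r : ι → R}
    (h : HPack ρ r) :
    ∃ (R₀ C₀ : Type u) (_ : CommRing R₀) (_ : CommRing C₀) (j : R₀ →+* R) (ρ₀ : R₀ →+* C₀)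
      (r₀ : ι → R₀), IsNoetherianRing R₀ ∧ ρ₀.FiniteType ∧ (∀ i, j (r₀ i) = r i) ∧
        HPack ρ₀ r₀ := by
  cases nonempty_fintype ι
  obtain ⟨c, hc⟩ := (Ideal.mem_span_range_iff_exists_fun (R := C)).mp
    (h.span ▸ Submodule.mem_top : (1 : C) ∈ Ideal.span (Set.range fun i => ρ (r i)))
  choose k p hp hpe using fun (i : ι) (i' : ι) => h.integral i (c i')
  let S : Set R := Set.range r ∪ ⋃ i, ⋃ i', ((p i i').coeffs : Set R)
  have hS : S.Finite := (Set.finite_range r).union
    (Set.finite_iUnion fun i => Set.finite_iUnion fun i' => Finset.finite_toSet _)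
  let R₀ : Subalgebra ℤ R := Algebra.adjoin ℤ S
  have hfg : R₀.FG := by
    show (Algebra.adjoin ℤ S).FG
    rw [← hS.coe_toFinset]
    exact Subalgebra.fg_adjoin_finset _
  haveI : Algebra.FiniteType ℤ R₀ := (Subalgebra.fg_iff_finiteType R₀).mp hfg
  have hnoeth : IsNoetherianRing R₀ := Algebra.FiniteType.isNoetherianRing ℤ R₀
  let j : R₀ →+* R := R₀.val.toRingHom
  have hj : Function.Injective j := Subtype.val_injective
  let r₀ : ι → R₀ := fun i => ⟨r i, Algebra.subset_adjoin (Or.inl ⟨i, rfl⟩)⟩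
  -- lift the polynomials
  have hlift : ∀ i i', ∃ q : R₀[X], q.map j = p i i' ∧ q.Monic := by
    intro i i'
    have : p i i' ∈ Polynomial.lifts j := by
      rw [Polynomial.lifts_iff_coeffs_subset_range]
      intro a ha
      exact ⟨⟨a, Algebra.subset_adjoin (Or.inr (Set.mem_iUnion.mpr ⟨i, Set.mem_iUnion.mpr
        ⟨i', ha⟩⟩))⟩, rfl⟩
    obtain ⟨q, hq, -, hqm⟩ := Polynomial.lifts_and_natDegree_eq_and_monic this (hp i i')
    exact ⟨q, hq, hqm⟩
  choose q hq hqm using hlift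
  letI : Algebra R₀ C := (ρ.comp j).toAlgebra
  have halg : ∀ x : R₀, algebraMap R₀ C x = ρ (x : R) := fun _ => rfl
  let C₀ : Subalgebra R₀ C := Algebra.adjoin R₀ (Set.range c)
  have hfg' : C₀.FG := by
    show (Algebra.adjoin R₀ (Set.range c)).FG
    rw [← (Set.finite_range c).coe_toFinset]
    exact Subalgebra.fg_adjoin_finset _
  haveI : Algebra.FiniteType R₀ C₀ := (Subalgebra.fg_iff_finiteType C₀).mp hfg'
  let c₀ : ι → C₀ := fun i => ⟨c i, Algebra.subset_adjoin ⟨i, rfl⟩⟩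
  refine ⟨R₀, C₀, inferInstance, inferInstance, j, algebraMap R₀ C₀, r₀, hnoeth,
    RingHom.finiteType_algebraMap.mpr inferInstance, fun i => rfl, ?_, ?_, ?_⟩
  · -- span
    rw [Ideal.eq_top_iff_one, Ideal.mem_span_range_iff_exists_fun]
    refine ⟨c₀, Subtype.ext ?_⟩
    simp only [AddSubmonoidClass.coe_finsetSum, Subalgebra.coe_mul, Subalgebra.coe_one]
    exact hc
  · -- integral
    intro i x
    have key : ∀ y ∈ C₀, ∃ n : ℕ, IsIntegral R₀ (ρ (r i) ^ n * y) := by
      intro y hy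
      have hpow : ∀ n : ℕ, IsIntegral R₀ (ρ (r i) ^ n) := fun n => by
        have : ρ (r i) ^ n = algebraMap R₀ C (r₀ i ^ n) := by simp [halg, r₀]
        rw [this]; exact isIntegral_algebraMap
      refine Algebra.adjoin_induction ?_ ?_ ?_ ?_ hy
      · rintro _ ⟨i', rfl⟩
        refine ⟨k i i', q i i', hqm i i', ?_⟩
        have : algebraMap R₀ C = ρ.comp j := rfl
        rw [this, ← Polynomial.eval₂_map, hq]
        exact hpe i i'
      · intro a
        exact ⟨0, by simpa using isIntegral_algebraMap⟩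
      · rintro y z - - ⟨n₁, h₁⟩ ⟨n₂, h₂⟩
        refine ⟨n₁ + n₂, ?_⟩
        have : ρ (r i) ^ (n₁ + n₂) * (y + z) =
            ρ (r i) ^ n₂ * (ρ (r i) ^ n₁ * y) + ρ (r i) ^ n₁ * (ρ (r i) ^ n₂ * z) := by ring
        rw [this]
        exact ((hpow n₂).mul h₁).add ((hpow n₁).mul h₂)
      · rintro y z - - ⟨n₁, h₁⟩ ⟨n₂, h₂⟩
        refine ⟨n₁ + n₂, ?_⟩
        have : ρ (r i) ^ (n₁ + n₂) * (y * z) =
            (ρ (r i) ^ n₁ * y) * (ρ (r i) ^ n₂ * z) := by ring
        rw [this]
        exact h₁.mul h₂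
    obtain ⟨n, hn⟩ := key x x.2
    refine ⟨n, ?_⟩
    have : IsIntegral R₀ (algebraMap R₀ C₀ (r₀ i) ^ n * x) := by
      rw [← isIntegral_algHom_iff C₀.val Subtype.val_injective]
      simpa [halg, r₀] using hn
    exact this
  · -- nil
    intro i b hb
    have hb' : ρ (b : R) = 0 := by
      have := congrArg (C₀.val) hb
      simpa [halg] using this
    have := h.nil i b hb'
    exact (IsNilpotent.map_iff hj).mp (by simpa [j, r₀] using this)

end Approx

end Groth.Agent.Lib.Helper22.QAff
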