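import Mathlib
import Groth.Agent.Lib.Helper22.QAffAlg
import Groth.Agent.S0021

set_option autoImplicit false
set_option linter.style.haveILetI false

namespace Groth.Agent.Lib.Helper22.QAff

open AlgebraicGeometry CategoryTheory Limits TopologicalSpace

universe u

set_option backward.isDefEq.respectTransparency false in
/-- Integrality of a morphism can be checked on an affine cover of the target. -/
theorem isIntegralHom_of_cover {W Z : Scheme.{u}} (π : W ⟶ Z) {ι : Type*} (U : ι → Z.Opens)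
    (hU : ⨆ i, U i = ⊤) (hUa : ∀ i, IsAffineOpen (U i)) (hWa : ∀ i, IsAffineOpen (π ⁻¹ᵁ U i))
    (hint : ∀ i, (π.app (U i)).hom.IsIntegral) : IsIntegralHom π := by
  rw [HasAffineProperty.iff_of_iSup_eq_top (P := @IsIntegralHom) (fun i => ⟨U i, hUa i⟩) hU]
  intro i
  refine ⟨hWa i, ?_⟩
  change (CommRingCat.Hom.hom ((π ∣_ U i).appTop)).IsIntegral
  rw [morphismRestrict_appTop, CommRingCat.hom_comp,
    RingHom.isIntegral_respectsIso.cancel_right_isIso]
  change (Scheme.Hom.app π ((U i).ι ''ᵁ ⊤)).hom.IsIntegral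
  rw [Scheme.Opens.ι_image_top]
  exact hint i

/-- Points of an affine scheme: lifting a point along `g` from lying-over at the ring level. -/
theorem exists_map_eq_of_exists_prime {Y W : Scheme.{u}} [IsAffine Y] [IsAffine W] (g : W ⟶ Y)
    (y : Y)
    (h : ∃ q : Ideal Γ(W, ⊤), q.IsPrime ∧ q.comap g.appTop.hom = (Y.toSpecΓ y).asIdeal) :
    ∃ w : W, g w = y := by
  obtain ⟨q, hq, hqy⟩ := h
  obtain ⟨w, hw⟩ := (W.isoSpec.hom.homeomorph).surjective ⟨q, hq⟩
  refine ⟨w, ?_⟩
  have hinj : Function.Injective Y.toSpecΓ := (Y.isoSpec.hom.homeomorph).injective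
  apply hinj
  have hnat := Scheme.toSpecΓ_naturality g
  have : Y.toSpecΓ (g w) = (Spec.map g.appTop) (W.toSpecΓ w) := by
    rw [← Scheme.Hom.comp_apply, hnat, Scheme.Hom.comp_apply]
  rw [this]
  have hw' : W.toSpecΓ w = ⟨q, hq⟩ := hw
  rw [hw']
  exact PrimeSpectrum.ext hqy

theorem mem_basicOpen_iff_notMem_toSpecΓ {Y : Scheme.{u}} (r : Γ(Y, ⊤)) (y : Y) :
    y ∈ Y.basicOpen r ↔ r ∉ (Y.toSpecΓ y).asIdeal := by
  rw [← Scheme.toSpecΓ_preimage_basicOpen]
  rfl

theorem isNoetherian_opens {Y : Scheme.{u}} [IsNoetherian Y] (O : Y.Opens) :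
    IsNoetherian O.toScheme := by
  haveI : CompactSpace O.toScheme :=
    isCompact_iff_compactSpace.mp (NoetherianSpace.isCompact (O : Set Y))
  exact { }

set_option backward.isDefEq.respectTransparency false in
/-- Integrality of the sections map over a basic open from the package. -/
theorem isIntegral_app_basicOpen {Y W : Scheme.{u}} [IsAffine Y] [IsAffine W] (g : W ⟶ Y)
    (r : Γ(Y, ⊤)) (hint : ∀ c, ∃ k : ℕ, g.appTop.hom.IsIntegralElem (g.appTop.hom r ^ k * c)) :
    (g.app (Y.basicOpen r)).hom.IsIntegral := by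
  rw [(isAffineOpen_top Y).app_basicOpen_eq_away_map g (isAffineOpen_top W) r,
    CommRingCat.hom_comp, RingHom.isIntegral_respectsIso.cancel_right_isIso,
    CommRingCat.hom_ofHom]
  refine @isIntegral_awayMap _ _ _ _ _ _ _ _ _ _ _ _ ?_ ?_ hint

set_option backward.isDefEq.respectTransparency false in
/-- Conversely. -/
theorem exists_pow_mul_isIntegralElem_of_app_basicOpen {Y W : Scheme.{u}} [IsAffine Y]
    [IsAffine W] (g : W ⟶ Y) (r : Γ(Y, ⊤)) (hint : (g.app (Y.basicOpen r)).hom.IsIntegral)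
    (c : Γ(W, ⊤)) : ∃ k : ℕ, g.appTop.hom.IsIntegralElem (g.appTop.hom r ^ k * c) := by
  rw [(isAffineOpen_top Y).app_basicOpen_eq_away_map g (isAffineOpen_top W) r,
    CommRingCat.hom_comp, RingHom.isIntegral_respectsIso.cancel_right_isIso,
    CommRingCat.hom_ofHom] at hint
  refine @exists_pow_mul_isIntegralElem _ _ _ _ _ _ _ _ _ _ _ _ ?_ ?_ hint c
  · exact (isAffineOpen_top Y).isLocalization_basicOpen r
  · exact (isAffineOpen_top W).isLocalization_basicOpen _

set_option backward.isDefEq.respectTransparency false in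
/-- **Chevalley for quasi-affine opens, Noetherian case, in package form.** -/
theorem isAffineOpen_iSup_basicOpen_of_isNoetherian {Y W : Scheme.{u}} [IsAffine Y] [IsAffine W]
    [IsNoetherian Y] (g : W ⟶ Y) [LocallyOfFiniteType g] {ι : Type*} [Finite ι]
    (r : ι → Γ(Y, ⊤)) (h : HPack g.appTop.hom r) : IsAffineOpen (⨆ i, Y.basicOpen (r i)) := by
  obtain ⟨O, hO⟩ : ∃ O : Y.Opens, O = ⨆ i, Y.basicOpen (r i) := ⟨_, rfl⟩
  rw [← hO]
  have hle : ∀ i, Y.basicOpen (r i) ≤ O := fun i => hO ▸ le_iSup (fun i => Y.basicOpen (r i)) i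
  have hpreD : ∀ i, g ⁻¹ᵁ Y.basicOpen (r i) = W.basicOpen (g.appTop.hom (r i)) := fun i =>
    Scheme.preimage_basicOpen g (r i)
  have hpre : g ⁻¹ᵁ O = ⊤ := by
    rw [hO, Scheme.Hom.preimage_iSup]
    simp_rw [hpreD]
    have := ((isAffineOpen_top W).iSup_basicOpen_eq_self_iff
      (s := Set.range fun i => g.appTop.hom (r i))).mpr h.span
    exact (iSup_range' (fun c => W.basicOpen c) (fun i => g.appTop.hom (r i))).symm.trans this
  have hrange : Set.range g ⊆ Set.range O.ι := by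
    rw [Scheme.Opens.range_ι]
    rintro _ ⟨w, rfl⟩
    exact (hpre ▸ trivial : w ∈ g ⁻¹ᵁ O)
  obtain ⟨π, hπ⟩ : ∃ π : W ⟶ O.toScheme, π ≫ O.ι = g :=
    ⟨IsOpenImmersion.lift O.ι g hrange, IsOpenImmersion.lift_fac _ _ _⟩
  subst hπ
  haveI : LocallyOfFiniteType π := locallyOfFiniteType_of_comp π O.ι
  -- integrality
  haveI : IsIntegralHom π := by
    refine isIntegralHom_of_cover π (fun i => O.ι ⁻¹ᵁ Y.basicOpen (r i)) ?_ ?_ ?_ ?_
    · rw [← Scheme.Hom.preimage_iSup, ← hO]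
      exact Scheme.Opens.ι_preimage_self O
    · intro i
      exact ((isAffineOpen_top Y).basicOpen (r i)).preimage_of_isOpenImmersion O.ι
        (by rw [Scheme.Opens.opensRange_ι]; exact hle i)
    · intro i
      have : π ⁻¹ᵁ O.ι ⁻¹ᵁ Y.basicOpen (r i) = W.basicOpen ((π ≫ O.ι).appTop.hom (r i)) :=
        hpreD i
      rw [this]
      exact (isAffineOpen_top W).basicOpen _
    · intro i
      have hint := isIntegral_app_basicOpen (π ≫ O.ι) (r i) (h.integral i)
      rw [Scheme.Hom.comp_app, CommRingCat.hom_comp] at hint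
      haveI : IsIso (O.ι.app (Y.basicOpen (r i))) :=
        Scheme.Hom.isIso_app O.ι _ (by rw [Scheme.Opens.opensRange_ι]; exact hle i)
      exact (RingHom.isIntegral_respectsIso.cancel_left_isIso _ _).mp hint
  haveI : IsFinite π := (IsFinite.iff_isIntegralHom_and_locallyOfFiniteType π).mpr ⟨‹_›, ‹_›⟩
  haveI : Surjective π := by
    refine ⟨fun z => ?_⟩
    have hz : z.1 ∈ ⨆ i, Y.basicOpen (r i) := hO ▸ z.2
    obtain ⟨i, hi⟩ := Opens.mem_iSup.mp hz
    rw [mem_basicOpen_iff_notMem_toSpecΓ] at hi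
    haveI := (Y.toSpecΓ z.1).isPrime
    obtain ⟨q, hq, hqc⟩ := exists_prime_comap_eq (π ≫ O.ι).appTop.hom (r i) (h.integral i)
      (h.nil i) (Y.toSpecΓ z.1).asIdeal hi
    obtain ⟨w, hw⟩ := exists_map_eq_of_exists_prime (π ≫ O.ι) z.1 ⟨q, hq, hqc⟩
    refine ⟨w, ?_⟩
    apply O.ι.isOpenEmbedding.injective
    rw [← Scheme.Hom.comp_apply, hw]
    rfl
  haveI := isNoetherian_opens O
  exact Groth.Agent.S0021.result π

/-- **Chevalley for quasi-affine opens in package form** (no Noetherian hypothesis). -/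
theorem isAffineOpen_iSup_basicOpen {Y W : Scheme.{u}} [IsAffine Y] [IsAffine W] (g : W ⟶ Y)
    {ι : Type*} [Finite ι] (r : ι → Γ(Y, ⊤)) (h : HPack g.appTop.hom r) :
    IsAffineOpen (⨆ i, Y.basicOpen (r i)) := by
  obtain ⟨R₀, C₀, _, _, j, ρ₀, r₀, hnoeth, hft, hjr, h₀⟩ := h.exists_noetherian_model
  obtain ⟨g₀, hg₀⟩ : ∃ g₀ : Spec (CommRingCat.of C₀) ⟶ Spec (CommRingCat.of R₀),
    g₀ = Spec.map (CommRingCat.ofHom ρ₀) := ⟨_, rfl⟩
  haveI : LocallyOfFiniteType g₀ := by
    rw [hg₀]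
    exact (HasRingHomProperty.Spec_iff (P := @LocallyOfFiniteType)).mpr hft
  let eR : Γ(Spec (CommRingCat.of R₀), ⊤) ≃+* R₀ :=
    (Scheme.ΓSpecIso (CommRingCat.of R₀)).commRingCatIsoToRingEquiv
  let eC : C₀ ≃+* Γ(Spec (CommRingCat.of C₀), ⊤) :=
    (Scheme.ΓSpecIso (CommRingCat.of C₀)).symm.commRingCatIsoToRingEquiv
  have hcomm : ∀ x, g₀.appTop.hom x = eC (ρ₀ (eR x)) := by
    intro x
    have hnat := Scheme.ΓSpecIso_naturality (CommRingCat.ofHom ρ₀)
    rw [← hg₀] at hnat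
    have h1 : g₀.appTop = (Scheme.ΓSpecIso (CommRingCat.of R₀)).hom ≫ CommRingCat.ofHom ρ₀ ≫
        (Scheme.ΓSpecIso (CommRingCat.of C₀)).inv := by
      rw [← Category.assoc, ← hnat, Category.assoc, Iso.hom_inv_id, Category.comp_id]
    rw [h1]
    rfl
  have h₀' : HPack g₀.appTop.hom (fun i => eR.symm (r₀ i)) := h₀.of_equiv eR eC _ hcomm
  haveI : IsNoetherian (Spec (CommRingCat.of R₀)) := inferInstance
  have haff := isAffineOpen_iSup_basicOpen_of_isNoetherian g₀ _ h₀'
  let φ : Y ⟶ Spec (CommRingCat.of R₀) := Y.toSpecΓ ≫ Spec.map (CommRingCat.ofHom j)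
  have hφ : ∀ x, φ.appTop.hom x = j (eR x) := by
    intro x
    have hnat := Scheme.ΓSpecIso_naturality (CommRingCat.ofHom j)
    have h1 : φ.appTop = (Scheme.ΓSpecIso (CommRingCat.of R₀)).hom ≫ CommRingCat.ofHom j := by
      rw [← hnat]
      simp only [φ, Scheme.Hom.comp_appTop, Scheme.toSpecΓ_appTop]
      rfl
    rw [h1]
    rfl
  have hpre := haff.preimage φ
  rw [Scheme.Hom.preimage_iSup] at hpre
  have heq : ∀ i, φ ⁻¹ᵁ (Spec (CommRingCat.of R₀)).basicOpen (eR.symm (r₀ i)) =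
      Y.basicOpen (r i) := by
    intro i
    rw [Scheme.preimage_basicOpen]
    congr 1
    change φ.appTop.hom (eR.symm (r₀ i)) = r i
    rw [hφ, RingEquiv.apply_symm_apply, hjr]
  simp_rw [heq] at hpre
  exact hpre

set_option backward.isDefEq.respectTransparency false in
/-- **Chevalley's theorem for quasi-affine opens**: if `Y` is affine, `O` is an open of `Y` and
`π : W ⟶ O` is integral and surjective with `W` affine, then `O` is affine. -/
theorem isAffineOpen_of_integral_surjective {Y W : Scheme.{u}} [IsAffine Y] [IsAffine W]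
    (O : Y.Opens) (π : W ⟶ O.toScheme) [IsIntegralHom π] [Surjective π] : IsAffineOpen O := by
  have hrange : Set.range (π ≫ O.ι) = (O : Set Y) := by
    rw [Scheme.Hom.comp_base, TopCat.coe_comp, Set.range_comp, π.surjective.range_eq,
      Set.image_univ, Scheme.Opens.range_ι]
  have hcomp : IsCompact (O : Set Y) := by
    rw [← hrange]; exact isCompact_range (π ≫ O.ι).continuous
  obtain ⟨s, hs, hOs⟩ := (Opens.IsBasis.isCompact_open_iff_eq_finite_iUnion
    (Y.basicOpen : Γ(Y, ⊤) → Y.Opens) (isBasis_basicOpen Y)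
    (fun r => ((isAffineOpen_top Y).basicOpen r).isCompact) (O : Set Y)).mp ⟨hcomp, O.2⟩
  haveI : Finite s := hs.to_subtype
  have hO : O = ⨆ i : s, Y.basicOpen (i : Γ(Y, ⊤)) := by
    apply Opens.ext
    rw [hOs, Opens.coe_iSup, Set.biUnion_eq_iUnion]
  have hle : ∀ i : s, Y.basicOpen (i : Γ(Y, ⊤)) ≤ O := fun i =>
    hO ▸ le_iSup (fun i : s => Y.basicOpen (i : Γ(Y, ⊤))) i
  have hpack : HPack (π ≫ O.ι).appTop.hom (fun i : s => (i : Γ(Y, ⊤))) := by
    refine ⟨?_, ?_, ?_⟩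
    · -- span
      have hpre : (π ≫ O.ι) ⁻¹ᵁ (⨆ i : s, Y.basicOpen (i : Γ(Y, ⊤))) = ⊤ := by
        rw [← hO, Scheme.Hom.comp_preimage, Scheme.Opens.ι_preimage_self,
          Scheme.Hom.preimage_top]
      rw [Scheme.Hom.preimage_iSup] at hpre
      simp_rw [Scheme.preimage_basicOpen] at hpre
      rw [← (isAffineOpen_top W).iSup_basicOpen_eq_self_iff]
      exact (iSup_range' (fun c => W.basicOpen c)
        (fun i : s => (π ≫ O.ι).appTop.hom (i : Γ(Y, ⊤)))).trans hpre
    · -- integral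
      intro i c
      refine exists_pow_mul_isIntegralElem_of_app_basicOpen (π ≫ O.ι) (i : Γ(Y, ⊤)) ?_ c
      rw [Scheme.Hom.comp_app, CommRingCat.hom_comp]
      haveI : IsIso (O.ι.app (Y.basicOpen (i : Γ(Y, ⊤)))) :=
        Scheme.Hom.isIso_app O.ι _ (by rw [Scheme.Opens.opensRange_ι]; exact hle i)
      rw [RingHom.isIntegral_respectsIso.cancel_left_isIso]
      exact IsIntegralHom.isIntegral_app π _
        (((isAffineOpen_top Y).basicOpen _).preimage_of_isOpenImmersion O.ι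
          (by rw [Scheme.Opens.opensRange_ι]; exact hle i))
    · -- nil
      intro i b hb
      rw [Scheme.isNilpotent_iff_basicOpen_eq_bot, Scheme.basicOpen_mul, eq_bot_iff]
      rintro y ⟨hy₁, hy₂⟩
      have hyO : y ∈ (O : Set Y) := hle i hy₁
      rw [← hrange] at hyO
      obtain ⟨w, rfl⟩ := hyO
      have hw : w ∈ (π ≫ O.ι) ⁻¹ᵁ Y.basicOpen b := hy₂
      rw [Scheme.preimage_basicOpen] at hw
      have hb' : (π ≫ O.ι).app ⊤ b = 0 := hb
      rw [hb', Scheme.basicOpen_zero] at hw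
      exact hw
  rw [hO]
  exact isAffineOpen_iSup_basicOpen (π ≫ O.ι) _ hpack

end Groth.Agent.Lib.Helper22.QAff
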