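import Mathlib
import Groth.Prelude.Def_MoreMor
import Groth.Agent.Lib.Helper22.QAffMainFT
import Groth.Agent.Lib.Helper22.GenChevFin

set_option autoImplicit false
set_option linter.style.haveILetI false
universe u
open AlgebraicGeometry CategoryTheory Limits

namespace Groth.Agent.Lib.Helper22.Weighting

/-- Gluing an affine stratification of a closed subscheme with an affine open complement whose
inclusion is affine. -/
theorem hasAffineStratification_succ {Y Y' : Scheme.{u}} (O : Y.Opens) (hO : IsAffineOpen O)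
    (hOι : IsAffineHom O.ι) (i : Y' ⟶ Y) [IsClosedImmersion i]
    (hrange : Set.range i = ((O : Set Y))ᶜ) (m : ℕ) (h : MoreMor.HasAffineStratification Y' m) :
    MoreMor.HasAffineStratification Y (m + 1) := by
  classical
  obtain ⟨s', hs'cl, hs'⟩ := h
  have hex : ∀ y : Y, y ∉ O → ∃ y' : Y', i y' = y := fun y hy => by
    have : y ∈ Set.range i := by rw [hrange]; exact hy
    exact this
  have hinj : Function.Injective i := i.isClosedEmbedding.injective
  let s : Y → Fin (m + 1 + 1) := fun y =>
    if hy : y ∈ O then Fin.last (m + 1) else Fin.castSucc (s' (hex y hy).choose)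
  have hnot : ∀ y', i y' ∉ O := fun y' => by
    have : i y' ∈ Set.range i := ⟨y', rfl⟩
    rw [hrange] at this; exact this
  have hs_i : ∀ y', s (i y') = Fin.castSucc (s' y') := by
    intro y'
    have hy := hnot y'
    simp only [s, dif_neg hy]
    congr 2
    exact hinj (hex _ hy).choose_spec
  have hs_O : ∀ y ∈ O, s y = Fin.last (m + 1) := fun y hy => by simp only [s, dif_pos hy]
  refine ⟨s, ?_, ?_⟩
  · intro j
    refine Fin.lastCases ?_ (fun j' => ?_) j
    · convert isClosed_univ
      ext y
      simp [Fin.le_last]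
    · have : {y : Y | s y ≤ Fin.castSucc j'} = i '' {y' | s' y' ≤ j'} := by
        ext y
        constructor
        · intro hy
          by_cases hyO : y ∈ O
          · rw [Set.mem_ofPred_eq, hs_O y hyO] at hy
            exact absurd (lt_of_le_of_lt hy (Fin.castSucc_lt_last j')) (lt_irrefl _)
          · obtain ⟨y', rfl⟩ := hex y hyO
            rw [Set.mem_ofPred_eq, hs_i, Fin.castSucc_le_castSucc_iff] at hy
            exact ⟨y', hy, rfl⟩
        · rintro ⟨y', hy', rfl⟩
          rw [Set.mem_ofPred_eq, hs_i, Fin.castSucc_le_castSucc_iff]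
          exact hy'
      rw [this]
      exact i.isClosedEmbedding.isClosedMap _ (hs'cl j')
  · intro j
    refine Fin.lastCases ?_ (fun j' => ?_) j
    · refine ⟨O.toScheme, O.ι, inferInstance, hO, hOι, ?_⟩
      rw [Scheme.Opens.range_ι]
      ext y
      constructor
      · intro hy
        exact hs_O y hy
      · intro hy
        by_contra hyO
        obtain ⟨y', rfl⟩ := hex y hyO
        rw [Set.mem_ofPred_eq, hs_i] at hy
        exact (Fin.castSucc_lt_last _).ne hy
    · obtain ⟨Z, ι, hι1, hι2, hι3, hι4⟩ := hs' j'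
      refine ⟨Z, ι ≫ i, inferInstance, hι2, inferInstance, ?_⟩
      rw [Scheme.Hom.comp_base, TopCat.coe_comp, Set.range_comp, hι4]
      ext y
      constructor
      · rintro ⟨y', hy', rfl⟩
        rw [Set.mem_ofPred_eq, hs_i]
        exact congrArg _ hy'
      · intro hy
        by_cases hyO : y ∈ O
        · rw [Set.mem_ofPred_eq, hs_O y hyO] at hy
          exact absurd hy.symm (Fin.castSucc_lt_last _).ne
        · obtain ⟨y', rfl⟩ := hex y hyO
          rw [Set.mem_ofPred_eq, hs_i] at hy
          exact ⟨y', Fin.castSucc_injective _ hy, rfl⟩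

open Groth.Agent.Lib.Helper7 Groth.Agent.Lib.Helper22.GenChev in
/-- The top stratum: the locus where the fibre integral attains the bound `d` is an affine open
with affine inclusion. -/
theorem exists_top_stratum
    (happ : ∀ (S : Scheme.{u}) [CompactSpace S] [QuasiSeparatedSpace S], HasApprox S)
    {X Y : Scheme.{u}} (f : X ⟶ Y) [LocallyQuasiFinite f]
    [LocallyOfFiniteType f] [QuasiCompact f] [IsAffine X] [Y.IsSeparated] (w : X → ℤ)
    (hw : MoreMor.IsWeighting f w) (hpos : ∀ x, 0 < w x) (d : ℤ) (hd : 0 < d)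
    (hmax : ∀ y : Y, MoreMor.fibreIntegral f w y ≤ d) :
    ∃ O : Y.Opens, (O : Set Y) = {y : Y | MoreMor.fibreIntegral f w y = d} ∧ IsAffineOpen O ∧
      IsAffineHom O.ι := by
  have hfin : ∀ y, (f ⁻¹' {y}).Finite := fun y => f.finite_preimage_singleton y
  haveI : IsAffineHom f := by
    haveI : IsAffineHom (f ≫ terminal.from Y) := by
      rw [terminal.comp_from]; infer_instance
    exact IsAffineHom.of_comp f (terminal.from Y)
  haveI : IsSeparated f := IsSeparated.of_isAffineHom f
  have hlsc := lowerSemicontinuous_fibreIntegral f hfin w hw (fun x => (hpos x).le)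
  have hset : {y : Y | MoreMor.fibreIntegral f w y = d} =
      (MoreMor.fibreIntegral f w) ⁻¹' Set.Ioi (d - 1) := by
    ext y
    simp only [Set.mem_ofPred_eq, Set.mem_preimage, Set.mem_Ioi]
    have := hmax y
    omega
  have hOo : IsOpen {y : Y | MoreMor.fibreIntegral f w y = d} := by
    rw [hset]
    exact hlsc.isOpen_preimage _
  obtain ⟨O, hO⟩ : ∃ O : Y.Opens, (O : Set Y) = {y : Y | MoreMor.fibreIntegral f w y = d} :=
    ⟨⟨_, hOo⟩, rfl⟩
  have hmem : ∀ y, y ∈ O ↔ MoreMor.fibreIntegral f w y = d := fun y => by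
    rw [← SetLike.mem_coe, hO]; rfl
  -- the inclusion of `O` is affine
  have hOι : IsAffineHom O.ι := by
    apply isAffineHom_of_forall_exists_isAffineOpen
    intro y
    obtain ⟨_, ⟨(W : Y.Opens), hW, rfl⟩, hyW, -⟩ :=
      Y.isBasis_affineOpens.exists_subset_of_mem_open (Set.mem_univ y) isOpen_univ
    refine ⟨W, hyW, hW, ?_⟩
    haveI : IsAffine W.toScheme := hW
    haveI : IsAffine (f ⁻¹ᵁ W).toScheme := hW.preimage f
    have hpb := (isPullback_morphismRestrict f W).flip
    have hwW := isWeighting_baseChange hw hpb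
    have hintW : ∀ y' : W.toScheme, MoreMor.fibreIntegral (f ∣_ W) (w ∘ ⇑(f ⁻¹ᵁ W).ι) y' =
        MoreMor.fibreIntegral f w (W.ι y') :=
      fun y' => fibreIntegral_baseChange f hfin _ _ _ hpb w y'
    obtain ⟨O', hO', hO'aff⟩ := isAffineOpen_max_locus_ft _ (f ∣_ W) (w ∘ ⇑(f ⁻¹ᵁ W).ι) hwW
      (fun x => hpos _) d rfl (fun y' => by rw [hintW]; exact hmax _)
    have h1 : IsAffineOpen (W.ι ''ᵁ O') := hO'aff.image_of_isOpenImmersion W.ι
    have h2 : W.ι ''ᵁ O' = O ⊓ W := by
      apply SetLike.coe_injective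
      ext z
      simp only [Scheme.Hom.coe_image, TopologicalSpace.Opens.coe_inf, Set.mem_image,
        Set.mem_inter_iff, SetLike.mem_coe]
      constructor
      · rintro ⟨y', hy', rfl⟩
        have h3 : y' ∈ (O' : Set W.toScheme) := hy'
        rw [hO', Set.mem_ofPred_eq, hintW] at h3
        exact ⟨(hmem _).mpr h3, y'.2⟩
      · rintro ⟨hz1, hz2⟩
        let z' : W.toScheme := ⟨z, hz2⟩
        refine ⟨z', ?_, rfl⟩
        have h3 : MoreMor.fibreIntegral (f ∣_ W) (w ∘ ⇑(f ⁻¹ᵁ W).ι) z' = d := by
          rw [hintW]; exact (hmem _).mp hz1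
        have h5 : z' ∈ (O' : Set W.toScheme) := by rw [hO']; exact h3
        exact h5
    have h4 : O.ι ''ᵁ (O.ι ⁻¹ᵁ W) = O ⊓ W := by
      rw [Scheme.Hom.image_preimage_eq_opensRange_inf, Scheme.Opens.opensRange_ι]
    rw [h2, ← h4] at h1
    exact (O.ι.isAffineOpen_iff_of_isOpenImmersion).mp h1
  refine ⟨O, hO, ?_, hOι⟩
  -- the preimage of `O` is affine
  haveI : IsAffineHom (f ⁻¹ᵁ O).ι :=
    MorphismProperty.of_isPullback (P := @IsAffineHom) (isPullback_morphismRestrict f O) hOι
  haveI : IsAffine (f ⁻¹ᵁ O).toScheme := isAffine_of_isAffineHom (f ⁻¹ᵁ O).ι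
  -- `f ∣_ O` is finite and surjective
  have hpb := (isPullback_morphismRestrict f O).flip
  have hfin' := finite_fiber_of_isPullback f hfin hpb
  have hwO := isWeighting_baseChange hw hpb
  have hintO : ∀ y' : O.toScheme, MoreMor.fibreIntegral (f ∣_ O) (w ∘ ⇑(f ⁻¹ᵁ O).ι) y' = d :=
    fun y' => (fibreIntegral_baseChange f hfin _ _ _ hpb w y').trans ((hmem _).mp y'.2)
  haveI : IsFinite (f ∣_ O) :=
    isFinite_of_fibreIntegral_eq _ hfin' hwO (fun x => hpos _) d hintO
  haveI : Surjective (f ∣_ O) := ⟨fun y' =>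
    exists_of_fibreIntegral_ne_zero (f ∣_ O) _ y' (by rw [hintO]; omega)⟩
  exact isAffine_of_finite_surjective happ (f ∣_ O)

open Groth.Agent.Lib.Helper7 Groth.Agent.Lib.Helper22.GenChev in
/-- **Affine stratification from a positive weighting**: if the fibre integral takes exactly
`m + 1` values then the (separated) target has an affine stratification indexed by `0, …, m`. -/
theorem hasAffineStratification_of_weighting
    (happ : ∀ (S : Scheme.{u}) [CompactSpace S] [QuasiSeparatedSpace S], HasApprox S) :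
    ∀ (m : ℕ) {X Y : Scheme.{u}} (f : X ⟶ Y) [Surjective f] [LocallyQuasiFinite f]
      [LocallyOfFiniteType f] [QuasiCompact f] [IsAffine X] [Y.IsSeparated] (w : X → ℤ)
      (_ : MoreMor.IsWeighting f w) (_ : ∀ x, 0 < w x)
      (_ : (Set.range (MoreMor.fibreIntegral f w)).Finite)
      (_ : (Set.range (MoreMor.fibreIntegral f w)).ncard = m + 1),
      MoreMor.HasAffineStratification Y m := by
  intro m
  induction m with
  | zero =>
    intro X Y f _ _ _ _ _ _ w hw hpos hfinR hcard
    have hfin : ∀ y, (f ⁻¹' {y}).Finite := fun y => f.finite_preimage_singleton y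
    obtain ⟨d, hd⟩ := Set.ncard_eq_one.mp hcard
    have hall : ∀ y, MoreMor.fibreIntegral f w y = d := fun y => by
      have : MoreMor.fibreIntegral f w y ∈ Set.range (MoreMor.fibreIntegral f w) := ⟨y, rfl⟩
      rw [hd] at this; exact this
    have hne : (Set.range (MoreMor.fibreIntegral f w)).Nonempty := by rw [hd]; exact ⟨d, rfl⟩
    obtain ⟨_, y₀, rfl⟩ := hne
    obtain ⟨x₀, hx₀⟩ := f.surjective y₀
    have hdpos : 0 < d := by
      have h1 := le_fibreIntegral_of_nonneg' f w (fun _ => (hpos _).le) x₀ (hfin _)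
      have h2 := hpos x₀
      rw [hall] at h1
      linarith
    obtain ⟨O, hO, hOaff, -⟩ := exists_top_stratum happ f w hw hpos d hdpos (fun y => (hall y).le)
    have hOtop : O = ⊤ := by
      apply SetLike.coe_injective
      rw [hO]
      ext y
      simp [hall y]
    rw [hOtop] at hOaff
    haveI : IsAffine Y := by
      haveI : IsAffine (⊤ : Y.Opens).toScheme := hOaff
      exact IsAffine.of_isIso Y.topIso.inv
    refine ⟨fun _ => 0, fun i => ?_, fun i => ⟨Y, 𝟙 Y, inferInstance, inferInstance, inferInstance, ?_⟩⟩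
    · convert isClosed_univ
      ext y
      simp
    · ext y
      simp only [Scheme.Hom.id_base, TopCat.hom_id, ContinuousMap.coe_id, Set.range_id,
        Set.mem_univ, Set.mem_ofPred_eq, true_iff]
      exact (Fin.subsingleton_iff_le_one.mpr (by omega) : Subsingleton (Fin (0 + 1))).elim _ _
  | succ m ih =>
    intro X Y f _ _ _ _ _ _ w hw hpos hfinR hcard
    have hfin : ∀ y, (f ⁻¹' {y}).Finite := fun y => f.finite_preimage_singleton y
    have hne : (Set.range (MoreMor.fibreIntegral f w)).Nonempty := by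
      rw [← Set.ncard_pos hfinR, hcard]; omega
    obtain ⟨d, hdmem, hdmax⟩ := Set.exists_max_image _ id hfinR hne
    have hmax : ∀ y, MoreMor.fibreIntegral f w y ≤ d := fun y => hdmax _ ⟨y, rfl⟩
    obtain ⟨y₀, hy₀⟩ := hdmem
    obtain ⟨x₀, hx₀⟩ := f.surjective y₀
    have hdpos : 0 < d := by
      have h1 := le_fibreIntegral_of_nonneg' f w (fun _ => (hpos _).le) x₀ (hfin _)
      have h2 := hpos x₀
      rw [hx₀, hy₀] at h1
      linarith
    obtain ⟨O, hO, hOaff, hOι⟩ := exists_top_stratum happ f w hw hpos d hdpos hmax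
    have hmem : ∀ y, y ∈ O ↔ MoreMor.fibreIntegral f w y = d := fun y => by
      rw [← SetLike.mem_coe, hO]; rfl
    -- the closed complement
    let T : TopologicalSpace.Closeds Y := ⟨((O : Set Y))ᶜ, O.isOpen.isClosed_compl⟩
    let I := Scheme.IdealSheafData.vanishingIdeal T
    have hrange : Set.range I.subschemeι = ((O : Set Y))ᶜ := by
      rw [Scheme.IdealSheafData.range_subschemeι, Scheme.IdealSheafData.coe_support_vanishingIdeal]
      rfl
    have hpb := IsPullback.of_hasPullback f I.subschemeι
    haveI : IsAffine (pullback f I.subschemeι) := isAffine_of_isAffineHom (pullback.fst f I.subschemeι)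
    haveI : I.subscheme.IsSeparated := ⟨by
      rw [← terminal.comp_from I.subschemeι]; infer_instance⟩
    have hw' := isWeighting_baseChange hw hpb
    have hint' : ∀ y' : I.subscheme, MoreMor.fibreIntegral (pullback.snd f I.subschemeι)
        (w ∘ ⇑(pullback.fst f I.subschemeι)) y' = MoreMor.fibreIntegral f w (I.subschemeι y') :=
      fun y' => fibreIntegral_baseChange f hfin _ _ _ hpb w y'
    have hR : Set.range (MoreMor.fibreIntegral (pullback.snd f I.subschemeι)
        (w ∘ ⇑(pullback.fst f I.subschemeι))) = Set.range (MoreMor.fibreIntegral f w) \ {d} := by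
      ext v
      constructor
      · rintro ⟨y', rfl⟩
        rw [hint']
        refine ⟨⟨_, rfl⟩, ?_⟩
        have h1 : I.subschemeι y' ∈ Set.range I.subschemeι := ⟨y', rfl⟩
        rw [hrange] at h1
        intro h2
        exact h1 ((hmem _).mpr h2)
      · rintro ⟨⟨y, rfl⟩, hy⟩
        have h1 : y ∈ Set.range I.subschemeι := by
          rw [hrange]
          intro h2
          exact hy ((hmem _).mp h2)
        obtain ⟨y', rfl⟩ := h1
        exact ⟨y', hint' y'⟩
    have hstrat : MoreMor.HasAffineStratification I.subscheme m := by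
      refine ih (pullback.snd f I.subschemeι) (w ∘ ⇑(pullback.fst f I.subschemeι)) hw'
        (fun x => hpos _) ?_ ?_
      · rw [hR]; exact hfinR.subset Set.sdiff_subset
      · have h3 : d ∈ Set.range (MoreMor.fibreIntegral f w) := ⟨y₀, hy₀⟩
        rw [hR, Set.ncard_sdiff_singleton_of_mem h3, hcard]
        omega
    exact hasAffineStratification_succ O hOaff hOι I.subschemeι hrange m hstrat

end Groth.Agent.Lib.Helper22.Weighting
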