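import Mathlib

/-!
# Completely decomposed points (helper22)

For `f : X ⟶ Y`, a point `y : Y` is *completely decomposed* for `f` when some point of `X` over
`y` has the same residue field.  Equivalently, `Spec κ(y) ⟶ Y` lifts to `X`.
-/

set_option autoImplicit false
set_option linter.style.haveILetI false
set_option linter.unusedSectionVars false
universe u
open CategoryTheory AlgebraicGeometry Limits

namespace Groth.Agent.Lib.Helper22.CD

variable {X Y : Scheme.{u}}

/-- `y` is the image of a point with the same residue field. -/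
def IsCDAt (f : X ⟶ Y) (y : Y) : Prop :=
  ∃ x : X, f x = y ∧ Function.Bijective (f.residueFieldMap x)

/-- For a field extension `K ⟶ L`, `Spec L ⟶ Spec K` is an epimorphism of schemes. -/
theorem specMap_field_cancel {K L : Type u} [Field K] [Field L]
    (ι : CommRingCat.of K ⟶ CommRingCat.of L) {Z : Scheme.{u}}
    (a b : Spec (CommRingCat.of K) ⟶ Z) (h : Spec.map ι ≫ a = Spec.map ι ≫ b) : a = b := by
  obtain ⟨⟨za, α⟩, rfl⟩ := (Scheme.SpecToEquivOfField K Z).symm.surjective a
  obtain ⟨⟨zb, β⟩, rfl⟩ := (Scheme.SpecToEquivOfField K Z).symm.surjective b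
  simp only [Scheme.SpecToEquivOfField_symm_apply] at h ⊢
  have h1 : (Scheme.SpecToEquivOfField L Z).symm ⟨za, α ≫ ι⟩ =
      (Scheme.SpecToEquivOfField L Z).symm ⟨zb, β ≫ ι⟩ := by
    simp only [Scheme.SpecToEquivOfField_symm_apply, Spec.map_comp, Category.assoc]
    exact h
  have h2 := (Scheme.SpecToEquivOfField L Z).symm.injective h1
  rw [Scheme.SpecToEquivOfField_eq_iff] at h2
  obtain ⟨e, he⟩ := h2
  dsimp only at e he
  subst e
  have hmono : Mono ι := ConcreteCategory.mono_of_injective ι ι.hom.injective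
  have : α = β := by
    rw [← cancel_mono ι, he]
    simp
  rw [this]

/-- A lift of `Spec κ(y) ⟶ Y` to `X` exhibits `y` as completely decomposed. -/
theorem isCDAt_of_section (f : X ⟶ Y) (y : Y) (σ : Spec (Y.residueField y) ⟶ X)
    (hσ : σ ≫ f = Y.fromSpecResidueField y) : IsCDAt f y := by
  obtain ⟨⟨x, φ⟩, rfl⟩ := (Scheme.SpecToEquivOfField (Y.residueField y) X).symm.surjective σ
  simp only [Scheme.SpecToEquivOfField_symm_apply] at hσ
  have h1 : (Scheme.SpecToEquivOfField (Y.residueField y) Y).symm ⟨f x, f.residueFieldMap x ≫ φ⟩ =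
      (Scheme.SpecToEquivOfField (Y.residueField y) Y).symm ⟨y, 𝟙 _⟩ := by
    simp only [Scheme.SpecToEquivOfField_symm_apply, Spec.map_comp, Category.assoc,
      Scheme.Hom.SpecMap_residueFieldMap_fromSpecResidueField]
    rw [← Category.assoc, hσ]
    simp only [Spec.map_id]
    exact (Category.id_comp _).symm
  have h2 := (Scheme.SpecToEquivOfField (Y.residueField y) Y).symm.injective h1
  rw [Scheme.SpecToEquivOfField_eq_iff] at h2
  obtain ⟨e, he⟩ := h2
  dsimp only at e he
  subst e
  simp only [Scheme.residueFieldCongr_refl, Iso.refl_hom, Category.comp_id] at he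
  refine ⟨x, rfl, ?_⟩
  -- `φ ∘ residueFieldMap = id`, and `φ` is injective
  have hφinj : Function.Injective φ.hom := φ.hom.injective
  have hcomp : ∀ z, φ.hom ((f.residueFieldMap x).hom z) = z := fun z => by
    have := congr($(he).hom z)
    simpa using this
  refine ⟨(f.residueFieldMap x).hom.injective, fun w => ⟨φ.hom w, ?_⟩⟩
  apply hφinj
  exact hcomp _

/-- A completely decomposed point gives a lift of `Spec κ(y) ⟶ Y` to `X`. -/
theorem exists_section_of_isCDAt (f : X ⟶ Y) (y : Y) (h : IsCDAt f y) :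
    ∃ σ : Spec (Y.residueField y) ⟶ X, σ ≫ f = Y.fromSpecResidueField y := by
  obtain ⟨x, rfl, hx⟩ := h
  have : IsIso (f.residueFieldMap x) :=
    (ConcreteCategory.isIso_iff_bijective (f.residueFieldMap x)).mpr hx
  refine ⟨Spec.map (inv (f.residueFieldMap x)) ≫ X.fromSpecResidueField x, ?_⟩
  rw [Category.assoc, ← Scheme.Hom.SpecMap_residueFieldMap_fromSpecResidueField,
    ← Category.assoc, ← Spec.map_comp, IsIso.hom_inv_id, Spec.map_id, Category.id_comp]

theorem isCDAt_iff_exists_section (f : X ⟶ Y) (y : Y) :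
    IsCDAt f y ↔ ∃ σ : Spec (Y.residueField y) ⟶ X, σ ≫ f = Y.fromSpecResidueField y :=
  ⟨exists_section_of_isCDAt f y, fun ⟨σ, hσ⟩ => isCDAt_of_section f y σ hσ⟩

/-- Completely decomposed points are stable under base change. -/
theorem IsCDAt.of_isPullback {X' Y' : Scheme.{u}} {f : X ⟶ Y} {f' : X' ⟶ Y'} {gX : X' ⟶ X}
    {g : Y' ⟶ Y} (hpb : IsPullback gX f' f g) (y' : Y') (h : IsCDAt f (g y')) : IsCDAt f' y' := by
  obtain ⟨σ, hσ⟩ := exists_section_of_isCDAt f _ h
  have hcomm : (Spec.map (g.residueFieldMap y') ≫ σ) ≫ f = Y'.fromSpecResidueField y' ≫ g := by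
    rw [Category.assoc, hσ, Scheme.Hom.SpecMap_residueFieldMap_fromSpecResidueField]
  exact isCDAt_of_section f' y' (hpb.lift _ _ hcomm) (hpb.lift_snd _ _ hcomm)

end Groth.Agent.Lib.Helper22.CD
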