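import Mathlib
import Groth.Agent.Lib.Helper22.CDBasic
import Groth.Agent.Lib.Helper23.FibreIndCons

/-!
# The completely decomposed locus of a morphism locally of finite presentation is
ind-constructible (helper22)
-/

set_option autoImplicit false
set_option linter.style.haveILetI false
set_option linter.unusedSectionVars false
universe u
open CategoryTheory AlgebraicGeometry Limits

namespace Groth.Agent.Lib.Helper22.CD

open Groth.Agent.Lib.Helper23

variable {X Y : Scheme.{u}}

/-- Key step: a completely decomposed point `y` of an affine open `U` has a constructible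
neighbourhood in `U` consisting of completely decomposed points. -/
theorem exists_isConstructible_nhd_isCDAt (f : X ⟶ Y) [LocallyOfFinitePresentation f]
    {U : Y.Opens} (hU : IsAffineOpen U) (y : Y) (hy : y ∈ U) (h : IsCDAt f y) :
    ∃ C : Set (U : Set Y), Topology.IsConstructible C ∧ (⟨y, hy⟩ : (U : Set Y)) ∈ C ∧
      ∀ t ∈ C, IsCDAt f t.1 := by
  classical
  obtain ⟨σ, hσ⟩ := exists_section_of_isCDAt f y h
  let φ : Γ(Y, U) →+* Y.residueField y := (Y.evaluation U y hy).hom
  let F : Finset Γ(Y, U) ⥤ Under Γ(Y, U) := resDiagram φ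
  let cc : Cocone F := resCocone φ
  have hcc : IsColimit cc := isColimitResCocone φ (evaluation_surj hU y hy)
  let β : ∀ j : (Finset Γ(Y, U))ᵒᵖ, (specDiagram F).obj j ⟶ Y :=
    fun j => Spec.map (F.obj j.unop).hom ≫ hU.fromSpec
  have hβ : ∀ {i j : (Finset Γ(Y, U))ᵒᵖ} (a : i ⟶ j), (specDiagram F).map a ≫ β j = β i := by
    intro i j a
    have hw : (F.obj j.unop).hom ≫ (F.map a.unop).right = (F.obj i.unop).hom :=
      Under.w (F.map a.unop)
    change Spec.map (F.map a.unop).right ≫ Spec.map (F.obj j.unop).hom ≫ hU.fromSpec =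
      Spec.map (F.obj i.unop).hom ≫ hU.fromSpec
    rw [← Category.assoc, ← Spec.map_comp, hw]
  have hβc : ∀ j : (Finset Γ(Y, U))ᵒᵖ,
      (specCone F cc).π.app j ≫ β j = Y.fromSpecResidueField y := by
    intro j
    have hw : (F.obj j.unop).hom ≫ (cc.ι.app j.unop).right = cc.pt.hom :=
      Under.w (cc.ι.app j.unop)
    change Spec.map (cc.ι.app j.unop).right ≫ Spec.map (F.obj j.unop).hom ≫ hU.fromSpec = _
    rw [← Category.assoc, ← Spec.map_comp, hw]
    exact SpecMap_evaluation_fromSpec hU y hy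
  let tβ : specDiagram F ⟶ (Functor.const _).obj Y :=
    { app := β
      naturality := fun i j a => by
        rw [hβ a]
        simp }
  obtain ⟨σ', hσ'⟩ : ∃ σ' : (specCone F cc).pt ⟶ X, σ' = σ := ⟨_, rfl⟩
  have hσ'f : σ' ≫ f = Y.fromSpecResidueField y := by rw [hσ']; exact hσ
  have ha : (specCone F cc).π ≫ tβ = (Functor.const _).map (σ' ≫ f) := by
    ext j
    rw [hσ'f]
    exact hβc j
  obtain ⟨i, g, hg1, hg2⟩ := Scheme.exists_π_app_comp_eq_of_locallyOfFinitePresentation
    (specDiagram F) tβ f (specCone F cc) (isLimitSpecCone F hcc) σ' ha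
  refine ⟨stageSet y hy i.unop, isConstructible_stageSet hU y hy i.unop,
    mem_stageSet_self y hy i.unop, ?_⟩
  rintro ⟨t, htU⟩ ⟨ht0, htu⟩
  let γ : Spec (Y.residueField t) ⟶ (specDiagram F).obj i :=
    Spec.map (CommRingCat.ofHom (stageLift φ i.unop (Y.evaluation U t htU).hom ht0 htu.isUnit))
  have hγ : γ ≫ β i = Y.fromSpecResidueField t := by
    change Spec.map (CommRingCat.ofHom (stageLift φ i.unop (Y.evaluation U t htU).hom ht0
      htu.isUnit)) ≫ Spec.map (CommRingCat.ofHom (stageMap φ i.unop)) ≫ hU.fromSpec = _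
    rw [← Category.assoc, ← Spec.map_comp, ← CommRingCat.ofHom_comp, stageLift_comp]
    exact SpecMap_evaluation_fromSpec hU t htU
  refine isCDAt_of_section f t (γ ≫ g) ?_
  rw [Category.assoc]
  exact (congrArg (γ ≫ ·) hg2).trans hγ

/-- The completely decomposed locus of a morphism locally of finite presentation is
ind-constructible. -/
theorem isIndConstructible_setOf_isCDAt (f : X ⟶ Y) [LocallyOfFinitePresentation f] :
    ProCons.IsIndConstructible {y : Y | IsCDAt f y} := by
  intro x
  obtain ⟨U, hU, hxU⟩ := Groth.Agent.Lib.Helper16.exists_affine_nhd x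
  refine ⟨U, U.2, hxU, {C | Topology.IsLocallyConstructible C ∧
    C ⊆ Subtype.val ⁻¹' {y : Y | IsCDAt f y}}, fun C hC => hC.1, ?_⟩
  ext t
  constructor
  · intro ht
    obtain ⟨C, hC, htC, hCE⟩ := exists_isConstructible_nhd_isCDAt f hU t.1 t.2 ht
    exact Set.mem_sUnion.mpr ⟨C, ⟨hC.isLocallyConstructible, fun t' ht' => hCE t' ht'⟩, htC⟩
  · rintro ⟨C, ⟨_, hCE⟩, htC⟩
    exact hCE htC

end Groth.Agent.Lib.Helper22.CD
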