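import Mathlib
import Groth.Agent.Lib.Helper22.CDBasic
import Groth.Agent.S9206

/-!
# Residue fields of a limit as a limit of spectra of fields (helper22)
-/

set_option autoImplicit false
set_option linter.style.haveILetI false
set_option linter.unusedSectionVars false
universe u
open CategoryTheory AlgebraicGeometry Limits Opposite

namespace Groth.Agent.Lib.Helper22.CD

section

variable {J : Type u} [SmallCategory J] [IsCofiltered J] (D : J ⥤ Scheme.{u}) (c : Cone D)
  (y : c.pt)

theorem fieldRange_residueFieldMap_congr {X Y : Scheme.{u}} {f g : X ⟶ Y} (e : f = g) (x : X) :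
    (f.residueFieldMap x).hom.fieldRange = (g.residueFieldMap x).hom.fieldRange := by
  subst e; rfl

/-- The image of the residue field of the `j`-th stage in the residue field of the limit. -/
noncomputable def L (j : J) : Subfield (c.pt.residueField y) :=
  ((c.π.app j).residueFieldMap y).hom.fieldRange

theorem L_mono {i j : J} (a : i ⟶ j) : L D c y j ≤ L D c y i := by
  have e : c.π.app i ≫ D.map a = c.π.app j := c.w a
  unfold L
  rw [← fieldRange_residueFieldMap_congr e y, Scheme.residueFieldMap_comp]
  rintro _ ⟨z, rfl⟩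
  exact ⟨((D.map a).residueFieldMap _).hom z, rfl⟩

/-- The system of subfields as a functor. -/
noncomputable def Lfun : Jᵒᵖ ⥤ CommRingCat.{u} where
  obj j := CommRingCat.of (L D c y j.unop)
  map {i j} a := CommRingCat.ofHom (Subfield.inclusion (L_mono D c y a.unop))
  map_id j := by
    apply CommRingCat.hom_ext
    ext z
    rfl
  map_comp a b := by
    apply CommRingCat.hom_ext
    ext z
    rfl

/-- The cocone with vertex the residue field of the limit. -/
noncomputable def Lcocone : Cocone (Lfun D c y) where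
  pt := c.pt.residueField y
  ι :=
    { app := fun j => CommRingCat.ofHom (L D c y j.unop).subtype
      naturality := fun i j a => by
        apply CommRingCat.hom_ext
        ext z
        rfl }

variable (hc : IsLimit c) [∀ (i j : J) (a : i ⟶ j), IsAffineHom (D.map a)]

include hc in
/-- The residue field of a point of the limit is the filtered colimit (directed union) of the
images of the residue fields of the stages. -/
theorem nonempty_isColimit_Lcocone : Nonempty (IsColimit (Lcocone D c y)) := by
  haveI : ReflectsColimit (Lfun D c y) (forget CommRingCat.{u}) :=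
    reflectsColimit_of_reflectsIsomorphisms _ _
  refine ⟨isColimitOfReflects (forget CommRingCat.{u}) ?_⟩
  apply Types.FilteredColimit.isColimitOf
  · intro k
    obtain ⟨j, b, hb⟩ := Groth.Agent.S9206.result D c hc y k
    exact ⟨op j, ⟨k, ⟨b, hb⟩⟩, rfl⟩
  · intro i j xi xj h
    refine ⟨op (IsCofiltered.min i.unop j.unop), (IsCofiltered.minToLeft _ _).op,
      (IsCofiltered.minToRight _ _).op, ?_⟩
    apply Subtype.ext
    exact h

/-- The inverse system of spectra of the subfields `L j`. -/
noncomputable def KD : J ⥤ Scheme.{u} := (Lfun D c y).rightOp ⋙ Scheme.Spec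

/-- The cone over `KD` with vertex `Spec κ(y)`. -/
noncomputable def Kcone : Cone (KD D c y) :=
  Scheme.Spec.mapCone (coneRightOpOfCocone (Lcocone D c y))

include hc in
theorem nonempty_isLimit_Kcone : Nonempty (IsLimit (Kcone D c y)) := by
  obtain ⟨h⟩ := nonempty_isColimit_Lcocone D c y hc
  exact ⟨isLimitOfPreserves Scheme.Spec (isLimitConeRightOpOfCocone (Lfun D c y) h)⟩

instance (j : J) : IsAffine ((KD D c y).obj j) := by
  dsimp [KD]; infer_instance

instance {i j : J} (a : i ⟶ j) : IsAffineHom ((KD D c y).map a) := by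
  dsimp [KD]; infer_instance

/-- The morphism `Spec (L j) ⟶ D j`. -/
noncomputable def bK (j : J) : (KD D c y).obj j ⟶ D.obj j :=
  Spec.map (CommRingCat.ofHom ((c.π.app j).residueFieldMap y).hom.rangeRestrictField) ≫
    (D.obj j).fromSpecResidueField (c.π.app j y)

theorem Kcone_π_bK (j : J) :
    (Kcone D c y).π.app j ≫ bK D c y j = c.pt.fromSpecResidueField y ≫ c.π.app j := by
  rw [← Scheme.Hom.SpecMap_residueFieldMap_fromSpecResidueField]
  change Spec.map (CommRingCat.ofHom (L D c y j).subtype) ≫
    Spec.map (CommRingCat.ofHom ((c.π.app j).residueFieldMap y).hom.rangeRestrictField) ≫ _ = _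
  rw [← Category.assoc, ← Spec.map_comp]
  rfl

/-- The isomorphism `Spec (L j) ⟶ Spec κ(y_j)`. -/
noncomputable def sK (j : J) :
    (KD D c y).obj j ⟶ Spec ((D.obj j).residueField (c.π.app j y)) :=
  Spec.map (CommRingCat.ofHom ((c.π.app j).residueFieldMap y).hom.rangeRestrictField)

instance isIso_sK (j : J) : IsIso (sK D c y j) := by
  have : IsIso (CommRingCat.ofHom ((c.π.app j).residueFieldMap y).hom.rangeRestrictField) :=
    (ConcreteCategory.isIso_iff_bijective _).mpr
      (RingHom.rangeRestrictField_bijective ((c.π.app j).residueFieldMap y).hom)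
  exact (inferInstance : IsIso (Spec.map (CommRingCat.ofHom
    ((c.π.app j).residueFieldMap y).hom.rangeRestrictField)))

theorem bK_eq (j : J) :
    bK D c y j = sK D c y j ≫ (D.obj j).fromSpecResidueField (c.π.app j y) := rfl

/-- The projection `Spec κ(y) ⟶ Spec (L j)`, with convenient types. -/
noncomputable def pK (j : J) : Spec (c.pt.residueField y) ⟶ (KD D c y).obj j :=
  (Kcone D c y).π.app j

theorem pK_map {i j : J} (a : i ⟶ j) : pK D c y i ≫ (KD D c y).map a = pK D c y j :=
  (Kcone D c y).w a

theorem pK_bK (j : J) :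
    pK D c y j ≫ bK D c y j = c.pt.fromSpecResidueField y ≫ c.π.app j :=
  Kcone_π_bK D c y j

theorem pK_cancel {Z : Scheme.{u}} (j : J) (a b : (KD D c y).obj j ⟶ Z)
    (h : pK D c y j ≫ a = pK D c y j ≫ b) : a = b :=
  specMap_field_cancel (CommRingCat.ofHom (L D c y j).subtype) a b h

theorem KD_map_bK {Y₀ : Scheme.{u}} (t : D ⟶ (Functor.const J).obj Y₀) {i j : J} (a : i ⟶ j) :
    (KD D c y).map a ≫ bK D c y j ≫ t.app j = bK D c y i ≫ t.app i := by
  have h1 : D.map a ≫ t.app j = t.app i := by
    have := t.naturality a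
    simp only [Functor.const_obj_obj, Functor.const_obj_map, Category.comp_id] at this
    exact this
  have hπt : c.π.app i ≫ t.app i = c.π.app j ≫ t.app j := by
    rw [← c.w a, Category.assoc, h1]
  apply pK_cancel D c y i
  rw [← Category.assoc, pK_map, ← Category.assoc, pK_bK, ← Category.assoc, pK_bK,
    Category.assoc, Category.assoc, hπt]

include hc in
/-- **Spreading out a rational point**: a lift of `Spec κ(y) ⟶ Y₀` to a scheme `X₀` locally of
finite presentation over `Y₀` comes from a lift of `Spec κ(y_j) ⟶ Y₀` for some stage `j`. -/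
theorem exists_stage_section {X₀ Y₀ : Scheme.{u}} (f₀ : X₀ ⟶ Y₀) [LocallyOfFinitePresentation f₀]
    (t : D ⟶ (Functor.const J).obj Y₀) (σ₀ : Spec (c.pt.residueField y) ⟶ X₀)
    (hσ₀ : ∀ j, σ₀ ≫ f₀ = c.pt.fromSpecResidueField y ≫ c.π.app j ≫ t.app j) :
    ∃ (j : J) (τ : Spec ((D.obj j).residueField (c.π.app j y)) ⟶ X₀),
      τ ≫ f₀ = (D.obj j).fromSpecResidueField (c.π.app j y) ≫ t.app j := by
  obtain ⟨hK⟩ := nonempty_isLimit_Kcone D c y hc
  let tK : KD D c y ⟶ (Functor.const J).obj Y₀ :=
    { app := fun j => bK D c y j ≫ t.app j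
      naturality := fun i j a => by
        simp only [Functor.const_obj_obj, Functor.const_obj_map, Category.comp_id]
        exact KD_map_bK D c y t a }
  obtain ⟨σ', hσ'⟩ : ∃ σ' : (Kcone D c y).pt ⟶ X₀, σ' = σ₀ := ⟨_, rfl⟩
  have ha : (Kcone D c y).π ≫ tK = (Functor.const _).map (σ' ≫ f₀) := by
    ext j
    have h1 : σ' ≫ f₀ = c.pt.fromSpecResidueField y ≫ c.π.app j ≫ t.app j := by
      rw [hσ']; exact hσ₀ j
    have h2 : pK D c y j ≫ bK D c y j ≫ t.app j =
        c.pt.fromSpecResidueField y ≫ c.π.app j ≫ t.app j := by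
      rw [← Category.assoc, pK_bK, Category.assoc]
    exact h2.trans h1.symm
  obtain ⟨j, g, -, hg2⟩ := Scheme.exists_π_app_comp_eq_of_locallyOfFinitePresentation
    (KD D c y) tK f₀ (Kcone D c y) hK σ' ha
  refine ⟨j, inv (sK D c y j) ≫ g, ?_⟩
  have hg2' : g ≫ f₀ = (sK D c y j ≫ (D.obj j).fromSpecResidueField (c.π.app j y)) ≫
      t.app j := hg2
  rw [Category.assoc, hg2', Category.assoc, IsIso.inv_hom_id_assoc]

end

end Groth.Agent.Lib.Helper22.CD
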