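import Mathlib
set_option autoImplicit false
set_option linter.style.haveILetI false
universe u
open Polynomial
namespace Groth.Agent.Lib.Helper22.EtaleSplit

theorem eval₂_eq_zero_iff_dvd {k F : Type*} [Field k] [Field F] (ι : k →+* F) (m : k[X])
    (hm : Irreducible m) (α : F) (hα : eval₂ ι α m = 0) (p : k[X]) :
    eval₂ ι α p = 0 ↔ m ∣ p := by
  constructor
  · intro hp
    by_contra hnd
    obtain ⟨u, v, huv⟩ := (hm.coprime_iff_not_dvd).mpr hnd
    have := congrArg (eval₂ ι α) huv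
    rw [eval₂_add, eval₂_mul, eval₂_mul, hα, hp, mul_zero, mul_zero, add_zero, eval₂_one] at this
    exact zero_ne_one this
  · rintro ⟨q, rfl⟩
    rw [eval₂_mul, hα, zero_mul]

theorem exists_irreducible_root {k L Ω : Type*} [Field k] [Field L] [Field Ω] (ιL : k →+* L)
    (ιΩ : k →+* Ω) (f : k[X]) (hf : f ≠ 0) (x : L) (hx : eval₂ ιL x f = 0) (s : Multiset Ω)
    (hs : f.map ιΩ = (s.map (fun a => X - C a)).prod) :
    ∃ m : k[X], Irreducible m ∧ eval₂ ιL x m = 0 ∧ ∃ α ∈ s, eval₂ ιΩ α m = 0 := by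
  letI : Algebra k L := ιL.toAlgebra
  have hint : IsIntegral k x := by
    apply IsAlgebraic.isIntegral
    exact ⟨f, hf, hx⟩
  refine ⟨minpoly k x, minpoly.irreducible hint, minpoly.aeval k x, ?_⟩
  have hdvd : minpoly k x ∣ f := minpoly.dvd k x hx
  have hdvd' : (minpoly k x).map ιΩ ∣ f.map ιΩ := Polynomial.map_dvd ιΩ hdvd
  have hf' : f.map ιΩ ≠ 0 := (Polynomial.map_ne_zero_iff ιΩ.injective).mpr hf
  have hsplit : (f.map ιΩ).Splits := by
    rw [hs]
    apply Splits.multisetProd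
    intro g hg
    obtain ⟨a, -, rfl⟩ := Multiset.mem_map.mp hg
    exact Splits.X_sub_C a
  have hsplit' : ((minpoly k x).map ιΩ).Splits := hsplit.of_dvd hf' hdvd'
  have hdeg : ((minpoly k x).map ιΩ).degree ≠ 0 := by
    rw [degree_map]
    exact (minpoly.degree_pos hint).ne'
  obtain ⟨α, hα⟩ := hsplit'.exists_eval_eq_zero hdeg
  have hαf : eval α (f.map ιΩ) = 0 := by
    obtain ⟨q, hq⟩ := hdvd'
    rw [hq, eval_mul, hα, zero_mul]
  rw [hs, eval_multiset_prod, Multiset.prod_eq_zero_iff] at hαf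
  obtain ⟨y, hy, hy0⟩ : ∃ y ∈ Multiset.map (eval α) (Multiset.map (fun a => X - C a) s), y = 0 :=
    ⟨0, hαf, rfl⟩
  obtain ⟨g, hg, rfl⟩ := Multiset.mem_map.mp hy
  obtain ⟨a, ha, rfl⟩ := Multiset.mem_map.mp hg
  rw [eval_sub, eval_X, eval_C, sub_eq_zero] at hy0
  refine ⟨a, ha, ?_⟩
  rw [← hy0, ← eval_map]
  exact hα

/-- Two field-valued points of a standard étale algebra (one through `A`, one through a lift
`A → R''` sending `x` to a root `a`) have the same kernel on `A` as soon as the images of `x`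
are roots of a common irreducible polynomial over the base field. -/
theorem ker_comp_lift_eq {R A R'' k L Ω : Type*} [CommRing R] [CommRing A] [Algebra R A]
    (pres : StandardEtalePresentation R A) [CommRing R''] [Algebra R R''] (a : R'')
    (ha : pres.HasMap a) [Field k] [Field L] [Field Ω] (evR : R →+* k) (evA : A →+* L)
    (evΩ : R'' →+* Ω) (ιL : k →+* L) (ιΩ : k →+* Ω)
    (hL : ∀ r, evA (algebraMap R A r) = ιL (evR r))
    (hΩ : ∀ r, evΩ (algebraMap R R'' r) = ιΩ (evR r))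
    (m : k[X]) (hm : Irreducible m) (hmx : eval₂ ιL (evA pres.x) m = 0)
    (hma : eval₂ ιΩ (evΩ a) m = 0) (b : A) :
    evΩ (((pres.lift a ha).comp pres.equivRing.toAlgHom) b) = 0 ↔ evA b = 0 := by
  let ψ : A →ₐ[R] R'' := (pres.lift a ha).comp pres.equivRing.toAlgHom
  have hψx : ψ pres.x = a := by
    change pres.lift a ha (pres.equivRing pres.x) = a
    rw [pres.equivRing_x, StandardEtalePair.lift_X]
  obtain ⟨p, n, hb⟩ := pres.exists_mul_aeval_x_g_pow_eq_aeval_x b
  have hcompL : evA.comp (algebraMap R A) = ιL.comp evR := RingHom.ext hL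
  have hcompΩ : evΩ.comp (algebraMap R R'') = ιΩ.comp evR := RingHom.ext hΩ
  have hevA : ∀ q : R[X], evA (aeval pres.x q) = eval₂ ιL (evA pres.x) (q.map evR) := by
    intro q
    rw [aeval_def, hom_eval₂, hcompL, eval₂_map]
  have hevΩ : ∀ q : R[X], evΩ (aeval a q) = eval₂ ιΩ (evΩ a) (q.map evR) := by
    intro q
    rw [aeval_def, hom_eval₂, hcompΩ, eval₂_map]
  -- the `A` side
  have h1 : evA b = 0 ↔ m ∣ p.map evR := by
    rw [← eval₂_eq_zero_iff_dvd ιL m hm _ hmx, ← hevA, ← hb, map_mul, map_pow]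
    have hu : evA (aeval pres.x pres.g) ≠ 0 := (pres.hasMap.2.map evA).ne_zero
    constructor
    · intro h0; rw [h0, zero_mul]
    · intro h0
      rcases mul_eq_zero.mp h0 with h | h
      · exact h
      · exact absurd h (pow_ne_zero n hu)
  -- the `R''` side
  have hb' : ψ b * aeval a pres.g ^ n = aeval a p := by
    have := congrArg ψ hb
    rwa [map_mul, map_pow, ← aeval_algHom_apply, ← aeval_algHom_apply, hψx] at this
  have h2 : evΩ (ψ b) = 0 ↔ m ∣ p.map evR := by
    rw [← eval₂_eq_zero_iff_dvd ιΩ m hm _ hma, ← hevΩ, ← hb', map_mul, map_pow]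
    have hu : evΩ (aeval a pres.g) ≠ 0 := (ha.2.map evΩ).ne_zero
    constructor
    · intro h0; rw [h0, zero_mul]
    · intro h0
      rcases mul_eq_zero.mp h0 with h | h
      · exact h
      · exact absurd h (pow_ne_zero n hu)
  exact h2.trans h1.symm

/-- Root selection for a standard étale algebra over a splitting algebra: for primes `𝔮` of `A`
and `𝔯` of `R'` over the same prime of `R`, some root `a` of `f` in `R'` has `g(a) ∉ 𝔯` and the
lift `A → R''`, `x ↦ a` (into any `R'`-algebra where `g(a)` becomes invertible) pulls primes over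
`𝔯` back to `𝔮`. -/
theorem exists_root_comap_eq {R A R' : Type u} [CommRing R] [CommRing A] [Algebra R A]
    (pres : StandardEtalePresentation R A) [CommRing R'] [Algebra R R']
    (s : Multiset R') (hs : pres.f.map (algebraMap R R') = (s.map (fun a => X - C a)).prod)
    (𝔮 : Ideal A) [𝔮.IsPrime] (𝔯 : Ideal R') [𝔯.IsPrime]
    (h : 𝔮.comap (algebraMap R A) = 𝔯.comap (algebraMap R R')) :
    ∃ a ∈ s, aeval a pres.g ∉ 𝔯 ∧
      ∀ (R'' : Type u) [CommRing R''] [Algebra R R''] [Algebra R' R''] [IsScalarTower R R' R'']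
        (𝔯' : Ideal R'') [𝔯'.IsPrime] (_ : 𝔯'.comap (algebraMap R' R'') = 𝔯)
        (hmap : pres.HasMap (algebraMap R' R'' a)),
        𝔯'.comap ((pres.lift _ hmap).comp pres.equivRing.toAlgHom).toRingHom = 𝔮 := by
  classical
  let 𝔭 : Ideal R := 𝔮.comap (algebraMap R A)
  haveI : 𝔭.IsPrime := Ideal.comap_isPrime _ _
  let ιL : 𝔭.ResidueField →+* 𝔮.ResidueField :=
    Ideal.ResidueField.map 𝔭 𝔮 (algebraMap R A) rfl
  let ιΩ : 𝔭.ResidueField →+* 𝔯.ResidueField :=
    Ideal.ResidueField.map 𝔭 𝔯 (algebraMap R R') h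
  have hL : ∀ r, algebraMap A 𝔮.ResidueField (algebraMap R A r) =
      ιL (algebraMap R 𝔭.ResidueField r) := fun r =>
    (Ideal.ResidueField.map_algebraMap 𝔭 𝔮 (algebraMap R A) rfl r).symm
  have hΩ : ∀ r, algebraMap R' 𝔯.ResidueField (algebraMap R R' r) =
      ιΩ (algebraMap R 𝔭.ResidueField r) := fun r =>
    (Ideal.ResidueField.map_algebraMap 𝔭 𝔯 (algebraMap R R') h r).symm
  have hcompL : (algebraMap A 𝔮.ResidueField).comp (algebraMap R A) =
      ιL.comp (algebraMap R 𝔭.ResidueField) := RingHom.ext hL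
  have hcompΩ : (algebraMap R' 𝔯.ResidueField).comp (algebraMap R R') =
      ιΩ.comp (algebraMap R 𝔭.ResidueField) := RingHom.ext hΩ
  have hevA : ∀ q : R[X], algebraMap A 𝔮.ResidueField (aeval pres.x q) =
      eval₂ ιL (algebraMap A 𝔮.ResidueField pres.x) (q.map (algebraMap R 𝔭.ResidueField)) := by
    intro q
    rw [aeval_def, hom_eval₂, hcompL, eval₂_map]
  have hevΩ : ∀ (a : R') (q : R[X]), algebraMap R' 𝔯.ResidueField (aeval a q) =
      eval₂ ιΩ (algebraMap R' 𝔯.ResidueField a) (q.map (algebraMap R 𝔭.ResidueField)) := by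
    intro a q
    rw [aeval_def, hom_eval₂, hcompΩ, eval₂_map]
  have hf0 : pres.f.map (algebraMap R 𝔭.ResidueField) ≠ 0 := (pres.monic_f.map _).ne_zero
  have hx : eval₂ ιL (algebraMap A 𝔮.ResidueField pres.x)
      (pres.f.map (algebraMap R 𝔭.ResidueField)) = 0 := by
    rw [← hevA, pres.hasMap.1, map_zero]
  have hs' : (pres.f.map (algebraMap R 𝔭.ResidueField)).map ιΩ =
      ((s.map (algebraMap R' 𝔯.ResidueField)).map (fun a => X - C a)).prod := by
    rw [Polynomial.map_map, ← hcompΩ, ← Polynomial.map_map, hs, Polynomial.map_multiset_prod,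
      Multiset.map_map, Multiset.map_map]
    congr 1
    apply Multiset.map_congr rfl
    intro a _
    simp only [Function.comp_apply, Polynomial.map_sub, Polynomial.map_X, Polynomial.map_C]
  obtain ⟨m, hm, hmx, α, hα, hmα⟩ := exists_irreducible_root ιL ιΩ _ hf0 _ hx _ hs'
  obtain ⟨a, has, rfl⟩ := Multiset.mem_map.mp hα
  refine ⟨a, has, ?_, ?_⟩
  · intro hmem
    have h0 : algebraMap R' 𝔯.ResidueField (aeval a pres.g) = 0 :=
      Ideal.algebraMap_residueField_eq_zero.mpr hmem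
    rw [hevΩ, eval₂_eq_zero_iff_dvd ιΩ m hm _ hmα] at h0
    have h1 := (eval₂_eq_zero_iff_dvd ιL m hm _ hmx _).mpr h0
    rw [← hevA] at h1
    exact (pres.hasMap.2.map (algebraMap A 𝔮.ResidueField)).ne_zero h1
  · intro R'' _ _ _ _ 𝔯' _ h𝔯' hmap
    let μ : 𝔯.ResidueField →+* 𝔯'.ResidueField :=
      Ideal.ResidueField.map 𝔯 𝔯' (algebraMap R' R'') h𝔯'.symm
    have hμ : ∀ r', algebraMap R'' 𝔯'.ResidueField (algebraMap R' R'' r') =
        μ (algebraMap R' 𝔯.ResidueField r') := fun r' =>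
      (Ideal.ResidueField.map_algebraMap 𝔯 𝔯' (algebraMap R' R'') h𝔯'.symm r').symm
    have hΩ' : ∀ r, algebraMap R'' 𝔯'.ResidueField (algebraMap R R'' r) =
        (μ.comp ιΩ) (algebraMap R 𝔭.ResidueField r) := by
      intro r
      rw [IsScalarTower.algebraMap_apply R R' R'', hμ, hΩ]
      rfl
    have hma : eval₂ (μ.comp ιΩ) (algebraMap R'' 𝔯'.ResidueField (algebraMap R' R'' a)) m = 0 := by
      rw [hμ, ← hom_eval₂, hmα, map_zero]
    ext b
    rw [Ideal.mem_comap, ← Ideal.algebraMap_residueField_eq_zero,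
      ← Ideal.algebraMap_residueField_eq_zero (I := 𝔮)]
    exact ker_comp_lift_eq pres _ hmap (algebraMap R 𝔭.ResidueField)
      (algebraMap A 𝔮.ResidueField) (algebraMap R'' 𝔯'.ResidueField) ιL (μ.comp ιΩ) hL hΩ'
      m hm hmx hma b


/-- Affine core: an étale algebra `B` over `R` with a prime `𝔮₀` is dominated, Zariski locally on a
finite free `R`-algebra `R'`, around every prime of `R'` over `𝔮₀ ∩ R`. -/
theorem exists_finite_free_dominating {R B : Type u} [CommRing R] [Nontrivial R] [CommRing B]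
    [Algebra R B] [Algebra.Etale R B] (𝔮₀ : Ideal B) [𝔮₀.IsPrime] :
    ∃ (R' : Type u) (_ : CommRing R') (_ : Algebra R R'), Module.Finite R R' ∧ Module.Free R R' ∧
      Nontrivial R' ∧
      ∀ (𝔯 : Ideal R') [𝔯.IsPrime],
        𝔯.comap (algebraMap R R') = 𝔮₀.comap (algebraMap R B) →
        ∃ r : R', r ∉ 𝔯 ∧ ∃ χ : B →ₐ[R] Localization.Away r,
          ∀ (𝔯' : Ideal (Localization.Away r)) [𝔯'.IsPrime],
            𝔯'.comap (algebraMap R' (Localization.Away r)) = 𝔯 → 𝔯'.comap χ.toRingHom = 𝔮₀ := by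
  classical
  obtain ⟨f₀, hf₀, hstd⟩ := Algebra.IsEtaleAt.exists_isStandardEtale (R := R) 𝔮₀
  let A := Localization.Away f₀
  let pres : StandardEtalePresentation R A := hstd.nonempty_standardEtalePresentation.some
  obtain ⟨R', _, _, hfin, hfree, hnt, hsplit⟩ := pres.monic_f.exists_splits_map
  obtain ⟨s, hs⟩ := splits_iff_exists_multiset.mp hsplit
  rw [(pres.monic_f.map _).leadingCoeff, C_1, one_mul] at hs
  refine ⟨R', inferInstance, inferInstance, hfin, hfree, hnt, ?_⟩
  intro 𝔯 _ h𝔯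
  -- the prime of `A` above `𝔮₀`
  let 𝔮 : Ideal A := Ideal.map (algebraMap B A) 𝔮₀
  have hdisj : Disjoint (Submonoid.powers f₀ : Set B) (𝔮₀ : Set B) := by
    rw [Set.disjoint_left]
    rintro _ ⟨n, rfl⟩ hmem
    exact hf₀ (Ideal.IsPrime.mem_of_pow_mem inferInstance n hmem)
  haveI : 𝔮.IsPrime := IsLocalization.isPrime_of_isPrime_disjoint (Submonoid.powers f₀) A 𝔮₀
    inferInstance hdisj
  have h𝔮 : 𝔮.comap (algebraMap B A) = 𝔮₀ :=
    IsLocalization.under_map_of_isPrime_disjoint (Submonoid.powers f₀) A inferInstance hdisj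
  have h𝔮R : 𝔮.comap (algebraMap R A) = 𝔯.comap (algebraMap R R') := by
    rw [h𝔯, ← h𝔮, Ideal.comap_comap, ← IsScalarTower.algebraMap_eq]
  obtain ⟨a, has, har, hprop⟩ := exists_root_comap_eq pres s hs 𝔮 𝔯 h𝔮R
  refine ⟨aeval a pres.g, har, ?_⟩
  let R'' := Localization.Away (aeval a pres.g)
  have hfa : aeval a pres.f = 0 := by
    have h1 : eval a (pres.f.map (algebraMap R R')) = 0 := by
      rw [hs, eval_multiset_prod]
      apply Multiset.prod_eq_zero
      refine Multiset.mem_map.mpr ⟨X - C a, Multiset.mem_map.mpr ⟨a, has, rfl⟩, ?_⟩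
      rw [eval_sub, eval_X, eval_C, sub_self]
    rwa [eval_map] at h1
  have hmap : pres.HasMap (algebraMap R' R'' a) := by
    constructor
    · rw [aeval_algebraMap_apply, hfa, map_zero]
    · rw [aeval_algebraMap_apply]
      exact IsLocalization.Away.algebraMap_isUnit (aeval a pres.g)
  let ψ : A →ₐ[R] R'' := (pres.lift _ hmap).comp pres.equivRing.toAlgHom
  refine ⟨ψ.comp (IsScalarTower.toAlgHom R B A), ?_⟩
  intro 𝔯' _ h𝔯'
  have := hprop R'' 𝔯' h𝔯' hmap
  change (𝔯'.comap ψ.toRingHom).comap (algebraMap B A) = 𝔮₀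
  rw [this, h𝔮]

end Groth.Agent.Lib.Helper22.EtaleSplit
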