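import Mathlib
import Groth.Agent.Lib.Helper22.FFDomains
import Groth.Prelude.Def_Found

set_option autoImplicit false
set_option linter.style.haveILetI false
universe u
open TensorProduct nonZeroDivisors

namespace Groth.Agent.Lib.Helper22.FFDomains


section Regular

variable {A : Type u} [CommRing A] (E : Type u) [CommRing E] [Algebra A E]

theorem isRegularLocalRing_of_ringEquiv (R R' : Type u) [CommRing R] [CommRing R'] (e : R ≃+* R')
    (h : IsRegularLocalRing R) : IsRegularLocalRing R' :=
  IsRegularLocalRing.of_ringEquiv e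

attribute [local instance] fracAlgebra in
theorem isRegularLocalRing_atPrime_of_geomRegular (B : Type u) [CommRing B] [IsDomain B]
    [Algebra A B] [Module.Finite A B]
    (hgr : CAlg.IsGeometricallyRegular (kerP (A := A) B).ResidueField
      ((kerP (A := A) B).Fiber E))
    (q : Ideal (B ⊗[A] E)) [q.IsPrime] (hq : q.comap (algebraMap B (B ⊗[A] E)) = ⊥) :
    IsRegularLocalRing (Localization.AtPrime q) := by
  have hT : IsRegularRing (FractionRing B ⊗[(kerP (A := A) B).ResidueField]
      ((kerP (A := A) B).Fiber E)) := hgr (FractionRing B) (finite_frac (A := A) B)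
  have hT' : IsRegularRing (FractionRing B ⊗[A] E) :=
    IsRegularRing.of_ringEquiv (Algebra.TensorProduct.cancelBaseChange A
      (kerP (A := A) B).ResidueField (FractionRing B) (FractionRing B) E).toRingEquiv
  exact (forall_atPrime_iff E B (FractionRing B) (fun R _ => IsRegularLocalRing R)
    isRegularLocalRing_of_ringEquiv).mp
      (fun Q _ => IsRegularRing.isRegularLocalRing_localization Q) q hq

theorem isRegularRing_tensor_fiber_of_forall (p : Ideal A) [p.IsPrime]
    (hN : IsNoetherianRing (p.Fiber E)) (K : Type u) [Field K]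
    [Algebra p.ResidueField K] [Module.Finite p.ResidueField K]
    (H : ∀ (B : Type u) [CommRing B] [IsDomain B] [Algebra A B] [Module.Finite A B]
      (q : Ideal (B ⊗[A] E)) [q.IsPrime], q.comap (algebraMap B (B ⊗[A] E)) = ⊥ →
        IsRegularLocalRing (Localization.AtPrime q)) :
    IsRegularRing (K ⊗[p.ResidueField] p.Fiber E) := by
  letI : Algebra A K := ((algebraMap p.ResidueField K).comp (algebraMap A p.ResidueField)).toAlgebra
  haveI : IsScalarTower A p.ResidueField K := IsScalarTower.of_algebraMap_eq fun _ => rfl
  obtain ⟨B, hfin, hfrac, -⟩ := exists_subalgebra_finite_isFractionRing p K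
  have h1 : ∀ (Q : Ideal (K ⊗[A] E)) [Q.IsPrime], IsRegularLocalRing (Localization.AtPrime Q) :=
    (forall_atPrime_iff E B K (fun R _ => IsRegularLocalRing R)
      isRegularLocalRing_of_ringEquiv).mpr (fun q _ hq => H B q hq)
  have hNT : IsNoetherianRing (K ⊗[p.ResidueField] p.Fiber E) := by
    have h1 : IsNoetherianRing ((p.Fiber E) ⊗[p.ResidueField] K) :=
      Algebra.FiniteType.isNoetherianRing (p.Fiber E) ((p.Fiber E) ⊗[p.ResidueField] K)
    exact isNoetherianRing_of_ringEquiv _
      (Algebra.TensorProduct.comm p.ResidueField (p.Fiber E) K).toRingEquiv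
  have hNT' : IsNoetherianRing (K ⊗[A] E) := isNoetherianRing_of_ringEquiv _
    (Algebra.TensorProduct.cancelBaseChange A p.ResidueField K K E).toRingEquiv
  have h2 : IsRegularRing (K ⊗[A] E) := isRegularRing_iff.mpr fun Q _ => h1 Q
  exact IsRegularRing.of_ringEquiv (Algebra.TensorProduct.cancelBaseChange A
      p.ResidueField K K E).symm.toRingEquiv

end Regular


end Groth.Agent.Lib.Helper22.FFDomains
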