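import Mathlib
import Groth.Prelude.Def_FlatMod2

set_option autoImplicit false
set_option linter.style.haveILetI false
open TensorProduct AlgebraicGeometry CategoryTheory

universe u

namespace Groth.Agent.Lib.Helper22.FFRel

/-- If `M` is a faithfully flat `A`-module which is flat over `R`, then `A` is flat over `R`. -/
theorem flat_of_faithfullyFlat_module {R A M : Type u} [CommRing R] [CommRing A] [Algebra R A]
    [AddCommGroup M] [Module R M] [Module A M] [IsScalarTower R A M]
    [Module.FaithfullyFlat A M] [Module.Flat R M] : Module.Flat R A := by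
  rw [Module.Flat.iff_lTensor_preserves_injective_linearMap]
  intro N P _ _ _ _ L hL
  have h1 : Function.Injective (L.lTensor M) := Module.Flat.lTensor_preserves_injective_linearMap L hL
  have h2 : Function.Injective (L.baseChange A) := by
    rw [← Module.FaithfullyFlat.lTensor_injective_iff_injective A M]
    have : LinearMap.lTensor M (L.baseChange A) =
        ((AlgebraTensorModule.cancelBaseChange R A A M P).symm.toLinearMap ∘ₗ
          (AlgebraTensorModule.map (LinearMap.id (R := A) (M := M)) L) ∘ₗ
          (AlgebraTensorModule.cancelBaseChange R A A M N).toLinearMap) := by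
      ext m n
      simp
    rw [this]
    simp only [LinearMap.coe_comp, LinearEquiv.coe_coe, EquivLike.comp_injective,
      EquivLike.injective_comp]
    exact h1
  exact h2

/-- A flat module over a local ring with `𝔪 M ≠ M` is faithfully flat. -/
theorem faithfullyFlat_of_flat_of_maximalIdeal_smul_ne_top {A M : Type*} [CommRing A] [IsLocalRing A]
    [AddCommGroup M] [Module A M] [Module.Flat A M]
    (h : IsLocalRing.maximalIdeal A • (⊤ : Submodule A M) ≠ ⊤) : Module.FaithfullyFlat A M where
  submodule_ne_top m hm := by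
    rw [IsLocalRing.eq_maximalIdeal hm]; exact h

/-- For a local homomorphism `R → A` and an `A`-module `M`: `𝔪_A M ≠ M` implies `𝔪_R M ≠ M`. -/
theorem maximalIdeal_smul_ne_top_of_isLocalHom {R A M : Type*} [CommRing R] [CommRing A]
    [IsLocalRing R] [IsLocalRing A] [Algebra R A] [IsLocalHom (algebraMap R A)]
    [AddCommGroup M] [Module R M] [Module A M] [IsScalarTower R A M]
    (h : IsLocalRing.maximalIdeal A • (⊤ : Submodule A M) ≠ ⊤) :
    IsLocalRing.maximalIdeal R • (⊤ : Submodule R M) ≠ ⊤ := by
  intro htop
  apply h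
  rw [eq_top_iff]
  intro m _
  have hm : m ∈ IsLocalRing.maximalIdeal R • (⊤ : Submodule R M) := by rw [htop]; trivial
  have hle : IsLocalRing.maximalIdeal R • (⊤ : Submodule R M) ≤
      (IsLocalRing.maximalIdeal A • (⊤ : Submodule A M)).restrictScalars R := by
    rw [Submodule.smul_le]
    intro r hr n _
    rw [Submodule.restrictScalars_mem, ← algebraMap_smul A r n]
    refine Submodule.smul_mem_smul ?_ trivial
    rw [IsLocalRing.mem_maximalIdeal, mem_nonunits_iff] at hr ⊢
    intro hu
    exact hr (isUnit_of_map_unit (algebraMap R A) r hu)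
  exact hle hm

variable {X Y Z : Scheme.{u}}

theorem isScalarTower_stalk (f : X ⟶ Y) (g : Y ⟶ Z) (F : X.Modules) (x : X) :
    letI : Algebra (Z.presheaf.stalk (g (f x))) (Y.presheaf.stalk (f x)) :=
      (g.stalkMap (f x)).hom.toAlgebra
    letI : Module (Y.presheaf.stalk (f x)) (F.presheaf.stalk x) := FlatMod.moduleStalkOver f F x
    letI : Module (Z.presheaf.stalk (g (f x))) (F.presheaf.stalk x) :=
      FlatMod.moduleStalkOver (f ≫ g) F x
    IsScalarTower (Z.presheaf.stalk (g (f x))) (Y.presheaf.stalk (f x)) (F.presheaf.stalk x) := by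
  letI : Algebra (Z.presheaf.stalk (g (f x))) (Y.presheaf.stalk (f x)) :=
    (g.stalkMap (f x)).hom.toAlgebra
  letI : Module (Y.presheaf.stalk (f x)) (F.presheaf.stalk x) := FlatMod.moduleStalkOver f F x
  letI : Module (Z.presheaf.stalk (g (f x))) (F.presheaf.stalk x) :=
    FlatMod.moduleStalkOver (f ≫ g) F x
  refine IsScalarTower.of_algebraMap_smul fun r o => ?_
  change (f.stalkMap x).hom ((g.stalkMap (f x)).hom r) • o = ((f ≫ g).stalkMap x).hom r • o
  rw [Scheme.Hom.stalkMap_comp]
  rfl

end Groth.Agent.Lib.Helper22.FFRel
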