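import Mathlib

/-!
# Fibres of a localized ring map

For `A → B`, a submonoid `S ⊆ A`, localizations `A' = S⁻¹A`, `B' = S⁻¹B`, a prime `p'` of `A'` with
contraction `p`, and any `κ(p')`-algebra `K` (viewed as a `κ(p)`-algebra through the canonical
isomorphism `κ(p) → κ(p')`), we produce a ring isomorphism
`K ⊗[κ(p')] (p'.Fiber B') ≃+* K ⊗[κ(p)] (p.Fiber B)`.
-/

set_option autoImplicit false
universe u

namespace Groth.Agent.Lib.Helper22

open TensorProduct

section

variable {A B : Type u} [CommRing A] [CommRing B] [Algebra A B] (S : Submonoid A)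
  (A' B' : Type u) [CommRing A'] [CommRing B'] [Algebra A A'] [Algebra B B'] [Algebra A' B']
  [Algebra A B'] [IsScalarTower A A' B'] [IsScalarTower A B B'] [IsLocalization S A']
  [IsLocalization (Algebra.algebraMapSubmonoid B S) B']
  (p' : Ideal A') [p'.IsPrime] (p : Ideal A) [p.IsPrime] (hp : p = p'.comap (algebraMap A A'))

include S in
/-- The canonical map `κ(p) → κ(p')` is bijective for a localization. -/
theorem residueFieldMap_bijective_of_isLocalization :
    Function.Bijective (Ideal.ResidueField.map p p' (algebraMap A A') hp) :=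
  (RingHom.surjectiveOnStalks_of_isLocalization S A').residueFieldMap_bijective p p' hp

include S in
/-- `B'` is the base change of `B` along `A → A'`. -/
theorem isPushout_of_isLocalization' : Algebra.IsPushout A A' B B' :=
  (Algebra.isPushout_of_isLocalization S A' B B').symm

include S hp in
/-- The fibre ring isomorphism after extending scalars to `K`. -/
theorem nonempty_ringEquiv_fiber_tensor (K : Type u) [CommRing K] [Algebra p'.ResidueField K]
    [Algebra p.ResidueField K]
    (hK : algebraMap p.ResidueField K =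
      (algebraMap p'.ResidueField K).comp (Ideal.ResidueField.map p p' (algebraMap A A') hp)) :
    Nonempty (K ⊗[p'.ResidueField] (p'.Fiber B') ≃+* K ⊗[p.ResidueField] (p.Fiber B)) := by
  have hpush : Algebra.IsPushout A A' B B' := isPushout_of_isLocalization' S A' B'
  letI : Algebra A' K := ((algebraMap p'.ResidueField K).comp (algebraMap A' p'.ResidueField)).toAlgebra
  letI : Algebra A K := ((algebraMap A' K).comp (algebraMap A A')).toAlgebra
  haveI : IsScalarTower A' p'.ResidueField K := IsScalarTower.of_algebraMap_eq fun x => rfl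
  haveI : IsScalarTower A A' K := IsScalarTower.of_algebraMap_eq fun x => rfl
  haveI : IsScalarTower A p.ResidueField K := IsScalarTower.of_algebraMap_eq fun x => by
    rw [hK, RingHom.comp_apply, Ideal.ResidueField.map_algebraMap]
    rfl
  let e1 : K ⊗[p'.ResidueField] (p'.Fiber B') ≃ₐ[K] K ⊗[A'] B' :=
    Algebra.TensorProduct.cancelBaseChange A' p'.ResidueField K K B'
  let e : B' ≃ₐ[A'] A' ⊗[A] B := (Algebra.IsPushout.equiv A A' B B').symm
  let e2 : K ⊗[A'] B' ≃ₐ[K] K ⊗[A'] (A' ⊗[A] B) :=
    Algebra.TensorProduct.congr AlgEquiv.refl e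
  let e3 : K ⊗[A'] (A' ⊗[A] B) ≃ₐ[K] K ⊗[A] B :=
    Algebra.TensorProduct.cancelBaseChange A A' K K B
  let e4 : K ⊗[p.ResidueField] (p.Fiber B) ≃ₐ[K] K ⊗[A] B :=
    Algebra.TensorProduct.cancelBaseChange A p.ResidueField K K B
  exact ⟨(e1.trans (e2.trans (e3.trans e4.symm))).toRingEquiv⟩

end

end Groth.Agent.Lib.Helper22
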