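import Mathlib
import Groth.Agent.Lib.Helper22.GenChevFin

set_option autoImplicit false
set_option linter.style.haveILetI false
universe u
open AlgebraicGeometry CategoryTheory Limits TopologicalSpace

namespace Groth.Agent.Lib.Helper22.GenChev

/-- A quasi-compact morphism with trivial kernel ideal sheaf is injective on sections over every
open (as in helper24's `NeronFEt.app_injective_of_ker_eq_bot`). -/
theorem app_injective_of_ker_eq_bot {X P : Scheme.{u}} (d : P ⟶ X) [QuasiCompact d]
    (hd : d.ker = ⊥) (W : X.Opens) : Function.Injective (d.app W) := by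
  rw [injective_iff_map_eq_zero]
  intro b hb
  have hloc : ∀ x : W, ∃ U : X.Opens, IsAffineOpen U ∧ x.1 ∈ U ∧ U ≤ W := by
    intro x
    obtain ⟨_, ⟨U, hU, rfl⟩, hxU, hUW⟩ :=
      X.isBasis_affineOpens.exists_subset_of_mem_open x.2 W.isOpen
    exact ⟨U, hU, hxU, hUW⟩
  choose U hU hxU hUW using hloc
  have hcover : W ≤ iSup U := fun x hx => Opens.mem_iSup.mpr ⟨⟨x, hx⟩, hxU ⟨x, hx⟩⟩
  refine X.sheaf.eq_of_locally_eq' U W (fun x => homOfLE (hUW x)) hcover b 0 fun x => ?_
  have h0 : X.presheaf.map (homOfLE (hUW x)).op (0 : Γ(X, W)) = 0 := map_zero _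
  refine Eq.trans ?_ h0.symm
  have h1 := d.naturality (homOfLE (hUW x)).op
  have h2 : d.app (U x) (X.presheaf.map (homOfLE (hUW x)).op b) =
      P.presheaf.map ((Opens.map d.base).map (homOfLE (hUW x))).op (d.app W b) :=
    congr($(h1) b)
  rw [hb, map_zero] at h2
  have h3 : X.presheaf.map (homOfLE (hUW x)).op b ∈ d.ker.ideal ⟨U x, hU x⟩ := by
    rw [Scheme.Hom.ker_apply, RingHom.mem_ker]
    exact h2
  rw [hd, Scheme.IdealSheafData.ideal_bot] at h3
  exact h3

/-- A partition of unity on an affine scheme subordinate to the preimages of the affine opens of the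
target. -/
theorem exists_partition {X Y : Scheme.{u}} (f : Y ⟶ X) [IsAffine Y] :
    ∃ (ι : Type u) (_ : Fintype ι) (b c : ι → Γ(Y, ⊤)), ∑ i, c i * b i = 1 ∧
      ∀ i, ∃ U : X.Opens, IsAffineOpen U ∧ Y.basicOpen (b i) ≤ f ⁻¹ᵁ U := by
  have hloc : ∀ y : Y, ∃ (U : X.Opens) (r : Γ(Y, ⊤)), IsAffineOpen U ∧ Y.basicOpen r ≤ f ⁻¹ᵁ U ∧
      y ∈ Y.basicOpen r := by
    intro y
    obtain ⟨_, ⟨U, hU, rfl⟩, hxU, -⟩ :=
      X.isBasis_affineOpens.exists_subset_of_mem_open (Set.mem_univ (f y)) isOpen_univ
    obtain ⟨r, hr1, hr2⟩ := (isAffineOpen_top Y).exists_basicOpen_le (V := f ⁻¹ᵁ U) ⟨y, hxU⟩ trivial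
    exact ⟨U, r, hU, hr1, hr2⟩
  choose U r hU hr1 hr2 using hloc
  have hspan : Ideal.span (Set.range r) = ⊤ := by
    rw [← (isAffineOpen_top Y).self_le_iSup_basicOpen_iff]
    intro y _
    exact Opens.mem_iSup.mpr ⟨⟨r y, y, rfl⟩, hr2 y⟩
  have h1 : (1 : Γ(Y, ⊤)) ∈ Ideal.span (Set.range r) := by rw [hspan]; trivial
  obtain ⟨c, hc⟩ := Finsupp.mem_ideal_span_range_iff_exists_finsupp.mp h1
  refine ⟨c.support, inferInstance, fun i => r i.1, fun i => c i.1, ?_, fun i => ⟨U i.1, hU i.1, hr1 i.1⟩⟩
  rw [← hc, Finsupp.sum, Finset.sum_coe_sort c.support (fun i => c i * r i)]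

open AffineSpace in
/-- A universally closed morphism from an affine scheme factors through a surjection onto an affine
scheme which is finite over the target. -/
theorem exists_finite_factorization {X Y : Scheme.{u}} (f : Y ⟶ X) [UniversallyClosed f]
    [IsAffine Y] :
    ∃ (Z : Scheme.{u}) (t : Y ⟶ Z) (g : Z ⟶ X), t ≫ g = f ∧ IsFinite g ∧ IsAffine Z ∧
      Surjective t := by
  obtain ⟨ι, _, b, c, hsum, hU⟩ := exists_partition f
  let n : Type u := ι ⊕ ι
  let v : n → Γ(Y, ⊤) := Sum.elim b c
  let p : 𝔸(n; X) ⟶ X := 𝔸(n; X) ↘ X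
  let h : Y ⟶ 𝔸(n; X) := homOfVector f v
  have hp : h ≫ p = f := homOfVector_over f v
  haveI : UniversallyClosed h := by
    haveI : UniversallyClosed (h ≫ p) := by rw [hp]; infer_instance
    exact UniversallyClosed.of_comp_of_isSeparated h p
  haveI : UniversallyClosed h.toImage := by
    haveI : UniversallyClosed (h.toImage ≫ h.imageι) := by rw [h.toImage_imageι]; infer_instance
    exact UniversallyClosed.of_comp_of_isSeparated h.toImage h.imageι
  haveI : Surjective h.toImage := by
    constructor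
    have hd : DenseRange h.toImage := h.toImage.denseRange
    have hcl : IsClosed (Set.range h.toImage) := h.toImage.isClosedMap.isClosed_range
    rw [← Set.range_eq_univ, ← hcl.closure_eq, hd.closure_range]
  let g : h.image ⟶ X := h.imageι ≫ p
  have htg : h.toImage ≫ g = f := by
    rw [← Category.assoc, h.toImage_imageι, hp]
  haveI : UniversallyClosed g := by
    haveI : UniversallyClosed (h.toImage ≫ g) := by rw [htg]; infer_instance
    exact UniversallyClosed.of_comp_surjective h.toImage g
  haveI : IsAffineHom g := inferInstance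
  haveI : LocallyOfFiniteType g := inferInstance
  haveI : IsIntegralHom g := IsIntegralHom.iff_universallyClosed_and_isAffineHom.mpr ⟨‹_›, ‹_›⟩
  haveI : IsFinite g := (IsFinite.iff_isIntegralHom_and_locallyOfFiniteType g).mpr ⟨‹_›, ‹_›⟩
  refine ⟨h.image, h.toImage, g, htg, ‹_›, ?_, ‹_›⟩
  -- affineness of the image
  have hinj : Function.Injective h.toImage.appTop :=
    app_injective_of_ker_eq_bot h.toImage (ker_toImage h) ⊤
  let s : n → Γ(h.image, ⊤) := fun i => h.imageι.appTop (coord X i)
  have hs : ∀ i, h.toImage.appTop (s i) = v i := by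
    intro i
    have h1 : h.toImage.appTop (h.imageι.appTop (coord X i)) = h.appTop (coord X i) := by
      rw [← CommRingCat.comp_apply, ← Scheme.Hom.comp_appTop, h.toImage_imageι]
    exact h1.trans (homOfVector_appTop_coord f v i)
  have hone : ∑ i, s (Sum.inr i) * s (Sum.inl i) = 1 := by
    apply hinj
    rw [map_sum, map_one, ← hsum]
    refine Finset.sum_congr rfl fun i _ => ?_
    rw [map_mul, hs, hs]
    rfl
  refine isAffine_of_isAffineOpen_basicOpen (Set.range fun i => s (Sum.inl i)) ?_ ?_
  · rw [Ideal.eq_top_iff_one, ← hone]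
    exact Ideal.sum_mem _ fun i _ => Ideal.mul_mem_left _ _ (Ideal.subset_span ⟨i, rfl⟩)
  · rintro _ ⟨i, rfl⟩
    obtain ⟨U, hUaff, hle⟩ := hU i
    have hsub : h.image.basicOpen (s (Sum.inl i)) ≤ g ⁻¹ᵁ U := by
      intro z hz
      obtain ⟨y, rfl⟩ := h.toImage.surjective z
      have hy : y ∈ Y.basicOpen (b i) := by
        have h2 : h.toImage ⁻¹ᵁ h.image.basicOpen (s (Sum.inl i)) =
            Y.basicOpen (h.toImage.appTop (s (Sum.inl i))) :=
          Scheme.preimage_basicOpen_top h.toImage (s (Sum.inl i))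
        rw [hs] at h2
        have h3 : y ∈ h.toImage ⁻¹ᵁ h.image.basicOpen (s (Sum.inl i)) := hz
        rw [h2] at h3
        exact h3
      have h4 : f y ∈ U := hle hy
      show g (h.toImage y) ∈ U
      rwa [← Scheme.Hom.comp_apply, htg]
    have haff : IsAffineOpen (g ⁻¹ᵁ U) := hUaff.preimage g
    have heq : h.image.basicOpen (s (Sum.inl i)) = h.image.basicOpen
        (h.image.presheaf.map (homOfLE (le_top : g ⁻¹ᵁ U ≤ ⊤)).op (s (Sum.inl i))) := by
      rw [Scheme.basicOpen_res]
      exact (inf_eq_right.mpr hsub).symm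
    rw [heq]
    exact haff.basicOpen _

/-- **Chevalley's theorem**, general form: the target of a surjective universally closed morphism
from an affine scheme is affine (assuming absolute Noetherian approximation). -/
theorem isAffine_of_surjective_universallyClosed
    (happ : ∀ (S : Scheme.{u}) [CompactSpace S] [QuasiSeparatedSpace S], HasApprox S)
    {X S : Scheme.{u}} (f : X ⟶ S) [IsAffine X] [Surjective f] [UniversallyClosed f] :
    IsAffine S := by
  obtain ⟨Z, t, g, htg, hfin, haff, hsurj⟩ := exists_finite_factorization f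
  haveI : Surjective g := by
    haveI : Surjective (t ≫ g) := by rw [htg]; infer_instance
    exact Surjective.of_comp t g
  exact isAffine_of_finite_surjective happ g

end Groth.Agent.Lib.Helper22.GenChev
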