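import Mathlib

/-!
# Descent of `geometrically P` along a surjective base change

If `P` is a property of schemes which passes to the target of a surjective morphism
(e.g. "irreducible", "empty or connected"), and the base change of `f : X ⟶ Y` along a
surjective `g : Y' ⟶ Y` is geometrically `P`, then so is `f`.
-/

set_option autoImplicit false
universe u

open CategoryTheory CategoryTheory.Limits AlgebraicGeometry

namespace Groth.Agent.Lib.Helper22

/-- A morphism from a nonempty scheme to the spectrum of a field is surjective. -/
theorem surjective_of_nonempty_of_field {W : Scheme.{u}} [Nonempty W] {K : Type u} [Field K]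
    (q : W ⟶ Spec (.of K)) : Surjective q := by
  refine ⟨fun y => ?_⟩
  obtain ⟨w⟩ := ‹Nonempty W›
  exact ⟨w, Subsingleton.elim _ _⟩

theorem geometrically_of_surjective_baseChange (P : ObjectProperty Scheme.{u})
    (hP : ∀ {Z' Z : Scheme.{u}} (q : Z' ⟶ Z), Surjective q → P Z' → P Z)
    {X Y Y' : Scheme.{u}} (f : X ⟶ Y) (g : Y' ⟶ Y) [Surjective g]
    (h : geometrically P (pullback.snd f g)) : geometrically P f := by
  intro K _ y Z fst snd hsq
  -- a point of `Spec K ×_Y Y'`
  have hsurj : Surjective (pullback.fst y g) := inferInstance
  obtain ⟨w, -⟩ := hsurj.surj (Classical.arbitrary (Spec (.of K)))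
  let W := pullback y g
  let L : Type u := W.residueField w
  let ι : Spec (.of L) ⟶ W := W.fromSpecResidueField w
  let a : Spec (.of L) ⟶ Spec (.of K) := ι ≫ pullback.fst y g
  let y' : Spec (.of L) ⟶ Y' := ι ≫ pullback.snd y g
  have hay : a ≫ y = y' ≫ g := by
    simp only [a, y', Category.assoc, pullback.condition]
  clear_value a y'
  -- the base change of `Z` to `L`
  let ZL := pullback snd a
  have hsq1 : IsPullback (pullback.fst snd a) (pullback.snd snd a) snd a := .of_hasPullback _ _
  have hbig : IsPullback (pullback.fst snd a ≫ fst) (pullback.snd snd a) f (a ≫ y) :=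
    hsq1.paste_horiz hsq
  have hsa : Surjective a := surjective_of_nonempty_of_field a
  have hsZ : Surjective (pullback.fst snd a) := inferInstance
  refine hP (pullback.fst snd a) hsZ ?_
  -- the map `ZL ⟶ X ×_Y Y'`
  let p : ZL ⟶ pullback f g :=
    pullback.lift (pullback.fst snd a ≫ fst) (pullback.snd snd a ≫ y') (by
      rw [Category.assoc, hsq.w, pullback.condition_assoc, Category.assoc, hay])
  have hright : IsPullback (pullback.fst f g) (pullback.snd f g) f g := .of_hasPullback _ _
  have hleft : IsPullback p (pullback.snd snd a) (pullback.snd f g) y' := by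
    refine IsPullback.of_right ?_ ?_ hright
    · have e1 : p ≫ pullback.fst f g = pullback.fst snd a ≫ fst := pullback.lift_fst _ _ _
      rw [e1, ← hay]
      exact hbig
    · exact pullback.lift_snd _ _ _
  exact h y' p (pullback.snd snd a) hleft

end Groth.Agent.Lib.Helper22
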