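import Mathlib
import Groth.Prelude.Def_EGA43
import Groth.Prelude.Def_MoreMor
import Groth.Agent.Lib.Helper7.FibreIntegral
import Groth.Agent.Lib.Helper22.WeightingLifts
import Groth.Agent.Lib.Helper22.WeightingPieces
import Groth.Agent.Lib.Helper22.WeightingSepNbhd
import Groth.Agent.Lib.Helper22.WeightingCore
import Groth.Agent.Lib.Helper22.WeightingSemicont
import Groth.Agent.Lib.Helper22.WeightingFinite

/-!
# Lower semicontinuity of the geometric number of points of quasi-finite fibres (helper22)

For `f` separated and quasi-finite, the geometric number of points `n(z)` of the fibre over `z`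
(= `MoreMor.nGeomConnComp f z`) equals the geometric degree `deg f z` (the fibre integral of the
constant function `1`).  If `f` is universally open at all points over `y`, then `n` is lower
semicontinuous at `y` (induction peeling off étale-local pieces of degree one), and if moreover `n` is
constant near `y` then `f` is proper (even finite étale-locally) over a neighbourhood of `y`.
-/

set_option autoImplicit false
set_option linter.style.haveILetI false
universe u
open AlgebraicGeometry CategoryTheory Limits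

namespace Groth.Agent.Lib.Helper22.GeomPts

open Groth.Agent.Lib.Helper7 Groth.Agent.Lib.Helper22.Weighting

section univOpenAt

/-- Openness at a point of a morphism of schemes (as a map of underlying spaces). -/
def OpenAt {X Y : Scheme.{u}} (f : X ⟶ Y) (x : X) : Prop :=
  ∀ U ∈ nhds x, (f '' U) ∈ nhds (f x)

theorem openAt_iff {X Y : Scheme.{u}} (f : X ⟶ Y) (x : X) :
    OpenAt f x ↔ EGA43.IsOpenAt f.base x := Iff.rfl

/-- Flexible form of universal openness at a point: every base change (any pullback square) is open at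
every point over `x`. -/
def UnivOpenAt' {X Y : Scheme.{u}} (f : X ⟶ Y) (x : X) : Prop :=
  ∀ ⦃X' Y' : Scheme.{u}⦄ (h : X' ⟶ X) (f' : X' ⟶ Y') (g : Y' ⟶ Y), IsPullback h f' f g →
    ∀ x' : X', h x' = x → OpenAt f' x'

theorem OpenAt.comp {X Y Z : Scheme.{u}} {f : X ⟶ Y} {g : Y ⟶ Z} {x : X} (hf : OpenAt f x)
    (hg : OpenAt g (f x)) : OpenAt (f ≫ g) x := by
  intro U hU
  have := hg _ (hf U hU)
  rw [← Set.image_comp] at this
  exact this

theorem openAt_of_isOpenMap {X Y : Scheme.{u}} (f : X ⟶ Y) (hf : IsOpenMap f) (x : X) :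
    OpenAt f x := fun _ hU => hf.image_mem_nhds hU

theorem univOpenAt'_of_isUnivOpenAt {X Y : Scheme.{u}} {f : X ⟶ Y} {x : X}
    (h : EGA43.IsUnivOpenAt f x) : UnivOpenAt' f x := by
  intro X' Y' h' f' g hc x' hx'
  have h1 : OpenAt (pullback.snd f g) (hc.isoPullback.hom x') := by
    apply h Y' g
    rw [← hx', ← Scheme.Hom.comp_apply, IsPullback.isoPullback_hom_fst]
  have h2 : OpenAt hc.isoPullback.hom x' :=
    openAt_of_isOpenMap _ hc.isoPullback.hom.homeomorph.isOpenMap x'
  have := h2.comp h1
  rwa [IsPullback.isoPullback_hom_snd] at this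

theorem UnivOpenAt'.baseChange {X Y X' Y' : Scheme.{u}} {f : X ⟶ Y} {x : X} (hx : UnivOpenAt' f x)
    {h : X' ⟶ X} {f' : X' ⟶ Y'} {g : Y' ⟶ Y} (hc : IsPullback h f' f g) {x' : X'} (hx' : h x' = x) :
    UnivOpenAt' f' x' := by
  intro X'' Y'' h₂ f'' g₂ hc₂ x'' hx''
  refine hx (h₂ ≫ h) f'' (g₂ ≫ g) (hc₂.paste_horiz hc) x'' ?_
  rw [Scheme.Hom.comp_apply, hx'', hx']

theorem UnivOpenAt'.openAt {X Y : Scheme.{u}} {f : X ⟶ Y} {x : X} (hx : UnivOpenAt' f x) :
    OpenAt f x :=
  hx (𝟙 X) f (𝟙 Y) (IsPullback.id_horiz f) x rfl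

theorem UnivOpenAt'.comp_openImmersion {X Y X₀ : Scheme.{u}} {f : X ⟶ Y} (j : X₀ ⟶ X)
    [IsOpenImmersion j] {x₀ : X₀} (hx : UnivOpenAt' f (j x₀)) : UnivOpenAt' (j ≫ f) x₀ := by
  intro X₀' Y' h₀ f₀' g hc x₀' hx₀'
  let j' : X₀' ⟶ pullback f g := pullback.lift (h₀ ≫ j) f₀' (by rw [Category.assoc, hc.w])
  have hj'₁ : j' ≫ pullback.fst f g = h₀ ≫ j := pullback.lift_fst _ _ _
  have hj'₂ : j' ≫ pullback.snd f g = f₀' := pullback.lift_snd _ _ _
  have htop : IsPullback h₀ j' j (pullback.fst f g) := by
    refine IsPullback.of_bot ?_ hj'₁.symm (IsPullback.of_hasPullback f g)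
    rw [hj'₂]
    exact hc
  have : IsOpenImmersion j' := MorphismProperty.of_isPullback (P := @IsOpenImmersion) htop ‹_›
  have h1 : OpenAt (pullback.snd f g) (j' x₀') := by
    apply hx _ _ _ (IsPullback.of_hasPullback f g)
    rw [← Scheme.Hom.comp_apply, hj'₁, Scheme.Hom.comp_apply, hx₀']
  have h2 : OpenAt j' x₀' := openAt_of_isOpenMap _ j'.isOpenEmbedding.isOpenMap x₀'
  have := h2.comp h1
  rwa [hj'₂] at this

theorem univOpenAt'_of_universallyOpen {X Y : Scheme.{u}} (f : X ⟶ Y) [UniversallyOpen f] (x : X) :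
    UnivOpenAt' f x := by
  intro X' Y' h f' g hc x' _
  have : UniversallyOpen f' := MorphismProperty.of_isPullback (P := @UniversallyOpen) hc ‹_›
  exact openAt_of_isOpenMap _ f'.isOpenMap x'

end univOpenAt

section bridge

theorem isSepClosed_of_ringEquiv {k k' : Type*} [Field k] [Field k'] (e : k ≃+* k')
    [IsSepClosed k] : IsSepClosed k' := by
  refine ⟨fun p hp => ?_⟩
  have h1 : (p.map (e.symm : k' →+* k)).Separable := hp.map
  have h2 := IsSepClosed.splits_of_separable _ h1
  have h3 := h2.map (e : k →+* k')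
  rw [Polynomial.map_map] at h3
  have : (e : k →+* k').comp (e.symm : k' →+* k) = RingHom.id k' := by ext; simp
  rwa [this, Polynomial.map_id] at h3

set_option backward.isDefEq.respectTransparency false in
theorem isSepClosed_residueField_spec (K : Type u) [Field K] [IsSepClosed K]
    (x : Spec (CommRingCat.of K)) :
    IsSepClosed ((Spec (CommRingCat.of K)).residueField x) := by
  have : x.asIdeal.IsMaximal := by
    rw [Ideal.eq_bot_of_prime x.asIdeal]; exact Ideal.bot_isMaximal
  have hbij : Function.Bijective (algebraMap K x.asIdeal.ResidueField) :=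
    ⟨(algebraMap K _).injective, Ideal.algebraMap_residueField_surjective _⟩
  let e1 : K ≃+* x.asIdeal.ResidueField := RingEquiv.ofBijective _ hbij
  let e2 : (Spec (CommRingCat.of K)).residueField x ≃+* x.asIdeal.ResidueField :=
    (Scheme.Spec.residueFieldIso _ x).commRingCatIsoToRingEquiv
  exact isSepClosed_of_ringEquiv (e1.trans e2.symm)

theorem connectedComponents_card_of_discrete (Z : Type*) [TopologicalSpace Z]
    [DiscreteTopology Z] : ENat.card (ConnectedComponents Z) = ENat.card Z := by
  symm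
  apply ENat.card_congr
  refine Equiv.ofBijective (ConnectedComponents.mk) ⟨?_, ConnectedComponents.surjective_coe⟩
  intro a b hab
  rw [ConnectedComponents.coe_eq_coe, connectedComponent_eq_singleton,
    connectedComponent_eq_singleton] at hab
  exact Set.singleton_injective hab

/-- The geometric fibre of a locally quasi-finite morphism is discrete (as in helper7's `S1415`). -/
theorem discreteTopology_geomFiber {X Y : Scheme.{u}} (f : X ⟶ Y) [LocallyQuasiFinite f] (y : Y) :
    DiscreteTopology ↥(MoreMor.geomFiber f y) := by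
  haveI : LocallyQuasiFinite (f.fiberToSpecResidueField y) :=
    inferInstanceAs (LocallyQuasiFinite (pullback.snd _ _))
  let h : MoreMor.geomFiber f y ⟶ Spec (CommRingCat.of (SeparableClosure (Y.residueField y))) :=
    pullback.snd _ _
  haveI : LocallyQuasiFinite h := inferInstanceAs (LocallyQuasiFinite (pullback.snd _ _))
  have hd := h.isDiscrete_preimage_singleton default
  have : (h ⁻¹' {default}) = Set.univ := by
    ext z
    simp only [Set.mem_preimage, Set.mem_singleton_iff, Set.mem_univ, iff_true]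
    exact Subsingleton.elim _ _
  rw [this] at hd
  exact isDiscrete_univ_iff.mp hd

/-- The geometric fibre of a locally quasi-finite morphism with finite fibres is finite, and its
number of points is the geometric degree. -/
theorem natCard_geomFiber_eq_deg {X Y : Scheme.{u}} (f : X ⟶ Y) [LocallyQuasiFinite f]
    (hfin : ∀ y, (f ⁻¹' {y}).Finite) (y : Y) :
    Finite ↥(MoreMor.geomFiber f y) ∧ (Nat.card ↥(MoreMor.geomFiber f y) : ℤ) = deg f y := by
  let K := SeparableClosure (Y.residueField y)
  let g₀ : Spec (CommRingCat.of K) ⟶ Spec (Y.residueField y) :=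
    Spec.map (CommRingCat.ofHom (algebraMap (Y.residueField y) K))
  let p : MoreMor.geomFiber f y ⟶ Spec (CommRingCat.of K) :=
    pullback.snd (f.fiberToSpecResidueField y) g₀
  let h : MoreMor.geomFiber f y ⟶ X := pullback.fst (f.fiberToSpecResidueField y) g₀ ≫ f.fiberι y
  let g : Spec (CommRingCat.of K) ⟶ Y := g₀ ≫ Y.fromSpecResidueField y
  have hc : IsPullback h p f g :=
    (IsPullback.of_hasPullback (f.fiberToSpecResidueField y) g₀).paste_horiz
      (IsPullback.of_hasPullback f (Y.fromSpecResidueField y))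
  have : LocallyQuasiFinite p := MorphismProperty.of_isPullback (P := @LocallyQuasiFinite) hc ‹_›
  have hfinp : ∀ v, (p ⁻¹' {v}).Finite := finite_fiber_of_isPullback f hfin hc
  let pt : Spec (CommRingCat.of K) := IsLocalRing.closedPoint K
  have hpt : ∀ z, p z = pt := fun z => Subsingleton.elim (α := PrimeSpectrum K) _ _
  have hgpt : g pt = y := by
    rw [Scheme.Hom.comp_apply]; exact Scheme.fromSpecResidueField_apply y _
  have hdeg : deg p pt = deg f y := by
    have := fibreIntegral_baseChange f hfin p h g hc (fun _ => 1) pt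
    rw [hgpt] at this
    exact this
  have hfinG : Finite ↥(MoreMor.geomFiber f y) := by
    have h1 : (p ⁻¹' {pt}) = Set.univ := by ext z; simp [hpt z]
    have h2 := hfinp pt
    rw [h1] at h2
    exact Set.finite_univ_iff.mp h2
  refine ⟨hfinG, ?_⟩
  rw [← hdeg, deg, MoreMor.fibreIntegral]
  have hterm : ∀ u : {u // p u = pt}, (1 : ℤ) * (letI := (p.residueFieldMap u.1).hom.toAlgebra
      (Field.finSepDegree ((Spec (CommRingCat.of K)).residueField (p u.1))
        ((MoreMor.geomFiber f y).residueField u.1) : ℤ)) = 1 := by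
    intro u
    letI := (p.residueFieldMap u.1).hom.toAlgebra
    have := isSepClosed_residueField_spec K (p u.1)
    have := finite_residueFieldMap p u.1
    rw [IsPurelyInseparable.finSepDegree_eq_one]
    simp
  rw [finsum_congr hterm]
  have : Finite {u // p u = pt} := Subtype.finite
  letI := Fintype.ofFinite {u // p u = pt}
  rw [finsum_eq_sum_of_fintype]
  simp only [Finset.sum_const, Finset.card_univ, nsmul_eq_mul, mul_one]
  rw [Fintype.card_eq_nat_card]
  congr 1
  exact (Nat.card_congr (Equiv.subtypeUnivEquiv hpt)).symm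

/-- The geometric number of points of a quasi-finite fibre is the geometric degree. -/
theorem nGeomConnComp_eq_deg {X Y : Scheme.{u}} (f : X ⟶ Y) [LocallyQuasiFinite f]
    (hfin : ∀ y, (f ⁻¹' {y}).Finite) (y : Y) :
    MoreMor.nGeomConnComp f y = ((deg f y).toNat : ℕ∞) := by
  obtain ⟨hF, h⟩ := natCard_geomFiber_eq_deg f hfin y
  have : DiscreteTopology ↥(MoreMor.geomFiber f y) := discreteTopology_geomFiber f y
  rw [MoreMor.nGeomConnComp, connectedComponents_card_of_discrete, ← h,
    ENat.card_eq_coe_natCard]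
  simp

theorem nGeomConnComp_le_iff {X Y : Scheme.{u}} (f : X ⟶ Y) [LocallyQuasiFinite f]
    (hfin : ∀ y, (f ⁻¹' {y}).Finite) (y z : Y) :
    MoreMor.nGeomConnComp f y ≤ MoreMor.nGeomConnComp f z ↔ deg f y ≤ deg f z := by
  rw [nGeomConnComp_eq_deg f hfin, nGeomConnComp_eq_deg f hfin, Nat.cast_le]
  have h1 := deg_nonneg' f y
  have h2 := deg_nonneg' f z
  omega

theorem nGeomConnComp_eq_iff {X Y : Scheme.{u}} (f : X ⟶ Y) [LocallyQuasiFinite f]
    (hfin : ∀ y, (f ⁻¹' {y}).Finite) (y z : Y) :
    MoreMor.nGeomConnComp f z = MoreMor.nGeomConnComp f y ↔ deg f z = deg f y := by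
  rw [nGeomConnComp_eq_deg f hfin, nGeomConnComp_eq_deg f hfin, Nat.cast_inj]
  have h1 := deg_nonneg' f y
  have h2 := deg_nonneg' f z
  omega

end bridge

section lsc

/-- **Lower semicontinuity of the geometric degree** at a point over which the morphism is
universally open. (Induction on the geometric number of points of the fibre.) -/
theorem exists_open_le_deg :
    ∀ (n : ℕ) {X Y : Scheme.{u}} (f : X ⟶ Y) [LocallyQuasiFinite f] [LocallyOfFiniteType f]
      [IsSeparated f] (_ : ∀ y : Y, (f ⁻¹' {y}).Finite) (y : Y)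
      (_ : ∀ x, f x = y → UnivOpenAt' f x), deg f y = n →
        ∃ N : Set Y, IsOpen N ∧ y ∈ N ∧ ∀ y' ∈ N, (n : ℤ) ≤ deg f y' := by
  intro n
  induction n using Nat.strong_induction_on with
  | _ n ih =>
    intro X Y f _ _ _ hfin y hopen hn
    rcases Nat.eq_zero_or_pos n with rfl | hnpos
    · exact ⟨Set.univ, isOpen_univ, trivial, fun y' _ => by simpa using deg_nonneg' f y'⟩
    · obtain ⟨x, hx⟩ : ∃ x, f x = y :=
        exists_of_fibreIntegral_ne_zero f (fun _ => 1) y (by
          change deg f y ≠ 0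
          rw [hn]
          exact_mod_cast hnpos.ne')
      obtain ⟨V, γ, _, U, a, π, hp, u, hau, hdeg⟩ := exists_etale_piece_deg_eq_one f x
      have := hp.isFinite
      have := hp.isOpenImmersion_lift
      obtain ⟨fV, hfV⟩ : ∃ fV : pullback f γ ⟶ V, fV = pullback.snd f γ := ⟨_, rfl⟩
      obtain ⟨j, hj⟩ : ∃ j : U ⟶ pullback f γ, j = pullback.lift a π hp.comm := ⟨_, rfl⟩
      have : IsOpenImmersion j := by rw [hj]; infer_instance
      have : LocallyQuasiFinite fV := by rw [hfV]; infer_instance
      have : LocallyOfFiniteType fV := by rw [hfV]; infer_instance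
      have : IsSeparated fV := by rw [hfV]; infer_instance
      have hj₁ : j ≫ pullback.fst f γ = a := by rw [hj]; exact pullback.lift_fst _ _ _
      have hj₂ : j ≫ fV = π := by rw [hj, hfV]; exact pullback.lift_snd _ _ _
      have hpb : IsPullback (pullback.fst f γ) fV f γ := by
        rw [hfV]; exact IsPullback.of_hasPullback f γ
      have hjfin : IsFinite j := by
        have : IsFinite (j ≫ fV) := by rw [hj₂]; infer_instance
        exact IsFinite.of_comp j fV
      have hcl : IsClosed (Set.range j) := j.isClosedMap.isClosed_range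
      let R : (pullback f γ).Opens := ⟨(Set.range j)ᶜ, hcl.isOpen_compl⟩
      have hR : Set.range R.ι = (Set.range j)ᶜ := Scheme.Opens.range_ι R
      have hfinV : ∀ v, (fV ⁻¹' {v}).Finite := finite_fiber_of_isPullback f hfin hpb
      have hfinR : ∀ v, ((R.ι ≫ fV) ⁻¹' {v}).Finite := fun v => by
        have : (R.ι ≫ fV) ⁻¹' {v} = R.ι ⁻¹' (fV ⁻¹' {v}) := rfl
        rw [this]
        exact (hfinV v).preimage R.ι.isOpenEmbedding.injective.injOn
      have hfinπ : ∀ v, (π ⁻¹' {v}).Finite := fun v => by
        have : π ⁻¹' {v} = j ⁻¹' (fV ⁻¹' {v}) := by rw [← hj₂]; rfl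
        rw [this]
        exact (hfinV v).preimage j.isOpenEmbedding.injective.injOn
      have hsplit : ∀ (v : V), deg fV v = deg π v + deg (R.ι ≫ fV) v := by
        intro v
        have := fibreIntegral_split' j R.ι hR fV (fun _ => 1) v (hfinV v)
        rw [hj₂] at this
        exact this
      have hbc : ∀ (v : V), deg fV v = deg f (γ v) :=
        fun v => fibreIntegral_baseChange f hfin fV (pullback.fst f γ) γ hpb (fun _ => 1) v
      have hγv : γ (π u) = y := by
        rw [← Scheme.Hom.comp_apply, ← hp.comm, Scheme.Hom.comp_apply, hau, hx]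
      have hdegR : deg (R.ι ≫ fV) (π u) = ((n - 1 : ℕ) : ℤ) := by
        have h := hsplit (π u)
        rw [hbc, hγv, hn, hdeg] at h
        have : ((n - 1 : ℕ) : ℤ) = (n : ℤ) - 1 := by
          rw [Nat.cast_sub hnpos]; simp
        rw [this]
        linarith
      have hfVy : ∀ z, fV z = π u → f (pullback.fst f γ z) = y := by
        intro z hz
        rw [← Scheme.Hom.comp_apply, hpb.w, Scheme.Hom.comp_apply, hz, hγv]
      have hopenR : ∀ z, (R.ι ≫ fV) z = π u → UnivOpenAt' (R.ι ≫ fV) z := by
        intro z hz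
        apply UnivOpenAt'.comp_openImmersion
        exact (hopen _ (hfVy _ hz)).baseChange hpb rfl
      obtain ⟨NR, hNRo, hvNR, hNR⟩ := ih (n - 1) (by omega) (R.ι ≫ fV) hfinR (π u) hopenR hdegR
      have hπopen : OpenAt π u := by
        have h1 : UnivOpenAt' (j ≫ fV) u := by
          apply UnivOpenAt'.comp_openImmersion
          refine (hopen _ (hfVy (j u) ?_)).baseChange hpb rfl
          rw [← Scheme.Hom.comp_apply, hj₂]
        have := h1.openAt
        rwa [hj₂] at this
      have hN₂ : π '' Set.univ ∈ nhds (π u) := hπopen _ Filter.univ_mem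
      obtain ⟨N₂, hN₂sub, hN₂o, hvN₂⟩ := mem_nhds_iff.mp hN₂
      refine ⟨γ '' (NR ∩ N₂), γ.isOpenMap _ (hNRo.inter hN₂o), ⟨π u, ⟨hvNR, hvN₂⟩, hγv⟩, ?_⟩
      rintro _ ⟨v', ⟨hv'R, hv'₂⟩, rfl⟩
      rw [← hbc, hsplit]
      obtain ⟨u', -, hu'⟩ := hN₂sub hv'₂
      have h1 : 1 ≤ deg π v' := by
        have := one_le_deg π u' (hfinπ _)
        rwa [hu'] at this
      have h2 := hNR v' hv'R
      have : ((n - 1 : ℕ) : ℤ) = (n : ℤ) - 1 := by
        rw [Nat.cast_sub hnpos]; simp
      rw [this] at h2
      linarith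

/-- Lower semicontinuity at `y` of the geometric degree of a separated quasi-finite morphism which is
universally open at the points over `y`. -/
theorem exists_open_deg_le {X Y : Scheme.{u}} (f : X ⟶ Y) [LocallyQuasiFinite f]
    [LocallyOfFiniteType f] [IsSeparated f] (hfin : ∀ y : Y, (f ⁻¹' {y}).Finite) (y : Y)
    (hopen : ∀ x, f x = y → UnivOpenAt' f x) :
    ∃ N : Set Y, IsOpen N ∧ y ∈ N ∧ ∀ y' ∈ N, deg f y ≤ deg f y' := by
  obtain ⟨n, hn⟩ : ∃ n : ℕ, deg f y = n :=
    ⟨(deg f y).toNat, (Int.toNat_of_nonneg (deg_nonneg' f y)).symm⟩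
  obtain ⟨N, hNo, hyN, hN⟩ := exists_open_le_deg n f hfin y hopen hn
  exact ⟨N, hNo, hyN, fun y' hy' => hn ▸ hN y' hy'⟩

/-- Lower semicontinuity at `y` of the geometric number of points. -/
theorem exists_nhds_nGeomConnComp_le {X Y : Scheme.{u}} (f : X ⟶ Y) [LocallyQuasiFinite f]
    [LocallyOfFiniteType f] [IsSeparated f] [QuasiCompact f] (y : Y)
    (hopen : ∀ x, f x = y → UnivOpenAt' f x) :
    ∃ V ∈ nhds y, ∀ z ∈ V, MoreMor.nGeomConnComp f y ≤ MoreMor.nGeomConnComp f z := by
  have hfin : ∀ y, (f ⁻¹' {y}).Finite := fun y => f.finite_preimage_singleton y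
  obtain ⟨N, hNo, hyN, hN⟩ := exists_open_deg_le f hfin y hopen
  exact ⟨N, hNo.mem_nhds hyN, fun z hz => (nGeomConnComp_le_iff f hfin y z).mpr (hN z hz)⟩

end lsc

end Groth.Agent.Lib.Helper22.GeomPts
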