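import Mathlib
import Groth.Prelude.Def_MoreMor
import Groth.Prelude.Def_ProCons
import Groth.Agent.Lib.Helper16.ProConsMore
import Groth.Agent.Lib.Helper22.WeightingSepNbhd
import Groth.Agent.Lib.Helper22.WeightingPieces
import Groth.Agent.Lib.Helper22.WeightingCore

/-!
# Constructibility of weightings (helper22)

* `isIndConstructible_iUnion`: arbitrary unions of ind-constructible subsets of a scheme.
* `isLocallyConstructible_setOf_eq`: a function on a scheme which is constant on an
  ind-constructible neighbourhood (for the constructible topology) of every point has locally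
  constructible level sets.
* `mem_range_diagonal_of_deg_eq_one`, `deg_eq_one_of_forall_mem_range_diagonal`: geometric degree one
  in terms of the diagonal.
* `exists_isIndConstructible_eq`: a weighting is constant on an ind-constructible set around every
  point.
-/

set_option autoImplicit false
set_option linter.style.haveILetI false
universe u
open AlgebraicGeometry CategoryTheory Limits Topology

namespace Groth.Agent.Lib.Helper22.Weighting

open Groth.Agent.Lib.Helper7 Groth.Agent.Lib.Helper16

/-- Arbitrary unions of ind-constructible subsets of a scheme are ind-constructible. -/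
theorem isIndConstructible_iUnion {X : Scheme.{u}} {ι : Type*} (E : ι → Set X)
    (hE : ∀ i, ProCons.IsIndConstructible (E i)) : ProCons.IsIndConstructible (⋃ i, E i) := by
  intro x
  obtain ⟨W, hW, hxW⟩ := exists_affine_nhd x
  obtain ⟨_, _, _, _, _⟩ := spectral_of_isAffineOpen hW
  choose S hS hES using fun i => exists_sUnion_of_isIndConstructible (hE i) (W := (W : Set X)) W.2
  refine ⟨W, W.2, hxW, ⋃ i, S i, ?_, ?_⟩
  · intro C hC
    obtain ⟨i, hi⟩ := Set.mem_iUnion.mp hC
    exact (hS i C hi).isLocallyConstructible
  · rw [Set.preimage_iUnion, Set.sUnion_iUnion]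
    exact Set.iUnion_congr hES

/-- A function on a scheme which is constant on an ind-constructible set around every point has
locally constructible level sets. -/
theorem isLocallyConstructible_setOf_eq {X : Scheme.{u}} {β : Type*} (φ : X → β)
    (h : ∀ x : X, ∃ E : Set X, ProCons.IsIndConstructible E ∧ x ∈ E ∧ ∀ x' ∈ E, φ x' = φ x)
    (n : β) : IsLocallyConstructible {x : X | φ x = n} := by
  choose E hE hxE hφE using h
  have hind : ∀ P : β → Prop, ProCons.IsIndConstructible {x : X | P (φ x)} := by
    intro P
    have : {x : X | P (φ x)} = ⋃ x : {x : X // P (φ x)}, E x.1 := by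
      ext x'
      simp only [Set.mem_ofPred_eq, Set.mem_iUnion]
      constructor
      · intro hx'
        exact ⟨⟨x', hx'⟩, hxE x'⟩
      · rintro ⟨⟨x, hx⟩, hx'⟩
        rw [hφE x x' hx']
        exact hx
    rw [this]
    exact isIndConstructible_iUnion _ fun x => hE x.1
  have hi : ProCons.IsIndConstructible {x : X | φ x = n} := hind (fun b => b = n)
  have hp : ProCons.IsProConstructible {x : X | φ x = n} := by
    apply isProConstructible_of_compl
    exact hind (fun b => ¬ b = n)
  intro x
  obtain ⟨W, hW, hxW⟩ := exists_affine_nhd x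
  obtain ⟨_, _, _, _, _⟩ := spectral_of_isAffineOpen hW
  exact ⟨W, W.2.mem_nhds hxW, W.2, isConstructible_preimage_of_ind_of_pro hi hp W.2⟩

/-- The level sets of such a function are ind-constructible. -/
theorem isIndConstructible_setOf_eq {X : Scheme.{u}} {β : Type*} (φ : X → β)
    (h : ∀ x : X, ∃ E : Set X, ProCons.IsIndConstructible E ∧ x ∈ E ∧ ∀ x' ∈ E, φ x' = φ x)
    (n : β) : ProCons.IsIndConstructible {x : X | φ x = n} :=
  isIndConstructible_of_isLocallyConstructible (isLocallyConstructible_setOf_eq φ h n)

/-- If `f ≫ g` is locally of finite presentation and `g` is locally of finite type, then `f` is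
locally of finite presentation. -/
theorem locallyOfFinitePresentation_of_comp {X Y Z : Scheme.{u}} {f : X ⟶ Y} {g : Y ⟶ Z}
    (hg : LocallyOfFiniteType g) (h : LocallyOfFinitePresentation (f ≫ g)) :
    LocallyOfFinitePresentation f := by
  wlog hZ : IsAffine Z generalizing X Y Z
  · rw [IsZariskiLocalAtTarget.iff_of_iSup_eq_top (P := @LocallyOfFinitePresentation) _
      (g.iSup_preimage_eq_top (iSup_affineOpens_eq_top Z))]
    intro U
    have H := IsZariskiLocalAtTarget.restrict h U.1
    rw [morphismRestrict_comp] at H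
    exact this (inferInstance : LocallyOfFiniteType (g ∣_ U.1)) H inferInstance
  wlog hY : IsAffine Y generalizing X Y
  · rw [IsZariskiLocalAtTarget.iff_of_iSup_eq_top (P := @LocallyOfFinitePresentation) _
      (iSup_affineOpens_eq_top Y)]
    intro U
    have H := HasRingHomProperty.comp_of_isOpenImmersion @LocallyOfFinitePresentation
      (f ⁻¹ᵁ U.1).ι (f ≫ g) h
    rw [← morphismRestrict_ι_assoc] at H
    exact this (g := U.1.ι ≫ g) inferInstance H U.2
  wlog hX : IsAffine X generalizing X
  · rw [IsZariskiLocalAtSource.iff_of_iSup_eq_top (P := @LocallyOfFinitePresentation) _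
      (iSup_affineOpens_eq_top X)]
    intro U
    have H := HasRingHomProperty.comp_of_isOpenImmersion @LocallyOfFinitePresentation
      U.1.ι (f ≫ g) h
    rw [← Category.assoc] at H
    exact this H U.2
  rw [HasRingHomProperty.iff_of_isAffine (P := @LocallyOfFinitePresentation)] at h ⊢
  rw [HasRingHomProperty.iff_of_isAffine (P := @LocallyOfFiniteType)] at hg
  have e : (f ≫ g).appTop.hom = f.appTop.hom.comp g.appTop.hom := by
    rw [Scheme.Hom.comp_appTop]; rfl
  rw [e] at h
  exact RingHom.FinitePresentation.of_comp_finiteType g.appTop.hom h hg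

/-- The diagonal of a morphism locally of finite type is locally of finite presentation. -/
theorem locallyOfFinitePresentation_diagonal {U V : Scheme.{u}} (π : U ⟶ V)
    [LocallyOfFiniteType π] : LocallyOfFinitePresentation (pullback.diagonal π) := by
  apply locallyOfFinitePresentation_of_comp (g := pullback.fst π π) inferInstance
  rw [pullback.diagonal_fst]
  infer_instance

section Diagonal

variable {U V : Scheme.{u}}

/-- If the fibre of the finite morphism `π` over `v` is geometrically a single point, every point
of `U ×_V U` over `v` lies on the diagonal. -/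
theorem mem_range_diagonal_of_deg_eq_one (π : U ⟶ V) [IsFinite π] (v : V) (h : deg π v = 1)
    (z : ↥(pullback π π)) (hz : (pullback.fst π π ≫ π) z = v) :
    z ∈ Set.range (pullback.diagonal π) := by
  obtain ⟨Ω, _, _, φ, hφ⟩ := exists_geomPoint z
  obtain ⟨vb, hvbdef⟩ : ∃ vb : Spec (CommRingCat.of Ω) ⟶ V, vb = φ ≫ pullback.fst π π ≫ π :=
    ⟨_, rfl⟩
  have hvb : vb (IsLocalRing.closedPoint Ω) = v := by
    rw [← hz, ← hφ, hvbdef]
    rfl
  have hg₁ : (φ ≫ pullback.fst π π) ≫ π = vb := by rw [hvbdef, Category.assoc]
  have hg₂ : (φ ≫ pullback.snd π π) ≫ π = vb := by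
    rw [hvbdef, Category.assoc, ← pullback.condition]
  have hcard : Nat.card (GeomLifts π Ω vb) = 1 := by
    have := deg_eq_natCard π Ω vb
    rw [hvb, h] at this
    exact_mod_cast this.symm
  have hsub : Subsingleton (GeomLifts π Ω vb) := (Nat.card_eq_one_iff_unique.mp hcard).1
  have h12 : φ ≫ pullback.fst π π = φ ≫ pullback.snd π π :=
    congrArg Subtype.val (hsub.elim (⟨_, hg₁⟩ : GeomLifts π Ω vb) (⟨_, hg₂⟩ : GeomLifts π Ω vb))
  have hfac : φ = (φ ≫ pullback.fst π π) ≫ pullback.diagonal π := by
    apply pullback.hom_ext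
    · rw [Category.assoc, pullback.diagonal_fst, Category.comp_id]
    · rw [Category.assoc, pullback.diagonal_snd, Category.comp_id, h12]
  refine ⟨(φ ≫ pullback.fst π π) (IsLocalRing.closedPoint Ω), ?_⟩
  rw [← Scheme.Hom.comp_apply, ← hfac, hφ]

/-- If every point of `U ×_V U` over `s` lies on the diagonal and the fibre over `s` is nonempty, the
fibre is geometrically a single point. -/
theorem deg_eq_one_of_forall_mem_range_diagonal (π : U ⟶ V) [IsFinite π] (u' : U)
    (h : ∀ z : ↥(pullback π π), (pullback.fst π π ≫ π) z = π u' →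
      z ∈ Set.range (pullback.diagonal π)) : deg π (π u') = 1 := by
  obtain ⟨Ω, _, _, vb, hvb⟩ := exists_geomPoint (π u')
  rw [← hvb, deg_eq_natCard π Ω vb]
  norm_cast
  rw [Nat.card_eq_one_iff_unique]
  constructor
  · constructor
    intro ū₁ ū₂
    obtain ⟨φ, hφ₁, hφ₂⟩ : ∃ φ : Spec (CommRingCat.of Ω) ⟶ pullback π π,
        φ ≫ pullback.fst π π = ū₁.1 ∧ φ ≫ pullback.snd π π = ū₂.1 :=
      ⟨pullback.lift ū₁.1 ū₂.1 (ū₁.2.trans ū₂.2.symm), pullback.lift_fst _ _ _,
        pullback.lift_snd _ _ _⟩
    have hz : (pullback.fst π π ≫ π) (φ (IsLocalRing.closedPoint Ω)) = π u' := by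
      rw [← Scheme.Hom.comp_apply, ← Category.assoc, hφ₁, ū₁.2, hvb]
    obtain ⟨u'', hu''⟩ := h _ hz
    -- the base change of the diagonal along `φ` is a surjective closed immersion
    have hsurj : Surjective (pullback.fst φ (pullback.diagonal π)) := by
      constructor
      intro p
      obtain ⟨t, ht, -⟩ := Scheme.Pullback.exists_preimage_pullback
        (f := φ) (g := pullback.diagonal π) (IsLocalRing.closedPoint Ω) u'' hu''.symm
      exact ⟨t, ht.trans (spec_field_point_eq Ω p).symm⟩
    have hiso : IsIso (pullback.fst φ (pullback.diagonal π)) :=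
      isIso_of_isClosedImmersion_of_surjective _
    obtain ⟨ψ, hψ⟩ : ∃ ψ : Spec (CommRingCat.of Ω) ⟶ U, ψ ≫ pullback.diagonal π = φ := by
      refine ⟨inv (pullback.fst φ (pullback.diagonal π)) ≫
        pullback.snd φ (pullback.diagonal π), ?_⟩
      rw [Category.assoc, ← pullback.condition, IsIso.inv_hom_id_assoc]
    apply GeomLifts.ext
    rw [← hφ₁, ← hφ₂, ← hψ, Category.assoc, Category.assoc, pullback.diagonal_fst,
      pullback.diagonal_snd]
  · obtain ⟨v, φ, hφ, hv⟩ := exists_eq_specMap_fromSpecResidueField Ω vb
    subst hφ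
    rw [hv] at hvb
    obtain ⟨ū, -⟩ := exists_geomLifts_pt_eq π Ω v φ u' hvb.symm
    exact ⟨ū⟩

end Diagonal

section Core

variable {X Y : Scheme.{u}} {f : X ⟶ Y}

/-- For a finite morphism `π`, the set of points of the base over which every point of `U ×_V U`
lies on the diagonal (the locus of geometrically injective fibres) is ind-constructible. -/
theorem isIndConstructible_compl_image_compl_range_diagonal {U V : Scheme.{u}} (π : U ⟶ V)
    [IsFinite π] :
    ProCons.IsIndConstructible
      ((pullback.fst π π ≫ π).base '' (Set.range (pullback.diagonal π))ᶜ)ᶜ := by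
  have : LocallyOfFinitePresentation (pullback.diagonal π) :=
    locallyOfFinitePresentation_diagonal π
  have h1 : IsLocallyConstructible (Set.range (pullback.diagonal π)) := by
    have := (pullback.diagonal π).isLocallyConstructible_image
      (s := Set.univ) IsLocallyConstructible.univ
    rwa [Set.image_univ] at this
  apply isIndConstructible_compl
  exact isProConstructible_image _ _ (isProConstructible_of_isLocallyConstructible h1.compl')

/-- **Constructible neighbourhoods for weightings**: a weighting `w` of a locally quasi-finite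
morphism is constant on an ind-constructible subset containing any given point. -/
theorem exists_isIndConstructible_eq [LocallyQuasiFinite f] [LocallyOfFiniteType f] {w : X → ℤ}
    (hw : MoreMor.IsWeighting f w) (x : X) :
    ∃ E : Set X, ProCons.IsIndConstructible E ∧ x ∈ E ∧ ∀ x' ∈ E, w x' = w x := by
  obtain ⟨V, γ, _, U, a, π, hp, u, hau, hdeg⟩ := exists_etale_piece_deg_eq_one f x
  have := hp.isFinite
  have := hp.etale_a
  have hI : IsLocallyConstant (MoreMor.fibreIntegral π (fun u => w (a u))) :=
    isLocallyConstant_of_isPiece hw hp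
  have hIu : MoreMor.fibreIntegral π (fun u => w (a u)) (π u) = w (a u) :=
    fibreIntegral_eq_of_deg_eq_one π _ u hdeg
  obtain ⟨T, hT⟩ : ∃ T : V.Opens, (T : Set V) =
      {s | MoreMor.fibreIntegral π (fun u => w (a u)) s =
        MoreMor.fibreIntegral π (fun u => w (a u)) (π u)} :=
    ⟨⟨_, hI.isOpen_fiber _⟩, rfl⟩
  obtain ⟨S₀, hS₀⟩ : ∃ S₀ : Set V, S₀ =
      ((pullback.fst π π ≫ π).base '' (Set.range (pullback.diagonal π))ᶜ)ᶜ := ⟨_, rfl⟩
  have hS₀ind : ProCons.IsIndConstructible S₀ := by
    rw [hS₀]; exact isIndConstructible_compl_image_compl_range_diagonal π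
  have hmemS₀ : ∀ s : V, s ∈ S₀ ↔ ∀ z : ↥(pullback π π), (pullback.fst π π ≫ π) z = s →
      z ∈ Set.range (pullback.diagonal π) := by
    intro s
    rw [hS₀]
    constructor
    · intro hs z hz
      by_contra hzr
      exact hs ⟨z, hzr, hz⟩
    · rintro hs ⟨z, hzr, hz⟩
      exact hzr (hs z hz)
  -- the set `T ∩ S₀` is ind-constructible
  have hTS : ProCons.IsIndConstructible ((T : Set V) ∩ S₀) := by
    have h1 := isIndConstructible_image T.ι _ (isIndConstructible_preimage T.ι hS₀ind)
    have h2 : T.ι.base '' (T.ι.base ⁻¹' S₀) = (T : Set V) ∩ S₀ := by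
      rw [Set.image_preimage_eq_inter_range, Set.inter_comm]
      congr 1
      exact T.range_ι
    rwa [h2] at h1
  refine ⟨a.base '' (π.base ⁻¹' ((T : Set V) ∩ S₀)),
    isIndConstructible_image a _ (isIndConstructible_preimage π hTS), ?_, ?_⟩
  · refine ⟨u, ⟨?_, ?_⟩, hau⟩
    · rw [hT]
      rfl
    · rw [hmemS₀]
      exact fun z hz => mem_range_diagonal_of_deg_eq_one π (π u) hdeg z hz
  · rintro _ ⟨u', ⟨hu'T, hu'S⟩, rfl⟩
    have hu'T' : π u' ∈ (T : Set V) := hu'T
    rw [hT] at hu'T'
    have hu'S' : π u' ∈ S₀ := hu'S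
    rw [hmemS₀] at hu'S'
    have hdeg' : deg π (π u') = 1 := deg_eq_one_of_forall_mem_range_diagonal π u' hu'S'
    have h3 : MoreMor.fibreIntegral π (fun u => w (a u)) (π u') = w (a u') :=
      fibreIntegral_eq_of_deg_eq_one π _ u' hdeg'
    have h4 : MoreMor.fibreIntegral π (fun u => w (a u)) (π u') =
        MoreMor.fibreIntegral π (fun u => w (a u)) (π u) := hu'T'
    change w (a u') = w x
    rw [← h3, h4, hIu, hau]

/-- The level sets of a weighting of a locally quasi-finite morphism are locally constructible. -/
theorem isLocallyConstructible_levelSet [LocallyQuasiFinite f] [LocallyOfFiniteType f] {w : X → ℤ}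
    (hw : MoreMor.IsWeighting f w) (n : ℤ) : IsLocallyConstructible {x : X | w x = n} :=
  isLocallyConstructible_setOf_eq w (exists_isIndConstructible_eq hw) n

end Core

end Groth.Agent.Lib.Helper22.Weighting
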