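import Mathlib
import Groth.Prelude.Def_EGA43
import Groth.Prelude.Def_MoreMor
import Groth.Agent.Lib.Helper7.FibreIntegral
import Groth.Agent.Lib.Helper22.WeightingLifts
import Groth.Agent.Lib.Helper22.WeightingPieces
import Groth.Agent.Lib.Helper22.WeightingSepNbhd
import Groth.Agent.Lib.Helper22.WeightingCore
import Groth.Agent.Lib.Helper22.WeightingSemicont
import Groth.Agent.Lib.Helper22.WeightingFinite
import Groth.Agent.Lib.Helper22.WeightingCons
import Groth.Agent.Lib.Helper22.GeomPtsLsc
import Groth.Agent.Lib.Helper22.GeomPtsProper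

/-!
# The number of geometric points of the fibres of a separated étale morphism (helper22)

For a finite étale morphism the geometric degree is locally constant (upper semicontinuity by the
diagonal trick plus induction peeling off pieces of degree one; lower semicontinuity from universal
openness).  Consequences for separated étale morphisms of finite type.
-/

set_option autoImplicit false
set_option linter.style.haveILetI false
universe u
open AlgebraicGeometry CategoryTheory Limits

namespace Groth.Agent.Lib.Helper22.GeomPts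

open Groth.Agent.Lib.Helper7 Groth.Agent.Lib.Helper22.Weighting

/-- For a finite étale morphism, the locus where the geometric degree is at most one is a
neighbourhood of every point of degree one. -/
theorem exists_open_deg_le_one {U V : Scheme.{u}} (π : U ⟶ V) [IsFinite π] [Etale π] (v : V)
    (h : deg π v = 1) : ∃ N : Set V, IsOpen N ∧ v ∈ N ∧ ∀ v' ∈ N, deg π v' ≤ 1 := by
  have hC : IsClosed ((Set.range (pullback.diagonal π))ᶜ) :=
    (pullback.diagonal π).isOpenEmbedding.isOpen_range.isClosed_compl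
  have hcl : IsClosed ((pullback.fst π π ≫ π) '' (Set.range (pullback.diagonal π))ᶜ) :=
    (pullback.fst π π ≫ π).isClosedMap _ hC
  refine ⟨_, hcl.isOpen_compl, ?_, ?_⟩
  · rintro ⟨z, hz, hzv⟩
    exact hz (mem_range_diagonal_of_deg_eq_one π v h z hzv)
  · intro v' hv'
    by_cases hne : ∃ u', π u' = v'
    · obtain ⟨u', rfl⟩ := hne
      refine (deg_eq_one_of_forall_mem_range_diagonal π u' fun z hz => ?_).le
      by_contra hzr
      exact hv' ⟨z, hzr, hz⟩
    · push Not at hne
      rw [deg, fibreIntegral_eq_zero_of_isEmpty π _ v' hne]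
      exact zero_le_one

/-- **Upper semicontinuity of the geometric degree of a finite étale morphism.** -/
theorem exists_open_deg_le_of_finite_etale :
    ∀ (n : ℕ) {U V : Scheme.{u}} (π : U ⟶ V) [IsFinite π] [Etale π] (v : V), deg π v = n →
      ∃ N : Set V, IsOpen N ∧ v ∈ N ∧ ∀ v' ∈ N, deg π v' ≤ n := by
  intro n
  induction n using Nat.strong_induction_on with
  | _ n ih =>
    intro X Y f _ _ y hn
    have hfin : ∀ y, (f ⁻¹' {y}).Finite := fun y => f.finite_preimage_singleton y
    rcases Nat.eq_zero_or_pos n with rfl | hnpos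
    · have hempty : ∀ x, f x ≠ y := by
        intro x hx
        have h1 := one_le_deg f x (hfin _)
        rw [hx, hn] at h1
        simp at h1
      refine ⟨(Set.range f)ᶜ, f.isClosedMap.isClosed_range.isOpen_compl, ?_, ?_⟩
      · rintro ⟨x, hx⟩
        exact hempty x hx
      · intro y' hy'
        rw [deg, fibreIntegral_eq_zero_of_isEmpty f _ y' (fun x hx => hy' ⟨x, hx⟩)]
        simp
    · obtain ⟨x, hx⟩ : ∃ x, f x = y :=
        exists_of_fibreIntegral_ne_zero f (fun _ => 1) y (by
          change deg f y ≠ 0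
          rw [hn]
          exact_mod_cast hnpos.ne')
      obtain ⟨V, γ, _, U, a, π, hp, u, hau, hdeg⟩ := exists_etale_piece_deg_eq_one f x
      have := hp.isFinite
      have := hp.isOpenImmersion_lift
      obtain ⟨fV, hfV⟩ : ∃ fV : pullback f γ ⟶ V, fV = pullback.snd f γ := ⟨_, rfl⟩
      obtain ⟨j, hj⟩ : ∃ j : U ⟶ pullback f γ, j = pullback.lift a π hp.comm := ⟨_, rfl⟩
      have : IsOpenImmersion j := by rw [hj]; infer_instance
      have : IsFinite fV := by rw [hfV]; infer_instance
      have : Etale fV := by rw [hfV]; infer_instance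
      have hj₂ : j ≫ fV = π := by rw [hj, hfV]; exact pullback.lift_snd _ _ _
      have hpb : IsPullback (pullback.fst f γ) fV f γ := by
        rw [hfV]; exact IsPullback.of_hasPullback f γ
      have hjfin : IsFinite j := by
        have : IsFinite (j ≫ fV) := by rw [hj₂]; infer_instance
        exact IsFinite.of_comp j fV
      have hcl : IsClosed (Set.range j) := j.isClosedMap.isClosed_range
      let R : (pullback f γ).Opens := ⟨(Set.range j)ᶜ, hcl.isOpen_compl⟩
      have hR : Set.range R.ι = (Set.range j)ᶜ := Scheme.Opens.range_ι R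
      have hRcl : IsClosedImmersion R.ι := by
        apply IsClosedImmersion.of_isPreimmersion
        rw [hR]
        exact j.isOpenEmbedding.isOpen_range.isClosed_compl
      have hfinV : ∀ v, (fV ⁻¹' {v}).Finite := fun v => fV.finite_preimage_singleton v
      have hsplit : ∀ (v : V), deg fV v = deg π v + deg (R.ι ≫ fV) v := by
        intro v
        have := fibreIntegral_split' j R.ι hR fV (fun _ => 1) v (hfinV v)
        rw [hj₂] at this
        exact this
      have hbc : ∀ (v : V), deg fV v = deg f (γ v) :=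
        fun v => fibreIntegral_baseChange f hfin fV (pullback.fst f γ) γ hpb (fun _ => 1) v
      have hγv : γ (π u) = y := by
        rw [← Scheme.Hom.comp_apply, ← hp.comm, Scheme.Hom.comp_apply, hau, hx]
      have hdegR : deg (R.ι ≫ fV) (π u) = ((n - 1 : ℕ) : ℤ) := by
        have h := hsplit (π u)
        rw [hbc, hγv, hn, hdeg] at h
        have : ((n - 1 : ℕ) : ℤ) = (n : ℤ) - 1 := by
          rw [Nat.cast_sub hnpos]; simp
        rw [this]
        linarith
      have hπet : Etale π := by rw [← hj₂]; infer_instance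
      obtain ⟨NR, hNRo, hvNR, hNR⟩ := ih (n - 1) (by omega) (R.ι ≫ fV) (π u) hdegR
      obtain ⟨N₂, hN₂o, hvN₂, hN₂⟩ := exists_open_deg_le_one π (π u) hdeg
      refine ⟨γ '' (NR ∩ N₂), γ.isOpenMap _ (hNRo.inter hN₂o), ⟨π u, ⟨hvNR, hvN₂⟩, hγv⟩, ?_⟩
      rintro _ ⟨v', ⟨hv'R, hv'₂⟩, rfl⟩
      rw [← hbc, hsplit]
      have h1 := hN₂ v' hv'₂
      have h2 := hNR v' hv'R
      have : ((n - 1 : ℕ) : ℤ) = (n : ℤ) - 1 := by
        rw [Nat.cast_sub hnpos]; simp
      rw [this] at h2
      linarith

/-- The geometric degree of a finite étale morphism is locally constant. -/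
theorem isLocallyConstant_deg_of_finite_etale {U V : Scheme.{u}} (π : U ⟶ V) [IsFinite π]
    [Etale π] : IsLocallyConstant (deg π) := by
  rw [IsLocallyConstant.iff_exists_open]
  intro v
  have hfin : ∀ y, (π ⁻¹' {y}).Finite := fun y => π.finite_preimage_singleton y
  obtain ⟨n, hn⟩ : ∃ n : ℕ, deg π v = n :=
    ⟨(deg π v).toNat, (Int.toNat_of_nonneg (deg_nonneg' π v)).symm⟩
  obtain ⟨N₁, hN₁o, hvN₁, hN₁⟩ := exists_open_deg_le_of_finite_etale n π v hn
  obtain ⟨N₂, hN₂o, hvN₂, hN₂⟩ := exists_open_deg_le π hfin v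
    (fun x _ => univOpenAt'_of_universallyOpen π x)
  refine ⟨N₁ ∩ N₂, hN₁o.inter hN₂o, ⟨hvN₁, hvN₂⟩, fun v' hv' => ?_⟩
  have h1 := hN₁ v' hv'.1
  have h2 := hN₂ v' hv'.2
  rw [hn] at h2 ⊢
  exact le_antisymm h1 h2

/-- A formally unramified morphism locally of finite type is locally quasi-finite (as in helper7's
`EtaleSplitUnram`). -/
theorem locallyQuasiFinite_of_formallyUnramified' {X Y : Scheme.{u}} (f : X ⟶ Y)
    [FormallyUnramified f] [LocallyOfFiniteType f] : LocallyQuasiFinite f := by
  rw [HasRingHomProperty.iff_appLE (P := @LocallyQuasiFinite)]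
  intro U V e
  have h1 : (f.appLE U V e).hom.FiniteType := f.finiteType_appLE U.2 V.2 e
  have h2 : (f.appLE U V e).hom.FormallyUnramified :=
    HasRingHomProperty.appLE (P := @FormallyUnramified) f ‹_› U V e
  algebraize [(f.appLE U V e).hom]
  rw [RingHom.QuasiFinite]
  infer_instance

theorem enatCard_geomFiber_eq {X Y : Scheme.{u}} (f : X ⟶ Y) [LocallyQuasiFinite f]
    (hfin : ∀ y, (f ⁻¹' {y}).Finite) (y : Y) :
    ENat.card ↥(MoreMor.geomFiber f y) = ((deg f y).toNat : ℕ∞) := by
  obtain ⟨hF, h⟩ := natCard_geomFiber_eq_deg f hfin y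
  rw [ENat.card_eq_coe_natCard, ← h]
  simp

theorem enatCard_geomFiber_eq_iff {X Y : Scheme.{u}} (f : X ⟶ Y) [LocallyQuasiFinite f]
    (hfin : ∀ y, (f ⁻¹' {y}).Finite) (y z : Y) :
    ENat.card ↥(MoreMor.geomFiber f z) = ENat.card ↥(MoreMor.geomFiber f y) ↔
      deg f z = deg f y := by
  rw [enatCard_geomFiber_eq f hfin, enatCard_geomFiber_eq f hfin, Nat.cast_inj]
  have h1 := deg_nonneg' f y
  have h2 := deg_nonneg' f z
  omega

section etale

variable {X Y : Scheme.{u}} (f : X ⟶ Y) [Etale f] [IsSeparated f] [LocallyOfFiniteType f]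
  [QuasiCompact f]

/-- Lower semicontinuity of the number of geometric points of the fibres of a separated étale
morphism of finite type. -/
theorem lowerSemicontinuous_card_geomFiber :
    LowerSemicontinuous (fun y : Y => ENat.card ↥(MoreMor.geomFiber f y)) := by
  have : LocallyQuasiFinite f := locallyQuasiFinite_of_formallyUnramified' f
  have hfin : ∀ y, (f ⁻¹' {y}).Finite := fun y => f.finite_preimage_singleton y
  intro y c hc
  obtain ⟨N, hNo, hyN, hN⟩ := exists_open_deg_le f hfin y
    (fun x _ => univOpenAt'_of_universallyOpen f x)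
  filter_upwards [hNo.mem_nhds hyN] with z hz
  refine lt_of_lt_of_le hc ?_
  change ENat.card ↥(MoreMor.geomFiber f y) ≤ ENat.card ↥(MoreMor.geomFiber f z)
  rw [enatCard_geomFiber_eq f hfin, enatCard_geomFiber_eq f hfin, Nat.cast_le]
  have h1 := deg_nonneg' f y
  have h2 := hN z hz
  omega

/-- The number of geometric points is constant near `y` iff `f` is finite over a neighbourhood of
`y`. -/
theorem card_geomFiber_const_iff_finite_nhd (y : Y) :
    (∃ U : Y.Opens, y ∈ U ∧ ∀ y' : Y, y' ∈ U →
        ENat.card ↥(MoreMor.geomFiber f y') = ENat.card ↥(MoreMor.geomFiber f y)) ↔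
      ∃ U : Y.Opens, y ∈ U ∧ IsFinite (f ∣_ U) := by
  have : LocallyQuasiFinite f := locallyQuasiFinite_of_formallyUnramified' f
  have hfin : ∀ y, (f ⁻¹' {y}).Finite := fun y => f.finite_preimage_singleton y
  constructor
  · rintro ⟨U, hyU, hU⟩
    obtain ⟨U', hyU', hU'⟩ := exists_opens_isProper_of_deg_eq f hfin y
      (fun x _ => univOpenAt'_of_universallyOpen f x)
      ⟨U, U.2.mem_nhds hyU, fun z hz => (enatCard_geomFiber_eq_iff f hfin y z).mp (hU z hz)⟩
    refine ⟨U', hyU', ?_⟩
    rw [IsFinite.iff_isProper_and_locallyQuasiFinite]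
    exact ⟨hU', inferInstance⟩
  · rintro ⟨U, hyU, hU⟩
    have hlc := isLocallyConstant_deg_of_finite_etale (f ∣_ U)
    obtain ⟨N, hNo, hyN, hN⟩ := (IsLocallyConstant.iff_exists_open _).mp hlc ⟨y, hyU⟩
    have hbc : ∀ u : U, deg (f ∣_ U) u = deg f (U.ι u) := fun u =>
      fibreIntegral_baseChange f hfin (f ∣_ U) (f ⁻¹ᵁ U).ι U.ι
        (isPullback_morphismRestrict f U).flip (fun _ => 1) u
    refine ⟨⟨U.ι '' N, U.ι.isOpenMap _ hNo⟩, ⟨⟨y, hyU⟩, hyN, rfl⟩, ?_⟩
    rintro _ ⟨u, hu, rfl⟩
    rw [enatCard_geomFiber_eq_iff f hfin]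
    exact (hbc u).symm.trans ((hN u hu).trans (hbc ⟨y, hyU⟩))

set_option backward.isDefEq.respectTransparency false in
/-- Over a connected base, `f` is finite iff the number of geometric points is constant. -/
theorem isFinite_iff_card_geomFiber_const [ConnectedSpace ↥Y] :
    IsFinite f ↔ ∃ n : ℕ∞, ∀ y : Y, ENat.card ↥(MoreMor.geomFiber f y) = n := by
  have : LocallyQuasiFinite f := locallyQuasiFinite_of_formallyUnramified' f
  have hfin : ∀ y, (f ⁻¹' {y}).Finite := fun y => f.finite_preimage_singleton y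
  constructor
  · intro hf
    have hlc := isLocallyConstant_deg_of_finite_etale f
    obtain ⟨y₀⟩ : Nonempty Y := inferInstance
    refine ⟨ENat.card ↥(MoreMor.geomFiber f y₀), fun y => ?_⟩
    rw [enatCard_geomFiber_eq_iff f hfin]
    exact hlc.apply_eq_of_preconnectedSpace y y₀
  · rintro ⟨n, hn⟩
    apply IsZariskiLocalAtTarget.of_forall_exists_morphismRestrict (P := @IsFinite)
    intro y
    obtain ⟨U, hyU, hU⟩ := (card_geomFiber_const_iff_finite_nhd f y).mp
      ⟨⊤, trivial, fun y' _ => (hn y').trans (hn y).symm⟩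
    exact ⟨U, hyU, hU⟩

end etale

end Groth.Agent.Lib.Helper22.GeomPts
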