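import Mathlib
import Groth.Prelude.Def_CurvBase
import Groth.Prelude.Def_MoreMor
import Groth.Agent.Lib.Helper22.GeomPtsLsc

/-!
# The geometric number of points of a finite scheme over a field (helper22)
-/

set_option autoImplicit false
set_option linter.style.haveILetI false
universe u
open AlgebraicGeometry CategoryTheory Limits

namespace Groth.Agent.Lib.Helper22.GeomPts

open Groth.Agent.Lib.Helper7 Groth.Agent.Lib.Helper22.Weighting

theorem finSepDegree_eq_of_bijective {F' F E : Type*} [Field F'] [Field F] [Field E] [Algebra F' F]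
    [Algebra F E] [Algebra F' E] [IsScalarTower F' F E] [Algebra.IsAlgebraic F E]
    (h : Function.Bijective (algebraMap F' F)) :
    Field.finSepDegree F' E = Field.finSepDegree F E := by
  rw [← Field.finSepDegree_mul_finSepDegree_of_isAlgebraic F' F E]
  have : Field.finSepDegree F' F = 1 := by
    rw [← Field.finSepDegree_eq_of_equiv F' F' F (AlgEquiv.ofBijective (Algebra.ofId F' F) h)]
    exact Field.finSepDegree_self F'
  rw [this, one_mul]

set_option backward.isDefEq.respectTransparency false in
/-- The canonical map from a field to the residue field of its spectrum is bijective. -/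
theorem bijective_toResidueField_spec (k : Type u) [Field k] (x : Spec (CommRingCat.of k)) :
    Function.Bijective ((Scheme.ΓSpecIso (CommRingCat.of k)).inv ≫
      (Spec (CommRingCat.of k)).presheaf.germ ⊤ x trivial ≫
        (Spec (CommRingCat.of k)).residue x).hom := by
  rw [← Scheme.Spec.algebraMap_residueFieldIso_inv]
  have : x.asIdeal.IsMaximal := by
    rw [Ideal.eq_bot_of_prime x.asIdeal]; exact Ideal.bot_isMaximal
  have hbij : Function.Bijective (algebraMap k x.asIdeal.ResidueField) :=
    ⟨(algebraMap k _).injective, Ideal.algebraMap_residueField_surjective _⟩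
  rw [CommRingCat.hom_comp]
  exact (ConcreteCategory.bijective_of_isIso (Scheme.Spec.residueFieldIso _ x).inv).comp hbij

end Groth.Agent.Lib.Helper22.GeomPts

namespace Groth.Agent.Lib.Helper22.GeomPts

open Groth.Agent.Lib.Helper7 Groth.Agent.Lib.Helper22.Weighting

attribute [local instance] Curv2.resAlgebra

set_option backward.isDefEq.respectTransparency false in
theorem finSepDegree_residueField_eq (k : Type u) [Field k] (S' : Scheme.{u})
    [S'.Over (Spec (CommRingCat.of k))] [LocallyQuasiFinite (S' ↘ (Spec (CommRingCat.of k)))]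
    (u : S') :
    (letI := ((S' ↘ (Spec (CommRingCat.of k))).residueFieldMap u).hom.toAlgebra;
      Field.finSepDegree ((Spec (CommRingCat.of k)).residueField ((S' ↘ (Spec (CommRingCat.of k))) u))
        (S'.residueField u)) = Field.finSepDegree k (S'.residueField u) := by
  obtain ⟨f, hf⟩ : ∃ f : S' ⟶ Spec (CommRingCat.of k), f = S' ↘ (Spec (CommRingCat.of k)) := ⟨_, rfl⟩
  have : LocallyQuasiFinite f := hf ▸ inferInstance
  letI := (f.residueFieldMap u).hom.toAlgebra
  have hfin := finite_residueFieldMap f u
  let ι : k →+* (Spec (CommRingCat.of k)).residueField (f u) :=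
    ((Scheme.ΓSpecIso (CommRingCat.of k)).inv ≫
      (Spec (CommRingCat.of k)).presheaf.germ ⊤ (f u) trivial ≫
        (Spec (CommRingCat.of k)).residue (f u)).hom
  letI : Algebra k ((Spec (CommRingCat.of k)).residueField (f u)) := ι.toAlgebra
  have hι : Function.Bijective (algebraMap k ((Spec (CommRingCat.of k)).residueField (f u))) :=
    bijective_toResidueField_spec k (f u)
  have htower : IsScalarTower k ((Spec (CommRingCat.of k)).residueField (f u))
      (S'.residueField u) := by
    refine IsScalarTower.of_algebraMap_eq fun a => ?_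
    change Curv2.resMap k S' u a = (f.residueFieldMap u).hom (ι a)
    have H : (Scheme.ΓSpecIso (CommRingCat.of k)).inv ≫
        (Spec (CommRingCat.of k)).presheaf.germ ⊤ (f u) trivial ≫
          (Spec (CommRingCat.of k)).residue (f u) ≫ f.residueFieldMap u =
        (Scheme.ΓSpecIso (CommRingCat.of k)).inv ≫ f.appTop ≫
          S'.presheaf.germ ⊤ u trivial ≫ S'.residue u := by
      rw [Scheme.residue_residueFieldMap, Scheme.Hom.germ_stalkMap_assoc]
      rfl
    have H' := congrArg (fun φ => φ.hom a) H
    subst hf
    exact H'.symm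
  subst hf
  exact (finSepDegree_eq_of_bijective hι).symm

end Groth.Agent.Lib.Helper22.GeomPts

namespace Groth.Agent.Lib.Helper22.GeomPts

open Groth.Agent.Lib.Helper7 Groth.Agent.Lib.Helper22.Weighting

attribute [local instance] Curv2.resAlgebra

theorem nGeomConnComp_finite_eq (k : Type u) [Field k] (S' : Scheme.{u})
    [S'.Over (Spec (CommRingCat.of k))] [IsFinite (S' ↘ (Spec (CommRingCat.of k)))]
    (pt : ↥(Spec (CommRingCat.of k))) :
    MoreMor.nGeomConnComp (S' ↘ (Spec (CommRingCat.of k))) pt =
      ((∑ᶠ s' : S', Field.finSepDegree k (S'.residueField s') : ℕ) : ℕ∞) := by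
  have hfin : ∀ y, ((S' ↘ (Spec (CommRingCat.of k))) ⁻¹' {y}).Finite :=
    fun y => (S' ↘ (Spec (CommRingCat.of k))).finite_preimage_singleton y
  rw [nGeomConnComp_eq_deg _ hfin]
  congr 1
  have hpt : ∀ u : S', (S' ↘ (Spec (CommRingCat.of k))) u = pt :=
    fun u => Subsingleton.elim (α := PrimeSpectrum k) _ _
  have hS' : Finite S' := by
    have h1 : ((S' ↘ (Spec (CommRingCat.of k))) ⁻¹' {pt}) = Set.univ := by
      ext z; simp [hpt z]
    have h2 := hfin pt
    rw [h1] at h2
    exact Set.finite_univ_iff.mp h2
  rw [deg, MoreMor.fibreIntegral, ← finsum_comp_equiv (Equiv.subtypeUnivEquiv hpt).symm]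
  letI := Fintype.ofFinite S'
  rw [finsum_eq_sum_of_fintype, finsum_eq_sum_of_fintype]
  have : ∀ u : S', (1 : ℤ) * (letI := ((S' ↘ (Spec (CommRingCat.of k))).residueFieldMap
      ((Equiv.subtypeUnivEquiv hpt).symm u).1).hom.toAlgebra;
      (Field.finSepDegree ((Spec (CommRingCat.of k)).residueField
        ((S' ↘ (Spec (CommRingCat.of k))) ((Equiv.subtypeUnivEquiv hpt).symm u).1))
        (S'.residueField ((Equiv.subtypeUnivEquiv hpt).symm u).1) : ℤ)) =
      ((Field.finSepDegree k (S'.residueField u) : ℕ) : ℤ) := by
    intro u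
    rw [one_mul]
    exact congrArg Nat.cast (finSepDegree_residueField_eq k S' u)
  rw [Finset.sum_congr rfl (fun u _ => this u), ← Nat.cast_sum, Int.toNat_natCast]

end Groth.Agent.Lib.Helper22.GeomPts
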