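import Mathlib
import Groth.Prelude.Def_EGA43
import Groth.Prelude.Def_MoreMor
import Groth.Agent.Lib.Helper7.FibreIntegral
import Groth.Agent.Lib.Helper22.WeightingLifts
import Groth.Agent.Lib.Helper22.WeightingPieces
import Groth.Agent.Lib.Helper22.WeightingSepNbhd
import Groth.Agent.Lib.Helper22.WeightingCore
import Groth.Agent.Lib.Helper22.WeightingSemicont
import Groth.Agent.Lib.Helper22.WeightingFinite
import Groth.Agent.Lib.Helper22.GeomPtsLsc

/-!
# Properness near points where the geometric number of points is locally constant (helper22)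
-/

set_option autoImplicit false
set_option linter.style.haveILetI false
universe u
open AlgebraicGeometry CategoryTheory Limits

namespace Groth.Agent.Lib.Helper22.GeomPts

open Groth.Agent.Lib.Helper7 Groth.Agent.Lib.Helper22.Weighting

variable {X Y : Scheme.{u}} (f : X ⟶ Y)

/-- If a piece contains the whole preimage of an open `N` of the base, then the base change of `f`
to `N` is finite. -/
theorem IsPiece.isFinite_of_forall_mem_range {V U : Scheme.{u}} (γ : V ⟶ Y) {a : U ⟶ X}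
    {π : U ⟶ V} (hp : IsPiece f γ a π) (N' : V.Opens)
    (hRempty : ∀ z : ↥(pullback f γ), pullback.snd f γ z ∈ N' →
      z ∈ Set.range (pullback.lift a π hp.comm)) :
    IsFinite (pullback.snd f (N'.ι ≫ γ)) := by
  have := hp.isFinite
  have := hp.isOpenImmersion_lift
  obtain ⟨j, hj⟩ : ∃ j : U ⟶ pullback f γ, j = pullback.lift a π hp.comm := ⟨_, rfl⟩
  have hj₁ : j ≫ pullback.fst f γ = a := by rw [hj]; exact pullback.lift_fst _ _ _
  have hj₂ : j ≫ pullback.snd f γ = π := by rw [hj]; exact pullback.lift_snd _ _ _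
  rw [← hj] at hRempty
  have hpN := hp.baseChange N'.ι
  have := hpN.isOpenImmersion_lift
  have := hpN.isFinite
  obtain ⟨jN, hjN⟩ : ∃ jN : pullback π N'.ι ⟶ pullback f (N'.ι ≫ γ),
      jN = pullback.lift (pullback.fst π N'.ι ≫ a) (pullback.snd π N'.ι) hpN.comm := ⟨_, rfl⟩
  have : IsOpenImmersion jN := by rw [hjN]; infer_instance
  have hjN₁ : jN ≫ pullback.fst f (N'.ι ≫ γ) = pullback.fst π N'.ι ≫ a := by
    rw [hjN]; exact pullback.lift_fst _ _ _
  have hjN₂ : jN ≫ pullback.snd f (N'.ι ≫ γ) = pullback.snd π N'.ι := by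
    rw [hjN]; exact pullback.lift_snd _ _ _
  let m : pullback f (N'.ι ≫ γ) ⟶ pullback f γ :=
    pullback.map f (N'.ι ≫ γ) f γ (𝟙 X) N'.ι (𝟙 Y) (by simp) (by simp)
  have hm₁ : m ≫ pullback.fst f γ = pullback.fst f (N'.ι ≫ γ) :=
    (pullback.lift_fst _ _ _).trans (Category.comp_id _)
  have hm₂ : m ≫ pullback.snd f γ = pullback.snd f (N'.ι ≫ γ) ≫ N'.ι := pullback.lift_snd _ _ _
  have hmj : jN ≫ m = pullback.fst π N'.ι ≫ j := by
    rw [hj]
    apply pullback.hom_ext
    · rw [Category.assoc, hm₁, hjN₁, Category.assoc, pullback.lift_fst]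
    · rw [Category.assoc, hm₂, ← Category.assoc, hjN₂, Category.assoc, pullback.lift_snd,
        pullback.condition]
  have hsurj : Function.Surjective jN := by
    intro z
    have hz : pullback.snd f γ (m z) ∈ N' := by
      rw [← Scheme.Hom.comp_apply, hm₂, Scheme.Hom.comp_apply]
      exact (pullback.snd f (N'.ι ≫ γ) z).2
    obtain ⟨u₀, hu₀⟩ := hRempty (m z) hz
    have hπu₀ : π u₀ = N'.ι (pullback.snd f (N'.ι ≫ γ) z) := by
      rw [← hj₂, Scheme.Hom.comp_apply, hu₀, ← Scheme.Hom.comp_apply, hm₂, Scheme.Hom.comp_apply]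
    obtain ⟨u', hu'₁, hu'₂⟩ := Scheme.Pullback.exists_preimage_pullback u₀
      (pullback.snd f (N'.ι ≫ γ) z) hπu₀
    refine ⟨u', m.isOpenEmbedding.injective ?_⟩
    rw [← Scheme.Hom.comp_apply, hmj, Scheme.Hom.comp_apply, hu'₁, hu₀]
  have : Surjective jN := ⟨hsurj⟩
  have hiso : IsIso jN :=
    (isIso_iff_isOpenImmersion_and_surjective _).mpr ⟨inferInstance, inferInstance⟩
  have heq : pullback.snd f (N'.ι ≫ γ) = inv jN ≫ pullback.snd π N'.ι := by
    rw [IsIso.eq_inv_comp, hjN₂]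
  rw [heq]
  infer_instance

variable [LocallyQuasiFinite f] [LocallyOfFiniteType f] [IsSeparated f]

/-- If `f` (separated, locally quasi-finite, finite fibres) is universally open at the points over `y`
and its geometric degree is constant near `y`, then `f` is proper over a neighbourhood of `y`. -/
theorem exists_opens_isProper_of_deg_eq (hfin : ∀ y, (f ⁻¹' {y}).Finite) (y : Y)
    (hopen : ∀ x, f x = y → UnivOpenAt' f x)
    (hconst : ∃ W ∈ nhds y, ∀ z ∈ W, deg f z = deg f y) :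
    ∃ U : Y.Opens, y ∈ U ∧ IsProper (f ∣_ U) := by
  obtain ⟨W₀, hW₀, hW₀c⟩ := hconst
  obtain ⟨W, hWsub, hWo, hyW⟩ := mem_nhds_iff.mp hW₀
  have hp₀ := isPiece_empty f (𝟙 Y)
  obtain ⟨n, hn⟩ : ∃ n : ℕ, deg (pullback.snd f (𝟙 Y)) y = deg (Scheme.emptyTo Y) y + n := by
    refine ⟨(deg (pullback.snd f (𝟙 Y)) y).toNat, ?_⟩
    rw [Int.toNat_of_nonneg (deg_nonneg' _ y)]
    have : deg (Scheme.emptyTo Y) y = 0 :=
      fibreIntegral_eq_zero_of_isEmpty _ _ _ (fun u => isEmptyElim u)
    rw [this, zero_add]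
  obtain ⟨V', γ', _, v', hv', δ, hδ, U', a', π', hp', hcover⟩ :=
    exists_piece_covering_fibre f hfin n (𝟙 Y) hp₀ y hn
  have hδ' : δ = γ' := hδ.trans (Category.comp_id _)
  subst hδ'
  have := hp'.isFinite
  have := hp'.isOpenImmersion_lift
  obtain ⟨R, hR, hfinR, hsplit⟩ := hp'.exists_compl_in_pullback f hfin
  obtain ⟨j, hj⟩ : ∃ j : U' ⟶ pullback f δ, j = pullback.lift a' π' hp'.comm := ⟨_, rfl⟩
  have : IsOpenImmersion j := by rw [hj]; infer_instance
  have hj₂ : j ≫ pullback.snd f δ = π' := by rw [hj]; exact pullback.lift_snd _ _ _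
  rw [← hj] at hR hcover
  have hpb : IsPullback (pullback.fst f δ) (pullback.snd f δ) f δ := IsPullback.of_hasPullback f δ
  have hbc : ∀ v, deg (pullback.snd f δ) v = deg f (δ v) := fun v =>
    fibreIntegral_baseChange f hfin (pullback.snd f δ) (pullback.fst f δ) δ hpb (fun _ => 1) v
  have hsp : ∀ v, deg f (δ v) = deg π' v + deg (R.ι ≫ pullback.snd f δ) v := by
    intro v
    rw [← hbc]
    exact hsplit (fun _ => 1) v
  have hfinV : ∀ v, ((pullback.snd f δ) ⁻¹' {v}).Finite := finite_fiber_of_isPullback f hfin hpb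
  have hfinπ : ∀ v, (π' ⁻¹' {v}).Finite := fun v => by
    have : π' ⁻¹' {v} = j ⁻¹' ((pullback.snd f δ) ⁻¹' {v}) := by rw [← hj₂]; rfl
    rw [this]
    exact (hfinV v).preimage j.isOpenEmbedding.injective.injOn
  have hRv : deg (R.ι ≫ pullback.snd f δ) v' = 0 := by
    apply fibreIntegral_eq_zero_of_isEmpty
    intro z hz
    have h1 : (R.ι z) ∈ Set.range j := hcover _ hz
    have h2 : (R.ι z) ∈ (R : Set ↥(pullback f δ)) := z.2
    rw [hR] at h2
    exact h2 h1
  have hπv : deg π' v' = deg f y := by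
    have := hsp v'
    rw [hRv, add_zero, hv'] at this
    exact this.symm
  -- `π'` is universally open at the points over `v'`
  have hopenπ : ∀ u, π' u = v' → UnivOpenAt' π' u := by
    intro u hu
    have h1 : UnivOpenAt' (j ≫ pullback.snd f δ) u := by
      apply UnivOpenAt'.comp_openImmersion
      refine (hopen _ ?_).baseChange hpb rfl
      rw [← Scheme.Hom.comp_apply, hpb.w, Scheme.Hom.comp_apply, ← Scheme.Hom.comp_apply j, hj₂, hu,
        hv']
    rwa [hj₂] at h1
  obtain ⟨N₁, hN₁o, hvN₁, hN₁⟩ := exists_open_deg_le π' hfinπ v' hopenπ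
  let N' : V'.Opens := ⟨N₁ ∩ δ ⁻¹' W, hN₁o.inter (hWo.preimage δ.continuous)⟩
  have hvN' : v' ∈ N' := ⟨hvN₁, by change δ v' ∈ W; rw [hv']; exact hyW⟩
  have hRempty : ∀ z : ↥(pullback f δ), pullback.snd f δ z ∈ N' → z ∈ Set.range j := by
    intro z hz
    by_contra hzr
    have hzR : z ∈ (R : Set ↥(pullback f δ)) := by rw [hR]; exact hzr
    have h1 := one_le_deg (R.ι ≫ pullback.snd f δ) ⟨z, hzR⟩ (hfinR _)
    have h2 : (R.ι ≫ pullback.snd f δ) ⟨z, hzR⟩ = pullback.snd f δ z := rfl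
    rw [h2] at h1
    have h3 := hsp (pullback.snd f δ z)
    have h4 := hN₁ _ hz.1
    have h5 := hW₀c _ (hWsub hz.2)
    rw [hπv] at h4
    linarith
  have hNfin : IsFinite (pullback.snd f (N'.ι ≫ δ)) :=
    IsPiece.isFinite_of_forall_mem_range f δ hp' N' (by rw [← hj]; exact hRempty)
  refine ⟨⟨Set.range (N'.ι ≫ δ), (N'.ι ≫ δ).isOpenMap.isOpen_range⟩, ⟨⟨v', hvN'⟩, hv'⟩, ?_⟩
  have huc := universallyClosed_morphismRestrict_of_isFinite_pullback f (N'.ι ≫ δ)
  exact { }

/-- Properness near `y` when the geometric number of points is constant near `y`. -/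
theorem exists_opens_isProper_of_nGeomConnComp_eq [QuasiCompact f] (y : Y)
    (hopen : ∀ x, f x = y → UnivOpenAt' f x)
    (hc : ∃ V ∈ nhds y, ∀ z ∈ V, MoreMor.nGeomConnComp f z = MoreMor.nGeomConnComp f y) :
    ∃ U : Y.Opens, y ∈ U ∧ IsProper (f ∣_ U) := by
  have hfin : ∀ y, (f ⁻¹' {y}).Finite := fun y => f.finite_preimage_singleton y
  obtain ⟨V, hV, hVc⟩ := hc
  exact exists_opens_isProper_of_deg_eq f hfin y hopen
    ⟨V, hV, fun z hz => (nGeomConnComp_eq_iff f hfin y z).mp (hVc z hz)⟩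

end Groth.Agent.Lib.Helper22.GeomPts
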