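import Mathlib
import Groth.Agent.Lib.Helper13.LimSections

set_option autoImplicit false
set_option linter.style.haveILetI false
set_option linter.unusedSectionVars false
universe u
open CategoryTheory AlgebraicGeometry Limits

namespace Groth.Agent.Lib.Helper22.ImageLim

open Scheme (IdealSheafData)

variable {I : Type u} [Category.{u} I] (D : I ⥤ Scheme.{u}) (c : Cone D)
  {X : Scheme.{u}} (i : X ⟶ c.pt)

/-- The ideal of the scheme-theoretic image of `X` in the stage `k`. -/
noncomputable def K (k : I) : (D.obj k).IdealSheafData := (i ≫ c.π.app k).ker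

lemma K_map {k k' : I} (a : k ⟶ k') : (K D c i k).map (D.map a) = K D c i k' := by
  unfold K
  rw [IdealSheafData.map_ker, Category.assoc, c.w]

lemma K_eq_map (k : I) : K D c i k = i.ker.map (c.π.app k) := by
  unfold K
  rw [Scheme.Hom.ker_comp]

/-- The diagram of scheme-theoretic images. -/
noncomputable def DT : I ⥤ Scheme.{u} where
  obj k := (K D c i k).subscheme
  map {k k'} a :=
    IdealSheafData.subschemeMap (K D c i k) (K D c i k') (D.map a) (K_map D c i a).ge
  map_id k := by
    rw [← cancel_mono (K D c i k).subschemeι, IdealSheafData.subschemeMap_subschemeι, D.map_id,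
      Category.comp_id, Category.id_comp]
  map_comp {k k' k''} a b := by
    rw [← cancel_mono (K D c i k'').subschemeι, IdealSheafData.subschemeMap_subschemeι,
      Category.assoc, IdealSheafData.subschemeMap_subschemeι,
      IdealSheafData.subschemeMap_subschemeι_assoc, D.map_comp]

/-- The closed immersions of the images into the stages. -/
noncomputable def ιT : DT D c i ⟶ D where
  app k := (K D c i k).subschemeι
  naturality {k k'} a :=
    IdealSheafData.subschemeMap_subschemeι (K D c i k) (K D c i k') (D.map a) (K_map D c i a).ge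

lemma ιT_app (k : I) : (ιT D c i).app k = (K D c i k).subschemeι := rfl

instance (k : I) : IsClosedImmersion ((ιT D c i).app k) := by
  show IsClosedImmersion (K D c i k).subschemeι
  infer_instance

/-- The leg of the cone of images. -/
noncomputable def leg (k : I) : X ⟶ (K D c i k).subscheme := (i ≫ c.π.app k).toImage

lemma leg_ι' (k : I) : leg D c i k ≫ (K D c i k).subschemeι = i ≫ c.π.app k :=
  (i ≫ c.π.app k).toImage_imageι

lemma leg_ι (k : I) : leg D c i k ≫ (ιT D c i).app k = i ≫ c.π.app k :=
  leg_ι' D c i k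

/-- The cone of images with vertex `X`. -/
noncomputable def cT : Cone (DT D c i) where
  pt := X
  π :=
    { app := fun k => leg D c i k
      naturality := fun k k' a => by
        show 𝟙 X ≫ leg D c i k' = leg D c i k ≫ IdealSheafData.subschemeMap (K D c i k)
          (K D c i k') (D.map a) (K_map D c i a).ge
        rw [Category.id_comp, ← cancel_mono (K D c i k').subschemeι, Category.assoc,
          IdealSheafData.subschemeMap_subschemeι, reassoc_of% leg_ι', leg_ι', c.w] }

section limit

variable [IsCofiltered I] [∀ {k k'} (a : k ⟶ k'), IsAffineHom (D.map a)] (hc : IsLimit c)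

include hc in
/-- The ideal of `X` in the limit is generated by the pullbacks of the ideals of its images in the
stages. -/
theorem ker_le : i.ker ≤ ⨆ k, (K D c i k).comap (c.π.app k) := by
  obtain ⟨k₀⟩ := IsCofiltered.nonempty (C := I)
  haveI : ∀ k, IsAffineHom (c.π.app k) := fun k => isAffineHom_π_app D c hc k
  refine IdealSheafData.le_of_iSup_eq_top (ι := (D.obj k₀).affineOpens)
    (fun U => ⟨c.π.app k₀ ⁻¹ᵁ U.1, U.2.preimage (c.π.app k₀)⟩) ?_ ?_
  · show ⨆ U : (D.obj k₀).affineOpens, c.π.app k₀ ⁻¹ᵁ U.1 = ⊤
    rw [← Scheme.Hom.preimage_iSup, iSup_affineOpens_eq_top]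
    rfl
  · intro U b hb
    obtain ⟨j, s, hs⟩ := Groth.Agent.Lib.Helper13.LimSections.exists_appLE_eq D c hc k₀ U.1 U.2 b
    -- notation
    set J : c.pt.IdealSheafData := ⨆ k, (K D c i k).comap (c.π.app k) with hJ
    let V : c.pt.affineOpens := ⟨c.π.app k₀ ⁻¹ᵁ U.1, U.2.preimage (c.π.app k₀)⟩
    let U' : (D.obj j.left).affineOpens := ⟨D.map j.hom ⁻¹ᵁ U.1, U.2.preimage (D.map j.hom)⟩
    let V' : c.pt.affineOpens := ⟨c.π.app j.left ⁻¹ᵁ U'.1, U'.2.preimage (c.π.app j.left)⟩
    have heq : V'.1 = V.1 := Groth.Agent.Lib.Helper13.LimSections.preimage_preimage_eq D c j U.1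
    let s' : Γ(c.pt, V'.1) := ((c.π.app j.left).app U'.1).hom s
    have hbs : b = (c.pt.presheaf.map (homOfLE heq.ge).op).hom s' := hs
    have hsb : s' = (c.pt.presheaf.map (homOfLE heq.le).op).hom b := by
      rw [hbs, ← CommRingCat.comp_apply, ← Functor.map_comp]
      have : (homOfLE heq.ge).op ≫ (homOfLE heq.le).op = 𝟙 (Opposite.op V'.1) := rfl
      rw [this, c.pt.presheaf.map_id]
      rfl
    -- `s'` lies in the ideal of `X`
    have hs' : s' ∈ i.ker.ideal V' := by
      rw [hsb, ← i.ker.map_ideal' (U := V') (V := V) (homOfLE heq.le).op]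
      exact Ideal.mem_map_of_mem _ hb
    -- hence `s` lies in the ideal of the image at the stage `j.left`
    have hs2 : s ∈ (K D c i j.left).ideal U' := by
      rw [K_eq_map, IdealSheafData.ideal_map_of_isAffineHom]
      exact hs'
    -- hence `s'` lies in the pulled back ideal
    have hs3 : s' ∈ ((K D c i j.left).comap (c.π.app j.left)).ideal V' := by
      have h1 := IdealSheafData.le_map_comap (K D c i j.left) (c.π.app j.left) U' hs2
      rw [IdealSheafData.ideal_map_of_isAffineHom] at h1
      exact h1
    have hs4 : s' ∈ J.ideal V' :=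
      (le_iSup (fun k => (K D c i k).comap (c.π.app k)) j.left) V' hs3
    show b ∈ J.ideal V
    rw [hbs, ← J.map_ideal' (U := V) (V := V') (homOfLE heq.ge).op]
    exact Ideal.mem_map_of_mem _ hs4

/-- The cone of scheme-theoretic images is a limit cone. -/
noncomputable def isLimitCT [IsClosedImmersion i] : IsLimit (cT D c i) := by
  have hmono : Mono i := inferInstance
  refine IsLimit.ofExistsUnique fun s => ?_
  let w : ∀ k, s.pt ⟶ (K D c i k).subscheme := fun k => s.π.app k
  have hw : ∀ {k k' : I} (a : k ⟶ k'),
      w k ≫ IdealSheafData.subschemeMap (K D c i k) (K D c i k') (D.map a) (K_map D c i a).ge =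
        w k' := fun a => s.w a
  let s' : Cone D :=
    { pt := s.pt
      π :=
        { app := fun k => w k ≫ (K D c i k).subschemeι
          naturality := fun k k' a => by
            show 𝟙 _ ≫ w k' ≫ (K D c i k').subschemeι =
              (w k ≫ (K D c i k).subschemeι) ≫ D.map a
            rw [Category.id_comp, Category.assoc, ← IdealSheafData.subschemeMap_subschemeι _ _ _
              (K_map D c i a).ge, ← Category.assoc, hw a] } }
  obtain ⟨v, hv⟩ : ∃ v : s.pt ⟶ c.pt, ∀ k, v ≫ c.π.app k = w k ≫ (K D c i k).subschemeι :=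
    ⟨hc.lift s', hc.fac s'⟩
  have H : i.ker ≤ v.ker := by
    refine (ker_le D c i hc).trans (iSup_le fun k => ?_)
    rw [← IdealSheafData.le_map_iff_comap_le, IdealSheafData.map_ker, hv]
    calc K D c i k = (K D c i k).subschemeι.ker := (IdealSheafData.ker_subschemeι _).symm
      _ ≤ (w k ≫ (K D c i k).subschemeι).ker := Scheme.Hom.le_ker_comp _ _
  have hl : IsClosedImmersion.lift i v H ≫ i = v := IsClosedImmersion.lift_fac i v H
  have key : ∀ l : s.pt ⟶ X, (∀ k, l ≫ leg D c i k = w k) ↔ l ≫ i = v := by
    intro l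
    constructor
    · intro h
      apply hc.hom_ext
      intro k
      rw [hv, Category.assoc, ← leg_ι', ← Category.assoc, h k]
    · intro h k
      rw [← cancel_mono (K D c i k).subschemeι, Category.assoc, leg_ι', ← Category.assoc, h, hv]
  have key2 : ∀ l : s.pt ⟶ X, l ≫ i = v → l = IsClosedImmersion.lift i v H := by
    intro l h
    exact (cancel_mono i).mp (h.trans hl.symm)
  obtain ⟨l0, hl0⟩ : ∃ l0 : s.pt ⟶ X, l0 = IsClosedImmersion.lift i v H := ⟨_, rfl⟩
  rw [← hl0] at hl key2
  refine ⟨l0, fun k => (key l0).mpr hl k, fun l' hl' => ?_⟩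
  exact key2 l' ((key l').mp hl')

end limit

end Groth.Agent.Lib.Helper22.ImageLim
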