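import Mathlib
import Groth.Agent.S7379
import Groth.Agent.S2154

set_option autoImplicit false
set_option linter.style.haveILetI false
set_option linter.unusedSectionVars false
universe u
open CategoryTheory AlgebraicGeometry Limits Opposite

namespace Groth.Agent.Lib.Helper22.IntLim

/-- The scheme-theoretic image of an integral morphism `X' ⟶ S` inside a scheme `Y` affine and
locally of finite type over `S` is finite over `S`. -/
theorem isFinite_image_comp {S X' Y : Scheme.{u}} (y : Y ⟶ S) [IsAffineHom y]
    [LocallyOfFiniteType y] (π : X' ⟶ Y) [IsIntegralHom (π ≫ y)] [QuasiCompact π] :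
    IsFinite (π.imageι ≫ y) := by
  rw [IsFinite.iff_isIntegralHom_and_locallyOfFiniteType]
  refine ⟨?_, inferInstance⟩
  rw [IsIntegralHom.iff_universallyClosed_and_isAffineHom]
  refine ⟨?_, inferInstance⟩
  haveI h1 : UniversallyClosed (π.toImage ≫ π.imageι ≫ y) := by
    rw [← Category.assoc, π.toImage_imageι]; infer_instance
  haveI h2 : UniversallyClosed π.toImage :=
    UniversallyClosed.of_comp_of_isSeparated π.toImage (π.imageι ≫ y)
  haveI : Surjective π.toImage := by
    constructor
    have hd : DenseRange π.toImage := π.toImage.denseRange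
    have hcl : IsClosed (Set.range π.toImage) := π.toImage.isClosedMap.isClosed_range
    rw [← Set.range_eq_univ, ← hcl.closure_eq, hd.closure_range]
  exact UniversallyClosed.of_comp_surjective π.toImage (π.imageι ≫ y)

/-- Through a scheme `Y` affine of finite presentation over a qcqs base `S`, an integral morphism
`X' ⟶ S` factors through a closed subscheme of `Y` which is finite and of finite presentation
over `S`. -/
theorem exists_finite_fp_closed {S X' Y : Scheme.{u}} [CompactSpace S] [QuasiSeparatedSpace S]
    (y : Y ⟶ S) [IsAffineHom y] [LocallyOfFinitePresentation y]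
    (π : X' ⟶ Y) [IsIntegralHom (π ≫ y)] :
    ∃ (T : Scheme.{u}) (ιT : T ⟶ Y) (t : X' ⟶ T), IsClosedImmersion ιT ∧
      LocallyOfFinitePresentation ιT ∧ IsFinite (ιT ≫ y) ∧ t ≫ ιT = π := by
  haveI : CompactSpace Y := QuasiCompact.compactSpace_of_compactSpace y
  haveI : QuasiSeparatedSpace Y := quasiSeparatedSpace_of_quasiSeparated y
  haveI : IsAffineHom π :=
    MorphismProperty.of_postcomp (W := @IsAffineHom) (W' := @IsSeparated) π y inferInstance
      inferInstance
  have hfin : IsFinite (π.imageι ≫ y) := isFinite_image_comp y π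
  obtain ⟨A, iA1, iA2, iA3, E, cE, hcE, hE, ⟨e⟩⟩ := Groth.Agent.S7379.result π.imageι
  haveI : IsConnected Aᵒᵖ := IsCofiltered.isConnected _
  -- transfer to `Over S`
  let E' : Aᵒᵖ ⥤ Over S := E ⋙ Over.map y
  let cE' : Cone E' := (Over.map y).mapCone cE
  have hcE' : IsLimit cE' := by
    apply isLimitOfReflects (Over.forget S)
    exact isLimitOfPreserves (Over.forget Y) hcE
  haveI : ∀ a, IsClosedImmersion (E.obj a).hom := fun a => (hE a).1
  haveI : ∀ a, LocallyOfFinitePresentation (E.obj a).hom := fun a => (hE a).2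
  haveI : ∀ (a b : Aᵒᵖ) (f : a ⟶ b), IsFinite (E'.map f).left := by
    intro a b f
    have h1 : (E.map f).left ≫ (E.obj b).hom = (E.obj a).hom := Over.w (E.map f)
    have h2 : IsClosedImmersion ((E.map f).left ≫ (E.obj b).hom) := by rw [h1]; infer_instance
    have h3 : IsClosedImmersion (E.map f).left := IsClosedImmersion.of_comp _ (E.obj b).hom
    show IsFinite (E.map f).left
    infer_instance
  haveI : ∀ a, CompactSpace (E'.obj a).left := fun a =>
    QuasiCompact.compactSpace_of_compactSpace (E.obj a).hom
  haveI : ∀ a, QuasiSeparatedSpace (E'.obj a).left := fun a =>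
    quasiSeparatedSpace_of_quasiSeparated (E.obj a).hom
  haveI : ∀ a, LocallyOfFiniteType (E'.obj a).hom := by
    intro a
    show LocallyOfFiniteType ((E.obj a).hom ≫ y)
    infer_instance
  haveI : IsIntegralHom cE'.pt.hom := by
    show IsIntegralHom (cE.pt.hom ≫ y)
    have h1 : cE.pt.hom = e.hom.left ≫ π.imageι := (Over.w e.hom).symm
    rw [h1, Category.assoc]
    haveI : IsIso e.hom.left := Functor.map_isIso (Over.forget Y) e.hom
    infer_instance
  obtain ⟨a₀, ha₀⟩ := Groth.Agent.S2154.result S E' cE' hcE'
  refine ⟨(E.obj a₀).left, (E.obj a₀).hom, π.toImage ≫ e.inv.left ≫ (cE.π.app a₀).left,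
    inferInstance, inferInstance, ha₀ a₀ (𝟙 _), ?_⟩
  have h0 : (cE.π.app a₀).left ≫ (E.obj a₀).hom = cE.pt.hom := Over.w (cE.π.app a₀)
  have h1 : e.inv.left ≫ cE.pt.hom = π.imageι := Over.w e.inv
  rw [Category.assoc, Category.assoc, h0, h1, π.toImage_imageι]

end Groth.Agent.Lib.Helper22.IntLim
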