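import Mathlib

set_option autoImplicit false
set_option linter.style.haveILetI false
set_option linter.unusedSectionVars false
universe u v w
open CategoryTheory Limits Opposite

namespace Groth.Agent.Lib.Helper22.Refine

variable {C : Type w} [Category.{v} C] {I : Type u} [Preorder I]
  (Y : Iᵒᵖ ⥤ C) (T : I → C) (ι : ∀ i, T i ⟶ Y.obj (op i))

/-- The index type of the refined system (a copy of `I` with a new order). -/
structure RefIdx (_Y : Iᵒᵖ ⥤ C) (T : I → C) (_ι : ∀ i, T i ⟶ _Y.obj (op i)) : Type u where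
  /-- the underlying index -/
  val : I

/-- the new relation -/
def Rel (a b : I) : Prop :=
  ∃ (h : a ≤ b) (u : T b ⟶ T a), u ≫ ι a = ι b ≫ Y.map (homOfLE h).op

lemma map_homOfLE_comp {a b c : I} (h1 : a ≤ b) (h2 : b ≤ c) :
    Y.map (homOfLE h2).op ≫ Y.map (homOfLE h1).op = Y.map (homOfLE (h1.trans h2)).op := by
  rw [← Y.map_comp]
  congr 1

lemma map_homOfLE_refl (a : I) : Y.map (homOfLE (le_refl a)).op = 𝟙 _ := by
  have : (homOfLE (le_refl a)).op = 𝟙 (op a) := Subsingleton.elim _ _
  rw [this, Y.map_id]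

lemma rel_refl (a : I) : Rel Y T ι a a :=
  ⟨le_refl a, 𝟙 _, by rw [map_homOfLE_refl, Category.id_comp, Category.comp_id]⟩

lemma rel_trans {a b c : I} (h1 : Rel Y T ι a b) (h2 : Rel Y T ι b c) : Rel Y T ι a c := by
  obtain ⟨hab, u, hu⟩ := h1
  obtain ⟨hbc, v, hv⟩ := h2
  refine ⟨hab.trans hbc, v ≫ u, ?_⟩
  rw [Category.assoc, hu, reassoc_of% hv, map_homOfLE_comp]

instance : Preorder (RefIdx Y T ι) where
  le a b := Rel Y T ι a.val b.val
  le_refl a := rel_refl Y T ι a.val
  le_trans _ _ _ h1 h2 := rel_trans Y T ι h1 h2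

lemma le_def (a b : RefIdx Y T ι) : a ≤ b ↔ Rel Y T ι a.val b.val := Iff.rfl

variable [∀ i, Mono (ι i)]

/-- the transition map -/
noncomputable def trans {a b : RefIdx Y T ι} (h : a ≤ b) : T b.val ⟶ T a.val :=
  h.choose_spec.choose

lemma trans_spec {a b : RefIdx Y T ι} (h : a ≤ b) :
    trans Y T ι h ≫ ι a.val = ι b.val ≫ Y.map (homOfLE h.choose).op :=
  h.choose_spec.choose_spec

/-- The refined diagram. -/
noncomputable def diag : (RefIdx Y T ι)ᵒᵖ ⥤ C where
  obj a := T a.unop.val
  map {a b} f := trans Y T ι (leOfHom f.unop)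
  map_id a := by
    rw [← cancel_mono (ι a.unop.val), trans_spec, map_homOfLE_refl, Category.id_comp,
      Category.comp_id]
  map_comp {a b c} f g := by
    rw [← cancel_mono (ι c.unop.val), trans_spec, Category.assoc, trans_spec,
      reassoc_of% trans_spec, map_homOfLE_comp]

variable (hfac : ∀ i, ∃ (j : I) (hij : i ≤ j) (g : Y.obj (op j) ⟶ T i),
  g ≫ ι i = Y.map (homOfLE hij).op)

include hfac in
lemma rel_of_le {a k : I} (hk : (hfac a).choose ≤ k) : Rel Y T ι a k := by
  obtain ⟨hij, g, hg⟩ := (hfac a).choose_spec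
  refine ⟨hij.trans hk, ι k ≫ Y.map (homOfLE hk).op ≫ g, ?_⟩
  rw [Category.assoc, Category.assoc, hg, map_homOfLE_comp]

include hfac in
lemma isDirected [IsDirected I (fun a b => a ≤ b)] :
    IsDirected (RefIdx Y T ι) (fun a b => a ≤ b) := by
  refine ⟨fun a b => ?_⟩
  obtain ⟨k, hk1, hk2⟩ := directed_of (fun a b : I => a ≤ b) (hfac a.val).choose
    (hfac b.val).choose
  exact ⟨⟨k⟩, rel_of_le Y T ι hfac hk1, rel_of_le Y T ι hfac hk2⟩

variable (c : Cone Y)

/-- the leg of the refined cone -/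
noncomputable def leg (i : I) : c.pt ⟶ T i :=
  c.π.app (op (hfac i).choose) ≫ (hfac i).choose_spec.choose_spec.choose

lemma leg_spec (i : I) : leg Y T ι hfac c i ≫ ι i = c.π.app (op i) := by
  unfold leg
  rw [Category.assoc, (hfac i).choose_spec.choose_spec.choose_spec, c.w]

/-- The refined cone. -/
noncomputable def cone : Cone (diag Y T ι) where
  pt := c.pt
  π :=
    { app := fun a => leg Y T ι hfac c a.unop.val
      naturality := fun a b f => by
        show 𝟙 _ ≫ leg Y T ι hfac c b.unop.val =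
          leg Y T ι hfac c a.unop.val ≫ trans Y T ι (leOfHom f.unop)
        rw [Category.id_comp, ← cancel_mono (ι b.unop.val), Category.assoc, trans_spec,
          reassoc_of% leg_spec, leg_spec, c.w] }

/-- The refined cone is a limit cone. -/
noncomputable def isLimitCone [IsDirected I (fun a b => a ≤ b)] (hc : IsLimit c) :
    IsLimit (cone Y T ι hfac c) := by
  haveI := isDirected Y T ι hfac
  refine IsLimit.ofExistsUnique fun s => ?_
  -- typed legs of `s`
  let p : ∀ i : I, s.pt ⟶ T i := fun i => s.π.app (op (⟨i⟩ : RefIdx Y T ι))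
  have hp : ∀ (a b : RefIdx Y T ι) (h : a ≤ b), p b.val ≫ trans Y T ι h = p a.val :=
    fun a b h => s.w (homOfLE h).op
  -- the induced cone over `Y`
  have hcompat : ∀ (i j : I) (hij : i ≤ j),
      (p j ≫ ι j) ≫ Y.map (homOfLE hij).op = p i ≫ ι i := by
    intro i j hij
    obtain ⟨k, hk1, hk2⟩ := directed_of (fun a b : RefIdx Y T ι => a ≤ b) ⟨i⟩ ⟨j⟩
    have e1 : p k.val ≫ trans Y T ι hk1 = p i := hp _ _ hk1
    have e2 : p k.val ≫ trans Y T ι hk2 = p j := hp _ _ hk2
    have t1 : trans Y T ι hk1 ≫ ι i = ι k.val ≫ Y.map (homOfLE hk1.choose).op :=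
      trans_spec Y T ι hk1
    have t2 : trans Y T ι hk2 ≫ ι j = ι k.val ≫ Y.map (homOfLE hk2.choose).op :=
      trans_spec Y T ι hk2
    rw [← e1, ← e2, Category.assoc, Category.assoc, Category.assoc, t1, reassoc_of% t2,
      map_homOfLE_comp]
  let s' : Cone Y :=
    { pt := s.pt
      π :=
        { app := fun a => p a.unop ≫ ι a.unop
          naturality := fun a b f => by
            have h1 := hcompat b.unop a.unop (leOfHom f.unop)
            have h2 : Y.map f = Y.map (homOfLE (leOfHom f.unop)).op := by congr 1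
            show 𝟙 _ ≫ p b.unop ≫ ι b.unop = (p a.unop ≫ ι a.unop) ≫ Y.map f
            rw [Category.id_comp, h2, h1] } }
  have hs' : ∀ i : I, s'.π.app (op i) = p i ≫ ι i := fun i => rfl
  refine ⟨hc.lift s', fun a => ?_, fun l hl => ?_⟩
  · show hc.lift s' ≫ leg Y T ι hfac c a.unop.val = p a.unop.val
    rw [← cancel_mono (ι a.unop.val), Category.assoc, leg_spec, ← hs']
    exact hc.fac s' (op a.unop.val)
  · have key : ∀ l' : s.pt ⟶ c.pt, (∀ i : I, l' ≫ leg Y T ι hfac c i = p i) →
        l' = hc.lift s' := by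
      intro l' hl'
      apply hc.uniq s'
      intro a
      show l' ≫ c.π.app (op a.unop) = p a.unop ≫ ι a.unop
      rw [← hl' a.unop, Category.assoc, leg_spec]
    exact key l (fun i => hl (op (⟨i⟩ : RefIdx Y T ι)))

end Groth.Agent.Lib.Helper22.Refine
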