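import Mathlib
import Groth.Agent.Lib.Helper22.IntLim1
import Groth.Agent.Lib.Helper22.AffLim2
import Groth.Agent.Lib.Helper22.Refine

set_option autoImplicit false
set_option linter.style.haveILetI false
set_option linter.unusedSectionVars false
universe u
open CategoryTheory AlgebraicGeometry Limits Opposite

namespace Groth.Agent.Lib.Helper22.IntLim

/-- A factorisation of the projection from the limit through an `S`-scheme of finite presentation
mapping to a stage descends to a later stage. -/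
theorem exists_factor_stage {S : Scheme.{u}} [CompactSpace S] [QuasiSeparatedSpace S]
    {I : Type u} [Preorder I] [IsDirected I (fun a b => a ≤ b)] [Nonempty I]
    (D : Iᵒᵖ ⥤ Over S) (c : Cone D) (hc : IsLimit c)
    (haff : ∀ i, IsAffineHom (D.obj i).hom)
    (hfp : ∀ i, LocallyOfFinitePresentation (D.obj i).hom)
    (i : I) (T : Over S) (ιT : T ⟶ D.obj (op i)) [LocallyOfFinitePresentation T.hom]
    (t : c.pt ⟶ T) (ht : t ≫ ιT = c.π.app (op i)) :
    ∃ (j : I) (hij : i ≤ j) (g : D.obj (op j) ⟶ T), g ≫ ιT = D.map (homOfLE hij).op := by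
  haveI : IsConnected Iᵒᵖ := IsCofiltered.isConnected _
  let D' : Iᵒᵖ ⥤ Scheme.{u} := D ⋙ Over.forget S
  let c' : Cone D' := (Over.forget S).mapCone c
  have hc' : IsLimit c' := isLimitOfPreserves (Over.forget S) hc
  haveI : ∀ {i j : Iᵒᵖ} (a : i ⟶ j), IsAffineHom (D'.map a) := by
    intro i j a
    have h1 : (D.map a).left ≫ (D.obj j).hom = (D.obj i).hom := Over.w (D.map a)
    haveI := haff i
    haveI := haff j
    have h2 : IsAffineHom ((D.map a).left ≫ (D.obj j).hom) := by rw [h1]; infer_instance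
    have hsep : IsSeparated (D.obj j).hom := inferInstance
    exact MorphismProperty.of_postcomp (W := @IsAffineHom) (W' := @IsSeparated) _ (D.obj j).hom
      hsep h2
  haveI : ∀ k, CompactSpace (D'.obj k) := fun k => by
    obtain ⟨yk, hyk⟩ : ∃ yk : (D.obj k).left ⟶ S, yk = (D.obj k).hom := ⟨_, rfl⟩
    haveI : IsAffineHom yk := hyk ▸ haff k
    show CompactSpace (D.obj k).left
    exact QuasiCompact.compactSpace_of_compactSpace yk
  haveI : ∀ k, QuasiSeparatedSpace (D'.obj k) := fun k => by
    obtain ⟨yk, hyk⟩ : ∃ yk : (D.obj k).left ⟶ S, yk = (D.obj k).hom := ⟨_, rfl⟩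
    haveI : IsAffineHom yk := hyk ▸ haff k
    show QuasiSeparatedSpace (D.obj k).left
    exact quasiSeparatedSpace_of_quasiSeparated yk
  let tt : D' ⟶ (Functor.const Iᵒᵖ).obj S :=
    { app := fun k => (D.obj k).hom
      naturality := fun k l a => by
        show (D.map a).left ≫ (D.obj l).hom = (D.obj k).hom ≫ 𝟙 _
        rw [Category.comp_id, Over.w] }
  obtain ⟨k, g, h1, h2⟩ := Scheme.exists_π_app_comp_eq_of_locallyOfFinitePresentation D' tt T.hom
    c' hc' t.left (by
      ext k : 2
      show (c.π.app k).left ≫ (D.obj k).hom = t.left ≫ T.hom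
      rw [Over.w, Over.w]
      rfl)
  haveI := hfp (op i)
  have e1 : tt.app k = (g ≫ ιT.left) ≫ (D.obj (op i)).hom := by
    rw [Category.assoc, Over.w ιT]; exact h2.symm
  have e2 : tt.app (op i) = 𝟙 (D'.obj (op i)) ≫ (D.obj (op i)).hom := (Category.id_comp _).symm
  have e3 : c'.π.app k ≫ g ≫ ιT.left = c'.π.app (op i) ≫ 𝟙 (D'.obj (op i)) := by
    rw [← Category.assoc, h1, Category.comp_id]
    exact congrArg (fun m => m.left) ht
  obtain ⟨k', hk'k, hk'i, heq⟩ := Scheme.exists_hom_hom_comp_eq_comp_of_locallyOfFiniteType D' tt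
    (D.obj (op i)).hom c' hc' (g ≫ ιT.left) e1 (𝟙 (D'.obj (op i))) e2 e3
  have hij : i ≤ k'.unop := leOfHom hk'i.unop
  refine ⟨k'.unop, hij, Over.homMk (D'.map hk'k ≫ g) ?_, ?_⟩
  · show (D'.map hk'k ≫ g) ≫ T.hom = (D.obj k').hom
    rw [Category.assoc, h2]
    exact Over.w (D.map hk'k)
  · apply Over.OverMorphism.ext
    show (D'.map hk'k ≫ g) ≫ ιT.left = (D.map (homOfLE hij).op).left
    rw [Category.assoc, heq]
    refine (Category.comp_id _).trans ?_
    have : hk'i = (homOfLE hij).op := Subsingleton.elim _ _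
    rw [this]
    rfl

open Groth.Agent.Lib.Helper22.GenChev in
/-- An integral morphism to a qcqs scheme is a directed limit of finite morphisms of finite
presentation. -/
theorem exists_finite_fp_limit
    (happ : ∀ (S : Scheme.{u}) [CompactSpace S] [QuasiSeparatedSpace S], HasApprox S)
    {X S : Scheme.{u}} (f : X ⟶ S) [IsIntegralHom f] [CompactSpace S] [QuasiSeparatedSpace S] :
    ∃ (I : Type u) (_ : Preorder I) (_ : IsDirected I (fun a b => a ≤ b)) (_ : Nonempty I)
      (D : Iᵒᵖ ⥤ Over S) (c : Limits.Cone D) (_ : Limits.IsLimit c),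
      (∀ i, IsFinite (D.obj i).hom ∧ LocallyOfFinitePresentation (D.obj i).hom) ∧
      Nonempty (c.pt ≅ Over.mk f) := by
  haveI : CompactSpace X := QuasiCompact.compactSpace_of_compactSpace f
  haveI : QuasiSeparatedSpace X := quasiSeparatedSpace_of_quasiSeparated f
  obtain ⟨I, i1, i2, i3, D, c, hc, h, ⟨e⟩⟩ :=
    Groth.Agent.Lib.Helper22.AffLim.exists_affine_fp_limit_preorder happ f
  have hint : IsIntegralHom c.pt.hom := by
    have : c.pt.hom = e.hom.left ≫ f := (Over.w e.hom).symm
    rw [this]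
    haveI : IsIso e.hom.left := Functor.map_isIso (Over.forget S) e.hom
    infer_instance
  have hstep : ∀ i : I, ∃ (T : Scheme.{u}) (ιT : T ⟶ (D.obj (op i)).left) (t : c.pt.left ⟶ T),
      IsClosedImmersion ιT ∧ LocallyOfFinitePresentation ιT ∧
      IsFinite (ιT ≫ (D.obj (op i)).hom) ∧ t ≫ ιT = (c.π.app (op i)).left := by
    intro i
    haveI := (h (op i)).1
    haveI := (h (op i)).2
    haveI : IsIntegralHom ((c.π.app (op i)).left ≫ (D.obj (op i)).hom) := by
      have : (c.π.app (op i)).left ≫ (D.obj (op i)).hom = c.pt.hom := Over.w (c.π.app (op i))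
      rw [this]; exact hint
    exact exists_finite_fp_closed (D.obj (op i)).hom (c.π.app (op i)).left
  choose T ιT t hT1 hT2 hT3 hT4 using hstep
  let TO : I → Over S := fun i => Over.mk (ιT i ≫ (D.obj (op i)).hom)
  let ιO : ∀ i, TO i ⟶ D.obj (op i) := fun i => Over.homMk (ιT i) rfl
  haveI : ∀ i, Mono (ιO i) := fun i => by
    haveI := hT1 i
    haveI : Mono (ιO i).left := by show Mono (ιT i); infer_instance
    exact Over.mono_of_mono_left (ιO i)
  have hTfp : ∀ i, LocallyOfFinitePresentation (TO i).hom := fun i => by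
    haveI := hT2 i
    haveI := (h (op i)).2
    show LocallyOfFinitePresentation (ιT i ≫ (D.obj (op i)).hom)
    infer_instance
  have hfac : ∀ i, ∃ (j : I) (hij : i ≤ j) (g : D.obj (op j) ⟶ TO i),
      g ≫ ιO i = D.map (homOfLE hij).op := by
    intro i
    haveI := hTfp i
    refine exists_factor_stage D c hc (fun k => (h k).1) (fun k => (h k).2) i (TO i) (ιO i)
      (Over.homMk (t i) ?_) ?_
    · show t i ≫ ιT i ≫ (D.obj (op i)).hom = c.pt.hom
      rw [← Category.assoc, hT4]
      exact Over.w (c.π.app (op i))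
    · apply Over.OverMorphism.ext
      exact hT4 i
  refine ⟨Refine.RefIdx D TO ιO, inferInstance, Refine.isDirected D TO ιO hfac,
    ⟨⟨Classical.arbitrary I⟩⟩, Refine.diag D TO ιO, Refine.cone D TO ιO hfac c,
    Refine.isLimitCone D TO ιO hfac c hc, fun a => ⟨hT3 a.unop.val, hTfp a.unop.val⟩, ⟨e⟩⟩

end Groth.Agent.Lib.Helper22.IntLim
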