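import Mathlib

set_option autoImplicit false

namespace Groth.Agent.Lib.Helper22.NilpSurj

/-- If `K` is a nilpotent ideal of `B` and `φ : A → B` is surjective modulo `K ^ 2`,
then `φ` is surjective. -/
theorem surjective_of_forall_sub_mem_sq {A B : Type*} [CommRing A] [CommRing B] (φ : A →+* B)
    (K : Ideal B) (n : ℕ) (hK : K ^ n = ⊥)
    (h0 : ∀ b : B, ∃ a, b - φ a ∈ K ^ 2) : Function.Surjective φ := by
  have h1 : ∀ b ∈ K, ∃ a, φ a ∈ K ∧ b - φ a ∈ K ^ 2 := by
    intro b hb
    obtain ⟨a, ha⟩ := h0 b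
    refine ⟨a, ?_, ha⟩
    have : φ a = b - (b - φ a) := by ring
    rw [this]
    exact Ideal.sub_mem _ hb (Ideal.pow_le_self two_ne_zero ha)
  have hP : ∀ m : ℕ, ∀ b ∈ K ^ (m + 1), ∃ a, φ a ∈ K ^ (m + 1) ∧ b - φ a ∈ K ^ (m + 2) := by
    intro m
    induction m with
    | zero =>
      intro b hb
      obtain ⟨a, ha1, ha2⟩ := h1 b (by simpa using hb)
      exact ⟨a, by simpa using ha1, by simpa using ha2⟩
    | succ m ih =>
      intro b hb
      rw [pow_succ'] at hb
      refine Submodule.mul_induction_on hb ?_ ?_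
      · intro x hx y hy
        obtain ⟨a, ha1, ha2⟩ := h1 x hx
        obtain ⟨a', ha1', ha2'⟩ := ih y hy
        refine ⟨a * a', ?_, ?_⟩
        · rw [map_mul, pow_succ']
          exact Ideal.mul_mem_mul ha1 ha1'
        · have e : x * y - φ (a * a') = φ a * (y - φ a') + (x - φ a) * y := by
            rw [map_mul]; ring
          rw [e]
          refine Ideal.add_mem _ ?_ ?_
          · have : K ^ (m + 1 + 2) = K * K ^ (m + 2) := by rw [← pow_succ']
            rw [this]
            exact Ideal.mul_mem_mul ha1 ha2'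
          · have : K ^ (m + 1 + 2) = K ^ 2 * K ^ (m + 1) := by rw [← pow_add]; congr 1; omega
            rw [this]
            exact Ideal.mul_mem_mul ha2 hy
      · rintro x y ⟨a, ha1, ha2⟩ ⟨a', ha1', ha2'⟩
        refine ⟨a + a', ?_, ?_⟩
        · rw [map_add]; exact Ideal.add_mem _ ha1 ha1'
        · have e : x + y - φ (a + a') = (x - φ a) + (y - φ a') := by rw [map_add]; ring
          rw [e]; exact Ideal.add_mem _ ha2 ha2'
  have hQ : ∀ m : ℕ, ∀ b : B, ∃ a, b - φ a ∈ K ^ (m + 1) := by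
    intro m
    induction m with
    | zero =>
      intro b
      obtain ⟨a, ha⟩ := h0 b
      exact ⟨a, Ideal.pow_le_pow_right (by norm_num) ha⟩
    | succ m ih =>
      intro b
      obtain ⟨a, ha⟩ := ih b
      obtain ⟨a', -, ha'⟩ := hP m _ ha
      refine ⟨a + a', ?_⟩
      have e : b - φ (a + a') = b - φ a - φ a' := by rw [map_add]; ring
      rw [e]; exact ha'
  intro b
  obtain ⟨a, ha⟩ := hQ n b
  have : K ^ (n + 1) = ⊥ := by rw [pow_succ, hK, Ideal.bot_mul]
  rw [this, Ideal.mem_bot, sub_eq_zero] at ha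
  exact ⟨a, ha.symm⟩

end Groth.Agent.Lib.Helper22.NilpSurj
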