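import Mathlib
import Groth.Agent.Lib.Helper22.ImageLim
import Groth.Agent.Lib.Helper22.RelApprox4
import Groth.Agent.Lib.Helper14.ProperLim
import Groth.Agent.S2079
import Groth.Agent.S0591
import Groth.Agent.S7409

set_option autoImplicit false
set_option linter.style.haveILetI false
set_option linter.unusedSectionVars false
universe u
open CategoryTheory AlgebraicGeometry Limits Opposite

namespace Groth.Agent.Lib.Helper22.ProperArrow

attribute [local instance] CategoryTheory.isConnected_of_hasTerminal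

section model

variable {J : Type u} [SmallCategory J] [IsCofiltered J] (DS : J ⥤ Scheme.{u}) (cS : Cone DS)
  (hcS : IsLimit cS) (j1 : J) {M : Scheme.{u}} (m : M ⟶ DS.obj j1)

/-- The diagram of base changes of a model `m : M ⟶ DS.obj j1` to the later stages. -/
noncomputable def DM : Over j1 ⥤ Scheme.{u} :=
  Over.post DS ⋙ Over.pullback m ⋙ Over.forget M

/-- The cone over `DM` with vertex the base change of the model to the limit. -/
noncomputable def cM : Cone (DM DS j1 m) :=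
  (Over.pullback m ⋙ Over.forget M).mapCone ((Over.conePost DS j1).obj cS)

/-- `cM` is a limit cone. -/
noncomputable def isLimitCM : IsLimit (cM DS cS j1 m) :=
  isLimitOfPreserves (Over.pullback m ⋙ Over.forget M) (Over.isLimitConePost j1 hcS)

lemma DM_obj (a : Over j1) : (DM DS j1 m).obj a = pullback (DS.map a.hom) m := rfl

lemma cM_pt : (cM DS cS j1 m).pt = pullback (cS.π.app j1) m := rfl

/-- first projection of a stage -/
noncomputable def pfst (a : Over j1) : (DM DS j1 m).obj a ⟶ DS.obj a.left :=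
  pullback.fst (DS.map a.hom) m

/-- second projection of a stage -/
noncomputable def psnd (a : Over j1) : (DM DS j1 m).obj a ⟶ M :=
  pullback.snd (DS.map a.hom) m

lemma DM_map_fst {a b : Over j1} (h : a ⟶ b) :
    (DM DS j1 m).map h ≫ pfst DS j1 m b = pfst DS j1 m a ≫ DS.map h.left :=
  pullback.lift_fst _ _ _

lemma DM_map_snd {a b : Over j1} (h : a ⟶ b) :
    (DM DS j1 m).map h ≫ psnd DS j1 m b = psnd DS j1 m a :=
  pullback.lift_snd _ _ _

lemma cM_π_fst (a : Over j1) :
    (cM DS cS j1 m).π.app a ≫ pfst DS j1 m a =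
      pullback.fst (cS.π.app j1) m ≫ cS.π.app a.left :=
  pullback.lift_fst _ _ _

variable [∀ {a b : J} (f : a ⟶ b), IsAffineHom (DS.map f)]

instance isAffineHom_DM_map {a b : Over j1} (h : a ⟶ b) : IsAffineHom ((DM DS j1 m).map h) := by
  have h1 : IsAffineHom (psnd DS j1 m a) :=
    MorphismProperty.of_isPullback (P := @IsAffineHom)
      (IsPullback.of_hasPullback (DS.map a.hom) m) inferInstance
  have h2 : IsAffineHom (psnd DS j1 m b) :=
    MorphismProperty.of_isPullback (P := @IsAffineHom)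
      (IsPullback.of_hasPullback (DS.map b.hom) m) inferInstance
  have h3 : IsSeparated (psnd DS j1 m b) := inferInstance
  have h4 : IsAffineHom ((DM DS j1 m).map h ≫ psnd DS j1 m b) := by rw [DM_map_snd]; exact h1
  exact MorphismProperty.of_postcomp (W := @IsAffineHom) (W' := @IsSeparated) _
    (psnd DS j1 m b) h3 h4

end model

open Groth.Agent.Lib.Helper22.GenChev in
/-- A proper morphism to a qcqs scheme is a limit of proper morphisms to schemes of finite type
over `ℤ`. -/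
theorem exists_proper_arrow_limit
    (happ : ∀ (S : Scheme.{u}) [CompactSpace S] [QuasiSeparatedSpace S], HasApprox S)
    {X S : Scheme.{u}} (f : X ⟶ S) [IsProper f] [CompactSpace S] [QuasiSeparatedSpace S] :
    ∃ (I : Type u) (_ : SmallCategory I) (_ : IsCofiltered I) (DX DS : I ⥤ Scheme.{u})
      (φ : DX ⟶ DS) (cX : Limits.Cone DX) (cS : Limits.Cone DS) (_ : Limits.IsLimit cX)
      (_ : Limits.IsLimit cS) (eX : cX.pt ≅ X) (eS : cS.pt ≅ S),
      (∀ (i j : I) (a : i ⟶ j), IsAffineHom (DX.map a) ∧ IsAffineHom (DS.map a)) ∧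
      (∀ i, IsProper (φ.app i) ∧ CompactSpace (DS.obj i) ∧
        LocallyOfFiniteType (Limits.IsTerminal.from specULiftZIsTerminal (DS.obj i))) ∧
      (∀ i, cX.π.app i ≫ φ.app i = eX.hom ≫ f ≫ eS.inv ≫ cS.π.app i) := by
  obtain ⟨B, _, _, _, DS, cS, hcS, hSaff, hSprop, rfl⟩ :=
    Groth.Agent.Lib.Helper22.RelApprox.exists_cone_eq (happ S)
  haveI : ∀ {a b : Bᵒᵖ} (f : a ⟶ b), IsAffineHom (DS.map f) := fun f => hSaff _ _ f
  haveI : ∀ b, CompactSpace (DS.obj b) := fun b => (hSprop b).1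
  haveI : ∀ b, LocallyOfFiniteType (specULiftZIsTerminal.from (DS.obj b)) := fun b => (hSprop b).2
  haveI : ∀ b, QuasiSeparatedSpace (DS.obj b) := fun b => by
    haveI := Groth.Agent.Lib.Helper22.RelApprox.isLocallyNoetherian_of_lft (DS.obj b)
    infer_instance
  -- a proper finitely presented `S`-scheme containing `X`
  obtain ⟨I₂, _, _, D₂, c₂, hc₂, e, -, h2b⟩ := Groth.Agent.S2079.result f
  obtain ⟨i₂⟩ := IsCofiltered.nonempty (C := I₂)
  obtain ⟨hcl, hprop, hfp⟩ := h2b i₂
  obtain ⟨x1, hx1⟩ : ∃ x1 : (D₂.obj i₂).left ⟶ cS.pt, x1 = (D₂.obj i₂).hom := ⟨_, rfl⟩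
  haveI : IsProper x1 := hx1 ▸ hprop
  haveI : LocallyOfFinitePresentation x1 := hx1 ▸ hfp
  obtain ⟨i1, hi1⟩ : ∃ i1 : X ⟶ (D₂.obj i₂).left, i1 = e.inv.left ≫ (c₂.π.app i₂).left :=
    ⟨_, rfl⟩
  haveI : IsClosedImmersion i1 := by
    haveI : IsIso e.inv.left := Functor.map_isIso (Over.forget _) e.inv
    haveI := hcl
    rw [hi1]; infer_instance
  have hi1f : i1 ≫ x1 = f := by
    rw [hi1, hx1, Category.assoc, Over.w (c₂.π.app i₂)]
    exact Over.w e.inv
  -- descend it to a stage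
  haveI : ∀ (a b : Bᵒᵖ) (f : a ⟶ b), IsAffineHom (DS.map f) := hSaff
  obtain ⟨j0, X₀, f₀, g, hf₀1, hf₀2, hf₀3, hpb⟩ := Groth.Agent.S0591.result DS cS hcS _ x1
  haveI : CompactSpace X₀ := QuasiCompact.compactSpace_of_compactSpace f₀
  haveI : QuasiSeparatedSpace X₀ := quasiSeparatedSpace_of_quasiSeparated f₀
  have hprop0 : IsProper (pullback.fst (cS.π.app j0) f₀) := by
    have : pullback.fst (cS.π.app j0) f₀ = hpb.flip.isoPullback.inv ≫ x1 := by
      rw [Iso.eq_inv_comp, IsPullback.isoPullback_hom_fst]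
    rw [this]; infer_instance
  obtain ⟨k, hk⟩ := Groth.Agent.Lib.Helper14.ProperLim.exists_isProper_pullback_fst DS cS j0
    (fun f => Groth.Agent.S7409.result f) hcS f₀ hprop0
  obtain ⟨j1, kh, hk'⟩ : ∃ (j1 : Bᵒᵖ) (kh : j1 ⟶ j0), IsProper (pullback.fst (DS.map kh) f₀) :=
    ⟨k.left, k.hom, hk⟩
  obtain ⟨m, hm⟩ : ∃ m : pullback (DS.map kh) f₀ ⟶ DS.obj j1, m = pullback.fst (DS.map kh) f₀ :=
    ⟨_, rfl⟩
  haveI : IsProper m := by rw [hm]; exact hk'
  -- the base change of the model to the limit is `X¹`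
  let h11 : (D₂.obj i₂).left ⟶ pullback (DS.map kh) f₀ :=
    pullback.lift (x1 ≫ cS.π.app j1) g (by rw [Category.assoc, cS.w, hpb.w])
  have hP : IsPullback h11 x1 m (cS.π.app j1) := by
    refine IsPullback.of_right (h₁₂ := pullback.snd (DS.map kh) f₀) (h₂₂ := DS.map kh)
      (v₁₃ := f₀) ?_ (by rw [hm]; exact pullback.lift_fst _ _ _)
      (by rw [hm]; exact (IsPullback.of_hasPullback _ _).flip)
    have e1 : h11 ≫ pullback.snd (DS.map kh) f₀ = g := pullback.lift_snd _ _ _
    have e2 : cS.π.app j1 ≫ DS.map kh = cS.π.app j0 := cS.w kh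
    rw [e1, e2]
    exact hpb
  obtain ⟨ε, hεiso, hεfst⟩ : ∃ ε : (D₂.obj i₂).left ⟶ (cM DS cS j1 m).pt,
      IsIso ε ∧ ε ≫ pullback.fst (cS.π.app j1) m = x1 :=
    ⟨hP.flip.isoPullback.hom, (inferInstance : IsIso hP.flip.isoPullback.hom),
      IsPullback.isoPullback_hom_fst _⟩
  obtain ⟨i, hi⟩ : ∃ i : X ⟶ (cM DS cS j1 m).pt, i = i1 ≫ ε := ⟨_, rfl⟩
  haveI : IsClosedImmersion i := by rw [hi]; infer_instance
  have hifst : i ≫ pullback.fst (cS.π.app j1) m = f := by
    rw [hi]
    exact (Category.assoc _ _ _).trans ((congrArg (i1 ≫ ·) hεfst).trans hi1f)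
  -- the systems
  let DX : Over j1 ⥤ Scheme.{u} := ImageLim.DT (DM DS j1 m) (cM DS cS j1 m) i
  let DSx : Over j1 ⥤ Scheme.{u} := Over.forget j1 ⋙ DS
  let ιT := ImageLim.ιT (DM DS j1 m) (cM DS cS j1 m) i
  let φ : DX ⟶ DSx :=
    { app := fun a => ιT.app a ≫ pfst DS j1 m a
      naturality := fun a b h => by
        show DX.map h ≫ ιT.app b ≫ pfst DS j1 m b = (ιT.app a ≫ pfst DS j1 m a) ≫ DS.map h.left
        rw [← Category.assoc, ιT.naturality, Category.assoc, DM_map_fst, Category.assoc] }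
  refine ⟨Over j1, inferInstance, inferInstance, DX, DSx, φ,
    ImageLim.cT (DM DS j1 m) (cM DS cS j1 m) i, cS.whisker (Over.forget j1),
    ImageLim.isLimitCT (DM DS j1 m) (cM DS cS j1 m) i (isLimitCM DS cS hcS j1 m),
    (Functor.Initial.isLimitWhiskerEquiv (Over.forget j1) cS).symm hcS, Iso.refl _, Iso.refl _,
    ?_, ?_, ?_⟩
  · intro a b h
    refine ⟨?_, hSaff _ _ _⟩
    have h1 : DX.map h ≫ ιT.app b = ιT.app a ≫ (DM DS j1 m).map h := ιT.naturality h
    have h2 : IsAffineHom (DX.map h ≫ ιT.app b) := by rw [h1]; infer_instance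
    have h3 : IsSeparated (ιT.app b) := inferInstance
    exact MorphismProperty.of_postcomp (W := @IsAffineHom) (W' := @IsSeparated) _ (ιT.app b) h3 h2
  · intro a
    refine ⟨?_, (hSprop _).1, (hSprop _).2⟩
    show IsProper (ιT.app a ≫ pfst DS j1 m a)
    haveI : IsProper (pfst DS j1 m a) :=
      MorphismProperty.of_isPullback (P := @IsProper)
        (IsPullback.of_hasPullback (DS.map a.hom) m).flip inferInstance
    infer_instance
  · intro a
    show ImageLim.leg (DM DS j1 m) (cM DS cS j1 m) i a ≫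
        (ImageLim.ιT (DM DS j1 m) (cM DS cS j1 m) i).app a ≫ pfst DS j1 m a =
      𝟙 X ≫ f ≫ 𝟙 _ ≫ cS.π.app a.left
    rw [Category.id_comp, Category.id_comp]
    have e1 := ImageLim.leg_ι (DM DS j1 m) (cM DS cS j1 m) i a
    have e2 := cM_π_fst DS cS j1 m a
    exact (Category.assoc _ _ _).symm.trans ((congrArg (· ≫ pfst DS j1 m a) e1).trans
      ((Category.assoc _ _ _).trans ((congrArg (i ≫ ·) e2).trans
        ((Category.assoc _ _ _).symm.trans (congrArg (· ≫ cS.π.app a.left) hifst)))))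

end Groth.Agent.Lib.Helper22.ProperArrow
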