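import Mathlib

/-!
# Base change of a cofiltered diagram along a morphism into one of its stages (helper22)

(Copy of the `model` section of `Lib/Helper22/ProperArrow.lean`, kept separate so that it can be
imported without the heavy dependencies of that file.)
-/

set_option autoImplicit false
set_option linter.style.haveILetI false
set_option linter.unusedSectionVars false
universe u
open CategoryTheory AlgebraicGeometry Limits Opposite

namespace Groth.Agent.Lib.Helper22.PullbackDiagram

attribute [local instance] CategoryTheory.isConnected_of_hasTerminal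

variable {J : Type u} [SmallCategory J] [IsCofiltered J] (DS : J ⥤ Scheme.{u}) (cS : Cone DS)
  (hcS : IsLimit cS) (j1 : J) {M : Scheme.{u}} (m : M ⟶ DS.obj j1)

/-- The diagram of base changes of a model `m : M ⟶ DS.obj j1` to the later stages. -/
noncomputable def DM : Over j1 ⥤ Scheme.{u} :=
  Over.post DS ⋙ Over.pullback m ⋙ Over.forget M

/-- The cone over `DM` with vertex the base change of the model to the limit. -/
noncomputable def cM : Cone (DM DS j1 m) :=
  (Over.pullback m ⋙ Over.forget M).mapCone ((Over.conePost DS j1).obj cS)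

/-- `cM` is a limit cone. -/
noncomputable def isLimitCM : IsLimit (cM DS cS j1 m) :=
  isLimitOfPreserves (Over.pullback m ⋙ Over.forget M) (Over.isLimitConePost j1 hcS)

lemma DM_obj (a : Over j1) : (DM DS j1 m).obj a = pullback (DS.map a.hom) m := rfl

lemma cM_pt : (cM DS cS j1 m).pt = pullback (cS.π.app j1) m := rfl

/-- first projection of a stage -/
noncomputable def pfst (a : Over j1) : (DM DS j1 m).obj a ⟶ DS.obj a.left :=
  pullback.fst (DS.map a.hom) m

/-- second projection of a stage -/
noncomputable def psnd (a : Over j1) : (DM DS j1 m).obj a ⟶ M :=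
  pullback.snd (DS.map a.hom) m

lemma DM_map_fst {a b : Over j1} (h : a ⟶ b) :
    (DM DS j1 m).map h ≫ pfst DS j1 m b = pfst DS j1 m a ≫ DS.map h.left :=
  pullback.lift_fst _ _ _

lemma DM_map_snd {a b : Over j1} (h : a ⟶ b) :
    (DM DS j1 m).map h ≫ psnd DS j1 m b = psnd DS j1 m a :=
  pullback.lift_snd _ _ _

lemma cM_π_fst (a : Over j1) :
    (cM DS cS j1 m).π.app a ≫ pfst DS j1 m a =
      pullback.fst (cS.π.app j1) m ≫ cS.π.app a.left :=
  pullback.lift_fst _ _ _

lemma cM_π_snd (a : Over j1) :
    (cM DS cS j1 m).π.app a ≫ psnd DS j1 m a = pullback.snd (cS.π.app j1) m :=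
  pullback.lift_snd _ _ _

variable [∀ {a b : J} (f : a ⟶ b), IsAffineHom (DS.map f)]

instance isAffineHom_DM_map {a b : Over j1} (h : a ⟶ b) : IsAffineHom ((DM DS j1 m).map h) := by
  have h1 : IsAffineHom (psnd DS j1 m a) :=
    MorphismProperty.of_isPullback (P := @IsAffineHom)
      (IsPullback.of_hasPullback (DS.map a.hom) m) inferInstance
  have h2 : IsAffineHom (psnd DS j1 m b) :=
    MorphismProperty.of_isPullback (P := @IsAffineHom)
      (IsPullback.of_hasPullback (DS.map b.hom) m) inferInstance
  have h3 : IsSeparated (psnd DS j1 m b) := inferInstance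
  have h4 : IsAffineHom ((DM DS j1 m).map h ≫ psnd DS j1 m b) := by rw [DM_map_snd]; exact h1
  exact MorphismProperty.of_postcomp (W := @IsAffineHom) (W' := @IsSeparated) _
    (psnd DS j1 m b) h3 h4

end Groth.Agent.Lib.Helper22.PullbackDiagram
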