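import Groth.Prelude.Def_EGA4c
import Mathlib

/-!
# Algebraic characterization of `EGA4.IsPureAlong`

`restrCompl A J M` (restriction of global sections of `M~` to `Spec A ∖ V(J)`) is injective iff
every `m : M` whose annihilator is not contained in any prime outside `V(J)` vanishes.
-/

set_option autoImplicit false
universe u
open AlgebraicGeometry CategoryTheory Opposite TopologicalSpace

namespace Groth.Agent.Lib.Helper22

variable (A : Type u) [CommRing A] (J : Ideal A) (M : Type u) [AddCommGroup M] [Module A M]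

/-- The restriction to `Spec A ∖ V(J)` of the global section of `M~` attached to `m` vanishes iff
`m` is killed in the localization at every prime not containing `J`. -/
theorem restrCompl_toOpen_eq_zero_iff (m : M) :
    (EGA4.restrCompl A J M) (StructureSheaf.toOpenₗ (CommRingCat.of A) M ⊤ m) = 0 ↔
      ∀ x : PrimeSpectrum A, ¬ J ≤ x.asIdeal → ∃ s ∉ x.asIdeal, s • m = 0 := by
  have hmem : ∀ x : PrimeSpectrum A, x ∈ EGA4.openCompl A J ↔ ¬ J ≤ x.asIdeal := by
    intro x
    change x ∈ (PrimeSpectrum.zeroLocus (J : Set A))ᶜ ↔ _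
    rw [Set.mem_compl_iff, PrimeSpectrum.mem_zeroLocus, SetLike.coe_subset_coe]
  have hval : ∀ (x : PrimeSpectrum A) (hx : x ∈ EGA4.openCompl A J),
      ((EGA4.restrCompl A J M) (StructureSheaf.toOpenₗ (CommRingCat.of A) M ⊤ m)).1 ⟨x, hx⟩ =
        LocalizedModule.mk m (1 : x.asIdeal.primeCompl) := fun x hx => rfl
  have hzero : ∀ (x : PrimeSpectrum A),
      LocalizedModule.mk m (1 : x.asIdeal.primeCompl) = 0 ↔ ∃ s ∉ x.asIdeal, s • m = 0 := by
    intro x
    rw [← LocalizedModule.mkLinearMap_apply,
      IsLocalizedModule.eq_zero_iff x.asIdeal.primeCompl]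
    constructor
    · rintro ⟨s, hs⟩
      exact ⟨s.1, s.2, hs⟩
    · rintro ⟨s, hs, hsm⟩
      exact ⟨⟨s, hs⟩, hsm⟩
  constructor
  · intro h x hx
    rw [← hzero, ← hval x ((hmem x).mpr hx), h]
    rfl
  · intro h
    apply Subtype.ext
    funext x
    rw [hval x.1 x.2, (hzero x.1).mpr (h x.1 ((hmem x.1).mp x.2))]
    rfl

/-- `restrCompl A J M` is injective iff every element of `M` that dies in the localization at every
prime not containing `J` is zero. -/
theorem restrCompl_injective_iff :
    Function.Injective (EGA4.restrCompl A J M) ↔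
      ∀ m : M, (∀ x : PrimeSpectrum A, ¬ J ≤ x.asIdeal → ∃ s ∉ x.asIdeal, s • m = 0) → m = 0 := by
  have hbij := StructureSheaf.toOpenₗ_top_bijective (R := CommRingCat.of A) (M := M)
  constructor
  · intro hinj m hm
    apply hbij.1
    apply hinj
    have h0 := (restrCompl_toOpen_eq_zero_iff A J M 0).mpr
      (fun x _ => ⟨1, x.isPrime.one_notMem, smul_zero _⟩)
    exact ((restrCompl_toOpen_eq_zero_iff A J M m).mpr hm).trans h0.symm
  · intro h
    rw [injective_iff_map_eq_zero]
    intro s hs
    obtain ⟨m, rfl⟩ := hbij.2 s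
    have hm := h m ((restrCompl_toOpen_eq_zero_iff A J M m).mp hs)
    subst hm
    exact map_zero _

/-- The "dies at every prime outside `V(J)`" condition is `J`-power torsion. -/
theorem forall_exists_smul_eq_zero_iff (m : M) :
    (∀ x : PrimeSpectrum A, ¬ J ≤ x.asIdeal → ∃ s ∉ x.asIdeal, s • m = 0) ↔
      ∀ f ∈ J, ∃ n : ℕ, f ^ n • m = 0 := by
  constructor
  · intro h f hf
    by_contra hcon
    push Not at hcon
    -- the annihilator of `m` is disjoint from the powers of `f`
    let I : Ideal A := LinearMap.ker (LinearMap.toSpanSingleton A M m)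
    have hI : ∀ a : A, a ∈ I ↔ a • m = 0 := fun a => by
      simp [I, LinearMap.mem_ker, LinearMap.toSpanSingleton_apply]
    have hdisj : Disjoint (I : Set A) (Submonoid.powers f : Set A) := by
      rw [Set.disjoint_left]
      rintro a ha ⟨n, rfl⟩
      exact hcon n ((hI _).mp ha)
    obtain ⟨P, hP, hIP, hPdisj⟩ := Ideal.exists_le_prime_disjoint I (Submonoid.powers f) hdisj
    have hfP : f ∉ P := fun hfP =>
      Set.disjoint_left.mp hPdisj hfP (Submonoid.mem_powers f)
    obtain ⟨s, hs, hsm⟩ := h ⟨P, hP⟩ (fun hJP => hfP (hJP hf))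
    exact hs (hIP ((hI s).mpr hsm))
  · intro h x hx
    obtain ⟨f, hfJ, hfx⟩ := SetLike.not_le_iff_exists.mp hx
    obtain ⟨n, hn⟩ := h f hfJ
    exact ⟨f ^ n, fun hmem => hfx (x.isPrime.mem_of_pow_mem n hmem), hn⟩

/-- `restrCompl A J M` is injective iff `M` has no nonzero `J`-power-torsion element. -/
theorem restrCompl_injective_iff' :
    Function.Injective (EGA4.restrCompl A J M) ↔
      ∀ m : M, (∀ f ∈ J, ∃ n : ℕ, f ^ n • m = 0) → m = 0 := by
  rw [restrCompl_injective_iff]
  exact forall_congr' fun m => by rw [forall_exists_smul_eq_zero_iff]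

variable {A} in
/-- Algebraic form of `EGA4.IsPureAlong`. -/
theorem isPureAlong_iff (Z : Set (PrimeSpectrum A)) :
    EGA4.IsPureAlong Z M ↔ ∀ J : Ideal A, PrimeSpectrum.zeroLocus (J : Set A) ⊆ Z →
      ∀ m : M, (∀ f ∈ J, ∃ n : ℕ, f ^ n • m = 0) → m = 0 := by
  unfold EGA4.IsPureAlong
  exact forall_congr' fun J => imp_congr_right fun _ => restrCompl_injective_iff' A J M

end Groth.Agent.Lib.Helper22
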