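import Mathlib
import Groth.Agent.Lib.Helper22.AffLim2
import Groth.Agent.Lib.Helper14.FTImmD

set_option autoImplicit false
set_option linter.style.haveILetI false
set_option linter.unusedSectionVars false
universe u
open CategoryTheory AlgebraicGeometry Limits Opposite

namespace Groth.Agent.Lib.Helper22.QAffImm

open Groth.Agent.Lib.Helper22.GenChev Groth.Agent.Lib.Helper14.FTImm in
/-- Let `π : Z ⟶ Y` be affine over a qcqs scheme `Y` and `c : X ⟶ Z` an open immersion with `X`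
quasi-compact and `X ⟶ Y` locally of finite type.  Then `X ⟶ Y` factors as an immersion into
a scheme affine and of finite presentation over `Y`. -/
theorem exists_immersion_affine_fp
    (happ : ∀ (S : Scheme.{u}) [CompactSpace S] [QuasiSeparatedSpace S], HasApprox S)
    {X Y Z : Scheme.{u}} [CompactSpace Y] [QuasiSeparatedSpace Y] (π : Z ⟶ Y) [IsAffineHom π]
    (c : X ⟶ Z) [IsOpenImmersion c] [CompactSpace X] [LocallyOfFiniteType (c ≫ π)] :
    ∃ (Z' : Scheme.{u}) (g : Z' ⟶ Y) (j : X ⟶ Z'), IsAffineHom g ∧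
      LocallyOfFinitePresentation g ∧ IsImmersion j ∧ j ≫ g = c ≫ π := by
  haveI : CompactSpace Z := (quasiCompact_iff_compactSpace π).mp inferInstance
  haveI : QuasiSeparatedSpace Z := quasiSeparatedSpace_of_quasiSeparated π
  obtain ⟨I, i1, i2, i3, D, cn, hcn, hD, ⟨eZ⟩⟩ :=
    Groth.Agent.Lib.Helper22.AffLim.exists_affine_fp_limit_preorder happ π
  haveI : IsFiltered I := isFiltered_of_directed_le_nonempty I
  haveI : IsConnected Iᵒᵖ := IsCofiltered.isConnected _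
  let Ds : Iᵒᵖ ⥤ Scheme.{u} := D ⋙ Over.forget Y
  let cs : Cone Ds := (Over.forget Y).mapCone cn
  have hcs : IsLimit cs := isLimitOfPreserves (Over.forget Y) hcn
  haveI : ∀ {i j : Iᵒᵖ} (a : i ⟶ j), IsAffineHom (Ds.map a) := by
    intro i j a
    have h1 : (D.map a).left ≫ (D.obj j).hom = (D.obj i).hom := Over.w (D.map a)
    haveI := (hD i).1
    haveI := (hD j).1
    have h2 : IsAffineHom ((D.map a).left ≫ (D.obj j).hom) := by rw [h1]; infer_instance
    have hsep : IsSeparated (D.obj j).hom := inferInstance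
    exact MorphismProperty.of_postcomp (W := @IsAffineHom) (W' := @IsSeparated) _ (D.obj j).hom
      hsep h2
  obtain ⟨e₁, he₁⟩ : ∃ e₁ : Z ⟶ cs.pt, e₁ = eZ.inv.left := ⟨_, rfl⟩
  haveI : IsIso e₁ := by rw [he₁]; exact Functor.map_isIso (Over.forget Y) eZ.inv
  have he₁π : e₁ ≫ cn.pt.hom = π := by rw [he₁]; exact Over.w eZ.inv
  obtain ⟨c₁, hc₁⟩ : ∃ c₁ : X ⟶ cs.pt, c₁ = c ≫ e₁ := ⟨_, rfl⟩
  haveI : IsOpenImmersion c₁ := by rw [hc₁]; infer_instance
  have hU : IsCompact (c₁.opensRange : Set cs.pt) := isCompact_range c₁.continuous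
  obtain ⟨i, V, hV, hVU⟩ := exists_preimage_eq Ds cs hcs c₁.opensRange hU
  have hc' : IsLimit (opensCone Ds cs i V) := isLimitOpensCone Ds cs hcs i V
  obtain ⟨ιW, hιW⟩ : ∃ ιW : (opensCone Ds cs i V).pt ⟶ cs.pt, ιW = (cs.π.app i ⁻¹ᵁ V).ι := ⟨_, rfl⟩
  haveI : IsOpenImmersion ιW := by
    rw [hιW]; exact inferInstanceAs (IsOpenImmersion (Scheme.Opens.ι (cs.π.app i ⁻¹ᵁ V)))
  have h2 : Set.range ιW = (c₁.opensRange : Set cs.pt) := by
    rw [hιW]
    exact (Scheme.Opens.range_ι _).trans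
      (congrArg (fun U : cs.pt.Opens => (U : Set cs.pt)) hVU)
  have hWr : Set.range c₁ = Set.range ιW := by rw [h2]; rfl
  let φ : X ≅ (opensCone Ds cs i V).pt := IsOpenImmersion.isoOfRangeEq c₁ ιW hWr
  have hφ : φ.hom ≫ ιW = c₁ := IsOpenImmersion.isoOfRangeEq_hom_fac _ _ _
  obtain ⟨f', hf'⟩ : ∃ f' : (opensCone Ds cs i V).pt ⟶ Y, f' = ιW ≫ cn.pt.hom := ⟨_, rfl⟩
  have hφf' : φ.hom ≫ f' = c ≫ π := by
    rw [hf']
    have h1 : φ.hom ≫ ιW ≫ cn.pt.hom = (φ.hom ≫ ιW) ≫ cn.pt.hom :=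
      (Category.assoc _ _ _).symm
    rw [h1, hφ, hc₁]
    exact (Category.assoc _ _ _).trans (congrArg (c ≫ ·) he₁π)
  haveI : LocallyOfFiniteType f' := by
    have : f' = φ.inv ≫ (c ≫ π) := by rw [← hφf', Iso.inv_hom_id_assoc]
    rw [this]; infer_instance
  haveI : CompactSpace (opensCone Ds cs i V).pt := φ.hom.homeomorph.compactSpace
  obtain ⟨k, hk⟩ := exists_isImmersion_gr (opensDiagram Ds i V) (opensCone Ds cs i V) hc' f'
    (fun j => toZ _) (toZ Y) (fun j => (toZ_comp _).trans (toZ_comp _).symm)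
  obtain ⟨ιk, hιk⟩ : ∃ ιk : (opensDiagram Ds i V).obj k ⟶ (D.obj k.left).left,
      ιk = (Ds.map k.hom ⁻¹ᵁ V).ι := ⟨_, rfl⟩
  haveI : IsOpenImmersion ιk := by
    rw [hιk]; exact inferInstanceAs (IsOpenImmersion (Scheme.Opens.ι (Ds.map k.hom ⁻¹ᵁ V)))
  obtain ⟨πk, hπk⟩ : ∃ πk : (opensCone Ds cs i V).pt ⟶ (opensDiagram Ds i V).obj k,
      πk = (opensCone Ds cs i V).π.app k := ⟨_, rfl⟩
  obtain ⟨yk, hyk⟩ : ∃ yk : (opensDiagram Ds i V).obj k ⟶ Y, yk = ιk ≫ (D.obj k.left).hom :=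
    ⟨_, rfl⟩
  have h3 : πk ≫ ιk = ιW ≫ (cn.π.app k.left).left := by
    rw [hπk, hιk, hιW]
    exact Scheme.Hom.resLE_comp_ι _ _
  have h4 : πk ≫ yk = f' := by
    rw [hyk, hf']
    have : πk ≫ ιk ≫ (D.obj k.left).hom = (πk ≫ ιk) ≫ (D.obj k.left).hom :=
      (Category.assoc _ _ _).symm
    rw [this, h3]
    exact (Category.assoc _ _ _).trans (congrArg (ιW ≫ ·) (Over.w (cn.π.app k.left)))
  haveI : IsImmersion πk := by
    have h5 : gr (opensDiagram Ds i V) (opensCone Ds cs i V) f'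
        (fun j => toZ _) (toZ Y) (fun j => (toZ_comp _).trans (toZ_comp _).symm) k =
        πk ≫ pullback.lift (𝟙 _) yk ((toZ_comp _).trans (toZ_comp _).symm) := by
      apply pullback.hom_ext
      · simp only [gr, pullback.lift_fst, Category.assoc, Category.comp_id, hπk]
      · simp only [gr, pullback.lift_snd, Category.assoc, h4]
    rw [h5] at hk
    exact IsImmersion.of_comp _ (pullback.lift (𝟙 _) yk ((toZ_comp _).trans (toZ_comp _).symm))
  refine ⟨(D.obj k.left).left, (D.obj k.left).hom, φ.hom ≫ πk ≫ ιk, (hD _).1, (hD _).2,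
    inferInstance, ?_⟩
  have : (φ.hom ≫ πk ≫ ιk) ≫ (D.obj k.left).hom = φ.hom ≫ πk ≫ yk := by
    rw [hyk]; simp only [Category.assoc]
  rw [this, h4, hφf']

end Groth.Agent.Lib.Helper22.QAffImm
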