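import Mathlib
import Groth.Agent.Lib.Helper22.QAffChart
import Groth.Agent.Lib.Helper22.QAffSch

set_option autoImplicit false
set_option linter.style.haveILetI false
universe u
open AlgebraicGeometry CategoryTheory Limits

namespace Groth.Agent.Lib.Helper22.Weighting

open Groth.Agent.Lib.Helper7 Groth.Agent.Lib.Helper22.QAff

/-- The locus where the fibre integral of a positive weighting attains the bound `d` is an affine
open, for a quasi-finite morphism of finite presentation between affine schemes. -/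
theorem isAffineOpen_max_locus : ∀ (n : ℕ) {X Y : Scheme.{u}} (f : X ⟶ Y) [LocallyQuasiFinite f]
    [QuasiCompact f] [LocallyOfFinitePresentation f] [IsAffine X] [IsAffine Y] (w : X → ℤ)
    (_ : MoreMor.IsWeighting f w) (_ : ∀ x, 0 < w x) (d : ℤ) (_ : d.toNat = n)
    (_ : ∀ y : Y, MoreMor.fibreIntegral f w y ≤ d),
    ∃ O : Y.Opens, (O : Set Y) = {y : Y | MoreMor.fibreIntegral f w y = d} ∧ IsAffineOpen O := by
  intro n
  induction n using Nat.strong_induction_on with
  | _ n ih =>
  intro X Y f _ _ _ _ _ w hw hpos d hd hmax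
  have hlft : LocallyOfFiniteType f := inferInstance
  have hfin : ∀ y, (f ⁻¹' {y}).Finite := fun y => f.finite_preimage_singleton y
  have hnonneg : ∀ y, 0 ≤ MoreMor.fibreIntegral f w y := fun y =>
    fibreIntegral_nonneg f w (fun x => (hpos x).le) y
  have hlsc := lowerSemicontinuous_fibreIntegral f hfin w hw (fun x => (hpos x).le)
  have hset : {y : Y | MoreMor.fibreIntegral f w y = d} =
      (MoreMor.fibreIntegral f w) ⁻¹' Set.Ioi (d - 1) := by
    ext y
    simp only [Set.mem_ofPred_eq, Set.mem_preimage, Set.mem_Ioi]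
    have := hmax y
    omega
  have hOo : IsOpen {y : Y | MoreMor.fibreIntegral f w y = d} := by
    rw [hset]
    exact hlsc.isOpen_preimage _
  obtain ⟨O, hO⟩ : ∃ O : Y.Opens, (O : Set Y) = {y : Y | MoreMor.fibreIntegral f w y = d} :=
    ⟨⟨_, hOo⟩, rfl⟩
  have hmem : ∀ y, y ∈ O ↔ MoreMor.fibreIntegral f w y = d := fun y => by
    rw [← SetLike.mem_coe, hO]; rfl
  refine ⟨O, hO, ?_⟩
  by_cases hd0 : 0 < d
  swap
  · by_cases hd' : d = 0
    · have : O = ⊤ := by
        rw [eq_top_iff]
        intro y _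
        rw [hmem]
        have := hmax y
        have := hnonneg y
        omega
      rw [this]; exact isAffineOpen_top Y
    · have : O = ⊥ := by
        rw [eq_bot_iff]
        intro y hy
        rw [hmem] at hy
        have := hnonneg y
        omega
      rw [this]; exact isAffineOpen_bot Y
  -- the preimage of `O` is affine
  have hXd : IsAffineOpen (f ⁻¹ᵁ O) := by
    have : IsAffineHom (f ⁻¹ᵁ O).ι := by
      apply isAffineHom_of_forall_exists_isAffineOpen
      intro x
      obtain ⟨V, δ, _, _, v, hv, S, q, _, _, _, w', hw', hpos', e, he, hint⟩ :=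
        exists_chart f hfin hw hpos x
      have hlt : (d - e).toNat < n := by omega
      haveI : QuasiCompact q := inferInstance
      obtain ⟨O', hO', hO'aff⟩ := ih _ hlt q w' hw' hpos' (d - e) rfl (fun v₁ => by
        have := hint v₁
        have := hmax (δ v₁)
        linarith)
      have hpre : δ ⁻¹ᵁ O = O' := by
        apply SetLike.coe_injective
        rw [hO']
        ext v₁
        change δ v₁ ∈ O ↔ _
        rw [hmem, hint, Set.mem_ofPred_eq]
        omega
      obtain ⟨M, hyM, hMaff, hOM⟩ :=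
        exists_isAffineOpen_inf_of_etale δ O (hpre ▸ hO'aff) v
      refine ⟨f ⁻¹ᵁ M, ?_, hMaff.preimage f, ?_⟩
      · change f x ∈ M
        rw [← hv]; exact hyM
      · have h3 : IsAffineOpen (f ⁻¹ᵁ (O ⊓ M)) := hOM.preimage f
        have h4 : (f ⁻¹ᵁ O).ι ''ᵁ ((f ⁻¹ᵁ O).ι ⁻¹ᵁ (f ⁻¹ᵁ M)) = f ⁻¹ᵁ (O ⊓ M) := by
          rw [Scheme.Hom.image_preimage_eq_opensRange_inf, Scheme.Opens.opensRange_ι,
            Scheme.Hom.preimage_inf]
        rw [← h4] at h3
        exact ((f ⁻¹ᵁ O).ι.isAffineOpen_iff_of_isOpenImmersion).mp h3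
    exact isAffine_of_isAffineHom (f ⁻¹ᵁ O).ι
  -- `f ∣_ O` is finite and surjective
  have hpb := (isPullback_morphismRestrict f O).flip
  have hfin' := finite_fiber_of_isPullback f hfin hpb
  have hwO := isWeighting_baseChange hw hpb
  have hintO : ∀ y' : O.toScheme, MoreMor.fibreIntegral (f ∣_ O) (w ∘ ⇑(f ⁻¹ᵁ O).ι) y' = d :=
    fun y' => (fibreIntegral_baseChange f hfin _ _ _ hpb w y').trans ((hmem _).mp y'.2)
  haveI : IsFinite (f ∣_ O) :=
    isFinite_of_fibreIntegral_eq _ hfin' hwO (fun x => hpos _) d hintO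
  haveI : Surjective (f ∣_ O) := ⟨fun y' =>
    exists_of_fibreIntegral_ne_zero (f ∣_ O) _ y' (by rw [hintO]; omega)⟩
  haveI : IsAffine (f ⁻¹ᵁ O).toScheme := hXd
  exact isAffineOpen_of_integral_surjective O (f ∣_ O)

end Groth.Agent.Lib.Helper22.Weighting
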