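import Mathlib
import Groth.Agent.Lib.Helper22.RelApprox4

set_option autoImplicit false
set_option linter.style.haveILetI false
set_option linter.unusedSectionVars false
universe u
open AlgebraicGeometry CategoryTheory Limits Opposite

namespace Groth.Agent.Lib.Helper22.RelApprox

open Groth.Agent.Lib.Helper22.GenChev

/-- A morphism of schemes with absolute approximations is a limit of morphisms of schemes of finite
type over `ℤ`. -/
theorem exists_arrowApprox {X S : Scheme.{u}} (hX : HasApprox X) (hS : HasApprox S) (f : X ⟶ S) :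
    ∃ (I : Type u) (_ : Preorder I) (_ : IsDirected I (fun a b => a ≤ b)) (_ : Nonempty I)
      (DX DS : Iᵒᵖ ⥤ Scheme.{u}) (φ : DX ⟶ DS)
      (cX : Limits.Cone DX) (cS : Limits.Cone DS) (_ : Limits.IsLimit cX) (_ : Limits.IsLimit cS)
      (eX : cX.pt ≅ X) (eS : cS.pt ≅ S),
      (∀ (i j : Iᵒᵖ) (a : i ⟶ j), IsAffineHom (DX.map a) ∧ IsAffineHom (DS.map a)) ∧
      (∀ i, CompactSpace (DX.obj i) ∧ CompactSpace (DS.obj i) ∧
        LocallyOfFiniteType (Limits.IsTerminal.from specULiftZIsTerminal (DX.obj i)) ∧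
        LocallyOfFiniteType (Limits.IsTerminal.from specULiftZIsTerminal (DS.obj i))) ∧
      (∀ i, cX.π.app i ≫ φ.app i = eX.hom ≫ f ≫ eS.inv ≫ cS.π.app i) := by
  obtain ⟨A, _, _, _, DX, cX, hcX, hXaff, hXprop, rfl⟩ := exists_cone_eq hX
  obtain ⟨B, _, _, _, DS, cS, hcS, hSaff, hSprop, rfl⟩ := exists_cone_eq hS
  haveI : ∀ {i j : Aᵒᵖ} (f : i ⟶ j), IsAffineHom (DX.map f) := fun f => hXaff _ _ f
  haveI : ∀ {i j : Bᵒᵖ} (f : i ⟶ j), IsAffineHom (DS.map f) := fun f => hSaff _ _ f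
  haveI : ∀ i, CompactSpace (DX.obj i) := fun i => (hXprop i).1
  haveI : ∀ a, LocallyOfFiniteType (specULiftZIsTerminal.from (DX.obj a)) := fun i => (hXprop i).2
  haveI : ∀ b, LocallyOfFiniteType (specULiftZIsTerminal.from (DS.obj b)) := fun i => (hSprop i).2
  haveI : ∀ i, QuasiSeparatedSpace (DX.obj i) := fun i => by
    haveI := isLocallyNoetherian_of_lft (DX.obj i)
    infer_instance
  haveI := initial_FA DX cX hcX DS cS f
  haveI := initial_FB DX cX hcX DS cS f
  refine ⟨Triple DX cX DS cS f, inferInstance, isDirected_triple hcX, nonempty_triple hcX,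
    FA DX cX DS cS f ⋙ DX, FB DX cX DS cS f ⋙ DS,
    { app := fun t => t.unop.φ
      naturality := fun t t' g => ((Triple.le_def _ _).mp (leOfHom g.unop)).2.2 _ _ },
    cX.whisker (FA DX cX DS cS f), cS.whisker (FB DX cX DS cS f),
    (Functor.Initial.isLimitWhiskerEquiv (FA DX cX DS cS f) cX).symm hcX,
    (Functor.Initial.isLimitWhiskerEquiv (FB DX cX DS cS f) cS).symm hcS,
    Iso.refl _, Iso.refl _, ?_, ?_, ?_⟩
  · intro i j a
    exact ⟨hXaff _ _ _, hSaff _ _ _⟩
  · intro i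
    exact ⟨(hXprop _).1, (hSprop _).1, (hXprop _).2, (hSprop _).2⟩
  · intro i
    show cX.π.app (op i.unop.a) ≫ i.unop.φ = 𝟙 _ ≫ f ≫ 𝟙 _ ≫ cS.π.app (op i.unop.b)
    rw [Category.id_comp, Category.id_comp]
    exact i.unop.comm

end Groth.Agent.Lib.Helper22.RelApprox
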