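import Mathlib
import Groth.Agent.Lib.Helper22.RelApprox4
import Groth.Agent.S9199

set_option autoImplicit false
set_option linter.style.haveILetI false
set_option linter.unusedSectionVars false
universe u
open AlgebraicGeometry CategoryTheory Limits Opposite

namespace Groth.Agent.Lib.Helper22.RelApprox

open Groth.Agent.Lib.Helper22.GenChev

/-- A morphism of qcqs schemes is the composite of an affine morphism and a morphism of finite
presentation (separated if the given morphism is), assuming absolute Noetherian approximation. -/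
theorem exists_affineHom_comp_fp
    (happ : ∀ (S : Scheme.{u}) [CompactSpace S] [QuasiSeparatedSpace S], HasApprox S)
    {X Y : Scheme.{u}} (f : Y ⟶ X)
    [CompactSpace X] [QuasiSeparatedSpace X] [CompactSpace Y] [QuasiSeparatedSpace Y] :
    ∃ (Z : Scheme.{u}) (g : Y ⟶ Z) (h : Z ⟶ X), IsAffineHom g ∧ LocallyOfFinitePresentation h ∧
      QuasiCompact h ∧ QuasiSeparated h ∧ (IsSeparated f → IsSeparated h) ∧ g ≫ h = f := by
  obtain ⟨I, i1, i2, i3, D, c, hc, h1, h2, ⟨e⟩⟩ := exists_relApprox happ f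
  haveI : IsConnected Iᵒᵖ := IsCofiltered.isConnected _
  let D' : Iᵒᵖ ⥤ Scheme.{u} := D ⋙ Over.forget X
  let c' : Cone D' := (Over.forget X).mapCone c
  have hc' : IsLimit c' := isLimitOfPreserves (Over.forget X) hc
  haveI : ∀ {i j : Iᵒᵖ} (a : i ⟶ j), IsAffineHom (D'.map a) := fun a => h2 _ _ a
  haveI : ∀ (i j : Iᵒᵖ) (a : i ⟶ j), IsAffineHom (D'.map a) := fun _ _ a => h2 _ _ a
  let ti : ∀ i, D'.obj i ⟶ X := fun i => (D.obj i).hom
  let t : D' ⟶ (Functor.const Iᵒᵖ).obj X :=
    { app := ti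
      naturality := fun i j a => by
        show (D.map a).left ≫ (D.obj j).hom = (D.obj i).hom ≫ 𝟙 X
        rw [Over.w, Category.comp_id] }
  haveI : ∀ i, LocallyOfFinitePresentation (ti i) := fun i => (h1 i).1
  haveI : ∀ i, QuasiCompact (ti i) := fun i => (h1 i).2.1
  haveI : ∀ i, QuasiSeparated (ti i) := fun i => (h1 i).2.2
  haveI : ∀ i, CompactSpace (D'.obj i) := fun i =>
    QuasiCompact.compactSpace_of_compactSpace (ti i)
  haveI : ∀ i, QuasiSeparatedSpace (D'.obj i) := fun i =>
    quasiSeparatedSpace_of_quasiSeparated (ti i)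
  have hlegs : ∀ i, IsAffineHom (c'.π.app i) := fun i => isAffineHom_π_app D' c' hc' i
  let eY : c'.pt ≅ Y := (Over.forget X).mapIso e
  have hpt : ∀ i, c'.π.app i ≫ ti i = eY.hom ≫ f := by
    intro i
    show (c.π.app i).left ≫ (D.obj i).hom = e.hom.left ≫ f
    rw [Over.w]
    exact (Over.w e.hom).symm
  -- choose the index
  obtain ⟨i, hi⟩ : ∃ i : Iᵒᵖ, IsSeparated f → IsSeparated (ti i) := by
    by_cases hsep : IsSeparated f
    · let i₀ : Iᵒᵖ := op (Classical.arbitrary I)
      haveI : IsSeparated (c'.π.app i₀ ≫ t.app i₀) := by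
        show IsSeparated (c'.π.app i₀ ≫ ti i₀)
        rw [hpt]; infer_instance
      obtain ⟨i₁, hi₁⟩ := Groth.Agent.S9199.result X D' t c' hc' i₀
      exact ⟨i₁, fun _ => hi₁ i₁ (𝟙 _)⟩
    · exact ⟨op (Classical.arbitrary I), fun h => absurd h hsep⟩
  haveI := hlegs i
  refine ⟨D'.obj i, eY.inv ≫ c'.π.app i, ti i, inferInstance, inferInstance, inferInstance,
    inferInstance, hi, ?_⟩
  rw [Category.assoc, hpt, Iso.inv_hom_id_assoc]

end Groth.Agent.Lib.Helper22.RelApprox
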