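import Mathlib

/-!
# Closed points of a fibre between a specialization (algebraic core)

Tools for: given a finite type ring map `A → C`, primes `P ≤ P'` of `C` lying over different
primes of `A`, with `κ(P')` algebraic over the residue field below, there are primes `Q` with
`P ≤ Q ≤ P'` in the same fibre as `P`, closed in that fibre, avoiding a given element.

The proof goes through domination by a valuation ring, Zariski's main theorem and going down.
-/

set_option autoImplicit false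
set_option linter.style.haveILetI false

universe u

open Polynomial TensorProduct

namespace Groth.Agent.Lib.Helper22.SpecDense

/-- If `c ∉ P` is a root modulo the prime `P` of a polynomial over the local ring `V` with a unit
coefficient, and `P` contains the image of the maximal ideal, then `c` is invertible modulo `P`
up to a unit of `V`. -/
theorem exists_unit_add_mul_mem {V C : Type*} [CommRing V] [IsLocalRing V] [CommRing C]
    [Algebra V C] (P : Ideal C) [P.IsPrime]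
    (hm : ∀ a : V, ¬ IsUnit a → algebraMap V C a ∈ P) (c : C) (hc : c ∉ P) :
    ∀ (n : ℕ) (p : V[X]), p.natDegree ≤ n → (∃ j, IsUnit (p.coeff j)) → aeval c p ∈ P →
      ∃ (a : V) (w : C), IsUnit a ∧ algebraMap V C a + c * w ∈ P := by
  intro n
  induction n with
  | zero =>
    intro p hp ⟨j, hj⟩ hpc
    have hp0 : p.natDegree = 0 := Nat.le_zero.mp hp
    have key : aeval c p = aeval c (divX p) * c + algebraMap V C (p.coeff 0) := by
      conv_lhs => rw [← divX_mul_X_add p]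
      simp
    by_cases h0 : IsUnit (p.coeff 0)
    · refine ⟨p.coeff 0, aeval c (divX p), h0, ?_⟩
      rw [key] at hpc
      rwa [add_comm, mul_comm]
    · exfalso
      have hj0 : j ≠ 0 := fun h => h0 (h ▸ hj)
      have : p.coeff j = 0 := coeff_eq_zero_of_natDegree_lt (by omega)
      rw [this] at hj
      exact not_isUnit_zero hj
  | succ k ih =>
    intro p hp ⟨j, hj⟩ hpc
    have key : aeval c p = aeval c (divX p) * c + algebraMap V C (p.coeff 0) := by
      conv_lhs => rw [← divX_mul_X_add p]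
      simp
    by_cases h0 : IsUnit (p.coeff 0)
    · refine ⟨p.coeff 0, aeval c (divX p), h0, ?_⟩
      rw [key] at hpc
      rwa [add_comm, mul_comm]
    · have hj0 : j ≠ 0 := fun h => h0 (h ▸ hj)
      obtain ⟨j', rfl⟩ := Nat.exists_eq_succ_of_ne_zero hj0
      have h1 : aeval c (divX p) * c ∈ P := by
        have := hm _ h0
        rw [key] at hpc
        exact (Ideal.add_mem_iff_left P this).mp hpc
      have h2 : aeval c (divX p) ∈ P := (Ideal.IsPrime.mem_or_mem inferInstance h1).resolve_right hc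
      refine ih (divX p) ?_ ⟨j', by rwa [coeff_divX]⟩ h2
      rw [natDegree_divX_eq_natDegree_tsub_one]
      omega

/-- No chain `P₀ < P < P₁` of primes over the closed point when two suitable elements satisfy a
primitive polynomial relation. -/
theorem false_of_relation {V C : Type*} [CommRing V] [IsLocalRing V] [CommRing C] [Algebra V C]
    (P₀ P P₁ : Ideal C) [P₀.IsPrime] [P.IsPrime] (hP₁ : P₁ ≠ ⊤)
    (hm : ∀ a : V, ¬ IsUnit a → algebraMap V C a ∈ P₀) (h₀ : P₀ ≤ P) (h₁ : P ≤ P₁)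
    (z u : C) (hz₁ : z ∈ P₁) (hz : z ∉ P) (hu : u ∈ P) (hu₀ : u ∉ P₀) :
    ∀ (n : ℕ) (H : V[X][X]), H.natDegree ≤ n → (∃ i j, IsUnit ((H.coeff i).coeff j)) →
      H.eval₂ ((aeval z : V[X] →ₐ[V] C) : V[X] →+* C) u ∈ P₀ → False := by
  have hmP : ∀ a : V, ¬ IsUnit a → algebraMap V C a ∈ P := fun a ha => h₀ (hm a ha)
  -- the common first case
  have caseA : ∀ H : V[X][X], (∃ j, IsUnit ((H.coeff 0).coeff j)) →
      H.eval₂ ((aeval z : V[X] →ₐ[V] C) : V[X] →+* C) u ∈ P₀ → False := by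
    intro H hj hH
    have key : H.eval₂ ((aeval z : V[X] →ₐ[V] C) : V[X] →+* C) u =
        (divX H).eval₂ ((aeval z : V[X] →ₐ[V] C) : V[X] →+* C) u * u + aeval z (H.coeff 0) := by
      conv_lhs => rw [← divX_mul_X_add H]
      simp [eval₂_add, eval₂_mul]
    have h1 : aeval z (H.coeff 0) ∈ P := by
      have h2 : H.eval₂ ((aeval z : V[X] →ₐ[V] C) : V[X] →+* C) u ∈ P := h₀ hH
      rw [key] at h2
      exact (Ideal.add_mem_iff_right P (Ideal.mul_mem_left _ _ hu)).mp h2
    obtain ⟨a, w, ha, haw⟩ := exists_unit_add_mul_mem P hmP z hz _ (H.coeff 0) le_rfl hj h1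
    have h3 : algebraMap V C a ∈ P₁ :=
      (Ideal.add_mem_iff_left P₁ (Ideal.mul_mem_right _ _ hz₁)).mp (h₁ haw)
    exact hP₁ (Ideal.eq_top_of_isUnit_mem _ h3 (ha.map _))
  intro n
  induction n with
  | zero =>
    intro H hH ⟨i, j, hij⟩ hev
    have hH0 : H.natDegree = 0 := Nat.le_zero.mp hH
    by_cases hi : i = 0
    · subst hi; exact caseA H ⟨j, hij⟩ hev
    · have : H.coeff i = 0 := coeff_eq_zero_of_natDegree_lt (by omega)
      rw [this, coeff_zero] at hij
      exact not_isUnit_zero hij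
  | succ k ih =>
    intro H hH ⟨i, j, hij⟩ hev
    by_cases hA : ∃ j, IsUnit ((H.coeff 0).coeff j)
    · exact caseA H hA hev
    · push Not at hA
      have hi : i ≠ 0 := fun h => hA j (h ▸ hij)
      obtain ⟨i', rfl⟩ := Nat.exists_eq_succ_of_ne_zero hi
      have key : H.eval₂ ((aeval z : V[X] →ₐ[V] C) : V[X] →+* C) u =
          (divX H).eval₂ ((aeval z : V[X] →ₐ[V] C) : V[X] →+* C) u * u + aeval z (H.coeff 0) := by
        conv_lhs => rw [← divX_mul_X_add H]
        simp [eval₂_add, eval₂_mul]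
      have h1 : aeval z (H.coeff 0) ∈ P₀ := by
        rw [aeval_eq_sum_range]
        refine Ideal.sum_mem _ fun l _ => ?_
        rw [Algebra.smul_def]
        exact Ideal.mul_mem_right _ _ (hm _ (hA l))
      have h2 : (divX H).eval₂ ((aeval z : V[X] →ₐ[V] C) : V[X] →+* C) u * u ∈ P₀ := by
        rw [key] at hev
        exact (Ideal.add_mem_iff_left P₀ h1).mp hev
      have h3 := (Ideal.IsPrime.mem_or_mem inferInstance h2).resolve_right hu₀
      refine ih (divX H) ?_ ⟨i', j, by rwa [coeff_divX]⟩ h3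
      rw [natDegree_divX_eq_natDegree_tsub_one]
      omega


/-- Scale a nonzero two-variable polynomial over the fraction field of a valuation subring so
that it has coefficients in the valuation subring, one of them equal to `1`. -/
theorem exists_primitive_lift {K : Type*} [Field K] (V : ValuationSubring K) (G : K[X][X])
    (hG : G ≠ 0) :
    ∃ (c : K) (H : (↥V)[X][X]), c ≠ 0 ∧ (∃ i j, (H.coeff i).coeff j = 1) ∧
      H.map (mapRingHom (algebraMap V K)) = C (C c) * G := by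
  classical
  let a : ℕ × ℕ → K := fun ij => (G.coeff ij.1).coeff ij.2
  let s : Finset (ℕ × ℕ) := G.support.biUnion fun i => (G.coeff i).support.image fun j => (i, j)
  have hs : ∀ ij, ij ∈ s ↔ a ij ≠ 0 := by
    rintro ⟨i, j⟩
    simp only [s, a, Finset.mem_biUnion, Finset.mem_image, mem_support_iff, Prod.mk.injEq]
    constructor
    · rintro ⟨i', _, j', hj', rfl, rfl⟩; exact hj'
    · intro h
      refine ⟨i, fun h0 => h (by rw [h0, coeff_zero]), j, h, rfl, rfl⟩
  have hne : s.Nonempty := by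
    obtain ⟨i, hi⟩ : ∃ i, G.coeff i ≠ 0 := by
      by_contra h; push Not at h; exact hG (Polynomial.ext fun i => by rw [h i, coeff_zero])
    obtain ⟨j, hj⟩ : ∃ j, (G.coeff i).coeff j ≠ 0 := by
      by_contra h; push Not at h; exact hi (Polynomial.ext fun j => by rw [h j, coeff_zero])
    exact ⟨(i, j), (hs _).mpr hj⟩
  obtain ⟨ij₀, hij₀, hmax⟩ := Finset.exists_max_image s (fun ij => V.valuation (a ij)) hne
  have ha₀ : a ij₀ ≠ 0 := (hs _).mp hij₀
  have hmem : ∀ ij, (a ij₀)⁻¹ * a ij ∈ V := by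
    intro ij
    by_cases h : ij ∈ s
    · rw [← ValuationSubring.valuation_le_one_iff, map_mul, map_inv₀]
      have h0 : V.valuation (a ij₀) ≠ 0 := (Valuation.ne_zero_iff _).mpr ha₀
      rw [inv_mul_le_iff₀ (zero_lt_iff.mpr h0), mul_one]
      exact hmax ij h
    · have : a ij = 0 := by
        by_contra h'; exact h ((hs _).mpr h')
      rw [this, mul_zero]; exact zero_mem _
  have hcoeff : ∀ i j, ((C (C (a ij₀)⁻¹) * G).coeff i).coeff j = (a ij₀)⁻¹ * a (i, j) := by
    intro i j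
    rw [coeff_C_mul, coeff_C_mul]
  have hl1 : ∀ i, (C (C (a ij₀)⁻¹) * G).coeff i ∈ lifts (algebraMap V K) := by
    intro i
    rw [lifts_iff_coeff_lifts]
    intro j
    rw [hcoeff]
    exact ⟨⟨_, hmem (i, j)⟩, rfl⟩
  have hl2 : C (C (a ij₀)⁻¹) * G ∈ lifts (mapRingHom (algebraMap V K)) := by
    rw [lifts_iff_coeff_lifts]
    intro i
    obtain ⟨q, hq⟩ := (mem_lifts _).mp (hl1 i)
    exact ⟨q, by rw [coe_mapRingHom]; exact hq⟩
  obtain ⟨H, hH⟩ := (mem_lifts _).mp hl2
  refine ⟨(a ij₀)⁻¹, H, inv_ne_zero ha₀, ⟨ij₀.1, ij₀.2, ?_⟩, hH⟩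
  have h1 : algebraMap V K ((H.coeff ij₀.1).coeff ij₀.2) = 1 := by
    have := hcoeff ij₀.1 ij₀.2
    rw [← hH, coeff_map, coe_mapRingHom, coeff_map] at this
    rw [this]
    exact inv_mul_cancel₀ ha₀
  exact IsFractionRing.injective (↥V) K (by rw [h1, map_one])

/-- Extending a prime of the integral closure, not containing `r`, to the big ring when the two
rings agree after inverting `r`. -/
theorem exists_prime_comap_eq {R S : Type*} [CommRing R] [CommRing S] [Algebra R S]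
    (r : S) (hr : IsIntegral R r) (hx : ∀ x : S, ∃ m, IsIntegral R (r ^ m * x))
    (q' : Ideal (integralClosure R S)) [q'.IsPrime]
    (hrq : (⟨r, hr⟩ : integralClosure R S) ∉ q') :
    ∃ q : Ideal S, q.IsPrime ∧ q.comap (algebraMap (integralClosure R S) S) = q' ∧ r ∉ q := by
  let r' : integralClosure R S := ⟨r, hr⟩
  have hr'pow : ∀ m, r' ^ m ∉ q' := fun m h => hrq (Ideal.IsPrime.mem_of_pow_mem inferInstance m h)
  let q : Ideal S :=
    { carrier := {x | ∃ m, ∃ y : integralClosure R S, y ∈ q' ∧ (y : S) = r ^ m * x}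
      zero_mem' := ⟨0, 0, zero_mem _, by simp⟩
      add_mem' := by
        rintro x₁ x₂ ⟨m₁, y₁, hy₁, e₁⟩ ⟨m₂, y₂, hy₂, e₂⟩
        refine ⟨m₁ + m₂, r' ^ m₂ * y₁ + r' ^ m₁ * y₂,
          add_mem (Ideal.mul_mem_left _ _ hy₁) (Ideal.mul_mem_left _ _ hy₂), ?_⟩
        push_cast
        rw [e₁, e₂]
        change r ^ m₂ * (r ^ m₁ * x₁) + r ^ m₁ * (r ^ m₂ * x₂) = _
        ring
      smul_mem' := by
        rintro s x ⟨m, y, hy, e⟩
        obtain ⟨k, hk⟩ := hx s
        refine ⟨k + m, ⟨r ^ k * s, hk⟩ * y, Ideal.mul_mem_left _ _ hy, ?_⟩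
        push_cast
        rw [e, smul_eq_mul]
        ring }
  have hqmem : ∀ x, x ∈ q ↔ ∃ m, ∃ y : integralClosure R S, y ∈ q' ∧ (y : S) = r ^ m * x :=
    fun x => Iff.rfl
  have hcomap : q.comap (algebraMap (integralClosure R S) S) = q' := by
    ext y
    rw [Ideal.mem_comap, hqmem]
    constructor
    · rintro ⟨m, y', hy', e⟩
      have : y' = r' ^ m * y := Subtype.ext (by rw [e]; rfl)
      rw [this] at hy'
      exact (Ideal.IsPrime.mem_or_mem inferInstance hy').resolve_left (hr'pow m)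
    · intro hy
      exact ⟨0, y, hy, by simp⟩
  refine ⟨q, ⟨?_, ?_⟩, hcomap, ?_⟩
  · intro h
    have : (1 : S) ∈ q := by rw [h]; trivial
    obtain ⟨m, y, hy, e⟩ := (hqmem _).mp this
    have : y = r' ^ m := Subtype.ext (by rw [e, mul_one]; rfl)
    rw [this] at hy
    exact hr'pow m hy
  · intro x₁ x₂ h
    obtain ⟨m, y, hy, e⟩ := (hqmem _).mp h
    obtain ⟨k₁, hk₁⟩ := hx x₁
    obtain ⟨k₂, hk₂⟩ := hx x₂
    let s₁ : integralClosure R S := ⟨r ^ k₁ * x₁, hk₁⟩
    let s₂ : integralClosure R S := ⟨r ^ k₂ * x₂, hk₂⟩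
    have h1 : s₁ * s₂ * r' ^ m = r' ^ (k₁ + k₂) * y := by
      apply Subtype.ext
      push_cast
      rw [e]
      change r ^ k₁ * x₁ * (r ^ k₂ * x₂) * r ^ m = r ^ (k₁ + k₂) * (r ^ m * (x₁ * x₂))
      ring
    have h2 : s₁ * s₂ * r' ^ m ∈ q' := by rw [h1]; exact Ideal.mul_mem_left _ _ hy
    have h3 := (Ideal.IsPrime.mem_or_mem inferInstance h2).resolve_right (hr'pow m)
    rcases Ideal.IsPrime.mem_or_mem inferInstance h3 with h4 | h4
    · exact Or.inl ((hqmem _).mpr ⟨k₁, s₁, h4, rfl⟩)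
    · exact Or.inr ((hqmem _).mpr ⟨k₂, s₂, h4, rfl⟩)
  · intro h
    have : r' ∈ q.comap (algebraMap (integralClosure R S) S) := h
    rw [hcomap] at this
    exact hrq this


theorem finite_minimalPrimes_of_quotient {R : Type*} [CommRing R] (I : Ideal R)
    [IsNoetherianRing (R ⧸ I)] : I.minimalPrimes.Finite := by
  rw [Ideal.minimalPrimes_eq_comap]
  exact (minimalPrimes.finite_of_isNoetherianRing (R ⧸ I)).image _

/-- A maximal ideal which is minimal over `J` (with `C ⧸ J` Noetherian) is an isolated point of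
`V(J)`. -/
theorem exists_notMem_forall_eq {C : Type*} [CommRing C] (J : Ideal C) [IsNoetherianRing (C ⧸ J)]
    (P₁ : Ideal C) [P₁.IsMaximal] (hP₁ : P₁ ∈ J.minimalPrimes) :
    ∃ h : C, h ∉ P₁ ∧ ∀ P : Ideal C, P.IsPrime → J ≤ P → h ∉ P → P = P₁ := by
  classical
  have hfin := finite_minimalPrimes_of_quotient J
  let s : Finset (Ideal C) := hfin.toFinset.erase P₁
  have hs : ∀ P, P ∈ s ↔ P ∈ J.minimalPrimes ∧ P ≠ P₁ := by
    intro P; simp [s, and_comm]
  have hnot : ¬ (s.inf id ≤ P₁) := by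
    intro hle
    obtain ⟨P, hP, hPle⟩ := (Ideal.IsPrime.inf_le' (inferInstance : P₁.IsPrime)).mp hle
    obtain ⟨hPmin, hne⟩ := (hs P).mp hP
    exact hne (le_antisymm hPle (hP₁.2 hPmin.1 hPle))
  obtain ⟨h, hh, hh1⟩ := SetLike.not_le_iff_exists.mp hnot
  refine ⟨h, hh1, fun P hP hJP hhP => ?_⟩
  obtain ⟨P'', hP''min, hP''le⟩ := Ideal.exists_minimalPrimes_le hJP
  by_cases hne : P'' = P₁
  · subst hne
    exact ((‹P''.IsMaximal›).eq_of_le hP.ne_top hP''le).symm
  · exfalso
    have : h ∈ P'' := by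
      have := (Finset.inf_le ((hs P'').mpr ⟨hP''min, hne⟩) : s.inf id ≤ id P'')
      exact this hh
    exact hhP (hP''le this)

/-- The key step over a valuation ring: a maximal ideal over the closed point contains a nonzero
prime of the generic fibre avoiding a given nonzero element, when the generic fibre has
transcendence degree one. -/
theorem exists_prime_of_valuationRing {V C : Type u} [CommRing V] [IsDomain V] [ValuationRing V]
    [IsIntegrallyClosed V] [CommRing C] [IsDomain C] [Algebra V C] [Algebra.FiniteType V C]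
    (π : V) (hπ0 : π ≠ 0) (hπ : ¬ IsUnit π)
    (P₁ : Ideal C) [P₁.IsMaximal] (hP₁ : ∀ a : V, ¬ IsUnit a → algebraMap V C a ∈ P₁)
    (H1 : ∀ z u : C, ∃ H : V[X][X], (∃ i j, IsUnit ((H.coeff i).coeff j)) ∧
      H.eval₂ ((aeval z : V[X] →ₐ[V] C) : V[X] →+* C) u = 0)
    (y : C) (hy : Transcendental V y) (g : C) (hg : g ≠ 0) :
    ∃ q : Ideal C, q.IsPrime ∧ q ≠ ⊥ ∧ q ≤ P₁ ∧ q.comap (algebraMap V C) = ⊥ ∧ g ∉ q := by
  classical
  set m := IsLocalRing.maximalIdeal V with hm
  set J₀ : Ideal C := m.map (algebraMap V C) with hJ₀def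
  have hJ₀ : ∀ P : Ideal C, J₀ ≤ P ↔ ∀ a : V, ¬ IsUnit a → algebraMap V C a ∈ P := by
    intro P
    rw [Ideal.map_le_iff_le_comap]
    exact ⟨fun h a ha => h ((IsLocalRing.mem_maximalIdeal a).mpr ha),
      fun h a ha => h a ((IsLocalRing.mem_maximalIdeal a).mp ha)⟩
  have hJ₀P₁ : J₀ ≤ P₁ := (hJ₀ P₁).mpr hP₁
  -- Noetherian quotient
  have hN₀ : IsNoetherianRing (C ⧸ J₀) := by
    letI : Field (V ⧸ m) := Ideal.Quotient.field m
    have : IsNoetherianRing ((V ⧸ m) ⊗[V] C) := Algebra.FiniteType.isNoetherianRing (V ⧸ m) _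
    exact isNoetherianRing_of_ringEquiv _
      (Algebra.TensorProduct.quotIdealMapEquivQuotTensor C m).symm.toRingEquiv
  have hfin₀ := finite_minimalPrimes_of_quotient J₀
  -- choose `t`
  obtain ⟨t, htP₁, ht⟩ : ∃ t ∈ P₁, ∀ P ∈ J₀.minimalPrimes, P ≠ P₁ → t ∉ P := by
    let s : Finset (Ideal C) := hfin₀.toFinset.erase P₁
    have hs : ∀ P, P ∈ s ↔ P ∈ J₀.minimalPrimes ∧ P ≠ P₁ := by
      intro P; simp [s, and_comm]
    by_contra hcon
    push Not at hcon
    have hsub : (P₁ : Set C) ⊆ ⋃ P ∈ (s : Set (Ideal C)), ((id P : Ideal C) : Set C) := by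
      intro t ht
      obtain ⟨P, hPmin, hne, htP⟩ := hcon t ht
      exact Set.mem_biUnion (Finset.mem_coe.mpr ((hs P).mpr ⟨hPmin, hne⟩)) htP
    obtain ⟨P, hPs, hle⟩ := (Ideal.subset_union_prime (f := id) P₁ P₁
      (fun P hP _ _ => ((hs P).mp hP).1.1.1)).mp hsub
    obtain ⟨hPmin, hne⟩ := (hs P).mp hPs
    exact hne ((‹P₁.IsMaximal›.eq_of_le hPmin.1.1.ne_top hle).symm)
  -- no prime strictly between
  have h5b : ∀ P : Ideal C, P.IsPrime → J₀ ≤ P → t ∈ P → P ≤ P₁ → P = P₁ := by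
    intro P hP hJP htP hPP₁
    by_contra hne
    obtain ⟨P₀, hP₀min, hP₀le⟩ := Ideal.exists_minimalPrimes_le hJP
    have hP₀ne : P₀ ≠ P₁ := by
      rintro rfl
      exact hne (le_antisymm hPP₁ hP₀le)
    have htP₀ : t ∉ P₀ := ht P₀ hP₀min hP₀ne
    haveI := hP₀min.1.1
    obtain ⟨z, hz₁, hz⟩ := SetLike.exists_of_lt (lt_of_le_of_ne hPP₁ hne)
    obtain ⟨H, hprim, hH⟩ := H1 z t
    exact false_of_relation P₀ P P₁ (Ideal.IsMaximal.ne_top inferInstance) ((hJ₀ P₀).mp hP₀min.1.2)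
      hP₀le hPP₁ z t hz₁ hz htP htP₀ _ H le_rfl hprim (by rw [hH]; exact zero_mem _)
  -- the `V[X]`-algebra structure given by `t`
  letI algX : Algebra V[X] C := (aeval t : V[X] →ₐ[V] C).toRingHom.toAlgebra
  have halgX : ∀ p : V[X], algebraMap V[X] C p = aeval t p := fun _ => rfl
  haveI : IsScalarTower V V[X] C := IsScalarTower.of_algebraMap_eq fun a => by
    rw [halgX, Polynomial.algebraMap_eq, aeval_C]
  haveI : Algebra.FiniteType V[X] C := Algebra.FiniteType.of_restrictScalars_finiteType V V[X] C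
  set J : Ideal C := J₀ ⊔ Ideal.span {t} with hJdef
  have hJle : ∀ P : Ideal C, J ≤ P ↔ J₀ ≤ P ∧ t ∈ P := by
    intro P
    rw [hJdef, sup_le_iff, Ideal.span_singleton_le_iff_mem]
  haveI hN : IsNoetherianRing (C ⧸ J) :=
    isNoetherianRing_of_surjective (C ⧸ J₀) (C ⧸ J) (Ideal.Quotient.factor le_sup_left)
      (Ideal.Quotient.factor_surjective le_sup_left)
  have hmin : P₁ ∈ J.minimalPrimes :=
    ⟨⟨inferInstance, (hJle P₁).mpr ⟨hJ₀P₁, htP₁⟩⟩, fun P ⟨hP, hJP⟩ hPP₁ =>
      (h5b P hP ((hJle P).mp hJP).1 ((hJle P).mp hJP).2 hPP₁).ge⟩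
  obtain ⟨h, hhP₁, hiso⟩ := exists_notMem_forall_eq J P₁ hmin
  -- quasi-finiteness at `P₁`
  have hqf : Algebra.QuasiFiniteAt V[X] P₁ := by
    let q : PrimeSpectrum C := ⟨P₁, inferInstance⟩
    refine Algebra.QuasiFiniteAt.of_isOpen_singleton_fiber q ?_
    rw [isOpen_induced_iff]
    refine ⟨PrimeSpectrum.basicOpen h, (PrimeSpectrum.basicOpen h).2, ?_⟩
    ext ⟨P, hP⟩
    rw [Set.mem_preimage, Set.mem_singleton_iff, Subtype.ext_iff]
    change P ∈ (PrimeSpectrum.basicOpen h : Set (PrimeSpectrum C)) ↔ P = q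
    constructor
    · intro hPh
      have hPc : P.asIdeal.comap (algebraMap V[X] C) = P₁.comap (algebraMap V[X] C) :=
        congrArg PrimeSpectrum.asIdeal hP
      have hJP : J ≤ P.asIdeal := by
        rw [hJle, hJ₀]
        constructor
        · intro a ha
          have : (Polynomial.C a : V[X]) ∈ P₁.comap (algebraMap V[X] C) := by
            rw [Ideal.mem_comap, halgX, aeval_C]; exact hP₁ a ha
          rw [← hPc, Ideal.mem_comap, halgX, aeval_C] at this
          exact this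
        · have : (X : V[X]) ∈ P₁.comap (algebraMap V[X] C) := by
            rw [Ideal.mem_comap, halgX, aeval_X]; exact htP₁
          rw [← hPc, Ideal.mem_comap, halgX, aeval_X] at this
          exact this
      exact PrimeSpectrum.ext (show P.asIdeal = q.asIdeal from hiso P.asIdeal P.2 hJP hPh)
    · rintro rfl; exact hhP₁
  -- Zariski's main theorem
  obtain ⟨r, hrP₁, hrint, hx⟩ :=
    Algebra.zariskisMainProperty_iff.mp (Algebra.ZariskisMainProperty.of_finiteType (R := V[X]) P₁)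
  have hr0 : r ≠ 0 := fun h0 => hrP₁ (h0 ▸ zero_mem _)
  -- `t` is transcendental
  have hinjX : Function.Injective (algebraMap V[X] C) := by
    by_contra hni
    have htalg : IsAlgebraic V t := by
      by_contra htr
      exact hni (transcendental_iff_injective.mp htr)
    let A' := Algebra.adjoin V {t}
    haveI : Algebra.IsAlgebraic V A' :=
      (Subalgebra.isAlgebraic_iff A').mp (Algebra.isAlgebraic_adjoin_singleton_iff.mpr htalg)
    let t' : A' := ⟨t, Algebra.subset_adjoin rfl⟩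
    let φ' : V[X] →+* A' := ((aeval t' : V[X] →ₐ[V] A') : V[X] →+* A')
    have hφ' : (algebraMap A' C).comp φ' = algebraMap V[X] C := by
      apply Polynomial.ringHom_ext
      · intro a; simp [φ', halgX, A']
      · simp [φ', halgX, t']
    have hint : ∀ x : C, IsIntegral V[X] x → IsAlgebraic V x := by
      rintro x ⟨p, hpm, hpx⟩
      have : IsIntegral A' x := ⟨p.map φ', hpm.map _, by rw [eval₂_map, hφ']; exact hpx⟩
      exact this.trans_isAlgebraic V
    obtain ⟨my, hmy⟩ := hx y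
    have h1 : IsAlgebraic V (r ^ my * y) := hint _ hmy
    have h2 : IsAlgebraic V (r ^ my) := (hint _ hrint).pow _
    exact hy (IsAlgebraic.of_mul (mem_nonZeroDivisors_of_ne_zero (pow_ne_zero _ hr0)) h2 h1)
  haveI : FaithfulSMul V[X] C := (faithfulSMul_iff_algebraMap_injective _ _).mpr hinjX
  let Cb := integralClosure V[X] C
  have hinjb : Function.Injective (algebraMap V[X] Cb) := by
    intro p₁ p₂ h12
    apply hinjX
    have := congrArg (algebraMap Cb C) h12
    rwa [← IsScalarTower.algebraMap_apply, ← IsScalarTower.algebraMap_apply] at this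
  haveI : FaithfulSMul V[X] Cb := (faithfulSMul_iff_algebraMap_injective _ _).mpr hinjb
  haveI : Algebra.HasGoingDown V[X] Cb := inferInstance
  let r' : Cb := ⟨r, hrint⟩
  -- the element `g' = r ^ mg * g`
  obtain ⟨mg, hmg⟩ := hx g
  let g' : Cb := ⟨r ^ mg * g, hmg⟩
  have hg'0 : g' ≠ 0 := by
    intro h0
    have : r ^ mg * g = 0 := congrArg Subtype.val h0
    exact mul_ne_zero (pow_ne_zero _ hr0) hg this
  obtain ⟨b, hbmem, hb0⟩ := Submodule.exists_mem_ne_zero_of_ne_bot
    (Ideal.comap_ne_bot_of_integral_mem (R := V[X]) (I := Ideal.span {g'}) hg'0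
      (Ideal.mem_span_singleton_self g') (Algebra.IsIntegral.isIntegral g'))
  -- choose `a`
  obtain ⟨n, hn⟩ : ∃ n : ℕ, b.eval (π ^ (n + 1)) ≠ 0 := by
    by_contra hcon
    push Not at hcon
    refine hb0 (Polynomial.eq_zero_of_infinite_isRoot b
      (Set.infinite_of_injective_forall_mem (f := fun n : ℕ => π ^ (n + 1)) ?_ fun n => hcon n))
    exact (pow_injective_of_not_isUnit hπ hπ0).comp (add_left_injective 1)
  set a : V := π ^ (n + 1) with ha
  have haunit : ¬ IsUnit a := fun hu => hπ (isUnit_pow_succ_iff.mp hu)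
  let 𝔮 : Ideal V[X] := Ideal.span {X - Polynomial.C a}
  haveI h𝔮 : 𝔮.IsPrime :=
    (Ideal.span_singleton_prime (X_sub_C_ne_zero a)).mpr (prime_X_sub_C a)
  let Pb : Ideal Cb := P₁.comap (algebraMap Cb C)
  haveI : Pb.IsPrime := Ideal.comap_isPrime _ _
  have hle : 𝔮 ≤ Pb.under V[X] := by
    rw [Ideal.span_singleton_le_iff_mem, Ideal.under_def, Ideal.mem_comap, Ideal.mem_comap,
      ← IsScalarTower.algebraMap_apply, halgX, map_sub, aeval_X, aeval_C]
    exact sub_mem htP₁ (hP₁ a haunit)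
  obtain ⟨qb, hqbP, hqbprime, hqblies⟩ :=
    Ideal.exists_ideal_le_liesOver_of_le (p := 𝔮) (q := Pb.under V[X]) Pb hle
  have hrq : r' ∉ qb := fun h => hrP₁ (hqbP h)
  obtain ⟨q, hqprime, hqcomap, hrq'⟩ := exists_prime_comap_eq r hrint hx qb hrq
  have hqb𝔮 : ∀ p : V[X], algebraMap V[X] Cb p ∈ qb ↔ p ∈ 𝔮 := by
    intro p
    rw [hqblies.over, Ideal.under_def, Ideal.mem_comap]
  have hmemq : ∀ c : Cb, (c : C) ∈ q ↔ c ∈ qb := by
    intro c
    rw [← hqcomap, Ideal.mem_comap]; rfl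
  refine ⟨q, hqprime, ?_, ?_, ?_, ?_⟩
  · -- `q ≠ ⊥`
    intro hbot
    have h1 : algebraMap V[X] Cb (X - Polynomial.C a) ∈ qb :=
      (hqb𝔮 _).mpr (Ideal.mem_span_singleton_self _)
    have h2 : ((algebraMap V[X] Cb (X - Polynomial.C a) : Cb) : C) ∈ q := (hmemq _).mpr h1
    rw [hbot, Ideal.mem_bot] at h2
    have h3 : algebraMap V[X] C (X - Polynomial.C a) = 0 := h2
    exact X_sub_C_ne_zero a (hinjX (by rw [h3, map_zero]))
  · -- `q ≤ P₁`
    intro x hxq
    obtain ⟨k, hk⟩ := hx x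
    have h1 : (⟨r ^ k * x, hk⟩ : Cb) ∈ qb := (hmemq _).mp (Ideal.mul_mem_left _ _ hxq)
    have h2 : r ^ k * x ∈ P₁ := hqbP h1
    exact ((Ideal.IsPrime.mem_or_mem inferInstance h2).resolve_left
      fun h => hrP₁ (Ideal.IsPrime.mem_of_pow_mem inferInstance k h))
  · -- `q ∩ V = 0`
    rw [eq_bot_iff]
    intro v hv
    rw [Ideal.mem_comap] at hv
    have h1 : algebraMap V[X] Cb (Polynomial.C v) ∈ qb := by
      rw [← hmemq]
      have : ((algebraMap V[X] Cb (Polynomial.C v) : Cb) : C) = algebraMap V C v := by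
        change algebraMap V[X] C (Polynomial.C v) = _
        rw [halgX, aeval_C]
      rw [this]; exact hv
    have h2 : Polynomial.C v ∈ 𝔮 := (hqb𝔮 _).mp h1
    obtain ⟨w, hw⟩ := Ideal.mem_span_singleton.mp h2
    have h3 := congrArg (Polynomial.eval a) hw
    rw [eval_C, eval_mul, eval_sub, eval_X, eval_C, sub_self, zero_mul] at h3
    rw [Ideal.mem_bot, h3]
  · -- `g ∉ q`
    intro hgq
    have h1 : g' ∈ qb := (hmemq _).mp (Ideal.mul_mem_left _ _ hgq)
    have h2 : algebraMap V[X] Cb b ∈ qb := by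
      rw [Ideal.mem_comap] at hbmem
      obtain ⟨w, hw⟩ := Ideal.mem_span_singleton.mp hbmem
      rw [hw]
      exact Ideal.mul_mem_right _ _ h1
    have h3 : b ∈ 𝔮 := (hqb𝔮 _).mp h2
    obtain ⟨w, hw⟩ := Ideal.mem_span_singleton.mp h3
    apply hn
    rw [hw, eval_mul, eval_sub, eval_X, eval_C, sub_self, zero_mul]


/-- Field-level form of the key step: `V` a valuation ring of `L`, `V₁ = V ∩ K₁`, and
`C₁ = V₁[s] ⊆ V` with `L` "of transcendence degree one" over `K₁`. -/
theorem exists_prime_adjoin {K₁ L : Type u} [Field K₁] [Field L] [Algebra K₁ L]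
    (V : ValuationSubring L) (V₁ : ValuationSubring K₁)
    (hV₁ : ∀ x : K₁, x ∈ V₁ ↔ algebraMap K₁ L x ∈ V)
    [Algebra ↥V₁ L] [IsScalarTower ↥V₁ K₁ L]
    (s : Finset L) (hsV : ∀ e ∈ s, e ∈ V)
    (hint : ∀ e ∈ s, ∃ p : (↥V₁)[X], p.Monic ∧ aeval e p ∈ V.nonunits)
    (hmax : ∀ z : L, ¬ IsAlgebraic K₁ z → ∀ e ∈ s, IsAlgebraic (IntermediateField.adjoin K₁ {z}) e)
    (htr : ∃ e ∈ s, ¬ IsAlgebraic K₁ e)
    (π : ↥V₁) (hπ0 : π ≠ 0) (hπ : ¬ IsUnit π)
    (g : ↥(Algebra.adjoin ↥V₁ (s : Set L))) (hg : g ≠ 0) :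
    ∃ q : Ideal ↥(Algebra.adjoin ↥V₁ (s : Set L)), q.IsPrime ∧ q ≠ ⊥ ∧
      (∀ x ∈ q, (x : L) ∈ V.nonunits) ∧ q.comap (algebraMap ↥V₁ _) = ⊥ ∧ g ∉ q := by
  classical
  let C₁ := Algebra.adjoin ↥V₁ (s : Set L)
  have hamap : ∀ a : ↥V₁, algebraMap ↥V₁ L a = algebraMap K₁ L (a : K₁) := fun a =>
    IsScalarTower.algebraMap_apply ↥V₁ K₁ L a
  have hinj₁ : Function.Injective (algebraMap ↥V₁ L) := by
    intro a b hab
    rw [hamap, hamap] at hab
    exact Subtype.ext ((algebraMap K₁ L).injective hab)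
  -- `C₁ ⊆ V`
  have hC₁V : ∀ x : C₁, (x : L) ∈ V := by
    intro x
    have hle : C₁ ≤ { V.toSubring.toSubsemiring with
        algebraMap_mem' := fun a => by
          change algebraMap ↥V₁ L a ∈ V
          rw [hamap]; exact (hV₁ _).mp a.2 } := by
      refine Algebra.adjoin_le fun e he => hsV e he
    exact hle x.2
  haveI : Algebra.FiniteType ↥V₁ C₁ :=
    (Subalgebra.fg_iff_finiteType _).mp (Subalgebra.fg_adjoin_finset s)
  let ι₁ : ↥C₁ →+* ↥V := (C₁.val : ↥C₁ →+* L).codRestrict V.toSubring hC₁V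
  have hι₁ : ∀ x : C₁, ((ι₁ x : ↥V) : L) = (x : L) := fun _ => rfl
  let P₁ : Ideal ↥C₁ := (IsLocalRing.maximalIdeal ↥V).comap ι₁
  haveI hP₁prime : P₁.IsPrime := Ideal.comap_isPrime _ _
  have hP₁mem : ∀ x : C₁, x ∈ P₁ ↔ (x : L) ∈ V.nonunits := by
    intro x
    rw [Ideal.mem_comap, ← ValuationSubring.coe_mem_nonunits_iff, hι₁]
  -- nonunits of `V₁` land in `P₁`
  have hnonunit : ∀ a : ↥V₁, ¬ IsUnit a → algebraMap ↥V₁ C₁ a ∈ P₁ := by
    intro a ha
    rw [hP₁mem]
    change algebraMap ↥V₁ L a ∈ V.nonunits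
    rw [hamap, ValuationSubring.mem_nonunits_iff]
    by_contra hcon
    apply ha
    have hmemV : algebraMap K₁ L (a : K₁) ∈ V := (hV₁ _).mp a.2
    have hval : V.valuation (algebraMap K₁ L (a : K₁)) = 1 :=
      le_antisymm ((ValuationSubring.valuation_le_one_iff V _).mpr hmemV) (not_lt.mp hcon)
    have ha0 : (a : K₁) ≠ 0 := by
      intro h0
      rw [h0, map_zero, map_zero] at hval
      exact zero_ne_one hval
    have hinv : (a : K₁)⁻¹ ∈ V₁ := by
      rw [hV₁, map_inv₀, ← ValuationSubring.valuation_le_one_iff, map_inv₀, hval, inv_one]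
    exact isUnit_iff_exists_inv.mpr ⟨⟨_, hinv⟩, Subtype.ext (mul_inv_cancel₀ ha0)⟩
  -- residues of elements of `C₁` are integral over `V₁`
  let ψ : ↥V₁ →+* IsLocalRing.ResidueField ↥V :=
    (IsLocalRing.residue ↥V).comp (ι₁.comp (algebraMap ↥V₁ C₁))
  let ρ : ↥C₁ →+* IsLocalRing.ResidueField ↥V := (IsLocalRing.residue ↥V).comp ι₁
  have hρ0 : ∀ x : C₁, ρ x = 0 ↔ x ∈ P₁ := by
    intro x
    change IsLocalRing.residue ↥V (ι₁ x) = 0 ↔ _
    rw [IsLocalRing.residue_eq_zero_iff, Ideal.mem_comap]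
  have hρeval : ∀ (x : C₁) (p : (↥V₁)[X]), ρ (aeval x p) = p.eval₂ ψ (ρ x) := by
    intro x p
    rw [aeval_def, hom_eval₂]
    rfl
  have hρint : ∀ x : C₁, ψ.IsIntegralElem (ρ x) := by
    rintro ⟨x, hx⟩
    induction hx using Algebra.adjoin_induction with
    | mem e he =>
      obtain ⟨p, hpm, hpe⟩ := hint e he
      refine ⟨p, hpm, ?_⟩
      rw [← hρeval, hρ0, hP₁mem, ← Subalgebra.aeval_coe]
      exact hpe
    | algebraMap a => exact ψ.isIntegralElem_map
    | add x y hx hy ihx ihy =>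
      have : (⟨x + y, add_mem hx hy⟩ : C₁) = ⟨x, hx⟩ + ⟨y, hy⟩ := rfl
      rw [this, map_add]
      exact RingHom.IsIntegralElem.add ψ ihx ihy
    | mul x y hx hy ihx ihy =>
      have : (⟨x * y, mul_mem hx hy⟩ : C₁) = ⟨x, hx⟩ * ⟨y, hy⟩ := rfl
      rw [this, map_mul]
      exact RingHom.IsIntegralElem.mul ψ ihx ihy
  haveI hP₁max : P₁.IsMaximal := by
    rw [Ideal.isMaximal_iff]
    refine ⟨fun h1 => hP₁prime.ne_top ((Ideal.eq_top_iff_one _).mpr h1), fun J x hPJ hxP hxJ => ?_⟩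
    obtain ⟨p, hpm, hpx⟩ := hρint x
    have h1 : aeval x p ∈ P₁ := by rw [← hρ0, hρeval]; exact hpx
    obtain ⟨a, w, ha, haw⟩ := exists_unit_add_mul_mem P₁ hnonunit x hxP _ p le_rfl
      ⟨p.natDegree, by rw [coeff_natDegree, hpm.leadingCoeff]; exact isUnit_one⟩ h1
    have h2 : algebraMap ↥V₁ C₁ a ∈ J :=
      (Ideal.add_mem_iff_left J (Ideal.mul_mem_right _ _ hxJ)).mp (hPJ haw)
    exact (Ideal.eq_top_iff_one J).mp (Ideal.eq_top_of_isUnit_mem _ h2 (ha.map _))
  -- transcendental element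
  obtain ⟨e₀, he₀s, he₀⟩ := htr
  let y : C₁ := ⟨e₀, Algebra.subset_adjoin he₀s⟩
  have hy : Transcendental ↥V₁ y := by
    rintro ⟨p, hp0, hpy⟩
    apply he₀
    rw [← IsFractionRing.isAlgebraic_iff ↥V₁ K₁ L]
    refine ⟨p, hp0, ?_⟩
    have := congrArg (Subtype.val : C₁ → L) hpy
    rwa [← Subalgebra.aeval_coe] at this
  -- primitive relations
  have H1 : ∀ z u : C₁, ∃ H : (↥V₁)[X][X], (∃ i j, IsUnit ((H.coeff i).coeff j)) ∧
      H.eval₂ ((aeval z : (↥V₁)[X] →ₐ[↥V₁] C₁) : (↥V₁)[X] →+* C₁) u = 0 := by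
    intro z u
    let ΦK : K₁[X] →+* L := ((aeval (z : L) : K₁[X] →ₐ[K₁] L) : K₁[X] →+* L)
    obtain ⟨GK, hGK0, hGK⟩ : ∃ GK : K₁[X][X], GK ≠ 0 ∧ GK.eval₂ ΦK (u : L) = 0 := by
      by_cases hz : IsAlgebraic K₁ (z : L)
      · obtain ⟨p, hp0, hp⟩ := hz
        exact ⟨Polynomial.C p, by simpa using hp0, by simpa [ΦK] using hp⟩
      · open IntermediateField.algebraAdjoinAdjoin in
        have hall := hmax (z : L) hz
        let F := IntermediateField.adjoin K₁ {(z : L)}
        have huF : IsAlgebraic F (u : L) := by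
          obtain ⟨u, hu⟩ := u
          change IsAlgebraic F u
          induction hu using Algebra.adjoin_induction with
          | mem e he => exact hall e he
          | algebraMap a =>
            rw [hamap, IsScalarTower.algebraMap_apply K₁ F L]
            exact isAlgebraic_algebraMap _
          | add x y _ _ ihx ihy => exact ihx.add ihy
          | mul x y _ _ ihx ihy => exact ihx.mul ihy
        have huA : IsAlgebraic (Algebra.adjoin K₁ {(z : L)}) (u : L) :=
          (IsFractionRing.isAlgebraic_iff (Algebra.adjoin K₁ {(z : L)}) F L).mpr huF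
        obtain ⟨p, hp0, hpu⟩ := huA
        let z' : Algebra.adjoin K₁ {(z : L)} := ⟨z, Algebra.self_mem_adjoin_singleton K₁ _⟩
        let θ : K₁[X] →+* Algebra.adjoin K₁ {(z : L)} :=
          ((aeval z' : K₁[X] →ₐ[K₁] Algebra.adjoin K₁ {(z : L)}) : K₁[X] →+* _)
        have hθ : Function.Surjective θ := by
          rintro ⟨w, hw⟩
          rw [Algebra.adjoin_singleton_eq_range_aeval] at hw
          obtain ⟨q, hq⟩ := hw
          refine ⟨q, Subtype.ext ?_⟩
          change ((aeval z' q : Algebra.adjoin K₁ {(z : L)}) : L) = w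
          rw [← Subalgebra.aeval_coe]
          exact hq
        obtain ⟨GK, hGK⟩ := Polynomial.map_surjective θ hθ p
        refine ⟨GK, fun h0 => hp0 (by rw [← hGK, h0, Polynomial.map_zero]), ?_⟩
        have hcomp : ΦK = (algebraMap (Algebra.adjoin K₁ {(z : L)}) L).comp θ := by
          apply Polynomial.ringHom_ext
          · intro a; simp [ΦK, θ]
          · simp [ΦK, θ, z']
        rw [hcomp, ← eval₂_map, hGK]
        exact hpu
    obtain ⟨c, H, hc0, ⟨i, j, hij⟩, hH⟩ := exists_primitive_lift V₁ GK hGK0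
    refine ⟨H, ⟨i, j, hij ▸ isUnit_one⟩, ?_⟩
    apply Subtype.val_injective
    change (C₁.val : ↥C₁ →+* L) (H.eval₂ _ u) = ((0 : C₁) : L)
    rw [hom_eval₂]
    have hcomp2 : (C₁.val : ↥C₁ →+* L).comp
        ((aeval z : (↥V₁)[X] →ₐ[↥V₁] C₁) : (↥V₁)[X] →+* C₁) =
        ΦK.comp (mapRingHom (algebraMap ↥V₁ K₁)) := by
      apply Polynomial.ringHom_ext
      · intro a
        simp only [RingHom.comp_apply, coe_mapRingHom, Polynomial.map_C, ΦK]
        change ((aeval z (Polynomial.C a) : C₁) : L) = aeval (z : L) (Polynomial.C (algebraMap ↥V₁ K₁ a))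
        rw [aeval_C, aeval_C]
        exact hamap a
      · simp only [RingHom.comp_apply, coe_mapRingHom, Polynomial.map_X, ΦK]
        change ((aeval z Polynomial.X : C₁) : L) = aeval (z : L) Polynomial.X
        rw [aeval_X, aeval_X]
    rw [hcomp2, ← eval₂_map, hH, eval₂_mul, eval₂_C]
    change _ * GK.eval₂ ΦK (u : L) = _
    rw [hGK, mul_zero]
    rfl
  obtain ⟨q, hqprime, hq0, hqle, hqcomap, hgq⟩ :=
    exists_prime_of_valuationRing (V := ↥V₁) (C := ↥C₁) π hπ0 hπ P₁ hnonunit H1 y hy g hg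
  exact ⟨q, hqprime, hq0, fun x hx => (hP₁mem x).mp (hqle hx), hqcomap, hgq⟩


theorem isAlgebraic_of_le {K L : Type*} [Field K] [Field L] [Algebra K L]
    {F F' : IntermediateField K L} (h : F ≤ F') {e : L} (he : IsAlgebraic F e) :
    IsAlgebraic F' e := by
  obtain ⟨p, hp0, hpe⟩ := he
  refine ⟨p.map (IntermediateField.inclusion h : F →+* F'),
    (Polynomial.map_ne_zero_iff (IntermediateField.inclusion h).injective).mpr hp0, ?_⟩
  rw [aeval_def, eval₂_map]
  exact hpe

theorem exists_mem_isAlgebraic_of_sSup {K L : Type*} [Field K] [Field L] [Algebra K L]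
    (c : Set (IntermediateField K L)) (hc : IsChain (· ≤ ·) c) (hne : c.Nonempty) {e : L}
    (he : IsAlgebraic (sSup c : IntermediateField K L) e) : ∃ F ∈ c, IsAlgebraic F e := by
  classical
  obtain ⟨p, hp0, hpe⟩ := he
  let S : Finset L := p.support.image fun i => ((p.coeff i : (sSup c : IntermediateField K L)) : L)
  have hS : IntermediateField.adjoin K (S : Set L) ≤ sSup c := by
    rw [IntermediateField.adjoin_le_iff]
    intro x hx
    obtain ⟨i, -, rfl⟩ := Finset.mem_image.mp (Finset.mem_coe.mp hx)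
    exact (p.coeff i).2
  obtain ⟨F, hFc, hSF⟩ := (CompleteLattice.isCompactElement_iff_le_of_directed_sSup_le _ _).mp
    (IntermediateField.adjoin_finset_isCompactElement S) c hne hc.directedOn hS
  have hFle : F ≤ sSup c := le_sSup hFc
  refine ⟨F, hFc, ?_⟩
  have hlift : p ∈ lifts (IntermediateField.inclusion hFle : F →+* (sSup c : IntermediateField K L)) := by
    rw [lifts_iff_coeff_lifts]
    intro i
    by_cases hi : p.coeff i = 0
    · exact ⟨0, by rw [hi, map_zero]⟩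
    · have : ((p.coeff i : (sSup c : IntermediateField K L)) : L) ∈ F :=
        hSF (IntermediateField.subset_adjoin K _
          (Finset.mem_coe.mpr (Finset.mem_image.mpr ⟨i, mem_support_iff.mpr hi, rfl⟩)))
      exact ⟨⟨_, this⟩, Subtype.ext rfl⟩
  obtain ⟨p', hp'⟩ := (mem_lifts _).mp hlift
  refine ⟨p', fun h0 => hp0 (by rw [← hp', h0, Polynomial.map_zero]), ?_⟩
  rw [← hpe, ← hp', aeval_def, aeval_def, eval₂_map]
  rfl

/-- A maximal intermediate field over which not all of the finite set `T` is algebraic. -/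
theorem exists_maximal_intermediateField {K L : Type*} [Field K] [Field L] [Algebra K L]
    (T : Finset L) (h₀ : ∃ e ∈ T, ¬ IsAlgebraic K e) :
    ∃ K₁ : IntermediateField K L, (∃ e ∈ T, ¬ IsAlgebraic K₁ e) ∧
      ∀ F : IntermediateField K L, K₁ < F → ∀ e ∈ T, IsAlgebraic F e := by
  classical
  let 𝒮 : Set (IntermediateField K L) := {F | ∃ e ∈ T, ¬ IsAlgebraic F e}
  have hbot : (⊥ : IntermediateField K L) ∈ 𝒮 := by
    obtain ⟨e, he, hne⟩ := h₀
    exact ⟨e, he, fun h => hne (h.restrictScalars K)⟩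
  have hchain : ∀ c ⊆ 𝒮, IsChain (· ≤ ·) c → ∀ y ∈ c, ∃ ub ∈ 𝒮, ∀ z ∈ c, z ≤ ub := by
    intro c hc𝒮 hchain y hy
    refine ⟨sSup c, ?_, fun z hz => le_sSup hz⟩
    by_contra hnot
    have hall : ∀ e ∈ T, IsAlgebraic (sSup c : IntermediateField K L) e := by
      intro e he
      by_contra hne
      exact hnot ⟨e, he, hne⟩
    have key : ∀ T' : Finset L, T' ⊆ T → ∃ F ∈ c, ∀ e ∈ T', IsAlgebraic F e := by
      intro T'
      induction T' using Finset.induction_on with
      | empty => exact fun _ => ⟨y, hy, fun e he => absurd he (Finset.notMem_empty e)⟩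
      | insert a T'' ha ih =>
        intro hsub
        obtain ⟨F, hF, hFalg⟩ := ih ((Finset.subset_insert a T'').trans hsub)
        obtain ⟨Fa, hFa, hFaalg⟩ := exists_mem_isAlgebraic_of_sSup c hchain ⟨y, hy⟩
          (hall a (hsub (Finset.mem_insert_self a T'')))
        rcases hchain.total hF hFa with hle | hle
        · refine ⟨Fa, hFa, fun e he => ?_⟩
          rcases Finset.mem_insert.mp he with rfl | he
          · exact hFaalg
          · exact isAlgebraic_of_le hle (hFalg e he)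
        · refine ⟨F, hF, fun e he => ?_⟩
          rcases Finset.mem_insert.mp he with rfl | he
          · exact isAlgebraic_of_le hle hFaalg
          · exact hFalg e he
    obtain ⟨F, hF, hFalg⟩ := key T subset_rfl
    obtain ⟨e, he, hne⟩ := hc𝒮 hF
    exact hne (hFalg e he)
  obtain ⟨K₁, -, hK₁⟩ := zorn_le_nonempty₀ 𝒮 hchain ⊥ hbot
  refine ⟨K₁, hK₁.prop, fun F hlt e he => ?_⟩
  by_contra hne
  exact absurd (hK₁.le_of_ge ⟨e, he, hne⟩ hlt.le) (not_le_of_gt hlt)


theorem isUnit_iff_notMem_nonunits {K₁ L : Type*} [Field K₁] [Field L] [Algebra K₁ L]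
    (V : ValuationSubring L) (V₁ : ValuationSubring K₁)
    (hV₁ : ∀ x : K₁, x ∈ V₁ ↔ algebraMap K₁ L x ∈ V) (a : ↥V₁) :
    IsUnit a ↔ algebraMap K₁ L (a : K₁) ∉ V.nonunits := by
  constructor
  · intro ha hmem
    obtain ⟨b, hb⟩ := isUnit_iff_exists_inv.mp ha
    have h1 : algebraMap K₁ L (a : K₁) * algebraMap K₁ L (b : K₁) = 1 := by
      rw [← map_mul, ← map_one (algebraMap K₁ L)]
      exact congrArg _ (congrArg Subtype.val hb)
    rw [ValuationSubring.mem_nonunits_iff] at hmem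
    have h2 : V.valuation (algebraMap K₁ L (b : K₁)) ≤ 1 :=
      (ValuationSubring.valuation_le_one_iff V _).mpr ((hV₁ _).mp b.2)
    have h3 := congrArg V.valuation h1
    rw [map_mul, map_one] at h3
    have : V.valuation (algebraMap K₁ L (a : K₁)) * V.valuation (algebraMap K₁ L (b : K₁)) < 1 :=
      lt_of_le_of_lt (mul_le_mul' le_rfl h2) (by rwa [mul_one])
    rw [h3] at this
    exact lt_irrefl _ this
  · intro hcon
    rw [ValuationSubring.mem_nonunits_iff] at hcon
    have hmemV : algebraMap K₁ L (a : K₁) ∈ V := (hV₁ _).mp a.2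
    have hval : V.valuation (algebraMap K₁ L (a : K₁)) = 1 :=
      le_antisymm ((ValuationSubring.valuation_le_one_iff V _).mpr hmemV) (not_lt.mp hcon)
    have ha0 : (a : K₁) ≠ 0 := by
      intro h0
      rw [h0, map_zero, map_zero] at hval
      exact zero_ne_one hval
    have hinv : (a : K₁)⁻¹ ∈ V₁ := by
      rw [hV₁, map_inv₀, ← ValuationSubring.valuation_le_one_iff, map_inv₀, hval, inv_one]
    exact isUnit_iff_exists_inv.mpr ⟨⟨_, hinv⟩, Subtype.ext (mul_inv_cancel₀ ha0)⟩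

theorem mul_mem_nonunits {L : Type*} [Field L] (V : ValuationSubring L) {x y : L} (hx : x ∈ V)
    (hy : y ∈ V.nonunits) : x * y ∈ V.nonunits := by
  rw [ValuationSubring.mem_nonunits_iff] at hy ⊢
  rw [map_mul]
  have h1 : V.valuation x ≤ 1 := (ValuationSubring.valuation_le_one_iff V _).mpr hx
  calc V.valuation x * V.valuation y ≤ 1 * V.valuation y := mul_le_mul' h1 le_rfl
    _ = V.valuation y := one_mul _
    _ < 1 := hy

/-- Key claim for domains: if `C` is a finite type domain over the domain `A`, not algebraic over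
`A`, and `P'` is a prime of `C` over a nonzero prime of `A` with algebraic residue field
extension, then `P'` contains a nonzero prime of the generic fibre avoiding `g ≠ 0`. -/
theorem exists_prime_of_domain {A C : Type u} [CommRing A] [IsDomain A] [CommRing C] [IsDomain C]
    [Algebra A C] [Algebra.FiniteType A C] (hinj : Function.Injective (algebraMap A C))
    (P' : Ideal C) [P'.IsPrime] (hP' : P'.comap (algebraMap A C) ≠ ⊥)
    (halg : ∀ c : C, ∃ p : A[X], p.leadingCoeff ∉ P'.comap (algebraMap A C) ∧ aeval c p ∈ P')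
    (c₀ : C) (hc₀ : Transcendental A c₀) (g : C) (hg : g ≠ 0) :
    ∃ q : Ideal C, q.IsPrime ∧ q ≠ ⊥ ∧ q ≤ P' ∧ q.comap (algebraMap A C) = ⊥ ∧ g ∉ q := by
  classical
  obtain ⟨s₀, hs₀⟩ := (Algebra.FiniteType.out : (⊤ : Subalgebra A C).FG)
  let K := FractionRing A
  let L := FractionRing C
  have hinjCL : Function.Injective (algebraMap C L) := IsFractionRing.injective C L
  haveI : FaithfulSMul A L := by
    rw [faithfulSMul_iff_algebraMap_injective, IsScalarTower.algebraMap_eq A C L]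
    exact hinjCL.comp hinj
  have hinjAL : Function.Injective (algebraMap A L) := FaithfulSMul.algebraMap_injective A L
  letI : Algebra K L := FractionRing.liftAlgebra A L
  haveI : IsScalarTower A K L := FractionRing.isScalarTower_liftAlgebra A L
  -- the valuation ring
  let f₀ : Localization.AtPrime P' →+* L :=
    IsLocalization.lift (M := P'.primeCompl) (g := algebraMap C L) fun y =>
      IsUnit.mk0 _ ((map_ne_zero_iff _ hinjCL).mpr fun h0 => y.2 (h0 ▸ zero_mem _))
  have hf₀ : ∀ c : C, f₀ (algebraMap C _ c) = algebraMap C L c := fun c => IsLocalization.lift_eq _ c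
  obtain ⟨V, hVmem, hVloc⟩ := IsLocalRing.exists_factor_valuationRing f₀
  have hCV : ∀ c : C, algebraMap C L c ∈ V := fun c => hf₀ c ▸ hVmem _
  have hP'V : ∀ c : C, c ∈ P' ↔ algebraMap C L c ∈ V.nonunits := by
    intro c
    have h1 : algebraMap C L c ∈ V.nonunits ↔ ¬ IsUnit (⟨algebraMap C L c, hCV c⟩ : ↥V) :=
      (ValuationSubring.coe_mem_nonunits_iff (a := (⟨algebraMap C L c, hCV c⟩ : ↥V))).trans
        ((IsLocalRing.mem_maximalIdeal _).trans mem_nonunits_iff)
    rw [h1]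
    have h2 : (⟨algebraMap C L c, hCV c⟩ : ↥V) =
        (f₀.codRestrict V.toSubring hVmem) (algebraMap C _ c) := Subtype.ext (hf₀ c).symm
    rw [h2]
    constructor
    · intro hc hu
      have := hVloc.map_nonunit _ hu
      rw [IsLocalization.AtPrime.isUnit_to_map_iff (Localization.AtPrime P') P'] at this
      exact this hc
    · intro hnu
      by_contra hc
      exact hnu (((IsLocalization.AtPrime.isUnit_to_map_iff (Localization.AtPrime P') P' c).mpr
        hc).map _)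
  -- the maximal intermediate field
  let T : Finset L := s₀.image (algebraMap C L)
  have hT0 : ∃ e ∈ T, ¬ IsAlgebraic K e := by
    by_contra hcon
    push Not at hcon
    have key : ∀ x ∈ Algebra.adjoin A (s₀ : Set C), IsAlgebraic K (algebraMap C L x) := by
      intro x hmem
      induction hmem using Algebra.adjoin_induction with
      | mem x hx => exact hcon _ (Finset.mem_image_of_mem _ hx)
      | algebraMap a =>
        rw [← IsScalarTower.algebraMap_apply A C L, IsScalarTower.algebraMap_apply A K L]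
        exact isAlgebraic_algebraMap _
      | add x y _ _ ihx ihy => rw [map_add]; exact ihx.add ihy
      | mul x y _ _ ihx ihy => rw [map_mul]; exact ihx.mul ihy
    apply hc₀
    rw [← isAlgebraic_algebraMap_iff hinjCL, IsFractionRing.isAlgebraic_iff A K L]
    exact key c₀ (by rw [hs₀]; trivial)
  obtain ⟨K₁, hK₁tr, hK₁max⟩ := exists_maximal_intermediateField T hT0
  let V₁ : ValuationSubring ↥K₁ := V.comap (algebraMap ↥K₁ L)
  have hV₁ : ∀ x : ↥K₁, x ∈ V₁ ↔ algebraMap ↥K₁ L x ∈ V := fun x => ValuationSubring.mem_comap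
  letI : Algebra ↥V₁ L := ((algebraMap ↥K₁ L).comp (V₁.subtype)).toAlgebra
  haveI : IsScalarTower ↥V₁ ↥K₁ L := IsScalarTower.of_algebraMap_eq fun _ => rfl
  have hamapV₁ : ∀ a : ↥V₁, algebraMap ↥V₁ L a = algebraMap ↥K₁ L (a : ↥K₁) := fun _ => rfl
  -- the map `A → V₁`
  let ιK : A →+* ↥K₁ := (algebraMap K ↥K₁).comp (algebraMap A K)
  have hιK : ∀ a : A, algebraMap ↥K₁ L (ιK a) = algebraMap C L (algebraMap A C a) := by
    intro a
    change algebraMap ↥K₁ L (algebraMap K ↥K₁ (algebraMap A K a)) = _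
    rw [← IsScalarTower.algebraMap_apply K ↥K₁ L, ← IsScalarTower.algebraMap_apply A K L,
      IsScalarTower.algebraMap_apply A C L]
  have hAV₁ : ∀ a : A, ιK a ∈ V₁ := by
    intro a
    rw [hV₁, hιK]
    exact hCV _
  let ιA : A →+* ↥V₁ := ιK.codRestrict V₁.toSubring hAV₁
  have hιA : ∀ a : A, algebraMap ↥V₁ L (ιA a) = algebraMap C L (algebraMap A C a) := by
    intro a
    rw [hamapV₁]
    exact hιK a
  have hιAinj : Function.Injective ιA := by
    intro a b hab
    have := congrArg (algebraMap ↥V₁ L) hab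
    rw [hιA, hιA] at this
    exact hinj (hinjCL this)
  have hev : ∀ (p : A[X]) (c : C),
      aeval (algebraMap C L c) (p.map ιA) = algebraMap C L (aeval c p) := by
    intro p c
    rw [aeval_def, eval₂_map, aeval_def, hom_eval₂]
    congr 1
    ext a
    exact hιA a
  have hsV : ∀ e ∈ T, e ∈ V := by
    intro e he
    obtain ⟨c, -, rfl⟩ := Finset.mem_image.mp he
    exact hCV c
  have hunit : ∀ a : A, algebraMap A C a ∉ P' → IsUnit (ιA a) := by
    intro a ha
    rw [isUnit_iff_notMem_nonunits V V₁ hV₁]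
    have : algebraMap ↥K₁ L ((ιA a : ↥V₁) : ↥K₁) = algebraMap C L (algebraMap A C a) := hιK a
    rw [this, ← hP'V]
    exact ha
  have hnonunit : ∀ a : A, algebraMap A C a ∈ P' → ¬ IsUnit (ιA a) := by
    intro a ha
    rw [isUnit_iff_notMem_nonunits V V₁ hV₁, not_not]
    have : algebraMap ↥K₁ L ((ιA a : ↥V₁) : ↥K₁) = algebraMap C L (algebraMap A C a) := hιK a
    rw [this, ← hP'V]
    exact ha
  have hint : ∀ e ∈ T, ∃ p : (↥V₁)[X], p.Monic ∧ aeval e p ∈ V.nonunits := by
    intro e he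
    obtain ⟨c, -, rfl⟩ := Finset.mem_image.mp he
    obtain ⟨p, hlc, hp⟩ := halg c
    have hu : IsUnit (ιA p.leadingCoeff) := hunit _ hlc
    obtain ⟨u, hu1⟩ := isUnit_iff_exists_inv'.mp hu
    have hlc1 : (p.map ιA).leadingCoeff = ιA p.leadingCoeff :=
      Polynomial.leadingCoeff_map_of_leadingCoeff_ne_zero _ hu.ne_zero
    refine ⟨Polynomial.C u * p.map ιA,
      Polynomial.monic_C_mul_of_mul_leadingCoeff_eq_one (by rw [hlc1]; exact hu1), ?_⟩
    rw [map_mul, aeval_C, hev]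
    refine mul_mem_nonunits V ?_ ((hP'V _).mp hp)
    rw [hamapV₁]
    exact (hV₁ _).mp u.2
  have hmax : ∀ z : L, ¬ IsAlgebraic ↥K₁ z → ∀ e ∈ T,
      IsAlgebraic (IntermediateField.adjoin ↥K₁ {z}) e := by
    intro z hz e he
    let F : IntermediateField K L := (IntermediateField.adjoin ↥K₁ {z}).restrictScalars K
    have hle : K₁ ≤ F := by
      intro x hx
      exact (IntermediateField.adjoin ↥K₁ {z}).algebraMap_mem (⟨x, hx⟩ : ↥K₁)
    have hzF : z ∈ F := IntermediateField.mem_adjoin_simple_self ↥K₁ z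
    have hlt : K₁ < F := by
      refine lt_of_le_of_ne hle ?_
      intro heq
      apply hz
      have hzK₁ : z ∈ K₁ := heq ▸ hzF
      exact isAlgebraic_algebraMap (⟨z, hzK₁⟩ : ↥K₁)
    exact hK₁max F hlt e he
  obtain ⟨a₁, ha₁mem, ha₁0⟩ := Submodule.exists_mem_ne_zero_of_ne_bot hP'
  have hπ0 : ιA a₁ ≠ 0 := fun h0 => ha₁0 (hιAinj (h0.trans (map_zero ιA).symm))
  have hπ : ¬ IsUnit (ιA a₁) := hnonunit a₁ ha₁mem
  have hC₁ : ∀ c : C, algebraMap C L c ∈ Algebra.adjoin ↥V₁ (T : Set L) := by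
    have key : ∀ x ∈ Algebra.adjoin A (s₀ : Set C),
        algebraMap C L x ∈ Algebra.adjoin ↥V₁ (T : Set L) := by
      intro x hmem
      induction hmem using Algebra.adjoin_induction with
      | mem x hx => exact Algebra.subset_adjoin (Finset.mem_coe.mpr (Finset.mem_image_of_mem _ hx))
      | algebraMap a =>
        rw [← hιA]
        exact Subalgebra.algebraMap_mem _ _
      | add x y _ _ ihx ihy => rw [map_add]; exact add_mem ihx ihy
      | mul x y _ _ ihx ihy => rw [map_mul]; exact mul_mem ihx ihy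
    intro c
    exact key c (by rw [hs₀]; trivial)
  let C₁ := Algebra.adjoin ↥V₁ (T : Set L)
  let j : C →+* ↥C₁ := (algebraMap C L).codRestrict C₁.toSubring hC₁
  have hj : ∀ c : C, ((j c : ↥C₁) : L) = algebraMap C L c := fun _ => rfl
  have hjinj : Function.Injective j := by
    intro a b hab
    exact hinjCL (congrArg Subtype.val hab)
  have hg₁ : j g ≠ 0 := fun h0 => hg (hjinj (h0.trans (map_zero j).symm))
  obtain ⟨q₁, hq₁p, hq₁0, hq₁V, hq₁c, hq₁g⟩ :=
    exists_prime_adjoin V V₁ hV₁ T hsV hint hmax hK₁tr (ιA a₁) hπ0 hπ (j g) hg₁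
  refine ⟨q₁.comap j, Ideal.comap_isPrime j q₁, ?_, ?_, ?_, hq₁g⟩
  · obtain ⟨x, hxq, hx0⟩ := Submodule.exists_mem_ne_zero_of_ne_bot hq₁0
    obtain ⟨⟨c, c'⟩, hcc'⟩ := IsLocalization.surj (nonZeroDivisors C) ((x : ↥C₁) : L)
    simp only at hcc'
    have hjc : j c = x * j c' := Subtype.ext (by
      rw [hj]
      change _ = (x : L) * algebraMap C L c'
      exact hcc'.symm)
    have hcq : c ∈ q₁.comap j := by
      rw [Ideal.mem_comap, hjc]
      exact q₁.mul_mem_right _ hxq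
    intro hbot
    rw [hbot, Ideal.mem_bot] at hcq
    rw [hcq, map_zero] at hjc
    have hc'0 : j c' ≠ 0 := fun h0 =>
      nonZeroDivisors.ne_zero c'.2 (hjinj (h0.trans (map_zero j).symm))
    exact (mul_ne_zero hx0 hc'0) hjc.symm
  · intro c hc
    rw [hP'V, ← hj]
    exact hq₁V _ hc
  · rw [eq_bot_iff]
    intro a ha
    rw [Ideal.mem_bot]
    apply hιAinj
    rw [map_zero]
    have h1 : j (algebraMap A C a) = algebraMap ↥V₁ ↥C₁ (ιA a) :=
      Subtype.ext ((hj _).trans (hιA a).symm)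
    have h2 : ιA a ∈ q₁.comap (algebraMap ↥V₁ ↥C₁) := by
      rw [Ideal.mem_comap, ← h1]
      exact ha
    rw [hq₁c, Ideal.mem_bot] at h2
    exact h2


/-- Ring-level core: for a finite type algebra `A → C`, primes `P ≤ P'` of `C` over different
primes of `A`, with `κ(P')` algebraic over `κ(P' ∩ A)` (in the "leading coefficient" form), and
`g ∉ P`, there is a prime `Q` with `P ≤ Q ≤ P'` over `P ∩ A`, avoiding `g`, with `κ(Q)` algebraic
over `κ(P ∩ A)`. -/
theorem core {A C : Type u} [CommRing A] [CommRing C] [Algebra A C] [Algebra.FiniteType A C]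
    (P P' : Ideal C) [P.IsPrime] [P'.IsPrime] (hPP' : P ≤ P')
    (hne : P.comap (algebraMap A C) ≠ P'.comap (algebraMap A C))
    (halg : ∀ c : C, ∃ p : A[X], p.leadingCoeff ∉ P'.comap (algebraMap A C) ∧ aeval c p ∈ P')
    (g : C) (hg : g ∉ P) :
    ∃ Q : Ideal C, Q.IsPrime ∧ P ≤ Q ∧ Q ≤ P' ∧
      Q.comap (algebraMap A C) = P.comap (algebraMap A C) ∧ g ∉ Q ∧
      ∀ c : C, ∃ p : A[X], p.leadingCoeff ∉ P.comap (algebraMap A C) ∧ aeval c p ∈ Q := by
  classical
  let 𝔭 : Ideal A := P.comap (algebraMap A C)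
  let 𝔭' : Ideal A := P'.comap (algebraMap A C)
  have h𝔭𝔭' : 𝔭 ≤ 𝔭' := Ideal.comap_mono hPP'
  let N : Submonoid C :=
    (Algebra.algebraMapSubmonoid C 𝔭.primeCompl ⊔ Submonoid.powers g) ⊔ P'.primeCompl
  have hN1 : ∀ a : A, a ∉ 𝔭 → algebraMap A C a ∈ N := fun a ha =>
    (le_sup_left.trans le_sup_left : Algebra.algebraMapSubmonoid C 𝔭.primeCompl ≤ N)
      (Algebra.mem_algebraMapSubmonoid_of_mem (⟨a, ha⟩ : 𝔭.primeCompl))
  have hN2 : g ∈ N :=
    (le_sup_right.trans le_sup_left : Submonoid.powers g ≤ N) (Submonoid.mem_powers g)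
  have hN3 : ∀ s : C, s ∉ P' → s ∈ N := fun s hs =>
    (le_sup_right : P'.primeCompl ≤ N) hs
  -- prime ideals avoiding the three families are disjoint from `N`
  have hNdisj : ∀ J : Ideal C, J.IsPrime → (∀ a : A, a ∉ 𝔭 → algebraMap A C a ∉ J) → g ∉ J →
      J ≤ P' → Disjoint (J : Set C) N := by
    intro J hJ h1 h2 h3
    rw [Set.disjoint_left]
    intro x hxJ hxN
    obtain ⟨y, hy, z, hz, rfl⟩ := Submonoid.mem_sup.mp hxN
    obtain ⟨y₁, hy₁, y₂, hy₂, rfl⟩ := Submonoid.mem_sup.mp hy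
    obtain ⟨a, ha, rfl⟩ := hy₁
    obtain ⟨n, rfl⟩ := hy₂
    rcases hJ.mem_or_mem hxJ with h | h
    · rcases hJ.mem_or_mem h with h | h
      · exact h1 a ha h
      · exact h2 (hJ.mem_of_pow_mem n h)
    · exact hz (h3 h)
  have hPdisj : Disjoint (P : Set C) N :=
    hNdisj P inferInstance (fun a ha => ha) hg hPP'
  obtain ⟨Q, hPQ, hQmax⟩ := zorn_le_nonempty₀ {p : Ideal C | Disjoint (p : Set C) N}
    (fun c hc hc' x hx => by
      cases isEmpty_or_nonempty c
      · exact ⟨P, hPdisj, fun J hJ ↦ isEmptyElim (⟨J, hJ⟩ : c)⟩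
      refine ⟨sSup c, Set.disjoint_left.mpr fun x hx ↦ ?_, fun _ ↦ le_sSup⟩
      have ⟨p, hp⟩ := (Submodule.mem_iSup_of_directed _ hc'.directed).mp (sSup_eq_iSup' c ▸ hx)
      exact Set.disjoint_left.mp (hc p.2) hp) P hPdisj
  have hQdisj : Disjoint (Q : Set C) N := hQmax.1
  haveI hQprime : Q.IsPrime :=
    Ideal.isPrime_of_maximally_disjoint _ _ hQmax.1 (fun _ ↦ hQmax.not_prop_of_gt)
  have hQP' : Q ≤ P' := by
    intro x hx
    by_contra hxP'
    exact Set.disjoint_left.mp hQdisj hx (hN3 x hxP')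
  have hQg : g ∉ Q := fun h => Set.disjoint_left.mp hQdisj h hN2
  have hQ𝔭 : Q.comap (algebraMap A C) = 𝔭 := by
    apply le_antisymm
    · intro a ha
      by_contra ha𝔭
      exact Set.disjoint_left.mp hQdisj ha (hN1 a ha𝔭)
    · exact Ideal.comap_mono hPQ
  refine ⟨Q, hQprime, hPQ, hQP', hQ𝔭, hQg, ?_⟩
  by_contra hcon
  push Not at hcon
  obtain ⟨c₀, hc₀⟩ := hcon
  haveI h𝔭prime : 𝔭.IsPrime := Ideal.comap_isPrime _ P
  haveI hlo : Q.LiesOver 𝔭 := ⟨hQ𝔭.symm⟩
  haveI : IsDomain (A ⧸ 𝔭) := Ideal.Quotient.isDomain 𝔭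
  haveI : IsDomain (C ⧸ Q) := Ideal.Quotient.isDomain Q
  haveI : Algebra.FiniteType A (C ⧸ Q) :=
    Algebra.FiniteType.of_surjective (Ideal.Quotient.mkₐ A Q) (Ideal.Quotient.mkₐ_surjective A Q)
  haveI : Algebra.FiniteType (A ⧸ 𝔭) (C ⧸ Q) :=
    Algebra.FiniteType.of_restrictScalars_finiteType A (A ⧸ 𝔭) (C ⧸ Q)
  have hinj : Function.Injective (algebraMap (A ⧸ 𝔭) (C ⧸ Q)) :=
    FaithfulSMul.algebraMap_injective (A ⧸ 𝔭) (C ⧸ Q)
  have hmkmk : ∀ a : A, algebraMap (A ⧸ 𝔭) (C ⧸ Q) (Ideal.Quotient.mk 𝔭 a) =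
      Ideal.Quotient.mk Q (algebraMap A C a) := fun _ => rfl
  let P'' : Ideal (C ⧸ Q) := P'.map (Ideal.Quotient.mk Q)
  haveI : P''.IsPrime :=
    Ideal.map_isPrime_of_surjective Ideal.Quotient.mk_surjective (by rwa [Ideal.mk_ker])
  have hP''mem : ∀ x : C, Ideal.Quotient.mk Q x ∈ P'' ↔ x ∈ P' := fun x =>
    Ideal.mem_quotient_iff_mem hQP'
  have hev : ∀ (p : A[X]) (c : C), aeval (Ideal.Quotient.mk Q c) (p.map (Ideal.Quotient.mk 𝔭)) =
      Ideal.Quotient.mk Q (aeval c p) := by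
    intro p c
    rw [aeval_def, eval₂_map, aeval_def, hom_eval₂]
    rfl
  -- `P''` lies over a nonzero prime
  have hP'' : P''.comap (algebraMap (A ⧸ 𝔭) (C ⧸ Q)) ≠ ⊥ := by
    have : ∃ a ∈ 𝔭', a ∉ 𝔭 := by
      by_contra hall
      push Not at hall
      exact hne (le_antisymm h𝔭𝔭' hall)
    obtain ⟨a, ha', ha⟩ := this
    intro hbot
    have hmem : Ideal.Quotient.mk 𝔭 a ∈ P''.comap (algebraMap (A ⧸ 𝔭) (C ⧸ Q)) := by
      rw [Ideal.mem_comap, hmkmk, hP''mem]
      exact ha'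
    rw [hbot, Ideal.mem_bot, Ideal.Quotient.eq_zero_iff_mem] at hmem
    exact ha hmem
  have halg' : ∀ c : C ⧸ Q, ∃ p : (A ⧸ 𝔭)[X],
      p.leadingCoeff ∉ P''.comap (algebraMap (A ⧸ 𝔭) (C ⧸ Q)) ∧ aeval c p ∈ P'' := by
    intro c
    obtain ⟨c, rfl⟩ := Ideal.Quotient.mk_surjective c
    obtain ⟨p, hlc, hp⟩ := halg c
    have hlc0 : Ideal.Quotient.mk 𝔭 p.leadingCoeff ≠ 0 := by
      rw [Ne, Ideal.Quotient.eq_zero_iff_mem]
      exact fun h => hlc (h𝔭𝔭' h)
    refine ⟨p.map (Ideal.Quotient.mk 𝔭), ?_, ?_⟩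
    · rw [Polynomial.leadingCoeff_map_of_leadingCoeff_ne_zero _ hlc0, Ideal.mem_comap, hmkmk,
        hP''mem]
      exact hlc
    · rw [hev, hP''mem]
      exact hp
  have hc₀' : Transcendental (A ⧸ 𝔭) (Ideal.Quotient.mk Q c₀) := by
    rintro ⟨p', hp'0, hp'⟩
    obtain ⟨p, rfl, hdeg⟩ := Polynomial.exists_degree_eq_of_mem_lifts
      (Polynomial.mem_lifts_of_surjective (Ideal.Quotient.mk_surjective (I := 𝔭)) p')
    have hlc : p.leadingCoeff ∉ 𝔭 := by
      intro hmem
      have h0 : (p.map (Ideal.Quotient.mk 𝔭)).coeff p.natDegree = 0 := by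
        rw [coeff_map, Ideal.Quotient.eq_zero_iff_mem]
        exact hmem
      have hnd : (p.map (Ideal.Quotient.mk 𝔭)).natDegree = p.natDegree :=
        natDegree_eq_natDegree hdeg.symm
      rw [← hnd] at h0
      exact hp'0 (leadingCoeff_eq_zero.mp h0)
    apply hc₀ p hlc
    rw [hev] at hp'
    exact Ideal.Quotient.eq_zero_iff_mem.mp hp'
  have hg' : Ideal.Quotient.mk Q g ≠ 0 := by
    rw [Ne, Ideal.Quotient.eq_zero_iff_mem]
    exact hQg
  obtain ⟨q', hq'p, hq'0, hq'P, hq'c, hq'g⟩ :=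
    exists_prime_of_domain hinj P'' hP'' halg' _ hc₀' _ hg'
  let Q₂ : Ideal C := q'.comap (Ideal.Quotient.mk Q)
  haveI : Q₂.IsPrime := Ideal.comap_isPrime _ q'
  have hQQ₂ : Q ≤ Q₂ := by
    intro x hx
    change Ideal.Quotient.mk Q x ∈ q'
    rw [Ideal.Quotient.eq_zero_iff_mem.mpr hx]
    exact zero_mem _
  have hlt : Q < Q₂ := by
    refine lt_of_le_of_ne hQQ₂ ?_
    intro heq
    obtain ⟨y, hyq, hy0⟩ := Submodule.exists_mem_ne_zero_of_ne_bot hq'0
    obtain ⟨x, rfl⟩ := Ideal.Quotient.mk_surjective y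
    apply hy0
    rw [Ideal.Quotient.eq_zero_iff_mem, heq]
    exact hyq
  refine hQmax.not_prop_of_gt hlt (hNdisj Q₂ inferInstance ?_ ?_ ?_)
  · intro a ha hmem
    have h1 : Ideal.Quotient.mk 𝔭 a ∈ q'.comap (algebraMap (A ⧸ 𝔭) (C ⧸ Q)) := by
      rw [Ideal.mem_comap, hmkmk]
      exact hmem
    rw [hq'c, Ideal.mem_bot, Ideal.Quotient.eq_zero_iff_mem] at h1
    exact ha h1
  · exact hq'g
  · intro x hx
    rw [← hP''mem]
    exact hq'P hx


theorem exists_common_denom {A κs : Type*} [CommRing A] [Field κs] (evs : A →+* κs)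
    (hfrac : ∀ z : κs, ∃ a s : A, evs s ≠ 0 ∧ z * evs s = evs a) (t : Finset κs) :
    ∃ b : A, evs b ≠ 0 ∧ ∀ z ∈ t, ∃ a : A, z * evs b = evs a := by
  classical
  induction t using Finset.induction_on with
  | empty => exact ⟨1, by rw [map_one]; exact one_ne_zero, fun z hz => absurd hz (Finset.notMem_empty z)⟩
  | insert z₀ t _ ih =>
    obtain ⟨b, hb, hbt⟩ := ih
    obtain ⟨a₀, s₀, hs₀, h₀⟩ := hfrac z₀
    refine ⟨b * s₀, by rw [map_mul]; exact mul_ne_zero hb hs₀, ?_⟩
    intro z hz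
    rcases Finset.mem_insert.mp hz with rfl | hz
    · exact ⟨b * a₀, by rw [map_mul, map_mul, ← h₀]; ring⟩
    · obtain ⟨a, ha⟩ := hbt z hz
      exact ⟨a * s₀, by rw [map_mul, map_mul, ← ha]; ring⟩

theorem halg_of_isIntegral {A C κs κx : Type*} [CommRing A] [CommRing C] [Algebra A C]
    [Field κs] [Field κx] (evs : A →+* κs) (evx : C →+* κx) (ψ : κs →+* κx)
    (hnat : ∀ a : A, evx (algebraMap A C a) = ψ (evs a))
    (hfrac : ∀ z : κs, ∃ a s : A, evs s ≠ 0 ∧ z * evs s = evs a)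
    (hψ : ψ.IsIntegral) (c : C) :
    ∃ p : A[X], p.leadingCoeff ∉ (RingHom.ker evx).comap (algebraMap A C) ∧
      aeval c p ∈ RingHom.ker evx := by
  classical
  obtain ⟨q, hqm, hq⟩ := hψ (evx c)
  obtain ⟨b, hb, hbt⟩ := exists_common_denom evs hfrac q.coeffs
  have hq'0 : Polynomial.C (evs b) * q ≠ 0 :=
    mul_ne_zero (Polynomial.C_ne_zero.mpr hb) hqm.ne_zero
  have hlift : Polynomial.C (evs b) * q ∈ Polynomial.lifts evs := by
    rw [Polynomial.lifts_iff_coeff_lifts]
    intro n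
    rw [Polynomial.coeff_C_mul]
    by_cases h0 : q.coeff n = 0
    · exact ⟨0, by rw [h0, mul_zero, map_zero]⟩
    · obtain ⟨a, ha⟩ := hbt _ (Polynomial.coeff_mem_coeffs h0)
      exact ⟨a, by rw [← ha, mul_comm]⟩
  obtain ⟨p, hpmap, hdeg⟩ := Polynomial.exists_degree_eq_of_mem_lifts hlift
  have hlc : evs p.leadingCoeff ≠ 0 := by
    intro h0
    have h1 : (p.map evs).coeff p.natDegree = 0 := by rw [coeff_map]; exact h0
    have hnd : (p.map evs).natDegree = p.natDegree := by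
      rw [hpmap]; exact natDegree_eq_natDegree hdeg.symm
    rw [← hnd] at h1
    rw [hpmap] at h1
    exact hq'0 (leadingCoeff_eq_zero.mp h1)
  refine ⟨p, ?_, ?_⟩
  · rw [Ideal.mem_comap, RingHom.mem_ker, hnat]
    exact (map_ne_zero ψ).mpr hlc
  · rw [RingHom.mem_ker, aeval_def, hom_eval₂]
    have : evx.comp (algebraMap A C) = ψ.comp evs := RingHom.ext hnat
    rw [this, ← eval₂_map, hpmap, eval₂_mul, hq, mul_zero]

theorem isIntegral_of_halg {A C κs κx : Type*} [CommRing A] [CommRing C] [Algebra A C]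
    [Field κs] [Field κx] (evs : A →+* κs) (evx : C →+* κx) (ψ : κs →+* κx)
    (hnat : ∀ a : A, evx (algebraMap A C a) = ψ (evs a))
    (hfracx : ∀ z : κx, ∃ a s : C, evx s ≠ 0 ∧ z * evx s = evx a)
    (halg : ∀ c : C, ∃ p : A[X], p.leadingCoeff ∉ (RingHom.ker evx).comap (algebraMap A C) ∧
      aeval c p ∈ RingHom.ker evx) :
    ψ.IsIntegral := by
  letI : Algebra κs κx := ψ.toAlgebra
  have hcomp : evx.comp (algebraMap A C) = ψ.comp evs := RingHom.ext hnat
  have h1 : ∀ c : C, IsAlgebraic κs (evx c) := by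
    intro c
    obtain ⟨p, hlc, hp⟩ := halg c
    rw [Ideal.mem_comap, RingHom.mem_ker, hnat] at hlc
    refine ⟨p.map evs, ?_, ?_⟩
    · intro h0
      have h2 : (p.map evs).coeff p.natDegree = 0 := by rw [h0, coeff_zero]
      rw [coeff_map] at h2
      apply hlc
      change ψ (evs (p.coeff p.natDegree)) = 0
      rw [h2, map_zero]
    · rw [RingHom.mem_ker, aeval_def, hom_eval₂, hcomp, ← eval₂_map] at hp
      rw [aeval_def]
      exact hp
  intro z
  obtain ⟨a, s, hs, hz⟩ := hfracx z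
  have hz' : z = evx a * (evx s)⁻¹ := by
    rw [← hz, mul_assoc, mul_inv_cancel₀ hs, mul_one]
  have h2 : IsAlgebraic κs z := by
    rw [hz']
    exact (h1 a).mul (h1 s).inv
  exact h2.isIntegral

end Groth.Agent.Lib.Helper22.SpecDense
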