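import Mathlib
import Groth.Prelude.Def_MoreMor
import Groth.Prelude.Def_ProCons
import Groth.Agent.Lib.Helper16.ProConsMore
import Groth.Agent.Lib.Helper22.WeightingCons
import Groth.Agent.Lib.Helper22.WeightingFinite

/-!
# Constructibility of the fibre integral of a weighting (helper22)
-/

set_option autoImplicit false
set_option linter.style.haveILetI false
universe u
open AlgebraicGeometry CategoryTheory Limits Topology

namespace Groth.Agent.Lib.Helper22.Weighting

open Groth.Agent.Lib.Helper7 Groth.Agent.Lib.Helper16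

/-- Intersections of two ind-constructible subsets of a scheme are ind-constructible. -/
theorem isIndConstructible_inter {X : Scheme.{u}} {E E' : Set X}
    (hE : ProCons.IsIndConstructible E) (hE' : ProCons.IsIndConstructible E') :
    ProCons.IsIndConstructible (E ∩ E') := by
  intro x
  obtain ⟨W, hW, hxW⟩ := exists_affine_nhd x
  obtain ⟨_, _, _, _, _⟩ := spectral_of_isAffineOpen hW
  obtain ⟨S, hS, hES⟩ := exists_sUnion_of_isIndConstructible hE (W := (W : Set X)) W.2
  obtain ⟨S', hS', hES'⟩ := exists_sUnion_of_isIndConstructible hE' (W := (W : Set X)) W.2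
  refine ⟨W, W.2, hxW, Set.image2 (· ∩ ·) S S', ?_, ?_⟩
  · rintro _ ⟨C, hC, C', hC', rfl⟩
    exact ((hS C hC).inter (hS' C' hC')).isLocallyConstructible
  · rw [Set.preimage_inter, hES, hES']
    ext z
    simp only [Set.mem_inter_iff, Set.mem_sUnion, Set.mem_image2]
    constructor
    · rintro ⟨⟨C, hC, hzC⟩, ⟨C', hC', hzC'⟩⟩
      exact ⟨C ∩ C', ⟨C, hC, C', hC', rfl⟩, hzC, hzC'⟩
    · rintro ⟨_, ⟨C, hC, C', hC', rfl⟩, hzC, hzC'⟩
      exact ⟨⟨C, hC, hzC⟩, ⟨C', hC', hzC'⟩⟩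

/-- The intersection of an open subset with an ind-constructible subset is ind-constructible. -/
theorem isIndConstructible_opens_inter {V : Scheme.{u}} (T : V.Opens) {S₀ : Set V}
    (hS₀ : ProCons.IsIndConstructible S₀) : ProCons.IsIndConstructible ((T : Set V) ∩ S₀) := by
  have h1 := isIndConstructible_image T.ι _ (isIndConstructible_preimage T.ι hS₀)
  have h2 : T.ι.base '' (T.ι.base ⁻¹' S₀) = (T : Set V) ∩ S₀ := by
    rw [Set.image_preimage_eq_inter_range, Set.inter_comm]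
    congr 1
    exact T.range_ι
  rwa [h2] at h1

section Separated

variable {X Y : Scheme.{u}}

/-- For `f` separated, quasi-compact and locally quasi-finite, the fibre integral of a weighting is
constant on an ind-constructible subset around any given point of the base. -/
theorem exists_isIndConstructible_fibreIntegral_eq_of_isSeparated (f : X ⟶ Y)
    [LocallyQuasiFinite f] [LocallyOfFiniteType f] [IsSeparated f] [QuasiCompact f] {w : X → ℤ}
    (hw : MoreMor.IsWeighting f w) (y : Y) :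
    ∃ E : Set Y, ProCons.IsIndConstructible E ∧ y ∈ E ∧
      ∀ y' ∈ E, MoreMor.fibreIntegral f w y' = MoreMor.fibreIntegral f w y := by
  have hfin : ∀ y, (f ⁻¹' {y}).Finite := fun y => f.finite_preimage_singleton y
  have hp₀ := isPiece_empty f (𝟙 Y)
  obtain ⟨n, hn⟩ : ∃ n : ℕ, deg (pullback.snd f (𝟙 Y)) y = deg (Scheme.emptyTo Y) y + n := by
    refine ⟨(deg (pullback.snd f (𝟙 Y)) y).toNat, ?_⟩
    rw [Int.toNat_of_nonneg (deg_nonneg' _ y)]
    have : deg (Scheme.emptyTo Y) y = 0 :=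
      fibreIntegral_eq_zero_of_isEmpty _ _ _ (fun u => isEmptyElim u)
    rw [this, zero_add]
  obtain ⟨V', γ', _, v', hv', δ, hδ, U', a', π', hp', hcover⟩ :=
    exists_piece_covering_fibre f hfin n (𝟙 Y) hp₀ y hn
  have hδ' : δ = γ' := hδ.trans (Category.comp_id _)
  subst hδ'
  have := hp'.isFinite
  have := hp'.isOpenImmersion_lift
  obtain ⟨R, hR, hfinR, hsplit⟩ := hp'.exists_compl_in_pullback f hfin
  have hI : IsLocallyConstant (MoreMor.fibreIntegral π' (fun u => w (a' u))) :=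
    isLocallyConstant_of_isPiece hw hp'
  obtain ⟨T, hT⟩ : ∃ T : V'.Opens, (T : Set V') =
      {s | MoreMor.fibreIntegral π' (fun u => w (a' u)) s =
        MoreMor.fibreIntegral π' (fun u => w (a' u)) v'} :=
    ⟨⟨_, hI.isOpen_fiber _⟩, rfl⟩
  have hRcl : IsClosedImmersion R.ι := by
    apply IsClosedImmersion.of_isPreimmersion
    rw [Scheme.Opens.range_ι, hR]
    exact (pullback.lift a' π' hp'.comm).isOpenEmbedding.isOpen_range.isClosed_compl
  obtain ⟨S₀, hS₀⟩ : ∃ S₀ : Set V', S₀ =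
      ((R.ι ≫ pullback.snd f δ).base '' Set.univ)ᶜ := ⟨_, rfl⟩
  have hS₀ind : ProCons.IsIndConstructible S₀ := by
    rw [hS₀]
    apply isIndConstructible_compl
    exact isProConstructible_image _ _
      (isProConstructible_of_isLocallyConstructible IsLocallyConstructible.univ)
  have hmemS₀ : ∀ s : V', s ∈ S₀ ↔ ∀ r : R, (R.ι ≫ pullback.snd f δ) r ≠ s := by
    intro s
    rw [hS₀]
    constructor
    · intro hs r hr
      exact hs ⟨r, Set.mem_univ _, hr⟩
    · rintro hs ⟨r, -, hr⟩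
      exact hs r hr
  have hfst : ∀ u, pullback.fst f δ (pullback.lift a' π' hp'.comm u) = a' u := fun u => by
    rw [← Scheme.Hom.comp_apply, pullback.lift_fst]
  -- the key computation
  have key : ∀ v : V', v ∈ (T : Set V') ∩ S₀ → MoreMor.fibreIntegral f w (δ v) =
      MoreMor.fibreIntegral π' (fun u => w (a' u)) v' := by
    rintro v ⟨hvT, hvS⟩
    rw [hT] at hvT
    rw [hmemS₀] at hvS
    rw [← fibreIntegral_baseChange f hfin (pullback.snd f δ) (pullback.fst f δ) δ
      (IsPullback.of_hasPullback f δ) w v, hsplit (w ∘ ⇑(pullback.fst f δ)) v,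
      fibreIntegral_eq_zero_of_isEmpty (R.ι ≫ pullback.snd f δ) _ v hvS, add_zero]
    simp only [Function.comp_apply, hfst]
    exact hvT
  have hv'mem : v' ∈ (T : Set V') ∩ S₀ := by
    refine ⟨?_, ?_⟩
    · rw [hT]; rfl
    · rw [hmemS₀]
      intro r hr
      have h1 : R.ι r ∈ Set.range (pullback.lift a' π' hp'.comm) := hcover _ hr
      have h2 : R.ι r ∈ (R : Set ↥(pullback f δ)) := r.2
      rw [hR] at h2
      exact h2 h1
  refine ⟨δ.base '' ((T : Set V') ∩ S₀),
    isIndConstructible_image δ _ (isIndConstructible_opens_inter T hS₀ind),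
    ⟨v', hv'mem, hv'⟩, ?_⟩
  rintro _ ⟨v, hv, rfl⟩
  have h1 := key v hv
  have h2 := key v' hv'mem
  rw [hv'] at h2
  change MoreMor.fibreIntegral f w (δ v) = _
  rw [h1, h2]

end Separated

section Opens

variable {X Y : Scheme.{u}}

/-- The fibre integral over an open subscheme, as a sum over the geometric lifts landing in it. -/
theorem fibreIntegral_opens_eq (f : X ⟶ Y) [LocallyQuasiFinite f] (w : X → ℤ) (O : X.Opens)
    (Ω : Type u) [Field Ω] [IsAlgClosed Ω] (vb : Spec (CommRingCat.of Ω) ⟶ Y)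
    (hfin : (f ⁻¹' {vb (IsLocalRing.closedPoint Ω)}).Finite) :
    MoreMor.fibreIntegral (O.ι ≫ f) (w ∘ ⇑O.ι) (vb (IsLocalRing.closedPoint Ω)) =
      ∑ᶠ ū : GeomLifts f Ω vb, ∑ᶠ _ : ū.pt ∈ (O : Set X), w ū.pt := by
  have hfin' : ((O.ι ≫ f) ⁻¹' {vb (IsLocalRing.closedPoint Ω)}).Finite := by
    have : (O.ι ≫ f) ⁻¹' {vb (IsLocalRing.closedPoint Ω)} =
        O.ι ⁻¹' (f ⁻¹' {vb (IsLocalRing.closedPoint Ω)}) := rfl
    rw [this]
    exact hfin.preimage O.ι.isOpenEmbedding.injective.injOn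
  obtain ⟨-, h'⟩ := fibreIntegral_eq_finsum_geomLifts (O.ι ≫ f) Ω vb (w ∘ ⇑O.ι) hfin'
  rw [h']
  simp only [Function.comp_apply]
  rw [finsum_geomLifts_open O.ι f Ω vb w, finsum_subtype_eq_finsum_cond
    (f := fun ū : GeomLifts f Ω vb => w ū.pt) (fun ū => ū.pt ∈ Set.range O.ι),
    Scheme.Opens.range_ι]

/-- Inclusion–exclusion for fibre integrals over open subschemes. -/
theorem fibreIntegral_sup_add_inf (f : X ⟶ Y) [LocallyQuasiFinite f] (w : X → ℤ)
    (S U : X.Opens) (y : Y) (hfin : (f ⁻¹' {y}).Finite) :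
    MoreMor.fibreIntegral ((S ⊔ U).ι ≫ f) (w ∘ ⇑(S ⊔ U).ι) y +
        MoreMor.fibreIntegral ((S ⊓ U).ι ≫ f) (w ∘ ⇑(S ⊓ U).ι) y =
      MoreMor.fibreIntegral (S.ι ≫ f) (w ∘ ⇑S.ι) y +
        MoreMor.fibreIntegral (U.ι ≫ f) (w ∘ ⇑U.ι) y := by
  classical
  obtain ⟨Ω, _, _, vb, rfl⟩ := exists_geomPoint y
  obtain ⟨hF, -⟩ := fibreIntegral_eq_finsum_geomLifts f Ω vb w hfin
  rw [fibreIntegral_opens_eq f w _ Ω vb hfin, fibreIntegral_opens_eq f w _ Ω vb hfin,
    fibreIntegral_opens_eq f w _ Ω vb hfin, fibreIntegral_opens_eq f w _ Ω vb hfin]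
  letI := Fintype.ofFinite (GeomLifts f Ω vb)
  simp only [finsum_eq_sum_of_fintype, finsum_eq_if]
  rw [← Finset.sum_add_distrib, ← Finset.sum_add_distrib]
  refine Finset.sum_congr rfl fun ū _ => ?_
  simp only [TopologicalSpace.Opens.coe_sup, TopologicalSpace.Opens.coe_inf, Set.mem_union,
    Set.mem_inter_iff]
  by_cases h1 : ū.pt ∈ (S : Set X) <;> by_cases h2 : ū.pt ∈ (U : Set X) <;> simp [h1, h2]

/-- The fibre integral over the whole scheme, seen as an open subscheme of itself. -/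
theorem fibreIntegral_top_eq (f : X ⟶ Y) [LocallyQuasiFinite f] (w : X → ℤ) (y : Y)
    (hfin : (f ⁻¹' {y}).Finite) :
    MoreMor.fibreIntegral ((⊤ : X.Opens).ι ≫ f) (w ∘ ⇑(⊤ : X.Opens).ι) y =
      MoreMor.fibreIntegral f w y := by
  classical
  obtain ⟨Ω, _, _, vb, rfl⟩ := exists_geomPoint y
  obtain ⟨hF, h⟩ := fibreIntegral_eq_finsum_geomLifts f Ω vb w hfin
  rw [fibreIntegral_opens_eq f w _ Ω vb hfin, h]
  refine finsum_congr fun ū => ?_
  rw [finsum_eq_if, if_pos]
  exact Set.mem_univ _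

end Opens

section Main

variable {X Y : Scheme.{u}}

/-- Over an affine base: the fibre integral of a weighting over any quasi-compact open subscheme
of the source is constant on an ind-constructible subset around any given point. -/
theorem exists_isIndConstructible_fibreIntegral_opens_eq (f : X ⟶ Y) [LocallyQuasiFinite f]
    [LocallyOfFiniteType f] [QuasiCompact f] [QuasiSeparated f] [IsAffine Y] {w : X → ℤ}
    (hw : MoreMor.IsWeighting f w) (S : X.Opens) (hS : IsCompact (S : Set X)) :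
    ∀ y : Y, ∃ E : Set Y, ProCons.IsIndConstructible E ∧ y ∈ E ∧
      ∀ y' ∈ E, MoreMor.fibreIntegral (S.ι ≫ f) (w ∘ ⇑S.ι) y' =
        MoreMor.fibreIntegral (S.ι ≫ f) (w ∘ ⇑S.ι) y := by
  have hfin : ∀ y, (f ⁻¹' {y}).Finite := fun y => f.finite_preimage_singleton y
  have hqs : QuasiSeparatedSpace X := (HasAffineProperty.iff_of_isAffine (P := @QuasiSeparated)).mp
    (inferInstance : QuasiSeparated f)
  -- the separated case applies to compact opens contained in an affine open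
  have hsep : ∀ (O : X.Opens) (U : X.affineOpens), O ≤ U.1 → IsCompact (O : Set X) → ∀ y : Y,
      ∃ E : Set Y, ProCons.IsIndConstructible E ∧ y ∈ E ∧
        ∀ y' ∈ E, MoreMor.fibreIntegral (O.ι ≫ f) (w ∘ ⇑O.ι) y' =
          MoreMor.fibreIntegral (O.ι ≫ f) (w ∘ ⇑O.ι) y := by
    intro O U hOU hO y
    have : IsAffine (U.1 : Scheme.{u}) := U.2
    have h1 : IsSeparated (O.ι ≫ f) := by
      rw [← X.homOfLE_ι hOU, Category.assoc]
      infer_instance
    have h2 : CompactSpace ↥O := isCompact_iff_compactSpace.mp hO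
    have h3 : QuasiCompact (O.ι ≫ f) :=
      (HasAffineProperty.iff_of_isAffine (P := @QuasiCompact)).mpr h2
    exact exists_isIndConstructible_fibreIntegral_eq_of_isSeparated (O.ι ≫ f)
      (isWeighting_comp_openImmersion hw O.ι) y
  refine compact_open_induction_on (P := fun S : X.Opens => ∀ y : Y, ∃ E : Set Y,
    ProCons.IsIndConstructible E ∧ y ∈ E ∧
      ∀ y' ∈ E, MoreMor.fibreIntegral (S.ι ≫ f) (w ∘ ⇑S.ι) y' =
        MoreMor.fibreIntegral (S.ι ≫ f) (w ∘ ⇑S.ι) y) S hS ?_ ?_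
  · intro y
    refine ⟨Set.univ, isIndConstructible_of_isLocallyConstructible IsLocallyConstructible.univ,
      Set.mem_univ _, fun y' _ => ?_⟩
    rw [fibreIntegral_eq_zero_of_isEmpty _ _ _ (fun u : ↥(⊥ : X.Opens) => (u.2 : False).elim),
      fibreIntegral_eq_zero_of_isEmpty _ _ _ (fun u : ↥(⊥ : X.Opens) => (u.2 : False).elim)]
  · intro S hS U ih y
    obtain ⟨E₁, hE₁, hy₁, h₁⟩ := ih y
    obtain ⟨E₂, hE₂, hy₂, h₂⟩ := hsep U.1 U le_rfl U.2.isCompact y
    obtain ⟨E₃, hE₃, hy₃, h₃⟩ := hsep (S ⊓ U.1) U inf_le_right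
      (QuasiSeparatedSpace.inter_isCompact S.1 U.1.1 S.2 hS U.1.2 U.2.isCompact) y
    refine ⟨E₁ ∩ (E₂ ∩ E₃), isIndConstructible_inter hE₁ (isIndConstructible_inter hE₂ hE₃),
      ⟨hy₁, hy₂, hy₃⟩, ?_⟩
    rintro y' ⟨hy'₁, hy'₂, hy'₃⟩
    have e1 := fibreIntegral_sup_add_inf f w S U.1 y' (hfin y')
    have e2 := fibreIntegral_sup_add_inf f w S U.1 y (hfin y)
    rw [h₁ y' hy'₁, h₂ y' hy'₂, h₃ y' hy'₃] at e1
    linarith

/-- **Constructibility of the fibre integral**: for `f` locally quasi-finite, quasi-compact and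
quasi-separated and `w` a weighting of `f`, the fibre integral of `w` is constant on an
ind-constructible subset around any given point of the base. -/
theorem exists_isIndConstructible_fibreIntegral_eq (f : X ⟶ Y) [LocallyQuasiFinite f]
    [LocallyOfFiniteType f] [QuasiCompact f] [QuasiSeparated f] {w : X → ℤ}
    (hw : MoreMor.IsWeighting f w) (y : Y) :
    ∃ E : Set Y, ProCons.IsIndConstructible E ∧ y ∈ E ∧
      ∀ y' ∈ E, MoreMor.fibreIntegral f w y' = MoreMor.fibreIntegral f w y := by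
  have hfin : ∀ y, (f ⁻¹' {y}).Finite := fun y => f.finite_preimage_singleton y
  obtain ⟨Y₁, hY₁, hyY₁⟩ := exists_affine_nhd y
  have : IsAffine (Y₁ : Scheme.{u}) := hY₁
  have hw₁ : MoreMor.IsWeighting (pullback.snd f Y₁.ι) (w ∘ ⇑(pullback.fst f Y₁.ι)) :=
    isWeighting_baseChange hw (IsPullback.of_hasPullback f Y₁.ι)
  have hcomp : IsCompact ((⊤ : (pullback f Y₁.ι).Opens) : Set ↥(pullback f Y₁.ι)) := by
    have : CompactSpace ↥(pullback f Y₁.ι) :=
      (HasAffineProperty.iff_of_isAffine (P := @QuasiCompact)).mp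
        (inferInstance : QuasiCompact (pullback.snd f Y₁.ι))
    exact isCompact_univ
  have hfin₁ : ∀ y₁, ((pullback.snd f Y₁.ι) ⁻¹' {y₁}).Finite :=
    fun y₁ => (pullback.snd f Y₁.ι).finite_preimage_singleton y₁
  obtain ⟨E₁, hE₁, hyE₁, hE₁eq⟩ := exists_isIndConstructible_fibreIntegral_opens_eq
    (pullback.snd f Y₁.ι) hw₁ ⊤ hcomp ⟨y, hyY₁⟩
  have hbc : ∀ y₁ : ↥Y₁, MoreMor.fibreIntegral ((⊤ : (pullback f Y₁.ι).Opens).ι ≫
      pullback.snd f Y₁.ι) ((w ∘ ⇑(pullback.fst f Y₁.ι)) ∘ ⇑(⊤ : (pullback f Y₁.ι).Opens).ι) y₁ =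
        MoreMor.fibreIntegral f w (Y₁.ι y₁) := by
    intro y₁
    rw [fibreIntegral_top_eq _ _ _ (hfin₁ y₁)]
    exact fibreIntegral_baseChange f hfin (pullback.snd f Y₁.ι) (pullback.fst f Y₁.ι) Y₁.ι
      (IsPullback.of_hasPullback f Y₁.ι) w y₁
  refine ⟨Y₁.ι.base '' E₁, isIndConstructible_image Y₁.ι _ hE₁, ⟨⟨y, hyY₁⟩, hyE₁, rfl⟩, ?_⟩
  rintro _ ⟨y₁, hy₁, rfl⟩
  have h1 := hE₁eq y₁ hy₁
  rw [hbc, hbc] at h1
  exact h1

/-- The level sets of the fibre integral of a weighting are locally constructible. -/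
theorem isLocallyConstructible_fibreIntegral_levelSet (f : X ⟶ Y) [LocallyQuasiFinite f]
    [LocallyOfFiniteType f] [QuasiCompact f] [QuasiSeparated f] {w : X → ℤ}
    (hw : MoreMor.IsWeighting f w) (n : ℤ) :
    IsLocallyConstructible {y : Y | MoreMor.fibreIntegral f w y = n} :=
  isLocallyConstructible_setOf_eq _ (exists_isIndConstructible_fibreIntegral_eq f hw) n

end Main


end Groth.Agent.Lib.Helper22.Weighting
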