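import Mathlib
import Groth.Prelude.Def_MoreMor
import Groth.Agent.Lib.Helper7.FibreIntegral
import Groth.Agent.Lib.Helper22.WeightingLifts
import Groth.Agent.Lib.Helper22.WeightingPieces
import Groth.Agent.Lib.Helper22.WeightingSepNbhd
import Groth.Agent.Lib.Helper22.WeightingCore

/-!
# A pointwise criterion for weightings (helper22)

`GoodAt f w x`: there is an étale piece of `f` through `x` of geometric degree one at the point
below `x` such that the fibre integral of `w` over the piece is constant near that point.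
A function `w` is a weighting of the locally quasi-finite morphism `f` iff every point is good.
-/

set_option autoImplicit false
set_option linter.style.haveILetI false
universe u
open AlgebraicGeometry CategoryTheory Limits

namespace Groth.Agent.Lib.Helper22.Weighting

open Groth.Agent.Lib.Helper7

variable {X Y : Scheme.{u}} {f : X ⟶ Y}

/-- `x` is a good point for `w`: some étale piece of `f` through `x`, of geometric degree one at
the image point, has fibre integral of `w` constant near the image point. -/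
def GoodAt (f : X ⟶ Y) (w : X → ℤ) (x : X) : Prop :=
  ∃ (V : Scheme.{u}) (γ : V ⟶ Y) (_ : Etale γ) (U : Scheme.{u}) (a : U ⟶ X) (π : U ⟶ V)
    (_ : IsPiece f γ a π) (u : U), a u = x ∧ deg π (π u) = 1 ∧
      ∃ N : Set V, IsOpen N ∧ π u ∈ N ∧ ∀ v' ∈ N,
        MoreMor.fibreIntegral π (fun u => w (a u)) v' =
          MoreMor.fibreIntegral π (fun u => w (a u)) (π u)

/-- Every point is good for a weighting. -/
theorem goodAt_of_isWeighting [LocallyQuasiFinite f] [LocallyOfFiniteType f] {w : X → ℤ}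
    (hw : MoreMor.IsWeighting f w) (x : X) : GoodAt f w x := by
  obtain ⟨V, γ, hγ, U, a, π, hp, u, hau, hdeg⟩ := exists_etale_piece_deg_eq_one f x
  have hlc := isLocallyConstant_of_isPiece hw hp
  obtain ⟨N, hNo, hvN, hN⟩ := (IsLocallyConstant.iff_exists_open _).mp hlc (π u)
  exact ⟨V, γ, hγ, U, a, π, hp, u, hau, hdeg, N, hNo, hvN, hN⟩

/-- If every point is good, fibre integrals over all pieces (over arbitrary bases) are locally
constant. -/
theorem exists_open_fibreIntegral_eq_of_goodAt [LocallyQuasiFinite f] [LocallyOfFiniteType f]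
    {w : X → ℤ} (hw : ∀ x, GoodAt f w x) :
    ∀ (n : ℕ) {V U : Scheme.{u}} {γ : V ⟶ Y} {a : U ⟶ X} {π : U ⟶ V} (_ : IsPiece f γ a π) (v : V),
      deg π v = n → ∃ N : Set V, IsOpen N ∧ v ∈ N ∧ ∀ v' ∈ N,
        MoreMor.fibreIntegral π (fun u => w (a u)) v' =
          MoreMor.fibreIntegral π (fun u => w (a u)) v := by
  intro n
  induction n using Nat.strong_induction_on with
  | _ n ih =>
    intro V U γ a π hp v hn
    have := hp.isFinite
    rcases Nat.eq_zero_or_pos n with rfl | hnpos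
    · -- empty fibre
      have hempty : ∀ u, π u ≠ v := by
        intro u hu
        have h1 : (1 : ℤ) ≤ deg π (π u) :=
          le_fibreIntegral_of_pos π (fun _ => 1) (fun _ => one_pos) u
        rw [hu, hn] at h1
        simp at h1
      refine ⟨(Set.range π)ᶜ, ?_, ?_, ?_⟩
      · exact (π.isClosedMap.isClosed_range).isOpen_compl
      · rintro ⟨u, hu⟩; exact hempty u hu
      · intro v' hv'
        rw [fibreIntegral_eq_zero_of_isEmpty π _ v' (fun u hu => hv' ⟨u, hu⟩),
          fibreIntegral_eq_zero_of_isEmpty π _ v hempty]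
    · obtain ⟨u₀, hu₀⟩ : ∃ u, π u = v :=
        exists_of_fibreIntegral_ne_zero π (fun _ => 1) v (by
          change deg π v ≠ 0
          rw [hn]
          exact_mod_cast hnpos.ne')
      obtain ⟨V₂, γ₂, _, U₂, a₂, π₂, hp₂, u₂, hu₂, hdeg₂, N₂, hN₂o, hvN₂, hN₂⟩ := hw (a u₀)
      have := hp₂.isFinite
      -- the fibre product of the bases
      let p₁ := pullback.fst γ γ₂
      let p₂ := pullback.snd γ γ₂
      have hcond : p₁ ≫ γ = p₂ ≫ γ₂ := pullback.condition
      have hq₁ : IsPiece f (p₁ ≫ γ) (pullback.fst π p₁ ≫ a) (pullback.snd π p₁) :=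
        hp.baseChange p₁
      have hq₂ : IsPiece f (p₁ ≫ γ) (pullback.fst π₂ p₂ ≫ a₂) (pullback.snd π₂ p₂) := by
        rw [hcond]; exact hp₂.baseChange p₂
      -- common refinement
      obtain ⟨τ, hτ₁, hτ₂⟩ : ∃ τ : ↥(pullback a a₂),
          pullback.fst a a₂ τ = u₀ ∧ pullback.snd a a₂ τ = u₂ :=
        Scheme.Pullback.exists_preimage_pullback u₀ u₂ hu₂.symm
      have hθ : (pullback.fst a a₂ ≫ π) ≫ γ = (pullback.snd a a₂ ≫ π₂) ≫ γ₂ := by
        rw [Category.assoc, Category.assoc, ← hp.comm, ← hp₂.comm, ← Category.assoc,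
          ← Category.assoc, pullback.condition]
      let θ : pullback a a₂ ⟶ pullback γ γ₂ := pullback.lift _ _ hθ
      have hθ₁ : θ ≫ p₁ = pullback.fst a a₂ ≫ π := pullback.lift_fst _ _ _
      have hθ₂ : θ ≫ p₂ = pullback.snd a a₂ ≫ π₂ := pullback.lift_snd _ _ _
      let t₁ : pullback a a₂ ⟶ pullback π p₁ := pullback.lift (pullback.fst a a₂) θ hθ₁.symm
      let t₂ : pullback a a₂ ⟶ pullback π₂ p₂ := pullback.lift (pullback.snd a a₂) θ hθ₂.symm
      have ht₁f : t₁ ≫ pullback.fst π p₁ = pullback.fst a a₂ := pullback.lift_fst _ _ _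
      have ht₁s : t₁ ≫ pullback.snd π p₁ = θ := pullback.lift_snd _ _ _
      have ht₂f : t₂ ≫ pullback.fst π₂ p₂ = pullback.snd a a₂ := pullback.lift_fst _ _ _
      have ht₂s : t₂ ≫ pullback.snd π₂ p₂ = θ := pullback.lift_snd _ _ _
      have ha : t₁ ≫ (pullback.fst π p₁ ≫ a) = t₂ ≫ (pullback.fst π₂ p₂ ≫ a₂) := by
        rw [← Category.assoc, ← Category.assoc, ht₁f, ht₂f, pullback.condition]
      have hπ' : t₁ ≫ pullback.snd π p₁ = t₂ ≫ pullback.snd π₂ p₂ := by rw [ht₁s, ht₂s]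
      clear_value t₁ t₂ θ
      -- the point
      have hv''₂ : pullback.snd π₂ p₂ (t₂ τ) = θ τ := by
        rw [← Scheme.Hom.comp_apply, ht₂s]
      have hp₁v'' : p₁ (θ τ) = v := by
        rw [← Scheme.Hom.comp_apply, hθ₁, Scheme.Hom.comp_apply, hτ₁, hu₀]
      have hp₂v'' : p₂ (θ τ) = π₂ u₂ := by
        rw [← Scheme.Hom.comp_apply, hθ₂, Scheme.Hom.comp_apply, hτ₂]
      have hdeg'' : deg (pullback.snd π₂ p₂) (pullback.snd π₂ p₂ (t₂ τ)) = 1 := by
        rw [hv''₂, deg_pullback_snd, hp₂v'', hdeg₂]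
      obtain ⟨V₁, hvV₁, R, aR, πR, hR, hsum⟩ := hq₁.exists_peel hq₂ t₁ t₂ ha hπ' τ hdeg''
      rw [hv''₂] at hvV₁
      -- integrals over the base-changed pieces
      have hI₁ : ∀ (w' : X → ℤ) (z : ↥(pullback γ γ₂)),
          MoreMor.fibreIntegral (pullback.snd π p₁) (fun u => w' ((pullback.fst π p₁ ≫ a) u)) z =
            MoreMor.fibreIntegral π (fun u => w' (a u)) (p₁ z) :=
        fun w' z => fibreIntegral_pullback_snd π p₁ (fun u => w' (a u)) z
      have hI₂ : ∀ (w' : X → ℤ) (z : ↥(pullback γ γ₂)),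
          MoreMor.fibreIntegral (pullback.snd π₂ p₂)
            (fun u => w' ((pullback.fst π₂ p₂ ≫ a₂) u)) z =
            MoreMor.fibreIntegral π₂ (fun u => w' (a₂ u)) (p₂ z) :=
        fun w' z => fibreIntegral_pullback_snd π₂ p₂ (fun u => w' (a₂ u)) z
      let v₁ : V₁ := ⟨θ τ, hvV₁⟩
      have hιv₁ : V₁.ι v₁ = θ τ := rfl
      -- the degree of the remainder
      have hdegR : deg πR v₁ = ((n - 1 : ℕ) : ℤ) := by
        have h := hsum (fun _ => 1) v₁
        rw [hιv₁] at h
        change deg (pullback.snd π p₁) (θ τ) = deg (pullback.snd π₂ p₂) (θ τ) + deg πR v₁ at h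
        rw [deg_pullback_snd, deg_pullback_snd, hp₁v'', hp₂v'', hn, hdeg₂] at h
        have : ((n - 1 : ℕ) : ℤ) = (n : ℤ) - 1 := by
          rw [Nat.cast_sub hnpos]; simp
        rw [this]
        linarith
      obtain ⟨NR, hNRo, hvNR, hNR⟩ := ih (n - 1) (by omega) hR v₁ hdegR
      -- the neighbourhood
      have hp₁open : IsOpenMap p₁ := p₁.isOpenMap
      refine ⟨p₁ '' (V₁.ι '' NR ∩ p₂ ⁻¹' N₂), ?_, ?_, ?_⟩
      · apply hp₁open
        exact (V₁.ι.isOpenEmbedding.isOpenMap _ hNRo).inter (hN₂o.preimage p₂.continuous)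
      · exact ⟨θ τ, ⟨⟨v₁, hvNR, hιv₁⟩, by rw [Set.mem_preimage, hp₂v'']; exact hvN₂⟩, hp₁v''⟩
      · rintro _ ⟨z, ⟨⟨z₁, hz₁, rfl⟩, hz₂⟩, rfl⟩
        rw [← hI₁ w, hsum w z₁, hI₂ w, hN₂ _ hz₂, hNR z₁ hz₁, ← hp₁v'', ← hI₁ w, ← hιv₁, hsum w v₁,
          hI₂ w, hιv₁, hp₂v'']

/-- **Pointwise criterion**: if every point of `X` is good for `w`, then `w` is a weighting. -/
theorem isWeighting_of_goodAt [LocallyQuasiFinite f] [LocallyOfFiniteType f] {w : X → ℤ}
    (hw : ∀ x, GoodAt f w x) : MoreMor.IsWeighting f w := by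
  intro V γ _ O hO
  have hp : IsPiece f γ (O.ι ≫ pullback.fst f γ) (O.ι ≫ pullback.snd f γ) := IsPiece.of_opens O hO
  rw [IsLocallyConstant.iff_exists_open]
  intro v
  obtain ⟨n, hn⟩ : ∃ n : ℕ, deg (O.ι ≫ pullback.snd f γ) v = n :=
    ⟨(deg (O.ι ≫ pullback.snd f γ) v).toNat, (Int.toNat_of_nonneg (deg_nonneg _ v)).symm⟩
  exact exists_open_fibreIntegral_eq_of_goodAt hw n hp v hn

end Groth.Agent.Lib.Helper22.Weighting
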