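import Mathlib
import Groth.Prelude.Def_MoreMor
import Groth.Prelude.Def_ProCons
import Groth.Agent.Lib.Helper16.ProConsMore
import Groth.Agent.Lib.Helper22.WeightingCons
import Groth.Agent.Lib.Helper22.WeightingConsInt
import Groth.Agent.Lib.Helper22.WeightingGood

/-!
# Good points of weightings: base change and ind-constructibility (helper22)
-/

set_option autoImplicit false
set_option linter.style.haveILetI false
universe u
open AlgebraicGeometry CategoryTheory Limits Topology

namespace Groth.Agent.Lib.Helper22.Weighting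

open Groth.Agent.Lib.Helper7 Groth.Agent.Lib.Helper16

variable {X Y : Scheme.{u}} {f : X ⟶ Y}

/-- Points of a pullback square of schemes with prescribed compatible images. -/
theorem exists_preimage_of_isPullback {P A B S : Scheme.{u}} {p : P ⟶ A} {q : P ⟶ B} {f : A ⟶ S}
    {g : B ⟶ S} (h : IsPullback p q f g) (x : A) (y : B) (hxy : f x = g y) :
    ∃ z : P, p z = x ∧ q z = y := by
  obtain ⟨z₀, hz₁, hz₂⟩ := Scheme.Pullback.exists_preimage_pullback x y hxy
  refine ⟨h.isoPullback.inv z₀, ?_, ?_⟩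
  · rw [← Scheme.Hom.comp_apply, IsPullback.isoPullback_inv_fst, hz₁]
  · rw [← Scheme.Hom.comp_apply, IsPullback.isoPullback_inv_snd, hz₂]

/-- A piece of `f` whose structure maps factor through a base change `f'` of `f` is a piece of
`f'`. -/
theorem IsPiece.of_isPullback_of_isPiece {X' Y' : Scheme.{u}} {f' : X' ⟶ Y'} {h : X' ⟶ X}
    {g : Y' ⟶ Y} (hc : IsPullback h f' f g) {V U : Scheme.{u}} {γ' : V ⟶ Y'} {a' : U ⟶ X'}
    {π : U ⟶ V} (hcomm : a' ≫ f' = π ≫ γ') (hp : IsPiece f (γ' ≫ g) (a' ≫ h) π) :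
    IsPiece f' γ' a' π := by
  have hP : IsPullback (pullback.fst f' γ' ≫ h) (pullback.snd f' γ') f (γ' ≫ g) :=
    (IsPullback.of_hasPullback f' γ').paste_horiz hc
  have h1 := hp.isOpenImmersion_lift_of_isPullback hP
  have h2 : hP.lift (a' ≫ h) π hp.comm = pullback.lift a' π hcomm := by
    apply hP.hom_ext
    · rw [IsPullback.lift_fst, ← Category.assoc, pullback.lift_fst]
    · rw [IsPullback.lift_snd, pullback.lift_snd]
  rw [h2] at h1
  exact ⟨hcomm, h1, hp.isFinite⟩

/-- Base change of a piece along a base change square. -/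
theorem IsPiece.of_baseChange_square {X' Y' : Scheme.{u}} {f' : X' ⟶ Y'} {h : X' ⟶ X}
    {g : Y' ⟶ Y} (hc : IsPullback h f' f g) {V U : Scheme.{u}} {γ : V ⟶ Y} {a : U ⟶ X}
    {π : U ⟶ V} (hp : IsPiece f γ a π) {V' : Scheme.{u}} {k : V' ⟶ V} {γ' : V' ⟶ Y'}
    (hV : IsPullback k γ' γ g) (a' : pullback π k ⟶ X')
    (ha₁ : a' ≫ h = pullback.fst π k ≫ a) (ha₂ : a' ≫ f' = pullback.snd π k ≫ γ') :
    IsPiece f' γ' a' (pullback.snd π k) ∧ IsPullback (pullback.fst π k) a' a h := by
  constructor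
  · apply IsPiece.of_isPullback_of_isPiece hc ha₂
    rw [ha₁, ← hV.w]
    exact hp.baseChange k
  · have hbig : IsPullback (pullback.fst π k) (pullback.snd π k ≫ γ') (π ≫ γ) g :=
      (IsPullback.of_hasPullback π k).paste_vert hV
    rw [← ha₂, ← hp.comm] at hbig
    exact IsPullback.of_bot hbig ha₁.symm hc

/-- **Base change of good points.** -/
theorem GoodAt.baseChange {X' Y' : Scheme.{u}} {f' : X' ⟶ Y'} {h : X' ⟶ X} {g : Y' ⟶ Y}
    (hc : IsPullback h f' f g) {w : X → ℤ} {x' : X'} (hgood : GoodAt f w (h x')) :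
    GoodAt f' (w ∘ ⇑h) x' := by
  obtain ⟨V, γ, _, U, a, π, hp, u, hau, hdeg, N, hNo, huN, hN⟩ := hgood
  have := hp.isFinite
  let k := pullback.fst γ g
  let γ' := pullback.snd γ g
  have hV : IsPullback k γ' γ g := IsPullback.of_hasPullback γ g
  have hcomm : (pullback.fst π k ≫ a) ≫ f = (pullback.snd π k ≫ γ') ≫ g := by
    rw [Category.assoc, hp.comm, ← Category.assoc, pullback.condition, Category.assoc, hV.w,
      Category.assoc]
  let a' : pullback π k ⟶ X' := hc.lift (pullback.fst π k ≫ a) (pullback.snd π k ≫ γ') hcomm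
  have ha₁ : a' ≫ h = pullback.fst π k ≫ a := hc.lift_fst _ _ _
  have ha₂ : a' ≫ f' = pullback.snd π k ≫ γ' := hc.lift_snd _ _ _
  obtain ⟨hp', hpb⟩ := hp.of_baseChange_square hc hV a' ha₁ ha₂
  obtain ⟨u', hu'₁, hu'₂⟩ := exists_preimage_of_isPullback hpb u x' hau
  have hk : k (pullback.snd π k u') = π u := by
    rw [← Scheme.Hom.comp_apply, ← pullback.condition, Scheme.Hom.comp_apply, hu'₁]
  have hfun : (fun z => (w ∘ ⇑h) (a' z)) = (fun u => w (a u)) ∘ ⇑(pullback.fst π k) := by
    funext z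
    simp only [Function.comp_apply]
    rw [← Scheme.Hom.comp_apply, ha₁, Scheme.Hom.comp_apply]
  refine ⟨pullback γ g, γ', inferInstance, pullback π k, a', pullback.snd π k, hp', u', hu'₂, ?_,
    k ⁻¹' N, hNo.preimage k.continuous, ?_, ?_⟩
  · rw [deg_pullback_snd, hk, hdeg]
  · rw [Set.mem_preimage, hk]; exact huN
  · intro v' hv'
    rw [hfun, fibreIntegral_pullback_snd, fibreIntegral_pullback_snd, hk]
    exact hN _ hv'

/-- A subset of a scheme each of whose points has an ind-constructible neighbourhood inside the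
subset is ind-constructible. -/
theorem isIndConstructible_of_forall_exists_subset {X : Scheme.{u}} {G : Set X}
    (h : ∀ x ∈ G, ∃ E : Set X, ProCons.IsIndConstructible E ∧ x ∈ E ∧ E ⊆ G) :
    ProCons.IsIndConstructible G := by
  choose E hE hxE hEG using h
  have : G = ⋃ x : G, E x.1 x.2 := by
    ext x
    simp only [Set.mem_iUnion]
    constructor
    · intro hx
      exact ⟨⟨x, hx⟩, hxE x hx⟩
    · rintro ⟨⟨y, hy⟩, hx⟩
      exact hEG y hy hx
  rw [this]
  exact isIndConstructible_iUnion _ fun x => hE x.1 x.2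

/-- **The set of good points is ind-constructible.** -/
theorem isIndConstructible_setOf_goodAt (f : X ⟶ Y) (w : X → ℤ) :
    ProCons.IsIndConstructible {x : X | GoodAt f w x} := by
  apply isIndConstructible_of_forall_exists_subset
  rintro x ⟨V, γ, hγ, U, a, π, hp, u, hau, hdeg, N, hNo, huN, hN⟩
  have := hp.isFinite
  have := hp.etale_a
  obtain ⟨S₀, hS₀⟩ : ∃ S₀ : Set V, S₀ =
      ((pullback.fst π π ≫ π).base '' (Set.range (pullback.diagonal π))ᶜ)ᶜ := ⟨_, rfl⟩
  have hS₀ind : ProCons.IsIndConstructible S₀ := by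
    rw [hS₀]; exact isIndConstructible_compl_image_compl_range_diagonal π
  have hmemS₀ : ∀ s : V, s ∈ S₀ ↔ ∀ z : ↥(pullback π π), (pullback.fst π π ≫ π) z = s →
      z ∈ Set.range (pullback.diagonal π) := by
    intro s
    rw [hS₀]
    constructor
    · intro hs z hz
      by_contra hzr
      exact hs ⟨z, hzr, hz⟩
    · rintro hs ⟨z, hzr, hz⟩
      exact hzr (hs z hz)
  refine ⟨a.base '' (π.base ⁻¹' (((⟨N, hNo⟩ : V.Opens) : Set V) ∩ S₀)),
    isIndConstructible_image a _ (isIndConstructible_preimage π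
      (isIndConstructible_opens_inter ⟨N, hNo⟩ hS₀ind)), ⟨u, ⟨huN, ?_⟩, hau⟩, ?_⟩
  · rw [hmemS₀]
    exact fun z hz => mem_range_diagonal_of_deg_eq_one π (π u) hdeg z hz
  · rintro _ ⟨u', ⟨hu'N, hu'S⟩, rfl⟩
    have hu'N' : π u' ∈ N := hu'N
    have hu'S' : π u' ∈ S₀ := hu'S
    rw [hmemS₀] at hu'S'
    have hdeg' : deg π (π u') = 1 := deg_eq_one_of_forall_mem_range_diagonal π u' hu'S'
    refine ⟨V, γ, hγ, U, a, π, hp, u', rfl, hdeg', N, hNo, hu'N', fun v' hv' => ?_⟩
    rw [hN v' hv', hN _ hu'N']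

end Groth.Agent.Lib.Helper22.Weighting
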