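import Mathlib
import Groth.Prelude.Def_MoreMor
import Groth.Prelude.Def_ProCons
import Groth.Agent.Lib.Helper16.ProConsMore
import Groth.Agent.Lib.Helper22.WeightingCons
import Groth.Agent.Lib.Helper22.WeightingConsInt
import Groth.Agent.Lib.Helper22.WeightingGoodBC

/-!
# A pointwise criterion for universal openness of locally quasi-finite morphisms (helper22)

`UGoodAt f x`: there is an étale piece of `f` through `x`, of geometric degree one at the point
below `x`, whose projection is surjective onto a neighbourhood of that point.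
-/

set_option autoImplicit false
set_option linter.style.haveILetI false
universe u
open AlgebraicGeometry CategoryTheory Limits Topology

namespace Groth.Agent.Lib.Helper22.Weighting

open Groth.Agent.Lib.Helper7 Groth.Agent.Lib.Helper16

variable {X Y : Scheme.{u}} {f : X ⟶ Y}

/-- `x` is a good point for universal openness. -/
def UGoodAt (f : X ⟶ Y) (x : X) : Prop :=
  ∃ (V : Scheme.{u}) (γ : V ⟶ Y) (_ : Etale γ) (U : Scheme.{u}) (a : U ⟶ X) (π : U ⟶ V)
    (_ : IsPiece f γ a π) (u : U), a u = x ∧ deg π (π u) = 1 ∧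
      ∃ N : Set V, IsOpen N ∧ π u ∈ N ∧ N ⊆ Set.range π

/-- Every point is good for a universally open locally quasi-finite morphism. -/
theorem uGoodAt_of_universallyOpen [LocallyQuasiFinite f] [LocallyOfFiniteType f]
    [UniversallyOpen f] (x : X) : UGoodAt f x := by
  obtain ⟨V, γ, hγ, U, a, π, hp, u, hau, hdeg⟩ := exists_etale_piece_deg_eq_one f x
  have := hp.isOpenImmersion_lift
  have hπ : π = pullback.lift a π hp.comm ≫ pullback.snd f γ := (pullback.lift_snd _ _ _).symm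
  have hopen : IsOpenMap π := by
    rw [hπ]
    exact (pullback.lift a π hp.comm ≫ pullback.snd f γ).isOpenMap
  exact ⟨V, γ, hγ, U, a, π, hp, u, hau, hdeg, Set.range π, hopen.isOpen_range, ⟨u, rfl⟩,
    subset_rfl⟩

/-- If every point is good, the morphism is open. -/
theorem isOpenMap_of_uGoodAt (h : ∀ x, UGoodAt f x) : IsOpenMap f := by
  intro O hO
  rw [isOpen_iff_mem_nhds]
  rintro _ ⟨x, hxO, rfl⟩
  obtain ⟨V, γ, _, U, a, π, hp, u, hau, hdeg, N, hNo, huN, hN⟩ := h x
  have := hp.isFinite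
  have hcl : IsClosed (π '' (a ⁻¹' O)ᶜ) :=
    π.isClosedMap _ (hO.preimage a.continuous).isClosed_compl
  have hsub : γ '' (N ∩ (π '' (a ⁻¹' O)ᶜ)ᶜ) ⊆ f '' O := by
    rintro _ ⟨v', ⟨hv'N, hv'⟩, rfl⟩
    obtain ⟨u'', rfl⟩ := hN hv'N
    have hu'' : u'' ∈ a ⁻¹' O := by
      by_contra hcon
      exact hv' ⟨u'', hcon, rfl⟩
    refine ⟨a u'', hu'', ?_⟩
    rw [← Scheme.Hom.comp_apply, ← Scheme.Hom.comp_apply, hp.comm]
  refine Filter.mem_of_superset ?_ hsub
  have hfx : f x = γ (π u) := by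
    rw [← hau, ← Scheme.Hom.comp_apply, ← Scheme.Hom.comp_apply, hp.comm]
  rw [hfx]
  refine (γ.isOpenMap _ (hNo.inter hcl.isOpen_compl)).mem_nhds ⟨π u, ⟨huN, ?_⟩, rfl⟩
  rintro ⟨u', hu', hπu'⟩
  have : u' = u := eq_of_deg_eq_one π u u' hdeg hπu'
  rw [this] at hu'
  apply hu'
  change a u ∈ O
  rw [hau]
  exact hxO

/-- Base change of good points. -/
theorem UGoodAt.baseChange {X' Y' : Scheme.{u}} {f' : X' ⟶ Y'} {h : X' ⟶ X} {g : Y' ⟶ Y}
    (hc : IsPullback h f' f g) {x' : X'} (hgood : UGoodAt f (h x')) : UGoodAt f' x' := by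
  obtain ⟨V, γ, _, U, a, π, hp, u, hau, hdeg, N, hNo, huN, hN⟩ := hgood
  have := hp.isFinite
  let k := pullback.fst γ g
  let γ' := pullback.snd γ g
  have hV : IsPullback k γ' γ g := IsPullback.of_hasPullback γ g
  have hcomm : (pullback.fst π k ≫ a) ≫ f = (pullback.snd π k ≫ γ') ≫ g := by
    rw [Category.assoc, hp.comm, ← Category.assoc, pullback.condition, Category.assoc, hV.w,
      Category.assoc]
  let a' : pullback π k ⟶ X' := hc.lift (pullback.fst π k ≫ a) (pullback.snd π k ≫ γ') hcomm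
  have ha₁ : a' ≫ h = pullback.fst π k ≫ a := hc.lift_fst _ _ _
  have ha₂ : a' ≫ f' = pullback.snd π k ≫ γ' := hc.lift_snd _ _ _
  obtain ⟨hp', hpb⟩ := hp.of_baseChange_square hc hV a' ha₁ ha₂
  obtain ⟨u', hu'₁, hu'₂⟩ := exists_preimage_of_isPullback hpb u x' hau
  have hk : k (pullback.snd π k u') = π u := by
    rw [← Scheme.Hom.comp_apply, ← pullback.condition, Scheme.Hom.comp_apply, hu'₁]
  refine ⟨pullback γ g, γ', inferInstance, pullback π k, a', pullback.snd π k, hp', u', hu'₂, ?_,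
    k ⁻¹' N, hNo.preimage k.continuous, ?_, ?_⟩
  · rw [deg_pullback_snd, hk, hdeg]
  · rw [Set.mem_preimage, hk]; exact huN
  · intro v' hv'
    obtain ⟨u₁, hu₁⟩ := hN hv'
    obtain ⟨z, -, hz⟩ := Scheme.Pullback.exists_preimage_pullback (f := π) (g := k) u₁ v' hu₁
    exact ⟨z, hz⟩

/-- **Pointwise criterion for universal openness.** -/
theorem universallyOpen_of_uGoodAt (h : ∀ x, UGoodAt f x) : UniversallyOpen f := by
  refine ⟨fun X' Y' i₁ i₂ f' hc => ?_⟩
  have hc' : IsPullback i₁ f' f i₂ := hc.flip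
  exact isOpenMap_of_uGoodAt fun x' => (h (i₁ x')).baseChange hc'

/-- **The set of good points is ind-constructible.** -/
theorem isIndConstructible_setOf_uGoodAt (f : X ⟶ Y) :
    ProCons.IsIndConstructible {x : X | UGoodAt f x} := by
  apply isIndConstructible_of_forall_exists_subset
  rintro x ⟨V, γ, hγ, U, a, π, hp, u, hau, hdeg, N, hNo, huN, hN⟩
  have := hp.isFinite
  have := hp.etale_a
  obtain ⟨S₀, hS₀⟩ : ∃ S₀ : Set V, S₀ =
      ((pullback.fst π π ≫ π).base '' (Set.range (pullback.diagonal π))ᶜ)ᶜ := ⟨_, rfl⟩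
  have hS₀ind : ProCons.IsIndConstructible S₀ := by
    rw [hS₀]; exact isIndConstructible_compl_image_compl_range_diagonal π
  have hmemS₀ : ∀ s : V, s ∈ S₀ ↔ ∀ z : ↥(pullback π π), (pullback.fst π π ≫ π) z = s →
      z ∈ Set.range (pullback.diagonal π) := by
    intro s
    rw [hS₀]
    constructor
    · intro hs z hz
      by_contra hzr
      exact hs ⟨z, hzr, hz⟩
    · rintro hs ⟨z, hzr, hz⟩
      exact hzr (hs z hz)
  refine ⟨a.base '' (π.base ⁻¹' (((⟨N, hNo⟩ : V.Opens) : Set V) ∩ S₀)),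
    isIndConstructible_image a _ (isIndConstructible_preimage π
      (isIndConstructible_opens_inter ⟨N, hNo⟩ hS₀ind)), ⟨u, ⟨huN, ?_⟩, hau⟩, ?_⟩
  · rw [hmemS₀]
    exact fun z hz => mem_range_diagonal_of_deg_eq_one π (π u) hdeg z hz
  · rintro _ ⟨u', ⟨hu'N, hu'S⟩, rfl⟩
    have hu'N' : π u' ∈ N := hu'N
    have hu'S' : π u' ∈ S₀ := hu'S
    rw [hmemS₀] at hu'S'
    have hdeg' : deg π (π u') = 1 := deg_eq_one_of_forall_mem_range_diagonal π u' hu'S'
    exact ⟨V, γ, hγ, U, a, π, hp, u', rfl, hdeg', N, hNo, hu'N', hN⟩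

end Groth.Agent.Lib.Helper22.Weighting
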