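import Mathlib
import Groth.Prelude.Def_MoreMor
import Groth.Prelude.Def_ProCons
import Groth.Agent.Lib.Helper16.ProConsMore
import Groth.Agent.Lib.Helper22.WeightingCons
import Groth.Agent.Lib.Helper22.WeightingConsInt
import Groth.Agent.Lib.Helper22.WeightingPeel

/-!
# Constructibility of fibre integrals of constructible functions (helper22)

For `f` locally of finite presentation and `w : X → ℤ` with ind-constructible level sets, the
fibre integral of `w` over any piece of `f` has locally constructible level sets.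
-/

set_option autoImplicit false
set_option linter.style.haveILetI false
universe u
open AlgebraicGeometry CategoryTheory Limits Topology

namespace Groth.Agent.Lib.Helper22.Weighting

open Groth.Agent.Lib.Helper7 Groth.Agent.Lib.Helper16

variable {X Y : Scheme.{u}} {f : X ⟶ Y}

/-- Open subsets of a scheme are ind-constructible. -/
theorem isIndConstructible_of_isOpen {V : Scheme.{u}} {N : Set V} (hN : IsOpen N) :
    ProCons.IsIndConstructible N := by
  have h := isIndConstructible_opens_inter (⟨N, hN⟩ : V.Opens)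
    (isIndConstructible_of_isLocallyConstructible (IsLocallyConstructible.univ (X := V)))
  simpa using h

/-- The projection of a piece of a morphism locally of finite presentation is locally of finite
presentation. -/
theorem IsPiece.locallyOfFinitePresentation [LocallyOfFinitePresentation f] {V U : Scheme.{u}}
    {γ : V ⟶ Y} {a : U ⟶ X} {π : U ⟶ V} (hp : IsPiece f γ a π) :
    LocallyOfFinitePresentation π := by
  have := hp.isOpenImmersion_lift
  have h : π = pullback.lift a π hp.comm ≫ pullback.snd f γ := (pullback.lift_snd _ _ _).symm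
  rw [h]
  infer_instance

/-- **Abstract peeling, ind-constructible version**: if fibre integrals of `I` over pieces are
constant on ind-constructible sets around points of geometric degree one, the same holds around all
points. -/
theorem exists_isIndConstructible_fibreIntegral_eq_of_deg_one {I : X → ℤ}
    (H : ∀ {V U : Scheme.{u}} {γ : V ⟶ Y} {a : U ⟶ X} {π : U ⟶ V}, IsPiece f γ a π → ∀ v : V,
      deg π v = 1 → ∃ N : Set V, ProCons.IsIndConstructible N ∧ v ∈ N ∧ ∀ v' ∈ N,
        MoreMor.fibreIntegral π (fun u => I (a u)) v' =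
          MoreMor.fibreIntegral π (fun u => I (a u)) v) :
    ∀ (n : ℕ) {V U : Scheme.{u}} {γ : V ⟶ Y} {a : U ⟶ X} {π : U ⟶ V} (_ : IsPiece f γ a π) (v : V),
      deg π v = n → ∃ N : Set V, ProCons.IsIndConstructible N ∧ v ∈ N ∧ ∀ v' ∈ N,
        MoreMor.fibreIntegral π (fun u => I (a u)) v' =
          MoreMor.fibreIntegral π (fun u => I (a u)) v := by
  intro n
  induction n using Nat.strong_induction_on with
  | _ n ih =>
    intro V U γ a π hp v hn
    have := hp.isFinite
    rcases Nat.eq_zero_or_pos n with rfl | hnpos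
    · have hempty : ∀ u, π u ≠ v := by
        intro u hu
        have h1 : (1 : ℤ) ≤ deg π (π u) :=
          le_fibreIntegral_of_pos π (fun _ => 1) (fun _ => one_pos) u
        rw [hu, hn] at h1
        simp at h1
      refine ⟨(Set.range π)ᶜ, ?_, ?_, ?_⟩
      · exact isIndConstructible_of_isOpen (π.isClosedMap.isClosed_range).isOpen_compl
      · rintro ⟨u, hu⟩; exact hempty u hu
      · intro v' hv'
        rw [fibreIntegral_eq_zero_of_isEmpty π _ v' (fun u hu => hv' ⟨u, hu⟩),
          fibreIntegral_eq_zero_of_isEmpty π _ v hempty]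
    · obtain ⟨u₀, hu₀⟩ : ∃ u, π u = v :=
        exists_of_fibreIntegral_ne_zero π (fun _ => 1) v (by
          change deg π v ≠ 0
          rw [hn]
          exact_mod_cast hnpos.ne')
      obtain ⟨V₂, γ₂, _, U₂, a₂, π₂, hp₂, u₂, hu₂, hdeg₂⟩ := exists_etale_piece_deg_eq_one π u₀
      have := hp₂.isFinite
      have := hp₂.isOpenImmersion_lift
      -- the two pieces over `V₂`
      have h₁ : IsPiece f (γ₂ ≫ γ) (pullback.fst π γ₂ ≫ a) (pullback.snd π γ₂) := hp.baseChange γ₂
      have h₂ : IsPiece f (γ₂ ≫ γ) (a₂ ≫ a) π₂ :=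
        h₁.of_openImmersion (pullback.lift a₂ π₂ hp₂.comm)
          (by rw [← Category.assoc, pullback.lift_fst]) (pullback.lift_snd _ _ _)
      obtain ⟨R, aR, πR, hR, hsum⟩ := h₁.exists_compl h₂ (pullback.lift a₂ π₂ hp₂.comm)
        (by rw [← Category.assoc, pullback.lift_fst]) (pullback.lift_snd _ _ _)
      have hI₁ : ∀ (w' : X → ℤ) (z : V₂),
          MoreMor.fibreIntegral (pullback.snd π γ₂) (fun u => w' ((pullback.fst π γ₂ ≫ a) u)) z =
            MoreMor.fibreIntegral π (fun u => w' (a u)) (γ₂ z) :=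
        fun w' z => fibreIntegral_pullback_snd π γ₂ (fun u => w' (a u)) z
      have hγv : γ₂ (π₂ u₂) = v := by
        rw [← Scheme.Hom.comp_apply, ← hp₂.comm, Scheme.Hom.comp_apply, hu₂, hu₀]
      have hdegR : deg πR (π₂ u₂) = ((n - 1 : ℕ) : ℤ) := by
        have h := hsum (fun _ => 1) (π₂ u₂)
        change deg (pullback.snd π γ₂) (π₂ u₂) = deg π₂ (π₂ u₂) + deg πR (π₂ u₂) at h
        rw [deg_pullback_snd, hγv, hn, hdeg₂] at h
        have : ((n - 1 : ℕ) : ℤ) = (n : ℤ) - 1 := by
          rw [Nat.cast_sub hnpos]; simp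
        rw [this]
        linarith
      obtain ⟨NR, hNRo, hvNR, hNR⟩ := ih (n - 1) (by omega) hR (π₂ u₂) hdegR
      obtain ⟨N₂, hN₂o, hvN₂, hN₂⟩ := H h₂ (π₂ u₂) hdeg₂
      refine ⟨γ₂.base '' (N₂ ∩ NR), isIndConstructible_image γ₂ _ (isIndConstructible_inter hN₂o hNRo),
        ⟨π₂ u₂, ⟨hvN₂, hvNR⟩, hγv⟩, ?_⟩
      rintro _ ⟨z, ⟨hz₂, hzR⟩, rfl⟩
      rw [← hI₁ I, hsum I z, hN₂ z hz₂, hNR z hzR, ← hγv, ← hI₁ I, hsum I (π₂ u₂)]

/-- The deg-one case: around a point of geometric degree one, the fibre integral of a function with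
ind-constructible level sets is constant on an ind-constructible set. -/
theorem exists_isIndConstructible_fibreIntegral_eq_of_deg_eq_one [LocallyOfFinitePresentation f]
    {w : X → ℤ} (hw : ∀ n : ℤ, ProCons.IsIndConstructible {x : X | w x = n})
    {V U : Scheme.{u}} {γ : V ⟶ Y} {a : U ⟶ X} {π : U ⟶ V} (hp : IsPiece f γ a π) (v : V)
    (hdeg : deg π v = 1) :
    ∃ N : Set V, ProCons.IsIndConstructible N ∧ v ∈ N ∧ ∀ v' ∈ N,
      MoreMor.fibreIntegral π (fun u => w (a u)) v' =
        MoreMor.fibreIntegral π (fun u => w (a u)) v := by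
  have := hp.isFinite
  have := hp.locallyOfFinitePresentation
  obtain ⟨u₀, hu₀⟩ : ∃ u, π u = v :=
    exists_of_fibreIntegral_ne_zero π (fun _ => 1) v (by
      change deg π v ≠ 0
      rw [hdeg]
      exact one_ne_zero)
  subst hu₀
  obtain ⟨S₀, hS₀⟩ : ∃ S₀ : Set V, S₀ =
      ((pullback.fst π π ≫ π).base '' (Set.range (pullback.diagonal π))ᶜ)ᶜ := ⟨_, rfl⟩
  have hS₀ind : ProCons.IsIndConstructible S₀ := by
    rw [hS₀]; exact isIndConstructible_compl_image_compl_range_diagonal π
  have hmemS₀ : ∀ s : V, s ∈ S₀ ↔ ∀ z : ↥(pullback π π), (pullback.fst π π ≫ π) z = s →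
      z ∈ Set.range (pullback.diagonal π) := by
    intro s
    rw [hS₀]
    constructor
    · intro hs z hz
      by_contra hzr
      exact hs ⟨z, hzr, hz⟩
    · rintro hs ⟨z, hzr, hz⟩
      exact hzr (hs z hz)
  have hL : ProCons.IsIndConstructible (π.base '' (a.base ⁻¹' {x : X | w x = w (a u₀)})) :=
    isIndConstructible_image π _ (isIndConstructible_preimage a (hw _))
  have hval : ∀ u' : U, deg π (π u') = 1 →
      MoreMor.fibreIntegral π (fun u => w (a u)) (π u') = w (a u') :=
    fun u' h => fibreIntegral_eq_of_deg_eq_one π _ u' h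
  refine ⟨S₀ ∩ π.base '' (a.base ⁻¹' {x : X | w x = w (a u₀)}),
    isIndConstructible_inter hS₀ind hL, ⟨?_, ⟨u₀, rfl, rfl⟩⟩, ?_⟩
  · rw [hmemS₀]
    exact fun z hz => mem_range_diagonal_of_deg_eq_one π (π u₀) hdeg z hz
  · rintro _ ⟨hS, ⟨u', hu', rfl⟩⟩
    rw [hmemS₀] at hS
    have hdeg' : deg π (π u') = 1 := deg_eq_one_of_forall_mem_range_diagonal π u' hS
    rw [hval u' hdeg', hval u₀ hdeg]
    exact hu'

/-- **Constructibility of fibre integrals**: for `f` locally of finite presentation and `w` with
ind-constructible level sets, the fibre integral of `w` over any piece of `f` is constant on an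
ind-constructible set around any point. -/
theorem exists_isIndConstructible_fibreIntegral_eq_of_isPiece [LocallyOfFinitePresentation f]
    {w : X → ℤ} (hw : ∀ n : ℤ, ProCons.IsIndConstructible {x : X | w x = n})
    {V U : Scheme.{u}} {γ : V ⟶ Y} {a : U ⟶ X} {π : U ⟶ V} (hp : IsPiece f γ a π) (v : V) :
    ∃ N : Set V, ProCons.IsIndConstructible N ∧ v ∈ N ∧ ∀ v' ∈ N,
      MoreMor.fibreIntegral π (fun u => w (a u)) v' =
        MoreMor.fibreIntegral π (fun u => w (a u)) v := by
  have := hp.isFinite
  obtain ⟨n, hn⟩ : ∃ n : ℕ, deg π v = n :=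
    ⟨(deg π v).toNat, (Int.toNat_of_nonneg (deg_nonneg π v)).symm⟩
  exact exists_isIndConstructible_fibreIntegral_eq_of_deg_one
    (fun hp' v' hdeg' => exists_isIndConstructible_fibreIntegral_eq_of_deg_eq_one hw hp' v' hdeg')
    n hp v hn

/-- The level sets of the fibre integral, over a piece, of a function with ind-constructible level
sets are locally constructible. -/
theorem isLocallyConstructible_fibreIntegral_levelSet_of_isPiece [LocallyOfFinitePresentation f]
    {w : X → ℤ} (hw : ∀ n : ℤ, ProCons.IsIndConstructible {x : X | w x = n})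
    {V U : Scheme.{u}} {γ : V ⟶ Y} {a : U ⟶ X} {π : U ⟶ V} (hp : IsPiece f γ a π) (n : ℤ) :
    IsLocallyConstructible {v : V | MoreMor.fibreIntegral π (fun u => w (a u)) v = n} :=
  isLocallyConstructible_setOf_eq _
    (exists_isIndConstructible_fibreIntegral_eq_of_isPiece hw hp) n

end Groth.Agent.Lib.Helper22.Weighting
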