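import Mathlib
import Groth.Prelude.Def_MoreMor
import Groth.Prelude.Def_ProCons
import Groth.Agent.S4759
import Groth.Agent.S4761
import Groth.Agent.S4787
import Groth.Agent.Lib.Helper23.ProConsTopology
import Groth.Agent.Lib.Helper22.PullbackDiagram
import Groth.Agent.Lib.Helper22.WeightingGoodBC
import Groth.Agent.Lib.Helper22.WeightingIntCons

/-!
# Weightings descend along cofiltered limits (helper22)
-/

set_option autoImplicit false
set_option linter.style.haveILetI false
set_option linter.unusedSectionVars false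
universe u
open AlgebraicGeometry CategoryTheory Limits Topology

namespace Groth.Agent.Lib.Helper22.Weighting

open Groth.Agent.Lib.Helper7 Groth.Agent.Lib.Helper16 Groth.Agent.Lib.Helper22.PullbackDiagram

/-- A deg-one étale piece through a point, with affine base. -/
theorem exists_etale_piece_deg_eq_one_affine {X Y : Scheme.{u}} (f : X ⟶ Y) [LocallyQuasiFinite f]
    [LocallyOfFiniteType f] (x : X) :
    ∃ (V : Scheme.{u}) (γ : V ⟶ Y) (_ : Etale γ) (_ : IsAffine V) (U : Scheme.{u}) (a : U ⟶ X)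
      (π : U ⟶ V) (_ : IsPiece f γ a π) (u : U), a u = x ∧ deg π (π u) = 1 := by
  obtain ⟨V, γ, _, U, a, π, hp, u, hau, hdeg⟩ := exists_etale_piece_deg_eq_one f x
  have := hp.isFinite
  obtain ⟨W, hW, huW⟩ := exists_affine_nhd (π u)
  have hWa : IsAffine (W : Scheme.{u}) := hW
  obtain ⟨u', hu'₁, hu'₂⟩ := Scheme.Pullback.exists_preimage_pullback (f := π) (g := W.ι) u
    ⟨π u, huW⟩ rfl
  refine ⟨W, W.ι ≫ γ, inferInstance, hWa, pullback π W.ι, pullback.fst π W.ι ≫ a,
    pullback.snd π W.ι, hp.baseChange W.ι, u', ?_, ?_⟩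
  · rw [Scheme.Hom.comp_apply, hu'₁, hau]
  · rw [deg_pullback_snd, hu'₂]
    exact hdeg

section Descend

variable {I : Type u} [SmallCategory I] [IsCofiltered I] (D : I ⥤ Scheme.{u}) (c : Cone D)
  (hc : IsLimit c)

include hc in
/-- A function on the limit with constructible level sets agrees, on any finite list of values,
with a function with constructible level sets pulled back from a stage. -/
theorem exists_descended_function_of_list [∀ (i j : I) (f : i ⟶ j), IsAffineHom (D.map f)]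
    (i₀ : I) [CompactSpace (D.obj i₀)] [QuasiSeparatedSpace (D.obj i₀)] (w : c.pt → ℤ)
    (hw : ∀ n : ℤ, IsConstructible {x : c.pt | w x = n}) (l : List ℤ) :
    ∃ (j : I) (wj : D.obj j → ℤ), (∀ n : ℤ, IsConstructible {x : D.obj j | wj x = n}) ∧
      ∀ x : c.pt, w x ∈ l → wj (c.π.app j x) = w x := by
  induction l with
  | nil =>
    refine ⟨i₀, fun _ => 0, fun n => ?_, fun x hx => by simp at hx⟩
    by_cases h : (0 : ℤ) = n
    · have : {x : D.obj i₀ | (0 : ℤ) = n} = Set.univ := by ext; simp [h]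
      rw [this]; exact IsConstructible.univ
    · have : {x : D.obj i₀ | (0 : ℤ) = n} = ∅ := by ext; simp [h]
      rw [this]; exact IsConstructible.empty
  | cons n l ih =>
    obtain ⟨j', wj', hwj', hj'⟩ := ih
    obtain ⟨i, _, Z, hZ, hpre⟩ := Groth.Agent.S4759.result D c hc i₀ {x | w x = n} (hw n)
    let j := IsCofiltered.min j' i
    let α : j ⟶ j' := IsCofiltered.minToLeft j' i
    let β : j ⟶ i := IsCofiltered.minToRight j' i
    classical
    have hP : IsConstructible ((D.map β) ⁻¹' Z : Set (D.obj j)) :=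
      (D.map β).isConstructible_preimage hZ
    have hA : ∀ m, IsConstructible ((D.map α) ⁻¹' {x | wj' x = m} : Set (D.obj j)) :=
      fun m => (D.map α).isConstructible_preimage (hwj' m)
    refine ⟨j, fun x => if x ∈ (D.map β) ⁻¹' Z then n else wj' (D.map α x), fun m => ?_,
      fun x hx => ?_⟩
    · by_cases h : n = m
      · have : {x : D.obj j | (if x ∈ (D.map β) ⁻¹' Z then n else wj' (D.map α x)) = m} =
            (D.map β) ⁻¹' Z ∪ (D.map α) ⁻¹' {x | wj' x = m} := by
          ext x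
          simp only [Set.mem_ofPred_eq, Set.mem_union, Set.mem_preimage]
          by_cases hx : D.map β x ∈ Z
          · simp [hx, h]
          · simp [hx]
        rw [this]
        exact hP.union (hA m)
      · have : {x : D.obj j | (if x ∈ (D.map β) ⁻¹' Z then n else wj' (D.map α x)) = m} =
            (D.map α) ⁻¹' {x | wj' x = m} \ (D.map β) ⁻¹' Z := by
          ext x
          simp only [Set.mem_ofPred_eq, Set.mem_sdiff, Set.mem_preimage]
          by_cases hx : D.map β x ∈ Z
          · simp [hx, h]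
          · simp [hx]
        rw [this]
        exact (hA m).sdiff hP
    · have hmem : c.π.app j x ∈ (D.map β) ⁻¹' Z ↔ w x = n := by
        have h1 : D.map β (c.π.app j x) = c.π.app i x := by
          rw [← Scheme.Hom.comp_apply, c.w]
        rw [Set.mem_preimage, h1]
        have h2 : c.π.app i x ∈ Z ↔ x ∈ (c.π.app i ⁻¹' Z : Set c.pt) := Iff.rfl
        rw [h2, hpre]
        rfl
      by_cases hx' : w x = n
      · simp only [hmem.mpr hx', if_true]
        exact hx'.symm
      · have hxl : w x ∈ l := by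
          rcases List.mem_cons.mp hx with h | h
          · exact absurd h hx'
          · exact h
        have h1 : D.map α (c.π.app j x) = c.π.app j' x := by
          rw [← Scheme.Hom.comp_apply, c.w]
        simp only [mt hmem.mp hx', if_false]
        rw [h1]
        exact hj' x hxl

include hc in
/-- A function on the limit with constructible level sets is pulled back from a function with
constructible level sets on some stage. -/
theorem exists_descended_function [∀ (i j : I) (f : i ⟶ j), IsAffineHom (D.map f)]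
    (i₀ : I) [CompactSpace (D.obj i₀)] [QuasiSeparatedSpace (D.obj i₀)] [CompactSpace c.pt]
    [QuasiSeparatedSpace c.pt] (w : c.pt → ℤ)
    (hw : ∀ n : ℤ, IsConstructible {x : c.pt | w x = n}) :
    ∃ (j : I) (wj : D.obj j → ℤ), (∀ n : ℤ, IsConstructible {x : D.obj j | wj x = n}) ∧
      ∀ x : c.pt, wj (c.π.app j x) = w x := by
  obtain ⟨t, ht⟩ := Groth.Agent.Lib.Helper23.exists_finset_iUnion_eq_univ_of_isConstructible
    (fun n : ℤ => {x : c.pt | w x = n}) hw (fun x => ⟨w x, rfl⟩)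
  obtain ⟨j, wj, hwj, hj⟩ := exists_descended_function_of_list D c hc i₀ w hw t.toList
  refine ⟨j, wj, hwj, fun x => hj x ?_⟩
  obtain ⟨n, hn, hx⟩ := ht x
  rw [Finset.mem_toList]
  have : w x = n := hx
  rw [this]
  exact hn

end Descend

section Squares

variable {I : Type u} [SmallCategory I] [IsCofiltered I] (D : I ⥤ Scheme.{u}) (c : Cone D)
  (i0 : I) {X0 : Scheme.{u}} (f0 : X0 ⟶ D.obj i0)

/-- the structure map of the limit of the base-changed diagram -/
noncomputable def fLim : (cM D c i0 f0).pt ⟶ c.pt := pullback.fst (c.π.app i0) f0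

/-- the projection of the limit of the base-changed diagram to the model -/
noncomputable def pLim : (cM D c i0 f0).pt ⟶ X0 := pullback.snd (c.π.app i0) f0

theorem isPullback_pLim_fLim : IsPullback (pLim D c i0 f0) (fLim D c i0 f0) f0 (c.π.app i0) :=
  (IsPullback.of_hasPullback (c.π.app i0) f0).flip

theorem isPullback_psnd_pfst (b : Over i0) :
    IsPullback (psnd D i0 f0 b) (pfst D i0 f0 b) f0 (D.map b.hom) :=
  (IsPullback.of_hasPullback (D.map b.hom) f0).flip

theorem cM_π_pLim (b : Over i0) :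
    (cM D c i0 f0).π.app b ≫ psnd D i0 f0 b = pLim D c i0 f0 := cM_π_snd D c i0 f0 b

theorem cM_π_fLim (b : Over i0) :
    (cM D c i0 f0).π.app b ≫ pfst D i0 f0 b = fLim D c i0 f0 ≫ c.π.app b.left :=
  cM_π_fst D c i0 f0 b

theorem isPullback_DM_map {b' b : Over i0} (h : b' ⟶ b) :
    IsPullback ((DM D i0 f0).map h) (pfst D i0 f0 b') (pfst D i0 f0 b) (D.map h.left) := by
  have hbig : IsPullback ((DM D i0 f0).map h ≫ psnd D i0 f0 b) (pfst D i0 f0 b') f0
      (D.map h.left ≫ D.map b.hom) := by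
    rw [DM_map_snd, ← D.map_comp, Over.w]
    exact isPullback_psnd_pfst D i0 f0 b'
  exact IsPullback.of_right hbig (DM_map_fst D i0 f0 h) (isPullback_psnd_pfst D i0 f0 b)

theorem isPullback_cM_π (b : Over i0) :
    IsPullback ((cM D c i0 f0).π.app b) (fLim D c i0 f0) (pfst D i0 f0 b) (c.π.app b.left) := by
  have hbig : IsPullback ((cM D c i0 f0).π.app b ≫ psnd D i0 f0 b) (fLim D c i0 f0) f0
      (c.π.app b.left ≫ D.map b.hom) := by
    rw [cM_π_pLim, c.w]
    exact isPullback_pLim_fLim D c i0 f0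
  exact IsPullback.of_right hbig (cM_π_fLim D c i0 f0 b) (isPullback_psnd_pfst D i0 f0 b)

end Squares

section Stage

variable {I : Type u} [SmallCategory I] [IsCofiltered I] (D : I ⥤ Scheme.{u}) (c : Cone D)
  (hc : IsLimit c) [∀ i, IsAffine (D.obj i)] (i0 : I) {X0 : Scheme.{u}} (f0 : X0 ⟶ D.obj i0)

include hc in
/-- Every point of the limit maps to a good point at some finite stage. -/
theorem exists_goodAt_stage [LocallyQuasiFinite f0] [LocallyOfFinitePresentation f0]
    (w0 : X0 → ℤ) (hw0 : ∀ n : ℤ, ProCons.IsIndConstructible {x : X0 | w0 x = n})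
    (hw : MoreMor.IsWeighting (fLim D c i0 f0) (w0 ∘ ⇑(pLim D c i0 f0)))
    (x : (cM D c i0 f0).pt) :
    ∃ b : Over i0, GoodAt (pfst D i0 f0 b) (w0 ∘ ⇑(psnd D i0 f0 b))
      ((cM D c i0 f0).π.app b x) := by
  obtain ⟨V, γ, _, _, U, a, π, hp, u, hau, hdeg⟩ :=
    exists_etale_piece_deg_eq_one_affine f0 (pLim D c i0 f0 x)
  have := hp.isFinite
  -- the integral at the model stage
  obtain ⟨φ, hφ⟩ : ∃ φ : V → ℤ, φ = MoreMor.fibreIntegral π (fun u => w0 (a u)) := ⟨_, rfl⟩
  have hφcons : IsConstructible {v : V | φ v = φ (π u)} := by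
    rw [hφ]
    exact (isLocallyConstructible_fibreIntegral_levelSet_of_isPiece hw0 hp _).isConstructible
  -- general stage construction
  have stage : ∀ {Y' X' V' : Scheme.{u}} (g : Y' ⟶ D.obj i0) (f' : X' ⟶ Y') (h : X' ⟶ X0)
      (_ : IsPullback h f' f0 g) (k : V' ⟶ V) (γ' : V' ⟶ Y') (_ : IsPullback k γ' γ g),
      ∃ (a' : pullback π k ⟶ X'), IsPiece f' γ' a' (pullback.snd π k) ∧
        IsPullback (pullback.fst π k) a' a h ∧
        ∀ v', MoreMor.fibreIntegral (pullback.snd π k) (fun z => (w0 ∘ ⇑h) (a' z)) v' =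
          φ (k v') := by
    intro Y' X' V' g f' h hc' k γ' hV
    have hcomm : (pullback.fst π k ≫ a) ≫ f0 = (pullback.snd π k ≫ γ') ≫ g := by
      rw [Category.assoc, hp.comm, ← Category.assoc, pullback.condition, Category.assoc, hV.w,
        Category.assoc]
    let a' : pullback π k ⟶ X' := hc'.lift (pullback.fst π k ≫ a) (pullback.snd π k ≫ γ') hcomm
    have ha₁ : a' ≫ h = pullback.fst π k ≫ a := hc'.lift_fst _ _ _
    have ha₂ : a' ≫ f' = pullback.snd π k ≫ γ' := hc'.lift_snd _ _ _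
    obtain ⟨hp', hpb⟩ := hp.of_baseChange_square hc' hV a' ha₁ ha₂
    refine ⟨a', hp', hpb, fun v' => ?_⟩
    have hfun : (fun z => (w0 ∘ ⇑h) (a' z)) = (fun u => w0 (a u)) ∘ ⇑(pullback.fst π k) := by
      funext z
      simp only [Function.comp_apply]
      rw [← Scheme.Hom.comp_apply, ha₁, Scheme.Hom.comp_apply]
    rw [hfun, fibreIntegral_pullback_snd, hφ]
  -- the limit stage
  have hVc : IsLimit (cM D c i0 γ) := isLimitCM D c hc i0 γ
  obtain ⟨aL, hpL, -, hintL⟩ := stage (c.π.app i0) (fLim D c i0 f0) (pLim D c i0 f0)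
    (isPullback_pLim_fLim D c i0 f0) (pLim D c i0 γ) (fLim D c i0 γ)
    (isPullback_pLim_fLim D c i0 γ)
  haveI : Etale (fLim D c i0 γ) :=
    MorphismProperty.of_isPullback (P := @Etale) (isPullback_pLim_fLim D c i0 γ) inferInstance
  have hlc := isLocallyConstant_of_isPiece hw hpL
  have hopenL : IsOpen ((pLim D c i0 γ) ⁻¹' {v : V | φ v = φ (π u)}) := by
    have : (pLim D c i0 γ) ⁻¹' {v : V | φ v = φ (π u)} =
        {z | MoreMor.fibreIntegral (pullback.snd π (pLim D c i0 γ))
          (fun z => (w0 ∘ ⇑(pLim D c i0 f0)) (aL z)) z = φ (π u)} := by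
      ext z
      simp only [Set.mem_preimage, Set.mem_ofPred_eq, hintL]
    rw [this]
    exact hlc.isOpen_fiber _
  -- descend openness to a finite stage
  let b0 : Over i0 := Over.mk (𝟙 i0)
  haveI : ∀ (a b : Over i0) (h : a ⟶ b), IsAffineHom ((DM D i0 γ).map h) :=
    fun a b h => isAffineHom_DM_map D i0 γ h
  haveI : IsAffine ((DM D i0 γ).obj b0) := by rw [DM_obj]; infer_instance
  have hZ₁ : IsConstructible ((psnd D i0 γ b0) ⁻¹' {v : V | φ v = φ (π u)}) :=
    (psnd D i0 γ b0).isConstructible_preimage hφcons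
  have hopen : IsOpen ((cM D c i0 γ).π.app b0 ⁻¹'
      ((psnd D i0 γ b0) ⁻¹' {v : V | φ v = φ (π u)})) := by
    have : (cM D c i0 γ).π.app b0 ⁻¹' ((psnd D i0 γ b0) ⁻¹' {v : V | φ v = φ (π u)}) =
        (pLim D c i0 γ) ⁻¹' {v : V | φ v = φ (π u)} := by
      ext z
      simp only [Set.mem_preimage]
      rw [← Scheme.Hom.comp_apply, cM_π_pLim]
    rw [this]
    exact hopenL
  obtain ⟨b, ψ, hbopen⟩ :=
    (Groth.Agent.S4761.result (DM D i0 γ) (cM D c i0 γ) hVc b0 _ hZ₁).mp hopen
  have hbopen' : IsOpen ((psnd D i0 γ b) ⁻¹' {v : V | φ v = φ (π u)}) := by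
    have : (psnd D i0 γ b) ⁻¹' {v : V | φ v = φ (π u)} =
        (DM D i0 γ).map ψ ⁻¹' ((psnd D i0 γ b0) ⁻¹' {v : V | φ v = φ (π u)}) := by
      ext z
      simp only [Set.mem_preimage]
      rw [← Scheme.Hom.comp_apply, DM_map_snd]
    rw [this]
    exact hbopen
  -- the good piece at stage `b`
  obtain ⟨ab, hpb, hpbb, hintb⟩ := stage (D.map b.hom) (pfst D i0 f0 b) (psnd D i0 f0 b)
    (isPullback_psnd_pfst D i0 f0 b) (psnd D i0 γ b) (pfst D i0 γ b)
    (isPullback_psnd_pfst D i0 γ b)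
  have hxb : a u = psnd D i0 f0 b ((cM D c i0 f0).π.app b x) := by
    rw [hau, ← Scheme.Hom.comp_apply, cM_π_pLim]
  obtain ⟨ub, hub₁, hub₂⟩ := exists_preimage_of_isPullback hpbb u _ hxb
  have hk : psnd D i0 γ b (pullback.snd π (psnd D i0 γ b) ub) = π u := by
    rw [← Scheme.Hom.comp_apply, ← pullback.condition, Scheme.Hom.comp_apply, hub₁]
  haveI : Etale (pfst D i0 γ b) :=
    MorphismProperty.of_isPullback (P := @Etale) (isPullback_psnd_pfst D i0 γ b) inferInstance
  refine ⟨b, (DM D i0 γ).obj b, pfst D i0 γ b, inferInstance, pullback π (psnd D i0 γ b), ab,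
    pullback.snd π (psnd D i0 γ b), hpb, ub, hub₂, ?_,
    (psnd D i0 γ b) ⁻¹' {v : V | φ v = φ (π u)}, hbopen', ?_, ?_⟩
  · rw [deg_pullback_snd, hk, hdeg]
  · rw [Set.mem_preimage, hk]
    rfl
  · intro v' hv'
    rw [hintb, hintb, hk]
    exact hv'

include hc in
/-- **Main step**: if `w0 ∘ pLim` is a weighting of the limit morphism and `w0` has
ind-constructible level sets, then `w0 ∘ psnd b` is a weighting at some finite stage `b`. -/
theorem exists_isWeighting_stage [IsAffine X0] [LocallyQuasiFinite f0]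
    [LocallyOfFinitePresentation f0]
    (w0 : X0 → ℤ) (hw0 : ∀ n : ℤ, ProCons.IsIndConstructible {x : X0 | w0 x = n})
    (hw : MoreMor.IsWeighting (fLim D c i0 f0) (w0 ∘ ⇑(pLim D c i0 f0))) :
    ∃ b : Over i0, MoreMor.IsWeighting (pfst D i0 f0 b) (w0 ∘ ⇑(psnd D i0 f0 b)) := by
  let b0 : Over i0 := Over.mk (𝟙 i0)
  haveI : ∀ (a b : Over i0) (h : a ⟶ b), IsAffineHom ((DM D i0 f0).map h) :=
    fun a b h => isAffineHom_DM_map D i0 f0 h
  haveI : IsAffine ((DM D i0 f0).obj b0) := by rw [DM_obj]; infer_instance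
  have hFm : ∀ (i j : Over i0) (φ : i ⟶ j),
      ⇑((DM D i0 f0).map φ) ⁻¹' {x | GoodAt (pfst D i0 f0 j) (w0 ∘ ⇑(psnd D i0 f0 j)) x} ⊆
        {x | GoodAt (pfst D i0 f0 i) (w0 ∘ ⇑(psnd D i0 f0 i)) x} := by
    intro i j φ x hx
    have h1 := GoodAt.baseChange (isPullback_DM_map D i0 f0 φ) (w := w0 ∘ ⇑(psnd D i0 f0 j))
      (x' := x) hx
    have h2 : (w0 ∘ ⇑(psnd D i0 f0 j)) ∘ ⇑((DM D i0 f0).map φ) = w0 ∘ ⇑(psnd D i0 f0 i) := by
      funext z
      simp only [Function.comp_apply]
      rw [← Scheme.Hom.comp_apply, DM_map_snd]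
    rw [h2] at h1
    exact h1
  have hcov : (⋂ i, ⇑((cM D c i0 f0).π.app i) ⁻¹' (Set.univ : Set ((DM D i0 f0).obj i)) :
      Set (cM D c i0 f0).pt) ⊆ ⋃ i, ⇑((cM D c i0 f0).π.app i) ⁻¹'
        {x | GoodAt (pfst D i0 f0 i) (w0 ∘ ⇑(psnd D i0 f0 i)) x} := by
    intro x _
    obtain ⟨b, hb⟩ := exists_goodAt_stage D c hc i0 f0 w0 hw0 hw x
    exact Set.mem_iUnion.mpr ⟨b, hb⟩
  obtain ⟨b, _, hb⟩ := (Groth.Agent.S4787.result (DM D i0 f0) (cM D c i0 f0)
    (isLimitCM D c hc i0 f0) b0
    (fun _ => Set.univ) (fun b => {x | GoodAt (pfst D i0 f0 b) (w0 ∘ ⇑(psnd D i0 f0 b)) x})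
    (fun _ => isProConstructible_of_isLocallyConstructible IsLocallyConstructible.univ)
    (fun b => isIndConstructible_setOf_goodAt _ _)
    (fun _ _ _ _ _ => Set.mem_univ _) hFm).mp hcov
  refine ⟨b, ?_⟩
  haveI : LocallyQuasiFinite (pfst D i0 f0 b) :=
    MorphismProperty.of_isPullback (P := @LocallyQuasiFinite) (isPullback_psnd_pfst D i0 f0 b)
      inferInstance
  haveI : LocallyOfFiniteType (pfst D i0 f0 b) :=
    MorphismProperty.of_isPullback (P := @LocallyOfFiniteType) (isPullback_psnd_pfst D i0 f0 b)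
      inferInstance
  exact isWeighting_of_goodAt fun x => hb b (𝟙 b) (Set.mem_univ x)

include hc in
/-- The main step for an arbitrary model of the base change to the limit. -/
theorem exists_isWeighting_stage' [IsAffine X0] [LocallyQuasiFinite f0]
    [LocallyOfFinitePresentation f0] {X : Scheme.{u}} (f : X ⟶ c.pt) (pX : X ⟶ X0)
    (hX : IsPullback pX f f0 (c.π.app i0))
    (w0 : X0 → ℤ) (hw0 : ∀ n : ℤ, ProCons.IsIndConstructible {x : X0 | w0 x = n})
    (hw : MoreMor.IsWeighting f (w0 ∘ ⇑pX)) :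
    ∃ b : Over i0, MoreMor.IsWeighting (pfst D i0 f0 b) (w0 ∘ ⇑(psnd D i0 f0 b)) := by
  apply exists_isWeighting_stage D c hc i0 f0 w0 hw0
  haveI : LocallyQuasiFinite f :=
    MorphismProperty.of_isPullback (P := @LocallyQuasiFinite) hX inferInstance
  haveI : LocallyOfFiniteType f :=
    MorphismProperty.of_isPullback (P := @LocallyOfFiniteType) hX inferInstance
  obtain ⟨e, he₁, he₂⟩ : ∃ e : (cM D c i0 f0).pt ⟶ X, e ≫ pX = pLim D c i0 f0 ∧
      e ≫ f = fLim D c i0 f0 :=
    ⟨hX.lift (pLim D c i0 f0) (fLim D c i0 f0) (isPullback_pLim_fLim D c i0 f0).w,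
      hX.lift_fst _ _ _, hX.lift_snd _ _ _⟩
  have hbig : IsPullback (e ≫ pX) (fLim D c i0 f0) f0 (𝟙 c.pt ≫ c.π.app i0) := by
    rw [he₁, Category.id_comp]
    exact isPullback_pLim_fLim D c i0 f0
  have hsq : IsPullback e (fLim D c i0 f0) f (𝟙 c.pt) :=
    IsPullback.of_right hbig (by rw [he₂, Category.comp_id]) hX
  have h1 := isWeighting_baseChange hw hsq
  have h2 : (w0 ∘ ⇑pX) ∘ ⇑e = w0 ∘ ⇑(pLim D c i0 f0) := by
    funext z
    simp only [Function.comp_apply]
    rw [← Scheme.Hom.comp_apply, he₁]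
  rw [h2] at h1
  exact h1

end Stage

end Groth.Agent.Lib.Helper22.Weighting
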