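import Mathlib
import Groth.Prelude.Def_MoreMor
import Groth.Prelude.Def_ProCons
import Groth.Agent.S4761
import Groth.Agent.S4787
import Groth.Agent.Lib.Helper22.PullbackDiagram
import Groth.Agent.Lib.Helper22.WeightingLimit
import Groth.Agent.Lib.Helper22.WeightingIntCons
import Groth.Agent.Lib.Helper22.UOpenGood

/-!
# Universal openness of locally quasi-finite morphisms descends along cofiltered limits (helper22)
-/

set_option autoImplicit false
set_option linter.style.haveILetI false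
set_option linter.unusedSectionVars false
universe u
open AlgebraicGeometry CategoryTheory Limits Topology

namespace Groth.Agent.Lib.Helper22.Weighting

open Groth.Agent.Lib.Helper7 Groth.Agent.Lib.Helper16 Groth.Agent.Lib.Helper22.PullbackDiagram

section TwoLevel

variable {I : Type u} [SmallCategory I] [IsCofiltered I] (D : I ⥤ Scheme.{u}) (c : Cone D)
  (i0 : I) {M X0 : Scheme.{u}} (m : M ⟶ D.obj i0) (f0 : X0 ⟶ M)

/-- The base change of `f0 : X0 ⟶ M` to the stage `b`. -/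
noncomputable def fD (b : Over i0) : (DM D i0 (f0 ≫ m)).obj b ⟶ (DM D i0 m).obj b :=
  (isPullback_psnd_pfst D i0 m b).lift (psnd D i0 (f0 ≫ m) b ≫ f0) (pfst D i0 (f0 ≫ m) b)
    (by rw [Category.assoc]; exact (isPullback_psnd_pfst D i0 (f0 ≫ m) b).w)

theorem fD_fst (b : Over i0) : fD D i0 m f0 b ≫ pfst D i0 m b = pfst D i0 (f0 ≫ m) b :=
  (isPullback_psnd_pfst D i0 m b).lift_snd _ _ _

theorem fD_snd (b : Over i0) :
    fD D i0 m f0 b ≫ psnd D i0 m b = psnd D i0 (f0 ≫ m) b ≫ f0 :=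
  (isPullback_psnd_pfst D i0 m b).lift_fst _ _ _

theorem isPullback_fD (b : Over i0) :
    IsPullback (psnd D i0 (f0 ≫ m) b) (fD D i0 m f0 b) f0 (psnd D i0 m b) := by
  have hbig : IsPullback (psnd D i0 (f0 ≫ m) b) (fD D i0 m f0 b ≫ pfst D i0 m b) (f0 ≫ m)
      (D.map b.hom) := by
    rw [fD_fst]
    exact isPullback_psnd_pfst D i0 (f0 ≫ m) b
  exact IsPullback.of_bot hbig (fD_snd D i0 m f0 b).symm (isPullback_psnd_pfst D i0 m b)

theorem fD_naturality {b' b : Over i0} (h : b' ⟶ b) :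
    (DM D i0 (f0 ≫ m)).map h ≫ fD D i0 m f0 b = fD D i0 m f0 b' ≫ (DM D i0 m).map h := by
  apply (isPullback_psnd_pfst D i0 m b).hom_ext
  · rw [Category.assoc, fD_snd, ← Category.assoc, DM_map_snd, Category.assoc, DM_map_snd, fD_snd]
  · rw [Category.assoc, fD_fst, DM_map_fst, Category.assoc, DM_map_fst, ← Category.assoc, fD_fst]

theorem isPullback_DM_map_fD {b' b : Over i0} (h : b' ⟶ b) :
    IsPullback ((DM D i0 (f0 ≫ m)).map h) (fD D i0 m f0 b') (fD D i0 m f0 b)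
      ((DM D i0 m).map h) := by
  have hbig : IsPullback ((DM D i0 (f0 ≫ m)).map h ≫ psnd D i0 (f0 ≫ m) b) (fD D i0 m f0 b') f0
      ((DM D i0 m).map h ≫ psnd D i0 m b) := by
    rw [DM_map_snd, DM_map_snd]
    exact isPullback_fD D i0 m f0 b'
  exact IsPullback.of_right hbig (fD_naturality D i0 m f0 h) (isPullback_fD D i0 m f0 b)

/-- The base change of `f0 : X0 ⟶ M` to the limit. -/
noncomputable def fL : (cM D c i0 (f0 ≫ m)).pt ⟶ (cM D c i0 m).pt :=
  (isPullback_pLim_fLim D c i0 m).lift (pLim D c i0 (f0 ≫ m) ≫ f0) (fLim D c i0 (f0 ≫ m))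
    (by rw [Category.assoc]; exact (isPullback_pLim_fLim D c i0 (f0 ≫ m)).w)

theorem fL_fLim : fL D c i0 m f0 ≫ fLim D c i0 m = fLim D c i0 (f0 ≫ m) :=
  (isPullback_pLim_fLim D c i0 m).lift_snd _ _ _

theorem fL_pLim : fL D c i0 m f0 ≫ pLim D c i0 m = pLim D c i0 (f0 ≫ m) ≫ f0 :=
  (isPullback_pLim_fLim D c i0 m).lift_fst _ _ _

theorem isPullback_fL :
    IsPullback (pLim D c i0 (f0 ≫ m)) (fL D c i0 m f0) f0 (pLim D c i0 m) := by
  have hbig : IsPullback (pLim D c i0 (f0 ≫ m)) (fL D c i0 m f0 ≫ fLim D c i0 m) (f0 ≫ m)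
      (c.π.app i0) := by
    rw [fL_fLim]
    exact isPullback_pLim_fLim D c i0 (f0 ≫ m)
  exact IsPullback.of_bot hbig (fL_pLim D c i0 m f0).symm (isPullback_pLim_fLim D c i0 m)

theorem cM_π_fD (b : Over i0) :
    (cM D c i0 (f0 ≫ m)).π.app b ≫ fD D i0 m f0 b =
      fL D c i0 m f0 ≫ (cM D c i0 m).π.app b := by
  apply (isPullback_psnd_pfst D i0 m b).hom_ext
  · rw [Category.assoc, fD_snd, ← Category.assoc, cM_π_pLim, Category.assoc, cM_π_pLim, fL_pLim]
  · rw [Category.assoc, fD_fst, cM_π_fLim, Category.assoc, cM_π_fLim, ← Category.assoc, fL_fLim]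

theorem isPullback_cM_π_fD (b : Over i0) :
    IsPullback ((cM D c i0 (f0 ≫ m)).π.app b) (fL D c i0 m f0) (fD D i0 m f0 b)
      ((cM D c i0 m).π.app b) := by
  have hbig : IsPullback ((cM D c i0 (f0 ≫ m)).π.app b ≫ psnd D i0 (f0 ≫ m) b)
      (fL D c i0 m f0) f0 ((cM D c i0 m).π.app b ≫ psnd D i0 m b) := by
    rw [cM_π_pLim, cM_π_pLim]
    exact isPullback_fL D c i0 m f0
  exact IsPullback.of_right hbig (cM_π_fD D c i0 m f0 b) (isPullback_fD D i0 m f0 b)

end TwoLevel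

section Main

variable {I : Type u} [SmallCategory I] [IsCofiltered I] (D : I ⥤ Scheme.{u}) (c : Cone D)
  (hc : IsLimit c) [∀ (i j : I) (φ : i ⟶ j), IsAffineHom (D.map φ)]
  (i0 : I) {M X0 : Scheme.{u}} (m : M ⟶ D.obj i0) (f0 : X0 ⟶ M)

/-- The range of a base change of a morphism is the preimage of the range. -/
theorem range_pullback_snd {U V V' : Scheme.{u}} (π : U ⟶ V) (k : V' ⟶ V) :
    Set.range (pullback.snd π k) = k ⁻¹' Set.range π := by
  ext v'
  constructor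
  · rintro ⟨z, rfl⟩
    exact ⟨pullback.fst π k z, by
      rw [← Scheme.Hom.comp_apply, pullback.condition, Scheme.Hom.comp_apply]⟩
  · rintro ⟨u₁, hu₁⟩
    obtain ⟨z, -, hz⟩ := Scheme.Pullback.exists_preimage_pullback (f := π) (g := k) u₁ v' hu₁
    exact ⟨z, hz⟩

include hc in
/-- Every point of the limit maps to a good point (for universal openness) at some stage. -/
theorem exists_uGoodAt_stage [LocallyQuasiFinite f0] [LocallyOfFinitePresentation f0]
    [UniversallyOpen (fL D c i0 m f0)] (x : (cM D c i0 (f0 ≫ m)).pt) :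
    ∃ b : Over i0, UGoodAt (fD D i0 m f0 b) ((cM D c i0 (f0 ≫ m)).π.app b x) := by
  haveI : ∀ {a b : I} (f : a ⟶ b), IsAffineHom (D.map f) := fun f => inferInstance
  obtain ⟨V, γ, _, _, U, a, π, hp, u, hau, hdeg⟩ :=
    exists_etale_piece_deg_eq_one_affine f0 (pLim D c i0 (f0 ≫ m) x)
  have := hp.isFinite
  have := hp.locallyOfFinitePresentation
  have hZcons : IsConstructible (Set.range π) := by
    have h := π.isConstructible_image (s := Set.univ) IsConstructible.univ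
    rwa [Set.image_univ] at h
  -- general stage construction
  have stage : ∀ {Y' X' V' : Scheme.{u}} (g : Y' ⟶ M) (f' : X' ⟶ Y') (h : X' ⟶ X0)
      (_ : IsPullback h f' f0 g) (k : V' ⟶ V) (γ' : V' ⟶ Y') (_ : IsPullback k γ' γ g),
      ∃ (a' : pullback π k ⟶ X'), IsPiece f' γ' a' (pullback.snd π k) ∧
        IsPullback (pullback.fst π k) a' a h := by
    intro Y' X' V' g f' h hc' k γ' hV
    have hcomm : (pullback.fst π k ≫ a) ≫ f0 = (pullback.snd π k ≫ γ') ≫ g := by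
      rw [Category.assoc, hp.comm, ← Category.assoc, pullback.condition, Category.assoc, hV.w,
        Category.assoc]
    let a' : pullback π k ⟶ X' := hc'.lift (pullback.fst π k ≫ a) (pullback.snd π k ≫ γ') hcomm
    have ha₁ : a' ≫ h = pullback.fst π k ≫ a := hc'.lift_fst _ _ _
    have ha₂ : a' ≫ f' = pullback.snd π k ≫ γ' := hc'.lift_snd _ _ _
    exact ⟨a', hp.of_baseChange_square hc' hV a' ha₁ ha₂⟩
  -- the limit stage
  have hVc : IsLimit (cM D c i0 (γ ≫ m)) := isLimitCM D c hc i0 (γ ≫ m)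
  obtain ⟨aL, hpL, -⟩ := stage (pLim D c i0 m) (fL D c i0 m f0) (pLim D c i0 (f0 ≫ m))
    (isPullback_fL D c i0 m f0) (pLim D c i0 (γ ≫ m)) (fL D c i0 m γ) (isPullback_fL D c i0 m γ)
  have hopenL : IsOpen ((pLim D c i0 (γ ≫ m)) ⁻¹' Set.range π) := by
    rw [← range_pullback_snd]
    have := hpL.isOpenImmersion_lift
    have hπ : pullback.snd π (pLim D c i0 (γ ≫ m)) =
        pullback.lift aL (pullback.snd π (pLim D c i0 (γ ≫ m))) hpL.comm ≫
          pullback.snd (fL D c i0 m f0) (fL D c i0 m γ) := (pullback.lift_snd _ _ _).symm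
    rw [hπ]
    exact (pullback.lift aL (pullback.snd π (pLim D c i0 (γ ≫ m))) hpL.comm ≫
      pullback.snd (fL D c i0 m f0) (fL D c i0 m γ)).isOpenMap.isOpen_range
  -- descend openness to a finite stage
  let b0 : Over i0 := Over.mk (𝟙 i0)
  haveI : ∀ (a b : Over i0) (h : a ⟶ b), IsAffineHom ((DM D i0 (γ ≫ m)).map h) :=
    fun a b h => isAffineHom_DM_map D i0 (γ ≫ m) h
  haveI : IsAffine ((DM D i0 (γ ≫ m)).obj b0) := by rw [DM_obj]; infer_instance
  have hZ₁ : IsConstructible ((psnd D i0 (γ ≫ m) b0) ⁻¹' Set.range π) :=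
    (psnd D i0 (γ ≫ m) b0).isConstructible_preimage hZcons
  have hopen : IsOpen ((cM D c i0 (γ ≫ m)).π.app b0 ⁻¹'
      ((psnd D i0 (γ ≫ m) b0) ⁻¹' Set.range π)) := by
    have : (cM D c i0 (γ ≫ m)).π.app b0 ⁻¹' ((psnd D i0 (γ ≫ m) b0) ⁻¹' Set.range π) =
        (pLim D c i0 (γ ≫ m)) ⁻¹' Set.range π := by
      ext z
      simp only [Set.mem_preimage]
      rw [← Scheme.Hom.comp_apply, cM_π_pLim]
    rw [this]
    exact hopenL
  obtain ⟨b, ψ, hbopen⟩ :=
    (Groth.Agent.S4761.result (DM D i0 (γ ≫ m)) (cM D c i0 (γ ≫ m)) hVc b0 _ hZ₁).mp hopen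
  have hbopen' : IsOpen ((psnd D i0 (γ ≫ m) b) ⁻¹' Set.range π) := by
    have : (psnd D i0 (γ ≫ m) b) ⁻¹' Set.range π =
        (DM D i0 (γ ≫ m)).map ψ ⁻¹' ((psnd D i0 (γ ≫ m) b0) ⁻¹' Set.range π) := by
      ext z
      simp only [Set.mem_preimage]
      rw [← Scheme.Hom.comp_apply, DM_map_snd]
    rw [this]
    exact hbopen
  -- the good piece at stage `b`
  obtain ⟨ab, hpb, hpbb⟩ := stage (psnd D i0 m b) (fD D i0 m f0 b) (psnd D i0 (f0 ≫ m) b)
    (isPullback_fD D i0 m f0 b) (psnd D i0 (γ ≫ m) b) (fD D i0 m γ b)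
    (isPullback_fD D i0 m γ b)
  have hxb : a u = psnd D i0 (f0 ≫ m) b ((cM D c i0 (f0 ≫ m)).π.app b x) := by
    rw [hau, ← Scheme.Hom.comp_apply, cM_π_pLim]
  obtain ⟨ub, hub₁, hub₂⟩ := exists_preimage_of_isPullback hpbb u _ hxb
  have hk : psnd D i0 (γ ≫ m) b (pullback.snd π (psnd D i0 (γ ≫ m) b) ub) = π u := by
    rw [← Scheme.Hom.comp_apply, ← pullback.condition, Scheme.Hom.comp_apply, hub₁]
  haveI : Etale (fD D i0 m γ b) :=
    MorphismProperty.of_isPullback (P := @Etale) (isPullback_fD D i0 m γ b) inferInstance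
  refine ⟨b, (DM D i0 (γ ≫ m)).obj b, fD D i0 m γ b, inferInstance,
    pullback π (psnd D i0 (γ ≫ m) b), ab, pullback.snd π (psnd D i0 (γ ≫ m) b), hpb, ub, hub₂, ?_,
    (psnd D i0 (γ ≫ m) b) ⁻¹' Set.range π, hbopen', ?_, ?_⟩
  · rw [deg_pullback_snd, hk, hdeg]
  · rw [Set.mem_preimage, hk]
    exact ⟨u, rfl⟩
  · rw [range_pullback_snd]

include hc in
/-- **Universal openness descends**: if the base change to the limit of a locally quasi-finite
morphism locally of finite presentation is universally open, so is the base change to some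
stage. -/
theorem exists_universallyOpen_stage [CompactSpace X0] [LocallyQuasiFinite f0]
    [LocallyOfFinitePresentation f0] [UniversallyOpen (fL D c i0 m f0)] :
    ∃ b : Over i0, UniversallyOpen (fD D i0 m f0 b) := by
  haveI : ∀ {a b : I} (f : a ⟶ b), IsAffineHom (D.map f) := fun f => inferInstance
  let b0 : Over i0 := Over.mk (𝟙 i0)
  haveI : ∀ (a b : Over i0) (h : a ⟶ b), IsAffineHom ((DM D i0 (f0 ≫ m)).map h) :=
    fun a b h => isAffineHom_DM_map D i0 (f0 ≫ m) h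
  haveI : CompactSpace ((DM D i0 (f0 ≫ m)).obj b0) := by
    haveI : IsAffineHom (psnd D i0 (f0 ≫ m) b0) :=
      MorphismProperty.of_isPullback (P := @IsAffineHom)
        (isPullback_psnd_pfst D i0 (f0 ≫ m) b0).flip inferInstance
    exact QuasiCompact.compactSpace_of_compactSpace (psnd D i0 (f0 ≫ m) b0)
  have hFm : ∀ (i j : Over i0) (φ : i ⟶ j),
      ⇑((DM D i0 (f0 ≫ m)).map φ) ⁻¹' {x | UGoodAt (fD D i0 m f0 j) x} ⊆
        {x | UGoodAt (fD D i0 m f0 i) x} := by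
    intro i j φ x hx
    exact UGoodAt.baseChange (isPullback_DM_map_fD D i0 m f0 φ) hx
  have hcov : (⋂ i, ⇑((cM D c i0 (f0 ≫ m)).π.app i) ⁻¹'
      (Set.univ : Set ((DM D i0 (f0 ≫ m)).obj i)) : Set (cM D c i0 (f0 ≫ m)).pt) ⊆
      ⋃ i, ⇑((cM D c i0 (f0 ≫ m)).π.app i) ⁻¹' {x | UGoodAt (fD D i0 m f0 i) x} := by
    intro x _
    obtain ⟨b, hb⟩ := exists_uGoodAt_stage D c hc i0 m f0 x
    exact Set.mem_iUnion.mpr ⟨b, hb⟩
  obtain ⟨b, _, hb⟩ := (Groth.Agent.S4787.result (DM D i0 (f0 ≫ m)) (cM D c i0 (f0 ≫ m))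
    (isLimitCM D c hc i0 (f0 ≫ m)) b0
    (fun _ => Set.univ) (fun b => {x | UGoodAt (fD D i0 m f0 b) x})
    (fun _ => isProConstructible_of_isLocallyConstructible IsLocallyConstructible.univ)
    (fun b => isIndConstructible_setOf_uGoodAt _)
    (fun _ _ _ _ _ => Set.mem_univ _) hFm).mp hcov
  exact ⟨b, universallyOpen_of_uGoodAt fun x => hb b (𝟙 b) (Set.mem_univ x)⟩

include hc in
/-- Universal openness descends, for an arbitrary model of the base change to the limit. -/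
theorem exists_universallyOpen_stage' [CompactSpace X0] [LocallyQuasiFinite f0]
    [LocallyOfFinitePresentation f0] {X Y : Scheme.{u}} (f : X ⟶ Y) (g : Y ⟶ c.pt)
    (qY : Y ⟶ M) (qX : X ⟶ X0) (hY : IsPullback qY g m (c.π.app i0))
    (hX : IsPullback qX f f0 qY) [UniversallyOpen f] :
    ∃ b : Over i0, UniversallyOpen (fD D i0 m f0 b) := by
  obtain ⟨e', he'₁, he'₂⟩ : ∃ e' : (cM D c i0 m).pt ⟶ Y, e' ≫ qY = pLim D c i0 m ∧
      e' ≫ g = fLim D c i0 m :=
    ⟨hY.lift (pLim D c i0 m) (fLim D c i0 m) (isPullback_pLim_fLim D c i0 m).w,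
      hY.lift_fst _ _ _, hY.lift_snd _ _ _⟩
  obtain ⟨e, he₁, he₂⟩ : ∃ e : (cM D c i0 (f0 ≫ m)).pt ⟶ X, e ≫ qX = pLim D c i0 (f0 ≫ m) ∧
      e ≫ f = fL D c i0 m f0 ≫ e' :=
    ⟨hX.lift (pLim D c i0 (f0 ≫ m)) (fL D c i0 m f0 ≫ e')
      (by rw [Category.assoc, he'₁, fL_pLim]), hX.lift_fst _ _ _, hX.lift_snd _ _ _⟩
  have hbig : IsPullback (e ≫ qX) (fL D c i0 m f0) f0 (e' ≫ qY) := by
    rw [he₁, he'₁]
    exact isPullback_fL D c i0 m f0
  have hsq : IsPullback e (fL D c i0 m f0) f e' := IsPullback.of_right hbig he₂ hX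
  haveI : UniversallyOpen (fL D c i0 m f0) :=
    MorphismProperty.of_isPullback (P := @UniversallyOpen) hsq inferInstance
  exact exists_universallyOpen_stage D c hc i0 m f0

end Main

end Groth.Agent.Lib.Helper22.Weighting
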