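import Mathlib
import Groth.Prelude.Def_MoreMor
import Groth.Agent.Lib.Helper7.FibreIntegral
import Groth.Agent.Lib.Helper7.QuasiFiniteBound
import Groth.Agent.Lib.Helper22.WeightingLifts
import Groth.Agent.Lib.Helper22.WeightingSemicont
import Groth.Agent.Lib.Helper22.WeightingCons

/-!
# Boundedness of fibre integrals of weightings on quasi-compact schemes (helper22)
-/

set_option autoImplicit false
set_option linter.style.haveILetI false
universe u
open AlgebraicGeometry CategoryTheory Limits Topology

namespace Groth.Agent.Lib.Helper22.Weighting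

open Groth.Agent.Lib.Helper7 Groth.Agent.Lib.Helper16

variable {X Y : Scheme.{u}}

/-- A locally quasi-finite morphism with quasi-compact source has finite fibres. -/
theorem finite_preimage_singleton_of_compactSpace (f : X ⟶ Y) [LocallyQuasiFinite f]
    [CompactSpace X] (y : Y) : (f ⁻¹' {y}).Finite := by
  have hg : QuasiCompact (Y.fromSpecResidueField y) :=
    ⟨fun U _ _ => (Set.toFinite _).isCompact⟩
  have h1 : CompactSpace ↥(pullback f (Y.fromSpecResidueField y)) :=
    QuasiCompact.compactSpace_of_compactSpace (pullback.fst f (Y.fromSpecResidueField y))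
  have h2 : QuasiCompact (pullback.snd f (Y.fromSpecResidueField y)) :=
    HasAffineProperty.iff_of_isAffine.mpr h1
  have h3 : Finite ↥(pullback f (Y.fromSpecResidueField y)) := by
    have := (pullback.snd f (Y.fromSpecResidueField y)).finite_preimage_singleton
      (IsLocalRing.closedPoint _)
    exact Set.finite_univ_iff.mp (this.subset fun z _ => Subsingleton.elim _ _)
  have h4 : f ⁻¹' {y} = Set.range (pullback.fst f (Y.fromSpecResidueField y)) := by
    rw [Scheme.Pullback.range_fst, Scheme.range_fromSpecResidueField]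
  rw [h4]
  exact Set.finite_range _

/-- The residue fields of the spectrum of an algebraically closed field are algebraically
closed. -/
theorem isAlgClosed_residueField_spec (Ω : Type u) [Field Ω] [IsAlgClosed Ω]
    (x : Spec (CommRingCat.of Ω)) :
    IsAlgClosed ((Spec (CommRingCat.of Ω)).residueField x) := by
  have hbot : x.asIdeal = ⊥ := Ideal.eq_bot_of_prime x.asIdeal
  have hmax : x.asIdeal.IsMaximal := by rw [hbot]; exact Ideal.bot_isMaximal
  let ρ : Ω →+* (Spec (CommRingCat.of Ω)).residueField x :=
    (CommRingCat.ofHom (algebraMap Ω x.asIdeal.ResidueField) ≫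
      (Scheme.Spec.residueFieldIso (CommRingCat.of Ω) x).inv).hom
  have hsurj : Function.Surjective ρ := by
    have h1 : Function.Surjective (algebraMap Ω x.asIdeal.ResidueField) :=
      Ideal.algebraMap_residueField_surjective x.asIdeal
    have h2 : Function.Surjective (Scheme.Spec.residueFieldIso (CommRingCat.of Ω) x).inv.hom :=
      ((Scheme.Spec.residueFieldIso (CommRingCat.of Ω) x).symm.commRingCatIsoToRingEquiv).surjective
    exact h2.comp h1
  exact IsAlgClosed.of_ringEquiv _ _ (RingEquiv.ofBijective ρ ⟨ρ.injective, hsurj⟩)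

theorem finSepDegree_eq_one_of_surjective (K E : Type*) [Field K] [Field E] [Algebra K E]
    (h : Function.Surjective (algebraMap K E)) : Field.finSepDegree K E = 1 := by
  rw [Field.finSepDegree, Nat.card_eq_one_iff_unique]
  refine ⟨⟨fun σ τ => AlgHom.ext fun e => ?_⟩, ⟨IsScalarTower.toAlgHom K E (AlgebraicClosure E)⟩⟩
  obtain ⟨k, rfl⟩ := h e
  rw [AlgHom.commutes, AlgHom.commutes]

/-- The geometric degree of a locally quasi-finite morphism with quasi-compact source is
bounded. -/
theorem exists_bound_deg (f : X ⟶ Y) [LocallyQuasiFinite f] [LocallyOfFiniteType f]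
    [CompactSpace X] : ∃ N : ℕ, ∀ y : Y, deg f y ≤ N := by
  obtain ⟨N, hN⟩ := exists_bound_card_pullback f
  refine ⟨N, fun y => ?_⟩
  obtain ⟨Ω, _, _, vb, rfl⟩ := exists_geomPoint y
  have hfin := finite_preimage_singleton_of_compactSpace f
  have hbc : deg (pullback.snd f vb) (IsLocalRing.closedPoint Ω) =
      deg f (vb (IsLocalRing.closedPoint Ω)) :=
    fibreIntegral_baseChange f hfin (pullback.snd f vb) (pullback.fst f vb) vb
      (IsPullback.of_hasPullback f vb) (fun _ => 1) _
  rw [← hbc]
  have hcard := hN Ω vb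
  have hPfin : Finite ↥(pullback f vb) :=
    ENat.card_lt_top.mp (lt_of_le_of_lt hcard (ENat.natCast_lt_top N))
  have hcard' : Nat.card ↥(pullback f vb) ≤ N := by
    rw [ENat.card_eq_coe_natCard] at hcard
    exact_mod_cast hcard
  have h1 : ∀ p : {p : ↥(pullback f vb) // pullback.snd f vb p = IsLocalRing.closedPoint Ω},
      (1 : ℤ) * (letI := ((pullback.snd f vb).residueFieldMap p.1).hom.toAlgebra
        (Field.finSepDegree ((Spec (CommRingCat.of Ω)).residueField (pullback.snd f vb p.1))
          ((pullback f vb).residueField p.1) : ℤ)) = 1 := by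
    intro p
    have := isAlgClosed_residueField_spec Ω (pullback.snd f vb p.1)
    letI := ((pullback.snd f vb).residueFieldMap p.1).hom.toAlgebra
    have hF := finite_residueFieldMap (pullback.snd f vb) p.1
    have hI : Algebra.IsIntegral ((Spec (CommRingCat.of Ω)).residueField (pullback.snd f vb p.1))
        ((pullback f vb).residueField p.1) := Algebra.IsIntegral.of_finite _ _
    rw [one_mul, finSepDegree_eq_one_of_surjective _ _
      (IsAlgClosed.algebraMap_bijective_of_isIntegral).2]
    rfl
  rw [deg, MoreMor.fibreIntegral, finsum_congr h1]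
  letI := Fintype.ofFinite
    {p : ↥(pullback f vb) // pullback.snd f vb p = IsLocalRing.closedPoint Ω}
  rw [finsum_eq_sum_of_fintype]
  simp only [Finset.sum_const, Finset.card_univ, nsmul_eq_mul, mul_one]
  have h2 : Fintype.card
      {p : ↥(pullback f vb) // pullback.snd f vb p = IsLocalRing.closedPoint Ω} ≤
      Nat.card ↥(pullback f vb) := by
    rw [← Nat.card_eq_fintype_card]
    exact Nat.card_le_card_of_injective _ Subtype.val_injective
  exact_mod_cast h2.trans hcard'


/-- A weighting of a locally quasi-finite morphism is bounded above on affine opens. -/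
theorem exists_forall_le_of_isAffineOpen (f : X ⟶ Y) [LocallyQuasiFinite f]
    [LocallyOfFiniteType f] {w : X → ℤ} (hw : MoreMor.IsWeighting f w) {W : X.Opens}
    (hW : IsAffineOpen W) : ∃ M : ℤ, ∀ x ∈ W, w x ≤ M := by
  obtain ⟨_, _, _, _, _⟩ := spectral_of_isAffineOpen hW
  obtain ⟨J, hJ⟩ := exists_finset_subset_iUnion_of_spectral
    (F := (Set.univ : Set X))
    (isProConstructible_of_isLocallyConstructible IsLocallyConstructible.univ)
    (fun n : ℤ => {x : X | w x = n})
    (fun n => isIndConstructible_setOf_eq w (exists_isIndConstructible_eq hw) n)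
    (fun x _ => Set.mem_iUnion.mpr ⟨w x, rfl⟩) (W := (W : Set X)) W.2
  obtain ⟨M, hM⟩ := J.exists_le
  refine ⟨M, fun x hx => ?_⟩
  have := hJ ⟨Set.mem_univ x, hx⟩
  simp only [Set.mem_iUnion, Set.mem_ofPred_eq, exists_prop] at this
  obtain ⟨n, hn, hwn⟩ := this
  rw [hwn]
  exact hM n hn

/-- A weighting of a locally quasi-finite morphism with quasi-compact source is bounded above. -/
theorem exists_forall_le_of_compactSpace (f : X ⟶ Y) [LocallyQuasiFinite f]
    [LocallyOfFiniteType f] [CompactSpace X] {w : X → ℤ} (hw : MoreMor.IsWeighting f w) :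
    ∃ M : ℤ, ∀ x, w x ≤ M := by
  choose W hW hxW using fun x : X => exists_affine_nhd x
  choose M hM using fun x : X => exists_forall_le_of_isAffineOpen f hw (hW x)
  obtain ⟨t, ht⟩ := CompactSpace.elim_nhds_subcover (fun x => (W x : Set X))
    (fun x => (W x).isOpen.mem_nhds (hxW x))
  obtain ⟨M₀, hM₀⟩ := (t.image M).exists_le
  refine ⟨M₀, fun x => ?_⟩
  have hx : x ∈ (⊤ : Set X) := trivial
  rw [← ht] at hx
  obtain ⟨x₀, hx₀t, hx₀⟩ := Set.mem_iUnion₂.mp hx
  exact (hM x₀ x hx₀).trans (hM₀ _ (Finset.mem_image_of_mem _ hx₀t))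

/-- **Maximum of the fibre integral**: for `f` locally quasi-finite with quasi-compact source and
nonempty target, the fibre integral of a weighting attains its maximum. -/
theorem exists_forall_fibreIntegral_le (f : X ⟶ Y) [LocallyQuasiFinite f]
    [LocallyOfFiniteType f] [CompactSpace X] {w : X → ℤ} (hw : MoreMor.IsWeighting f w)
    [Nonempty Y] :
    ∃ y₀ : Y, ∀ y : Y, MoreMor.fibreIntegral f w y ≤ MoreMor.fibreIntegral f w y₀ := by
  classical
  obtain ⟨M, hM⟩ := exists_forall_le_of_compactSpace f hw
  obtain ⟨N, hN⟩ := exists_bound_deg f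
  have hfin := finite_preimage_singleton_of_compactSpace f
  have hbound : ∀ y : Y, MoreMor.fibreIntegral f w y ≤ max M 0 * N := by
    intro y
    obtain ⟨Ω, _, _, vb, rfl⟩ := exists_geomPoint y
    obtain ⟨hF, hI⟩ := fibreIntegral_eq_finsum_geomLifts f Ω vb w (hfin _)
    have hd := deg_eq_natCard' f Ω vb (hfin _)
    rw [hI]
    letI := Fintype.ofFinite (GeomLifts f Ω vb)
    rw [finsum_eq_sum_of_fintype]
    calc ∑ ū : GeomLifts f Ω vb, w ū.pt
        ≤ ∑ _ū : GeomLifts f Ω vb, max M 0 :=
          Finset.sum_le_sum fun ū _ => (hM _).trans (le_max_left _ _)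
      _ = max M 0 * (Nat.card (GeomLifts f Ω vb) : ℤ) := by
          rw [Finset.sum_const, Finset.card_univ, Nat.card_eq_fintype_card, nsmul_eq_mul,
            mul_comm]
      _ = max M 0 * deg f (vb (IsLocalRing.closedPoint Ω)) := by rw [hd]
      _ ≤ max M 0 * N := mul_le_mul_of_nonneg_left (hN _) (le_max_right _ _)
  obtain ⟨z, ⟨y₀, hy₀⟩, hz⟩ := Int.exists_greatest_of_bdd
    (P := fun z => ∃ y : Y, MoreMor.fibreIntegral f w y = z)
    ⟨max M 0 * N, fun z ⟨y, hy⟩ => hy ▸ hbound y⟩
    ⟨_, ⟨Classical.arbitrary Y, rfl⟩⟩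
  exact ⟨y₀, fun y => hy₀ ▸ hz _ ⟨y, rfl⟩⟩


end Groth.Agent.Lib.Helper22.Weighting
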