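import Mathlib
import Groth.Prelude.Def_MoreMor
import Groth.Agent.Lib.Helper7.FibreIntegral
import Groth.Agent.Lib.Helper22.WeightingLifts
import Groth.Agent.Lib.Helper22.WeightingPieces
import Groth.Agent.Lib.Helper22.WeightingSepNbhd
import Groth.Agent.Lib.Helper22.WeightingCore
import Groth.Agent.Lib.Helper22.WeightingPeel

/-!
# Composition of weightings (helper22)
-/

set_option autoImplicit false
set_option linter.style.haveILetI false
universe u
open AlgebraicGeometry CategoryTheory Limits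

namespace Groth.Agent.Lib.Helper22.Weighting

open Groth.Agent.Lib.Helper7

section general

variable {U V W : Scheme.{u}}

/-- Fibre integrals only depend on the values of the weight on the fibre. -/
theorem fibreIntegral_congr (π : U ⟶ V) (w w' : U → ℤ) (v : V)
    (h : ∀ u, π u = v → w u = w' u) :
    MoreMor.fibreIntegral π w v = MoreMor.fibreIntegral π w' v := by
  rw [MoreMor.fibreIntegral, MoreMor.fibreIntegral]
  refine finsum_congr fun u => ?_
  rw [h u.1 u.2]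

theorem fibreIntegral_const_mul (π : U ⟶ V) (c : ℤ) (w : U → ℤ) (v : V) :
    MoreMor.fibreIntegral π (fun u => c * w u) v = c * MoreMor.fibreIntegral π w v := by
  rw [MoreMor.fibreIntegral, MoreMor.fibreIntegral, mul_finsum]
  refine finsum_congr fun u => ?_
  rw [mul_assoc]

/-- For a closed map, an open set containing a fibre contains the preimage of a neighbourhood. -/
theorem exists_open_preimage_subset (π : U ⟶ V) [IsFinite π] (O : Set U) (hO : IsOpen O) (v : V)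
    (hv : ∀ u, π u = v → u ∈ O) :
    ∃ N : Set V, IsOpen N ∧ v ∈ N ∧ ∀ u, π u ∈ N → u ∈ O := by
  refine ⟨(π '' Oᶜ)ᶜ, (π.isClosedMap _ hO.isClosed_compl).isOpen_compl, ?_, ?_⟩
  · rintro ⟨u, hu, huv⟩
    exact hu (hv u huv)
  · intro u hu
    by_contra hne
    exact hu ⟨u, hne, rfl⟩

/-- Transitivity of fibre integrals. -/
theorem fibreIntegral_comp (k : U ⟶ V) (ρ : V ⟶ W) [IsFinite k] [IsFinite ρ]
    (w₁ : U → ℤ) (w₂ : V → ℤ) (w : W) :
    MoreMor.fibreIntegral (k ≫ ρ) (fun u => w₁ u * w₂ (k u)) w =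
      MoreMor.fibreIntegral ρ (fun v => MoreMor.fibreIntegral k w₁ v * w₂ v) w := by
  classical
  obtain ⟨Ω, _, _, vb, rfl⟩ := exists_geomPoint w
  have : IsFinite (k ≫ ρ) := inferInstance
  obtain ⟨hF, h⟩ := fibreIntegral_eq_finsum_geomLifts_of_isFinite (k ≫ ρ) Ω vb
    (fun u => w₁ u * w₂ (k u))
  obtain ⟨hF', h'⟩ := fibreIntegral_eq_finsum_geomLifts_of_isFinite ρ Ω vb
    (fun v => MoreMor.fibreIntegral k w₁ v * w₂ v)
  rw [h, h']
  have hk : ∀ vv : GeomLifts ρ Ω vb, Finite (GeomLifts k Ω vv.1) ∧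
      MoreMor.fibreIntegral k w₁ vv.pt = ∑ᶠ ū : GeomLifts k Ω vv.1, w₁ ū.pt :=
    fun vv => fibreIntegral_eq_finsum_geomLifts_of_isFinite k Ω vv.1 w₁
  let E : GeomLifts (k ≫ ρ) Ω vb ≃ Σ vv : GeomLifts ρ Ω vb, GeomLifts k Ω vv.1 :=
    { toFun := fun ū => ⟨⟨ū.1 ≫ k, by rw [Category.assoc]; exact ū.2⟩, ⟨ū.1, rfl⟩⟩
      invFun := fun p => ⟨p.2.1, by rw [← Category.assoc, p.2.2]; exact p.1.2⟩
      left_inv := fun ū => rfl
      right_inv := fun p => by
        obtain ⟨⟨vv, hvv⟩, ⟨ū, hū⟩⟩ := p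
        dsimp only at hū
        subst hū
        rfl }
  have := fun vv => (hk vv).1
  letI := Fintype.ofFinite (GeomLifts ρ Ω vb)
  letI : ∀ vv : GeomLifts ρ Ω vb, Fintype (GeomLifts k Ω vv.1) := fun vv => Fintype.ofFinite _
  rw [← finsum_comp_equiv E.symm, finsum_eq_sum_of_fintype, finsum_eq_sum_of_fintype,
    Fintype.sum_sigma]
  refine Finset.sum_congr rfl fun vv _ => ?_
  rw [(hk vv).2, finsum_eq_sum_of_fintype, Finset.sum_mul]
  refine Finset.sum_congr rfl fun ū _ => ?_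
  have h1 : (E.symm ⟨vv, ū⟩).pt = ū.pt := rfl
  have h2 : k ū.pt = vv.pt := ū.map_pt
  rw [h1, h2]

end general

section subpiece

variable {X Y Z : Scheme.{u}} {f : X ⟶ Y} {g : Y ⟶ Z} {W V U : Scheme.{u}} {γ : W ⟶ Z}
  {b : V ⟶ Y} {ρ : V ⟶ W} {a : U ⟶ X} {π : U ⟶ W}

/-- A piece of `f ≫ g` mapping into a piece of `g` over the same base is a piece of `f` over it. -/
theorem IsPiece.of_piece_of_comp (hV : IsPiece g γ b ρ) (hU : IsPiece (f ≫ g) γ a π)
    (k : U ⟶ V) (hkb : k ≫ b = a ≫ f) (hkρ : k ≫ ρ = π) : IsPiece f b a k := by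
  have := hV.isFinite
  have := hV.isOpenImmersion_lift
  have := hU.isFinite
  have := hU.isOpenImmersion_lift
  have hfin : IsFinite k := by
    have : IsFinite (k ≫ ρ) := by rw [hkρ]; infer_instance
    exact IsFinite.of_comp k ρ
  let jV : V ⟶ pullback g γ := pullback.lift b ρ hV.comm
  let φ : pullback (f ≫ g) γ ⟶ pullback g γ :=
    pullback.lift (pullback.fst (f ≫ g) γ ≫ f) (pullback.snd (f ≫ g) γ)
      (by rw [Category.assoc]; exact pullback.condition)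
  have hφ₁ : φ ≫ pullback.fst g γ = pullback.fst (f ≫ g) γ ≫ f := pullback.lift_fst _ _ _
  have hφ₂ : φ ≫ pullback.snd g γ = pullback.snd (f ≫ g) γ := pullback.lift_snd _ _ _
  let m : pullback f b ⟶ pullback (f ≫ g) γ :=
    pullback.lift (pullback.fst f b) (pullback.snd f b ≫ ρ)
      (by rw [← Category.assoc, pullback.condition, Category.assoc, hV.comm, Category.assoc])
  have hm₁ : m ≫ pullback.fst (f ≫ g) γ = pullback.fst f b := pullback.lift_fst _ _ _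
  have hm₂ : m ≫ pullback.snd (f ≫ g) γ = pullback.snd f b ≫ ρ := pullback.lift_snd _ _ _
  have hjV₁ : jV ≫ pullback.fst g γ = b := pullback.lift_fst _ _ _
  have hjV₂ : jV ≫ pullback.snd g γ = ρ := pullback.lift_snd _ _ _
  -- square C
  have hC : IsPullback φ (pullback.fst (f ≫ g) γ) (pullback.fst g γ) f := by
    refine IsPullback.of_right ?_ hφ₁ (IsPullback.of_hasPullback g γ).flip
    rw [hφ₂]
    exact (IsPullback.of_hasPullback (f ≫ g) γ).flip
  -- square B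
  have hB : IsPullback (pullback.snd f b) m jV φ := by
    refine IsPullback.of_bot ?_ ?_ hC
    · rw [hm₁, hjV₁]
      exact (IsPullback.of_hasPullback f b).flip
    · apply pullback.hom_ext
      · rw [Category.assoc, hjV₁, Category.assoc, hφ₁, ← Category.assoc, hm₁, pullback.condition]
      · rw [Category.assoc, hjV₂, Category.assoc, hφ₂, hm₂]
  have hmopen : IsOpenImmersion m :=
    MorphismProperty.of_isPullback (P := @IsOpenImmersion) hB ‹_›
  have hcomp : pullback.lift a k hkb.symm ≫ m = pullback.lift a π hU.comm := by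
    apply pullback.hom_ext
    · rw [Category.assoc, hm₁, pullback.lift_fst, pullback.lift_fst]
    · rw [Category.assoc, hm₂, ← Category.assoc, pullback.lift_snd, pullback.lift_snd, hkρ]
  have : IsOpenImmersion (pullback.lift a k hkb.symm ≫ m) := by rw [hcomp]; infer_instance
  exact ⟨hkb.symm, IsOpenImmersion.of_comp _ m, hfin⟩

end subpiece

section compose

variable {X Y Z : Scheme.{u}} {f : X ⟶ Y} {g : Y ⟶ Z} {W V U : Scheme.{u}} {γ : W ⟶ Z}
  {b : V ⟶ Y} {ρ : V ⟶ W} {a : U ⟶ X} {π : U ⟶ W}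
  [LocallyQuasiFinite f] [LocallyOfFiniteType f] [LocallyQuasiFinite g] [LocallyOfFiniteType g]
  {wf : X → ℤ} {wg : Y → ℤ}

/-- Step E0: a piece of `f ≫ g` mapping into a piece of `g` of geometric degree one at `w₀`. -/
theorem exists_open_fibreIntegral_mul_eq_of_factor (hf : MoreMor.IsWeighting f wf)
    (hg : MoreMor.IsWeighting g wg) (hV : IsPiece g γ b ρ) (hU : IsPiece (f ≫ g) γ a π)
    (k : U ⟶ V) (hkb : k ≫ b = a ≫ f) (hkρ : k ≫ ρ = π) (w₀ : W) (hdeg : deg ρ w₀ = 1) :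
    ∃ N : Set W, IsOpen N ∧ w₀ ∈ N ∧ ∀ w' ∈ N,
      MoreMor.fibreIntegral π (fun u => wf (a u) * wg (f (a u))) w' =
        MoreMor.fibreIntegral π (fun u => wf (a u) * wg (f (a u))) w₀ := by
  have := hV.isFinite
  have hk := IsPiece.of_piece_of_comp hV hU k hkb hkρ
  have := hk.isFinite
  have hlcf := isLocallyConstant_fibreIntegral_of_isPiece hf hk
  have hlcg := isLocallyConstant_fibreIntegral_of_isPiece hg hV
  obtain ⟨v₀, hv₀⟩ : ∃ v, ρ v = w₀ :=
    exists_of_fibreIntegral_ne_zero ρ (fun _ => 1) w₀ (by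
      change deg ρ w₀ ≠ 0
      rw [hdeg]
      exact one_ne_zero)
  subst hv₀
  obtain ⟨M, hMo, hvM, hM⟩ := (IsLocallyConstant.iff_exists_open _).mp hlcf v₀
  obtain ⟨N₁, hN₁o, hwN₁, hN₁⟩ := exists_open_preimage_subset ρ M hMo (ρ v₀)
    (fun v hv => by rw [eq_of_deg_eq_one ρ v₀ v hdeg hv]; exact hvM)
  obtain ⟨N₂, hN₂o, hwN₂, hN₂⟩ := (IsLocallyConstant.iff_exists_open _).mp hlcg (ρ v₀)
  have key : ∀ z ∈ N₁, MoreMor.fibreIntegral π (fun u => wf (a u) * wg (f (a u))) z =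
      MoreMor.fibreIntegral k (fun u => wf (a u)) v₀ *
        MoreMor.fibreIntegral ρ (fun v => wg (b v)) z := by
    intro z hz
    subst hkρ
    have e1 : (fun u => wf (a u) * wg (f (a u))) =
        (fun u => (fun u => wf (a u)) u * (fun v => wg (b v)) (k u)) := by
      funext u
      have : f (a u) = b (k u) := by
        rw [← Scheme.Hom.comp_apply, ← Scheme.Hom.comp_apply, hkb]
      simp only [this]
    rw [e1, fibreIntegral_comp k ρ (fun u => wf (a u)) (fun v => wg (b v)) z,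
      ← fibreIntegral_const_mul]
    refine fibreIntegral_congr ρ _ _ z fun v hv => ?_
    rw [hM v (hN₁ v (by rw [hv]; exact hz))]
  refine ⟨N₁ ∩ N₂, hN₁o.inter hN₂o, ⟨hwN₁, hwN₂⟩, ?_⟩
  rintro z ⟨hz₁, hz₂⟩
  rw [key z hz₁, key _ hwN₁, hN₂ z hz₂]

/-- Step E1: a piece of `f ≫ g` and a piece of `g` over the same base, both of geometric degree one
at a point, with the fibre points matching in `Y ×_Z W`. -/
theorem exists_open_fibreIntegral_mul_eq_of_point (hf : MoreMor.IsWeighting f wf)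
    (hg : MoreMor.IsWeighting g wg) (hV : IsPiece g γ b ρ) (hU : IsPiece (f ≫ g) γ a π)
    (u₀ : U) (v₀ : V) (hdegπ : deg π (π u₀) = 1) (hdegρ : deg ρ (ρ v₀) = 1) (hπρ : π u₀ = ρ v₀)
    (hpt : pullback.lift (a ≫ f) π (by rw [Category.assoc]; exact hU.comm) u₀ =
      pullback.lift b ρ hV.comm v₀) :
    ∃ N : Set W, IsOpen N ∧ π u₀ ∈ N ∧ ∀ w' ∈ N,
      MoreMor.fibreIntegral π (fun u => wf (a u) * wg (f (a u))) w' =
        MoreMor.fibreIntegral π (fun u => wf (a u) * wg (f (a u))) (π u₀) := by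
  have := hV.isFinite
  have := hU.isFinite
  have := hV.isOpenImmersion_lift
  have hβ : (a ≫ f) ≫ g = π ≫ γ := by rw [Category.assoc]; exact hU.comm
  obtain ⟨βU, hβU⟩ : ∃ β : U ⟶ pullback g γ, β = pullback.lift (a ≫ f) π hβ := ⟨_, rfl⟩
  obtain ⟨jV, hjV⟩ : ∃ j : V ⟶ pullback g γ, j = pullback.lift b ρ hV.comm := ⟨_, rfl⟩
  have : IsOpenImmersion jV := by rw [hjV]; infer_instance
  have hβ₁ : βU ≫ pullback.fst g γ = a ≫ f := by rw [hβU]; exact pullback.lift_fst _ _ _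
  have hβ₂ : βU ≫ pullback.snd g γ = π := by rw [hβU]; exact pullback.lift_snd _ _ _
  have hj₁ : jV ≫ pullback.fst g γ = b := by rw [hjV]; exact pullback.lift_fst _ _ _
  have hj₂ : jV ≫ pullback.snd g γ = ρ := by rw [hjV]; exact pullback.lift_snd _ _ _
  have hpt' : βU u₀ = jV v₀ := by rw [hβU, hjV]; exact hpt
  let O : U.Opens := βU ⁻¹ᵁ jV.opensRange
  have hu₀O : u₀ ∈ O := by
    change βU u₀ ∈ Set.range jV
    rw [hpt']
    exact ⟨v₀, rfl⟩
  obtain ⟨N, hNo, hwN, hN⟩ := exists_open_preimage_subset π O O.2 (π u₀)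
    (fun u hu => by rw [eq_of_deg_eq_one π u₀ u hdegπ hu]; exact hu₀O)
  let N' : W.Opens := ⟨N, hNo⟩
  have hU_N := hU.baseChange N'.ι
  have hV_N := hV.baseChange N'.ι
  have hrange : Set.range (pullback.fst π N'.ι ≫ βU) ⊆ Set.range jV := by
    rintro _ ⟨x, rfl⟩
    have hx : pullback.fst π N'.ι x ∈ O := hN _ (by
      rw [← Scheme.Hom.comp_apply, pullback.condition, Scheme.Hom.comp_apply]
      exact (pullback.snd π N'.ι x).2)
    exact hx
  let l : pullback π N'.ι ⟶ V := IsOpenImmersion.lift jV (pullback.fst π N'.ι ≫ βU) hrange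
  have hl : l ≫ jV = pullback.fst π N'.ι ≫ βU := IsOpenImmersion.lift_fac _ _ _
  have hlρ : l ≫ ρ = pullback.snd π N'.ι ≫ N'.ι := by
    rw [← hj₂, ← Category.assoc, hl, Category.assoc, hβ₂, pullback.condition]
  have hlb : l ≫ b = (pullback.fst π N'.ι ≫ a) ≫ f := by
    rw [← hj₁, ← Category.assoc, hl, Category.assoc, hβ₁, Category.assoc]
  let k : pullback π N'.ι ⟶ pullback ρ N'.ι := pullback.lift l (pullback.snd π N'.ι) hlρ
  have hkb : k ≫ (pullback.fst ρ N'.ι ≫ b) = (pullback.fst π N'.ι ≫ a) ≫ f := by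
    rw [← Category.assoc, pullback.lift_fst, hlb]
  have hkρ : k ≫ pullback.snd ρ N'.ι = pullback.snd π N'.ι := pullback.lift_snd _ _ _
  let w₁ : N' := ⟨π u₀, hwN⟩
  have hιw₁ : N'.ι w₁ = π u₀ := rfl
  have hdeg₁ : deg (pullback.snd ρ N'.ι) w₁ = 1 := by
    rw [deg_pullback_snd, hιw₁, hπρ]
    exact hdegρ
  obtain ⟨N₁, hN₁o, hwN₁, hN₁⟩ :=
    exists_open_fibreIntegral_mul_eq_of_factor hf hg hV_N hU_N k hkb hkρ w₁ hdeg₁
  refine ⟨N'.ι '' N₁, N'.ι.isOpenEmbedding.isOpenMap _ hN₁o, ⟨w₁, hwN₁, rfl⟩, ?_⟩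
  rintro _ ⟨z, hz, rfl⟩
  have hI : ∀ z : N', MoreMor.fibreIntegral (pullback.snd π N'.ι)
      (fun u => wf ((pullback.fst π N'.ι ≫ a) u) * wg (f ((pullback.fst π N'.ι ≫ a) u))) z =
        MoreMor.fibreIntegral π (fun u => wf (a u) * wg (f (a u))) (N'.ι z) :=
    fun z => fibreIntegral_pullback_snd π N'.ι (fun u => wf (a u) * wg (f (a u))) z
  rw [← hI z, hN₁ z hz, hI w₁, hιw₁]

/-- Step E: the degree one case for pieces of `f ≫ g`. -/
theorem exists_open_fibreIntegral_mul_eq_of_deg_one (hf : MoreMor.IsWeighting f wf)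
    (hg : MoreMor.IsWeighting g wg) (hU : IsPiece (f ≫ g) γ a π) (w₀ : W) (hdeg : deg π w₀ = 1) :
    ∃ N : Set W, IsOpen N ∧ w₀ ∈ N ∧ ∀ w' ∈ N,
      MoreMor.fibreIntegral π (fun u => wf (a u) * wg (f (a u))) w' =
        MoreMor.fibreIntegral π (fun u => wf (a u) * wg (f (a u))) w₀ := by
  have := hU.isFinite
  obtain ⟨u₀, hu₀⟩ : ∃ u, π u = w₀ :=
    exists_of_fibreIntegral_ne_zero π (fun _ => 1) w₀ (by
      change deg π w₀ ≠ 0
      rw [hdeg]
      exact one_ne_zero)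
  subst hu₀
  obtain ⟨W₁, γ₁, _, V₁, b₁, ρ₁, hV₁, v₁, hv₁, hdeg₁⟩ :=
    exists_etale_piece_deg_eq_one g (f (a u₀))
  have := hV₁.isFinite
  let p₁ := pullback.fst γ γ₁
  let p₂ := pullback.snd γ γ₁
  have hcond : p₁ ≫ γ = p₂ ≫ γ₁ := pullback.condition
  have hU' : IsPiece (f ≫ g) (p₁ ≫ γ) (pullback.fst π p₁ ≫ a) (pullback.snd π p₁) :=
    hU.baseChange p₁
  have hV' : IsPiece g (p₁ ≫ γ) (pullback.fst ρ₁ p₂ ≫ b₁) (pullback.snd ρ₁ p₂) := by
    rw [hcond]; exact hV₁.baseChange p₂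
  obtain ⟨τ, hτ₁, hτ₂⟩ : ∃ τ : ↥(pullback (a ≫ f) b₁),
      pullback.fst (a ≫ f) b₁ τ = u₀ ∧ pullback.snd (a ≫ f) b₁ τ = v₁ :=
    Scheme.Pullback.exists_preimage_pullback u₀ v₁ (by rw [Scheme.Hom.comp_apply, hv₁])
  have hθ : (pullback.fst (a ≫ f) b₁ ≫ π) ≫ γ = (pullback.snd (a ≫ f) b₁ ≫ ρ₁) ≫ γ₁ := by
    have hc : pullback.fst (a ≫ f) b₁ ≫ (a ≫ f) = pullback.snd (a ≫ f) b₁ ≫ b₁ :=
      pullback.condition
    calc (pullback.fst (a ≫ f) b₁ ≫ π) ≫ γ
        = pullback.fst (a ≫ f) b₁ ≫ (a ≫ f ≫ g) := by rw [Category.assoc, ← hU.comm]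
      _ = (pullback.fst (a ≫ f) b₁ ≫ (a ≫ f)) ≫ g := by simp only [Category.assoc]
      _ = (pullback.snd (a ≫ f) b₁ ≫ b₁) ≫ g := by rw [hc]
      _ = (pullback.snd (a ≫ f) b₁ ≫ ρ₁) ≫ γ₁ := by rw [Category.assoc, hV₁.comm, Category.assoc]
  let θ : pullback (a ≫ f) b₁ ⟶ pullback γ γ₁ := pullback.lift _ _ hθ
  have hθ₁ : θ ≫ p₁ = pullback.fst (a ≫ f) b₁ ≫ π := pullback.lift_fst _ _ _
  have hθ₂ : θ ≫ p₂ = pullback.snd (a ≫ f) b₁ ≫ ρ₁ := pullback.lift_snd _ _ _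
  let t₁ : pullback (a ≫ f) b₁ ⟶ pullback π p₁ :=
    pullback.lift (pullback.fst (a ≫ f) b₁) θ hθ₁.symm
  let t₂ : pullback (a ≫ f) b₁ ⟶ pullback ρ₁ p₂ :=
    pullback.lift (pullback.snd (a ≫ f) b₁) θ hθ₂.symm
  have ht₁f : t₁ ≫ pullback.fst π p₁ = pullback.fst (a ≫ f) b₁ := pullback.lift_fst _ _ _
  have ht₁s : t₁ ≫ pullback.snd π p₁ = θ := pullback.lift_snd _ _ _
  have ht₂f : t₂ ≫ pullback.fst ρ₁ p₂ = pullback.snd (a ≫ f) b₁ := pullback.lift_fst _ _ _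
  have ht₂s : t₂ ≫ pullback.snd ρ₁ p₂ = θ := pullback.lift_snd _ _ _
  clear_value t₁ t₂ θ
  have hp₁ : p₁ (θ τ) = π u₀ := by
    rw [← Scheme.Hom.comp_apply, hθ₁, Scheme.Hom.comp_apply, hτ₁]
  have hp₂ : p₂ (θ τ) = ρ₁ v₁ := by
    rw [← Scheme.Hom.comp_apply, hθ₂, Scheme.Hom.comp_apply, hτ₂]
  have hπ't : pullback.snd π p₁ (t₁ τ) = θ τ := by rw [← Scheme.Hom.comp_apply, ht₁s]
  have hρ't : pullback.snd ρ₁ p₂ (t₂ τ) = θ τ := by rw [← Scheme.Hom.comp_apply, ht₂s]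
  have hdegπ' : deg (pullback.snd π p₁) (pullback.snd π p₁ (t₁ τ)) = 1 := by
    rw [hπ't, deg_pullback_snd, hp₁, hdeg]
  have hdegρ' : deg (pullback.snd ρ₁ p₂) (pullback.snd ρ₁ p₂ (t₂ τ)) = 1 := by
    rw [hρ't, deg_pullback_snd, hp₂, hdeg₁]
  have hβ' : ((pullback.fst π p₁ ≫ a) ≫ f) ≫ g = pullback.snd π p₁ ≫ p₁ ≫ γ := by
    rw [Category.assoc]; exact hU'.comm
  have hmor : t₁ ≫ pullback.lift ((pullback.fst π p₁ ≫ a) ≫ f) (pullback.snd π p₁) hβ' =
      t₂ ≫ pullback.lift (pullback.fst ρ₁ p₂ ≫ b₁) (pullback.snd ρ₁ p₂) hV'.comm := by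
    apply pullback.hom_ext
    · have e1 : (t₁ ≫ pullback.lift ((pullback.fst π p₁ ≫ a) ≫ f) (pullback.snd π p₁) hβ') ≫
          pullback.fst g (p₁ ≫ γ) = pullback.fst (a ≫ f) b₁ ≫ (a ≫ f) := by
        rw [Category.assoc, pullback.lift_fst, ← Category.assoc, ← Category.assoc, ht₁f,
          Category.assoc]
      have e2 : (t₂ ≫ pullback.lift (pullback.fst ρ₁ p₂ ≫ b₁) (pullback.snd ρ₁ p₂) hV'.comm) ≫
          pullback.fst g (p₁ ≫ γ) = pullback.snd (a ≫ f) b₁ ≫ b₁ := by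
        rw [Category.assoc, pullback.lift_fst, ← Category.assoc, ht₂f]
      rw [e1, e2, pullback.condition]
    · rw [Category.assoc, pullback.lift_snd, Category.assoc, pullback.lift_snd, ht₁s, ht₂s]
  have hpt : pullback.lift ((pullback.fst π p₁ ≫ a) ≫ f) (pullback.snd π p₁) hβ' (t₁ τ) =
      pullback.lift (pullback.fst ρ₁ p₂ ≫ b₁) (pullback.snd ρ₁ p₂) hV'.comm (t₂ τ) := by
    rw [← Scheme.Hom.comp_apply, ← Scheme.Hom.comp_apply, hmor]
  obtain ⟨N, hNo, hwN, hN⟩ := exists_open_fibreIntegral_mul_eq_of_point hf hg hV' hU' (t₁ τ) (t₂ τ)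
    hdegπ' hdegρ' (hπ't.trans hρ't.symm) hpt
  have hI : ∀ z, MoreMor.fibreIntegral (pullback.snd π p₁)
      (fun u => wf ((pullback.fst π p₁ ≫ a) u) * wg (f ((pullback.fst π p₁ ≫ a) u))) z =
        MoreMor.fibreIntegral π (fun u => wf (a u) * wg (f (a u))) (p₁ z) :=
    fun z => fibreIntegral_pullback_snd π p₁ (fun u => wf (a u) * wg (f (a u))) z
  refine ⟨p₁ '' N, p₁.isOpenMap _ hNo, ⟨_, hwN, by rw [hπ't, hp₁]⟩, ?_⟩
  rintro _ ⟨z, hz, rfl⟩
  rw [← hI z, hN z hz, hI, hπ't, hp₁]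

/-- **Composition of weightings.** -/
theorem isWeighting_comp (hf : MoreMor.IsWeighting f wf) (hg : MoreMor.IsWeighting g wg) :
    MoreMor.IsWeighting (f ≫ g) (fun x => wf x * wg (f x)) := by
  intro W γ _ O hO
  have hp := IsPiece.of_opens (f := f ≫ g) O hO
  exact isLocallyConstant_of_deg_one (I := fun x => wf x * wg (f x))
    (fun hU w₀ hdeg => exists_open_fibreIntegral_mul_eq_of_deg_one hf hg hU w₀ hdeg) hp

end compose

end Groth.Agent.Lib.Helper22.Weighting
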